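import Mathlib

set_option autoImplicit false

/-! Finite sharply 2-transitive groups: the translations form a regular normal elementary
abelian subgroup. -/

namespace Cfsg.Agent.Perm

variable {α : Type*} [Fintype α] [DecidableEq α] (G : Subgroup (Equiv.Perm α))

theorem sharpTwo_unique (hsharp : ∀ x : Fin 2 ↪ α, MulAction.stabilizer G x = ⊥) {a b : α} (hab : a ≠ b)
    {g h : G} (ha : g • a = h • a) (hb : g • b = h • b) : g = h := by
  let x : Fin 2 ↪ α := ⟨![a, b], fun i j hij => by
    fin_cases i <;> fin_cases j <;> simp_all⟩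
  have : h⁻¹ * g ∈ MulAction.stabilizer G x := by
    rw [MulAction.mem_stabilizer_iff]
    ext i
    fin_cases i
    · show (h⁻¹ * g) • a = a
      rw [mul_smul, ha, inv_smul_smul]
    · show (h⁻¹ * g) • b = b
      rw [mul_smul, hb, inv_smul_smul]
  rw [hsharp x, Subgroup.mem_bot, inv_mul_eq_one] at this
  exact this.symm

theorem sharpTwo_kernel [MulAction.IsMultiplyPretransitive G α 2]
    (hsharp : ∀ x : Fin 2 ↪ α, MulAction.stabilizer G x = ⊥) (h2 : 2 ≤ Fintype.card α) :
    ∃ p j : ℕ, p.Prime ∧ 1 ≤ j ∧ Fintype.card α = p ^ j ∧ ∃ T : Subgroup G, T.Normal ∧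
      Nat.card T = p ^ j ∧ Nat.card G = p ^ j * (p ^ j - 1) ∧ (∀ x ∈ T, ∀ y ∈ T, x * y = y * x) ∧
      (∀ x ∈ T, x ^ p = 1) ∧ MulAction.IsPretransitive T α ∧ (∀ a : α, MulAction.stabilizer T a = ⊥) ∧
      ∀ g : G, g ∈ T ↔ g = 1 ∨ ∀ a : α, g • a ≠ a := by
  classical
  haveI : MulAction.IsPretransitive G α := MulAction.isPretransitive_of_is_two_pretransitive
  set n := Fintype.card α with hn
  haveI : Nontrivial α := Fintype.one_lt_card_iff_nontrivial.1 (by omega)
  obtain ⟨a₀, b₀, hab₀⟩ := exists_pair_ne α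
  have hGa : ∀ a : α, Nat.card (MulAction.stabilizer G a) = n - 1 := by
    intro a
    obtain ⟨b, hb⟩ := exists_ne a
    have hbij : Function.Bijective (fun g : MulAction.stabilizer G a => (⟨(g : G) • b, fun h => hb
        (MulAction.injective (g : G) (h.trans g.2.symm))⟩ : {x : α // x ≠ a})) := by
      refine ⟨fun g h e => Subtype.ext (sharpTwo_unique G hsharp (Ne.symm hb) (g.2.trans h.2.symm)
        (congrArg Subtype.val e)), fun x => ?_⟩
      obtain ⟨g, hg1, hg2⟩ := MulAction.is_two_pretransitive_iff.1 ‹MulAction.IsMultiplyPretransitive G α 2›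
        (Ne.symm hb) (Ne.symm x.2)
      exact ⟨⟨g, hg1⟩, Subtype.ext hg2⟩
    rw [Nat.card_eq_of_bijective _ hbij, Nat.card_eq_fintype_card, Fintype.card_subtype_compl,
      Fintype.card_subtype_eq]
  have hG : Nat.card G = n * (n - 1) := by
    rw [← Subgroup.index_mul_card (MulAction.stabilizer G a₀), hGa, MulAction.index_stabilizer_of_transitive,
      Nat.card_eq_fintype_card]
  let F : Finset G := Finset.univ.filter fun g => ∀ a : α, g • a ≠ a
  let Fix : α → Finset G := fun a => (Finset.univ.filter fun g => g • a = a).erase 1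
  have hFixc : ∀ a, (Fix a).card = n - 2 := by
    intro a
    rw [Finset.card_erase_of_mem (by simp)]
    have : (Finset.univ.filter fun g : G => g • a = a).card = n - 1 := by
      rw [← hGa a, Nat.card_eq_fintype_card, ← Fintype.card_subtype]
      exact Fintype.card_congr (Equiv.subtypeEquivRight fun g => Iff.rfl)
    omega
  have hdisj : Set.PairwiseDisjoint ((Finset.univ : Finset α) : Set α) Fix := by
    intro a _ b _ hab
    rw [Function.onFun, Finset.disjoint_left]
    intro g ha hb
    simp only [Fix, Finset.mem_erase, Finset.mem_filter, Finset.mem_univ, true_and] at ha hb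
    exact ha.1 (sharpTwo_unique G hsharp hab (ha.2.trans (one_smul _ a).symm) (hb.2.trans (one_smul _ b).symm))
  have hF : F.card = n - 1 := by
    have hsplit : (Finset.univ : Finset G).erase 1 = F ∪ Finset.univ.biUnion Fix := by
      ext g
      simp only [F, Fix, Finset.mem_erase, Finset.mem_univ, and_true, Finset.mem_union, Finset.mem_filter,
        true_and, Finset.mem_biUnion]
      constructor
      · intro hg
        by_cases h : ∀ a : α, g • a ≠ a
        · exact Or.inl h
        · push Not at h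
          obtain ⟨a, ha⟩ := h
          exact Or.inr ⟨a, hg, ha⟩
      · rintro (h | ⟨a, hg, -⟩)
        · intro hg1; subst hg1; exact h a₀ (one_smul _ _)
        · exact hg
    have hd2 : Disjoint F (Finset.univ.biUnion Fix) := by
      rw [Finset.disjoint_left]
      intro g hg h
      simp only [F, Fix, Finset.mem_filter, Finset.mem_biUnion, Finset.mem_erase] at hg h
      obtain ⟨a, -, -, ha⟩ := h
      exact hg.2 a ha.2
    have := congrArg Finset.card hsplit
    rw [Finset.card_erase_of_mem (Finset.mem_univ _), Finset.card_univ, ← Nat.card_eq_fintype_card, hG,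
      Finset.card_union_of_disjoint hd2, Finset.card_biUnion hdisj,
      Finset.sum_congr rfl (fun a _ => hFixc a), Finset.sum_const, Finset.card_univ, smul_eq_mul,
      ← hn] at this
    obtain ⟨k, hk⟩ : ∃ k, n = k + 2 := ⟨n - 2, by omega⟩
    rw [hk] at this ⊢
    simp only [Nat.add_sub_cancel, show k + 2 - 1 = k + 1 by omega] at this ⊢
    have h1 : (k + 2) * (k + 1) = (k + 2) * k + (k + 2) := by ring
    omega
  have hfpf : ∀ q : ℕ, q.Prime → q ∣ n → ∀ y : G, orderOf y = q → y ∈ F := by
    intro q hq hqn y hy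
    haveI : Fact q.Prime := ⟨hq⟩
    simp only [F, Finset.mem_filter, Finset.mem_univ, true_and]
    intro a ha
    have h1 : Nat.card (MulAction.stabilizer G a) = n - 1 := hGa a
    have h2 : q ∣ n - 1 := by
      rw [← h1, ← hy, ← Subgroup.orderOf_mk y (show y ∈ MulAction.stabilizer G a from ha)]
      exact orderOf_dvd_natCard _
    have h3 : q ∣ n - (n - 1) := Nat.dvd_sub hqn h2
    rw [show n - (n - 1) = 1 by omega] at h3
    exact hq.not_dvd_one h3
  have horbit : ∀ y ∈ F, F = (Finset.univ.filter fun g : G => g • a₀ = a₀).image (fun g => g * y * g⁻¹) := by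
    intro y hy
    have hy' : ∀ a : α, y • a ≠ a := (Finset.mem_filter.1 hy).2
    symm
    apply Finset.eq_of_subset_of_card_le
    · intro z hz
      obtain ⟨g, -, rfl⟩ := Finset.mem_image.1 hz
      refine Finset.mem_filter.2 ⟨Finset.mem_univ _, fun a h => hy' (g⁻¹ • a) ?_⟩
      rw [mul_smul, mul_smul, smul_eq_iff_eq_inv_smul] at h
      exact h
    · rw [Finset.card_image_of_injOn, hF]
      · rw [← hGa a₀, Nat.card_eq_fintype_card, ← Fintype.card_subtype]
        exact le_of_eq (Fintype.card_congr (Equiv.subtypeEquivRight fun g => Iff.rfl))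
      · intro g hg h hh e
        simp only [Finset.coe_filter, Finset.mem_univ, true_and, Set.mem_ofPred_eq] at hg hh
        have hc : Commute (h⁻¹ * g) y := by
          have := congrArg (fun z => h⁻¹ * z * g) e
          simpa [Commute, SemiconjBy, mul_assoc] using this
        have h1 : (h⁻¹ * g) • a₀ = a₀ := by rw [mul_smul, hg]; exact inv_smul_eq_iff.2 hh.symm
        have h2 : (h⁻¹ * g) • (y • a₀) = y • a₀ := by rw [← mul_smul, hc.eq, mul_smul, h1]
        have h3 := sharpTwo_unique G hsharp (Ne.symm (hy' a₀)) (h1.trans (one_smul _ a₀).symm)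
          (h2.trans (one_smul _ (y • a₀)).symm)
        rw [inv_mul_eq_one] at h3
        exact h3.symm
  obtain ⟨p, hp, hpn⟩ := Nat.exists_prime_and_dvd (n := n) (by omega)
  haveI : Fact p.Prime := ⟨hp⟩
  obtain ⟨y, hy⟩ := exists_prime_orderOf_dvd_card' (G := G) p (hG ▸ hpn.mul_right _)
  have hyF := hfpf p hp hpn y hy
  have hord : ∀ z ∈ F, orderOf z = p := by
    intro z hz
    rw [horbit y hyF] at hz
    obtain ⟨g, -, rfl⟩ := Finset.mem_image.1 hz
    exact ((MulAut.conj g).orderOf_eq y).trans hy
  obtain ⟨j, hj⟩ : ∃ j, n = p ^ j := ⟨_, Nat.eq_prime_pow_of_unique_prime_dvd (by omega) fun {d} hd hdn => by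
    haveI : Fact d.Prime := ⟨hd⟩
    obtain ⟨z, hz⟩ := exists_prime_orderOf_dvd_card' (G := G) d (hG ▸ hdn.mul_right _)
    exact hz.symm.trans (hord z (hfpf d hd hdn z hz))⟩
  have hj1 : 1 ≤ j := by
    rcases Nat.eq_zero_or_pos j with h | h
    · rw [h, pow_zero] at hj; omega
    · exact h
  obtain ⟨P⟩ := (inferInstance : Nonempty (Sylow p G))
  have hcop : Nat.Coprime p (n - 1) := by
    rw [hp.coprime_iff_not_dvd]
    intro h
    have h3 : p ∣ n - (n - 1) := Nat.dvd_sub hpn h
    rw [show n - (n - 1) = 1 by omega] at h3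
    exact hp.not_dvd_one h3
  have hPc : Nat.card (P : Subgroup G) = p ^ j := by
    rw [Sylow.card_eq_multiplicity, hG, Nat.factorization_mul (by omega) (by omega), Finsupp.add_apply, hj,
      Nat.Prime.factorization_pow hp, Finsupp.single_eq_same,
      Nat.factorization_eq_zero_of_not_dvd (fun h => (hp.coprime_iff_not_dvd.1 hcop) (hj ▸ h)), add_zero]
  have hPF : ∀ g : G, g ∈ (P : Subgroup G) ↔ g = 1 ∨ g ∈ F := by
    have hsub : (Finset.univ.filter fun g : G => g ∈ (P : Subgroup G)) ⊆ insert 1 F := by
      intro g hg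
      simp only [Finset.mem_filter, Finset.mem_univ, true_and] at hg
      rw [Finset.mem_insert, or_iff_not_imp_left]
      intro hg1
      refine Finset.mem_filter.2 ⟨Finset.mem_univ _, fun a ha => hg1 ?_⟩
      obtain ⟨k, hk⟩ := P.2 ⟨g, hg⟩
      have h1 : orderOf g ∣ p ^ k := orderOf_dvd_of_pow_eq_one (by simpa using congrArg Subtype.val hk)
      have h2 : orderOf g ∣ n - 1 := by
        rw [← hGa a, ← Subgroup.orderOf_mk g (show g ∈ MulAction.stabilizer G a from ha)]
        exact orderOf_dvd_natCard _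
      exact orderOf_eq_one_iff.1 (Nat.eq_one_of_dvd_coprimes (hcop.pow_left k) h1 h2)
    have heq := Finset.eq_of_subset_of_card_le hsub (by
      rw [Finset.card_insert_of_notMem (fun (h : (1 : G) ∈ F) => (Finset.mem_filter.1 h).2 a₀ (one_smul _ _)), hF,
        ← Fintype.card_subtype, ← Nat.card_eq_fintype_card]
      have : Nat.card {g : G // g ∈ (P : Subgroup G)} = p ^ j := hPc
      omega)
    intro g
    have := Finset.ext_iff.1 heq g
    simpa using this
  have hFmem : ∀ g : G, g ∈ F ↔ ∀ a : α, g • a ≠ a := fun g => by simp [F]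
  have hnorm : (P : Subgroup G).Normal := by
    refine ⟨fun x hx g => ?_⟩
    rw [hPF] at hx ⊢
    rcases hx with rfl | hx
    · simp
    · right
      rw [hFmem] at hx ⊢
      intro a h
      rw [mul_smul, mul_smul, smul_eq_iff_eq_inv_smul] at h
      exact hx _ h
  have hexp : ∀ x ∈ (P : Subgroup G), x ^ p = 1 := by
    intro x hx
    rcases (hPF x).1 hx with rfl | h
    · exact one_pow _
    · exact hord x h ▸ pow_orderOf_eq_one x
  have hab : ∀ x ∈ (P : Subgroup G), ∀ y ∈ (P : Subgroup G), x * y = y * x := by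
    haveI : Nontrivial (P : Subgroup G) := Finite.one_lt_card_iff_nontrivial.1 (by
      rw [hPc]; exact Nat.one_lt_pow (by omega) hp.one_lt)
    haveI := P.2.center_nontrivial
    obtain ⟨z, hz⟩ := exists_ne (1 : Subgroup.center (P : Subgroup G))
    have hzF : ((z : (P : Subgroup G)) : G) ∈ F := ((hPF _).1 (z : (P : Subgroup G)).2).resolve_left
      (fun h => hz (Subtype.ext (Subtype.ext h)))
    intro x hx y hy
    rcases (hPF x).1 hx with rfl | hxF
    · rw [one_mul, mul_one]
    rw [horbit _ hzF] at hxF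
    obtain ⟨g, -, rfl⟩ := Finset.mem_image.1 hxF
    have hy' : g⁻¹ * y * g ∈ (P : Subgroup G) := by simpa using hnorm.conj_mem y hy g⁻¹
    have := congrArg (fun u : (P : Subgroup G) => g * (u : G) * g⁻¹) (Subgroup.mem_center_iff.1 z.2 ⟨_, hy'⟩)
    simpa [mul_assoc] using this.symm
  have hstab : ∀ a : α, MulAction.stabilizer (P : Subgroup G) a = ⊥ := by
    intro a
    rw [Subgroup.eq_bot_iff_forall]
    rintro ⟨g, hg⟩ ha
    rcases (hPF g).1 hg with h | h
    · exact Subtype.ext h
    · exact absurd ha ((hFmem g).1 h a)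
  have htr : MulAction.IsPretransitive (P : Subgroup G) α := by
    constructor
    intro a b
    have hinj : Function.Injective (fun g : (P : Subgroup G) => g • a) := by
      intro g h e
      have : h⁻¹ * g ∈ MulAction.stabilizer (P : Subgroup G) a := by
        simp [MulAction.mem_stabilizer_iff, mul_smul, show g • a = h • a from e]
      rw [hstab a, Subgroup.mem_bot, inv_mul_eq_one] at this
      exact this.symm
    exact ((hinj.bijective_of_nat_card_le (by rw [Nat.card_eq_fintype_card, ← hn, hj, hPc])).2 b)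
  exact ⟨p, j, hp, hj1, hj, P, hnorm, hPc, by rw [hG, hj], hab, hexp, htr, hstab,
    fun g => by rw [hPF g, hFmem g]⟩

end Cfsg.Agent.Perm
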