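import Cfsg.Agent.Lib.Perm.NearFieldAbelian
import Cfsg.Agent.S0016
import Cfsg.Agent.S3742

/-!
# Solvable groups regular on the nonzero vectors without irreducible cyclic normal subgroups
-/

set_option autoImplicit false
set_option linter.style.haveILetI false

namespace Cfsg.Lib.Perm.NearFieldAb

open scoped commutatorElement

/-- In a finite cyclic group the order determines the generated subgroup. -/
theorem zpowers_eq_of_orderOf_eq {J : Type*} [Group J] [Finite J] [IsCyclic J] {x y : J}
    (h : orderOf x = orderOf y) : Subgroup.zpowers x = Subgroup.zpowers y := by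
  classical
  haveI := Fintype.ofFinite J
  have key : ∀ z : J, orderOf z = orderOf x → (Subgroup.zpowers z : Set J) = {a | a ^ orderOf x = 1} := by
    intro z hz
    refine Set.eq_of_subset_of_ncard_le ?_ ?_ (Set.toFinite _)
    · intro a ha
      obtain ⟨j, rfl⟩ := Subgroup.mem_zpowers_iff.mp ha
      show (z ^ j) ^ orderOf x = 1
      rw [← hz, ← zpow_natCast, ← zpow_mul, mul_comm, zpow_mul, zpow_natCast, pow_orderOf_eq_one, one_zpow]
    · rw [← Nat.card_coe_set_eq (Subgroup.zpowers z : Set J)]
      refine le_of_le_of_eq ?_ ((Nat.card_zpowers z).trans hz).symm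
      rw [Set.ncard_eq_toFinset_card']
      convert IsCyclic.card_pow_eq_one_le (α := J) (orderOf_pos x) using 2
      ext a; simp
  exact SetLike.coe_injective ((key x rfl).trans (key y h.symm).symm)

variable {p : ℕ} [Fact p.Prime] {V : Type*} [AddCommGroup V] [Module (ZMod p) V] [Finite V]
  {H : Subgroup (V ≃ₗ[ZMod p] V)}
  (hreg : ∀ v w : V, v ≠ 0 → w ≠ 0 → ∃! h : H, (h : V ≃ₗ[ZMod p] V) v = w)

include hreg

set_option maxHeartbeats 1000000 in
/-- The field generated by an abelian normal subgroup. -/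
theorem semilinear_bound (A : Subgroup H) (hAn : A.Normal) (hAc : IsMulCommutative A) (W : Submodule (ZMod p) V)
    (hW0 : W ≠ ⊥) (hinv : ∀ a ∈ A, ∀ v ∈ W, ((a : H) : V ≃ₗ[ZMod p] V) v ∈ W)
    (hmin : ∀ W' : Submodule (ZMod p) V, W' ≤ W →
      (∀ a ∈ A, ∀ v ∈ W', ((a : H) : V ≃ₗ[ZMod p] V) v ∈ W') → W' = ⊥ ∨ W' = W) :
    (∃ m : ℕ, Nat.card V = Nat.card W ^ m) ∧
      (Subgroup.centralizer (A : Set H)).index ∣ Module.finrank (ZMod p) W := by
  classical
  haveI := hAn
  haveI : Finite (V ≃ₗ[ZMod p] V) := Finite.of_injective _ DFunLike.coe_injective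
  let r : A →* Module.End (ZMod p) V :=
    { toFun := fun a => (((a : H) : V ≃ₗ[ZMod p] V) : V →ₗ[ZMod p] V)
      map_one' := rfl
      map_mul' := fun _ _ => rfl }
  have hcomm : ∀ x ∈ Set.range r, ∀ y ∈ Set.range r, x * y = y * x := by
    rintro _ ⟨a, rfl⟩ _ ⟨b, rfl⟩
    rw [← map_mul, ← map_mul, hAc.is_comm.comm a b]
  let R := Subring.closure (Set.range r)
  letI : CommRing R := Subring.closureCommRingOfComm hcomm
  obtain ⟨w₀, hw₀W, hw₀⟩ := Submodule.exists_mem_ne_zero_of_ne_bot hW0
  -- conjugation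
  let cj : H → (Module.End (ZMod p) V →+* Module.End (ZMod p) V) := fun h =>
    { toFun := fun φ => ((h : V ≃ₗ[ZMod p] V) : V →ₗ[ZMod p] V) * φ *
        (((h : V ≃ₗ[ZMod p] V).symm : V ≃ₗ[ZMod p] V) : V →ₗ[ZMod p] V)
      map_one' := LinearMap.ext fun v => (h : V ≃ₗ[ZMod p] V).apply_symm_apply v
      map_mul' := fun φ ψ => LinearMap.ext fun v => by simp
      map_zero' := LinearMap.ext fun v => by simp
      map_add' := fun φ ψ => LinearMap.ext fun v => by simp }
  have hcjR : ∀ (h : H), ∀ φ ∈ R, cj h φ ∈ R := by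
    intro h
    have : R ≤ R.comap (cj h) := Subring.closure_le.mpr fun _ ⟨a, ha⟩ => ha ▸ Subring.subset_closure
      ⟨⟨h * a * h⁻¹, hAn.conj_mem a a.2 h⟩, LinearMap.ext fun v => rfl⟩
    exact fun φ hφ => this hφ
  have hcj : ∀ (h : H) φ (v : V), cj h φ ((h : V ≃ₗ[ZMod p] V) v) = (h : V ≃ₗ[ZMod p] V) (φ v) := fun h φ v => by
    simp [cj]
  let ev : V → (R →+ V) := fun v =>
    { toFun := fun φ => (φ : Module.End (ZMod p) V) v
      map_zero' := rfl
      map_add' := fun _ _ => rfl }
  -- the orbit of `w₀` is `W`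
  have hsmul : ∀ (c : ZMod p) (φ : R) (v : V), ev v ((c.val : R) * φ) = c • ev v φ := by
    intro c φ v
    conv_rhs => rw [← ZMod.natCast_zmod_val c, Nat.cast_smul_eq_nsmul (R := ZMod p)]
    rw [show (c.val : R) * φ = c.val • φ by rw [nsmul_eq_mul]]
    exact map_nsmul (ev v) _ _
  have hRW : ∀ φ ∈ R, ∀ w ∈ W, φ w ∈ W := by
    intro φ hφ
    induction hφ using Subring.closure_induction with
    | mem x hx => obtain ⟨a, rfl⟩ := hx; exact hinv a a.2
    | zero => exact fun w _ => W.zero_mem
    | one => exact fun w hw => hw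
    | add x y _ _ hx hy => exact fun w hw => W.add_mem (hx w hw) (hy w hw)
    | neg x _ hx => exact fun w hw => W.neg_mem (hx w hw)
    | mul x y _ _ hx hy => exact fun w hw => hx _ (hy w hw)
  have hrange : ∀ v, v ∈ W → v ≠ 0 → Set.range (ev v) = (W : Set V) := by
    intro v hvW hv
    let S : Submodule (ZMod p) V :=
      { carrier := Set.range (ev v)
        zero_mem' := ⟨0, rfl⟩
        add_mem' := by rintro _ _ ⟨φ, rfl⟩ ⟨ψ, rfl⟩; exact ⟨φ + ψ, rfl⟩
        smul_mem' := by rintro c _ ⟨φ, rfl⟩; exact ⟨(c.val : R) * φ, hsmul c φ v⟩ }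
    have hS : S ≤ W := by rintro _ ⟨φ, rfl⟩; exact hRW φ φ.2 v hvW
    rcases hmin S hS (by rintro a ha _ ⟨φ, rfl⟩; exact ⟨⟨r ⟨a, ha⟩, Subring.subset_closure ⟨_, rfl⟩⟩ * φ, rfl⟩)
      with h | h
    · have : v ∈ S := ⟨1, rfl⟩
      rw [h, Submodule.mem_bot] at this
      exact absurd this hv
    · exact congrArg SetLike.coe h
  have hrangeg : ∀ g : H, Set.range (ev ((g : V ≃ₗ[ZMod p] V) w₀)) = (g : V ≃ₗ[ZMod p] V) '' (W : Set V) := by
    intro g
    rw [← hrange w₀ hw₀W hw₀, ← Set.range_comp]
    ext x
    constructor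
    · rintro ⟨φ, rfl⟩
      refine ⟨⟨_, hcjR g⁻¹ φ φ.2⟩, ?_⟩
      show (g : V ≃ₗ[ZMod p] V) (cj g⁻¹ (φ : Module.End (ZMod p) V) w₀) = _
      conv_lhs => rw [show w₀ = ((g⁻¹ : H) : V ≃ₗ[ZMod p] V) ((g : V ≃ₗ[ZMod p] V) w₀) from
        ((g : V ≃ₗ[ZMod p] V).symm_apply_apply w₀).symm]
      rw [hcj]
      exact (g : V ≃ₗ[ZMod p] V).apply_symm_apply _
    · rintro ⟨φ, rfl⟩
      exact ⟨⟨_, hcjR g φ φ.2⟩, hcj g φ w₀⟩
  haveI : Finite (Module.End (ZMod p) V) := Finite.of_injective _ DFunLike.coe_injective
  have hann : ∀ φ : R, (φ : Module.End (ZMod p) V) w₀ = 0 → φ = 0 := by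
    intro φ hφ
    have hφW : ∀ w ∈ W, (φ : Module.End (ZMod p) V) w = 0 := by
      intro w hw
      obtain ⟨ψ, rfl⟩ := (hrange w₀ hw₀W hw₀).symm.subset hw
      show ((φ * ψ : R) : Module.End (ZMod p) V) w₀ = 0
      rw [mul_comm]
      show (ψ : Module.End (ZMod p) V) ((φ : Module.End (ZMod p) V) w₀) = 0
      rw [hφ, map_zero]
    refine Subtype.ext (LinearMap.ext fun v => ?_)
    show (φ : Module.End (ZMod p) V) v = 0
    by_cases hv : v ∈ W
    · exact hφW v hv
    have hv0 : v ≠ 0 := fun e => hv (e ▸ W.zero_mem)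
    obtain ⟨h, hh, -⟩ := hreg w₀ v hw₀ hv0
    obtain ⟨g, hg, -⟩ := hreg w₀ (w₀ + v) hw₀ (fun e => hv (by rw [eq_neg_of_add_eq_zero_right e]; exact W.neg_mem hw₀W))
    -- the annihilator of the sum
    have hsub : (ev (w₀ + v)).ker ≤ (ev w₀).ker := by
      intro ψ hψ
      have h1 : (ψ : Module.End (ZMod p) V) w₀ + (ψ : Module.End (ZMod p) V) v = 0 := by
        rw [← map_add]; exact hψ
      by_contra hne
      have hu : (ψ : Module.End (ZMod p) V) w₀ ∈ (W : Set V) := hRW ψ ψ.2 w₀ hw₀W
      have hu' : (ψ : Module.End (ZMod p) V) w₀ ∈ (h : V ≃ₗ[ZMod p] V) '' (W : Set V) := by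
        rw [← hrangeg h, hh]
        exact ⟨-ψ, by
          show -((ψ : Module.End (ZMod p) V) v) = _
          exact (eq_neg_of_add_eq_zero_left h1).symm⟩
      -- the translate meets `W` trivially
      have hdisj := hmin (W ⊓ W.map ((h : V ≃ₗ[ZMod p] V) : V →ₗ[ZMod p] V)) inf_le_left (fun a ha u hu => by
        refine ⟨hinv a ha u hu.1, ?_⟩
        obtain ⟨w, hw, rfl⟩ := hu.2
        refine ⟨((h⁻¹ * a * h : H) : V ≃ₗ[ZMod p] V) w, hinv _ (by simpa using hAn.conj_mem a ha h⁻¹) w hw, ?_⟩
        show (h : V ≃ₗ[ZMod p] V) ((h : V ≃ₗ[ZMod p] V).symm _) = _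
        rw [LinearEquiv.apply_symm_apply]
        rfl)
      rcases hdisj with hd | hd
      · have : (ψ : Module.End (ZMod p) V) w₀ ∈ W ⊓ W.map ((h : V ≃ₗ[ZMod p] V) : V →ₗ[ZMod p] V) := ⟨hu, hu'⟩
        rw [hd, Submodule.mem_bot] at this
        exact hne this
      · refine hv ?_
        have hWW : W ≤ W.map ((h : V ≃ₗ[ZMod p] V) : V →ₗ[ZMod p] V) := inf_eq_left.mp hd
        have hcard : Nat.card (W.map ((h : V ≃ₗ[ZMod p] V) : V →ₗ[ZMod p] V)) = Nat.card W :=
          (Nat.card_congr (Submodule.equivMapOfInjective _ (h : V ≃ₗ[ZMod p] V).injective W).toEquiv).symm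
        rw [show W = W.map ((h : V ≃ₗ[ZMod p] V) : V →ₗ[ZMod p] V) from SetLike.coe_injective
          (Set.eq_of_subset_of_ncard_le hWW (by
            rw [← Nat.card_coe_set_eq, ← Nat.card_coe_set_eq]; exact hcard.le) (Set.toFinite _))]
        exact ⟨w₀, hw₀W, hh⟩
    have hr1 : Nat.card (Set.range (ev (w₀ + v))) = Nat.card (Set.range (ev w₀)) := by
      rw [← hg, hrangeg, hrange w₀ hw₀W hw₀,
        Nat.card_image_of_injective (g : V ≃ₗ[ZMod p] V).injective]
    have heq : (ev (w₀ + v)).ker = (ev w₀).ker := by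
      refine AddSubgroup.eq_of_le_of_card_ge hsub (le_of_eq ?_)
      have h1 := (ev (w₀ + v)).ker.card_mul_index
      have h2 := (ev w₀).ker.card_mul_index
      rw [AddSubgroup.index_ker] at h1 h2
      rw [show Nat.card (ev (w₀ + v)).range = Nat.card (Set.range (ev (w₀ + v))) from rfl, hr1] at h1
      rw [show Nat.card (ev w₀).range = Nat.card (Set.range (ev w₀)) from rfl] at h2
      exact Nat.eq_of_mul_eq_mul_right (by
        haveI : Nonempty (Set.range (ev w₀)) := ⟨⟨_, 0, rfl⟩⟩
        exact Nat.card_pos) (h2.trans h1.symm)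
    have h3 : φ ∈ (ev (w₀ + v)).ker := heq ▸ hφ
    have h4 : (φ : Module.End (ZMod p) V) w₀ + (φ : Module.End (ZMod p) V) v = 0 := by
      rw [← map_add]; exact h3
    rwa [hφ, zero_add] at h4
  have hinjall : ∀ φ : R, φ ≠ 0 → Function.Injective (φ : Module.End (ZMod p) V) := by
    intro φ hφ
    rw [← LinearMap.ker_eq_bot, Submodule.eq_bot_iff]
    intro v hv
    by_contra hv0
    obtain ⟨g, hg, -⟩ := hreg v w₀ hv0 hw₀
    have h1 := hann ⟨_, hcjR g φ φ.2⟩ (by
      show cj g (φ : Module.End (ZMod p) V) w₀ = 0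
      rw [← hg, hcj, show (φ : Module.End (ZMod p) V) v = 0 from hv, map_zero])
    refine hφ (Subtype.ext (LinearMap.ext fun x => ?_))
    have h2 : cj g (φ : Module.End (ZMod p) V) ((g : V ≃ₗ[ZMod p] V) x) = 0 :=
      LinearMap.congr_fun (congrArg Subtype.val h1) _
    rw [hcj] at h2
    exact (g : V ≃ₗ[ZMod p] V).map_eq_zero_iff.mp h2
  haveI : Nontrivial R := ⟨⟨1, 0, fun e => hw₀ (LinearMap.congr_fun (congrArg Subtype.val e) w₀)⟩⟩
  haveI : NoZeroDivisors R := ⟨fun {φ ψ} h' => by
    by_contra hh
    push Not at hh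
    refine hh.2 (Subtype.ext (LinearMap.ext fun v => hinjall φ hh.1 ?_))
    show (φ : Module.End (ZMod p) V) ((ψ : Module.End (ZMod p) V) v) = (φ : Module.End (ZMod p) V) 0
    rw [map_zero]
    exact LinearMap.congr_fun (congrArg Subtype.val h') v⟩
  haveI : IsDomain R := NoZeroDivisors.to_isDomain R
  letI : Field R := (Finite.isDomain_to_isField R).toField
  haveI : Fintype R := Fintype.ofFinite R
  have hRcard : Nat.card R = Nat.card W := by
    have hinj : Function.Injective (ev w₀) := fun φ ψ h' => sub_eq_zero.mp (hann _ (by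
      show (φ : Module.End (ZMod p) V) w₀ - (ψ : Module.End (ZMod p) V) w₀ = 0
      exact sub_eq_zero.mpr h'))
    rw [Nat.card_congr (Equiv.ofInjective _ hinj), hrange w₀ hw₀W hw₀]
    rfl
  constructor
  · letI : Module R V :=
      { smul := fun φ v => (φ : Module.End (ZMod p) V) v
        one_smul := fun _ => rfl
        mul_smul := fun _ _ _ => rfl
        smul_zero := fun φ => map_zero (φ : Module.End (ZMod p) V)
        smul_add := fun φ => map_add (φ : Module.End (ZMod p) V)
        add_smul := fun _ _ _ => rfl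
        zero_smul := fun _ => rfl }
    exact ⟨Module.finrank R V, by rw [← hRcard]; exact Module.natCard_eq_pow_finrank⟩
  -- the Galois action
  haveI : CharP R p := by
    refine (CharP.charP_iff_prime_eq_zero Fact.out).mpr (Subtype.ext (LinearMap.ext fun v => ?_))
    show ((p : Module.End (ZMod p) V)) v = 0
    simp [← Nat.cast_smul_eq_nsmul (R := ZMod p)]
  letI : Algebra (ZMod p) R := ZMod.algebra R p
  let σ : H → R →+* R := fun h => (cj h).restrict R R (hcjR h)
  let Φ : H →* (R ≃ₐ[ZMod p] R) :=
    MonoidHom.mk' (fun h => AlgEquiv.ofBijective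
      ({ σ h with commutes' := fun z => DFunLike.congr_fun (RingHom.ext_zmod ((σ h).comp (algebraMap (ZMod p) R))
          (algebraMap (ZMod p) R)) z } : R →ₐ[ZMod p] R)
      (Finite.injective_iff_bijective.mp (σ h).injective)) fun g h => by
      apply AlgEquiv.ext; intro φ
      refine Subtype.ext (LinearMap.ext fun v => ?_)
      rfl
  have hker : Φ.ker = Subgroup.centralizer (A : Set H) := by
    ext h
    rw [MonoidHom.mem_ker, Subgroup.mem_centralizer_iff]
    constructor
    · intro hh a ha
      have h1 : cj h (r ⟨a, ha⟩) = r ⟨a, ha⟩ := congrArg Subtype.val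
        (DFunLike.congr_fun hh (⟨r ⟨a, ha⟩, Subring.subset_closure ⟨_, rfl⟩⟩ : R))
      refine Subtype.ext (LinearEquiv.ext fun v => ?_)
      have h2 := hcj h (r ⟨a, ha⟩) v
      rw [h1] at h2
      exact h2
    · intro hh
      apply AlgEquiv.ext; intro φ
      refine Subtype.ext ?_
      show cj h (φ : Module.End (ZMod p) V) = φ
      have : R ≤ (RingHom.eqLocus (cj h) (RingHom.id _)) := Subring.closure_le.mpr fun _ ⟨a, ha⟩ => by
        rw [← ha]
        refine LinearMap.ext fun v => ?_
        show (h : V ≃ₗ[ZMod p] V) (((a : H) : V ≃ₗ[ZMod p] V) ((h : V ≃ₗ[ZMod p] V).symm v)) = _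
        have h3 : ((a : H) : V ≃ₗ[ZMod p] V) * (h : V ≃ₗ[ZMod p] V) = (h : V ≃ₗ[ZMod p] V) * ((a : H) : V ≃ₗ[ZMod p] V) :=
          congrArg Subtype.val (hh a a.2)
        have h4 := LinearEquiv.congr_fun h3 ((h : V ≃ₗ[ZMod p] V).symm v)
        simp only [LinearEquiv.mul_apply, LinearEquiv.apply_symm_apply] at h4
        exact h4.symm
      exact this φ.2
  rw [← hker, Subgroup.index_ker]
  have hfr : Module.finrank (ZMod p) R = Module.finrank (ZMod p) W := by
    have h1 : p ^ Module.finrank (ZMod p) R = p ^ Module.finrank (ZMod p) W := by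
      have e1 := Module.natCard_eq_pow_finrank (K := ZMod p) (V := R)
      have e2 := Module.natCard_eq_pow_finrank (K := ZMod p) (V := W)
      rw [Nat.card_zmod] at e1 e2
      rw [← e1, ← e2, hRcard]
    exact Nat.pow_right_injective (Fact.out : p.Prime).two_le h1
  rw [← hfr]
  refine (Subgroup.card_subgroup_dvd_card _).trans (dvd_of_eq ?_)
  convert IsGalois.card_aut_eq_finrank (ZMod p) R using 2
  exact Subsingleton.elim _ _

set_option maxHeartbeats 4000000 in
/-- Solvable exceptional degrees. -/
theorem exceptional_degree (hI : ∀ A : Subgroup H, A.Normal → IsCyclic A → ∃ W : Submodule (ZMod p) V,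
      W ≠ ⊥ ∧ W ≠ ⊤ ∧ ∀ a ∈ A, ∀ v ∈ W, ((a : H) : V ≃ₗ[ZMod p] V) v ∈ W)
    (hsolv : Group.IsSolvable H) :
    Nat.card V = 25 ∨ Nat.card V = 49 ∨ Nat.card V = 121 ∨ Nat.card V = 529 := by
  classical
  haveI : Finite (V ≃ₗ[ZMod p] V) := Finite.of_injective _ DFunLike.coe_injective
  have hp := (Fact.out : p.Prime)
  haveI hVnt : Nontrivial V := by
    obtain ⟨W, h1, -, -⟩ := hI ⊥ inferInstance inferInstance
    obtain ⟨w, -, hw⟩ := Submodule.exists_mem_ne_zero_of_ne_bot h1
    exact nontrivial_of_ne w 0 hw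
  -- a maximal abelian normal subgroup
  obtain ⟨A, ⟨hAn, hAc⟩, hAmax⟩ := Set.Finite.exists_maximal
    (Set.toFinite {B : Subgroup H | B.Normal ∧ IsMulCommutative B})
    ⟨⊥, inferInstance, ⟨⟨fun x y => Subsingleton.elim _ _⟩⟩⟩
  have hAmax' : ∀ B : Subgroup H, B.Normal → IsMulCommutative B → A ≤ B → B = A :=
    fun B h1 h2 h3 => le_antisymm (hAmax (y := B) ⟨h1, h2⟩ h3) h3
  haveI := hAn
  obtain ⟨-, W, hW, hWt, hinv, hmin, hAdvd⟩ := exists_minimal hreg hI A hAn hAc
  obtain ⟨⟨m, hm⟩, hidx⟩ := semilinear_bound hreg A hAn hAc W hW hinv hmin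
  set C := Subgroup.centralizer (A : Set H) with hC
  have hAC : A ≤ C := fun x hx => Subgroup.mem_centralizer_iff.mpr fun y hy =>
    congrArg Subtype.val (hAc.is_comm.comm (⟨y, hy⟩ : A) ⟨x, hx⟩)
  have hHcard : Nat.card H + 1 = Nat.card V := by
    obtain ⟨v₀, hv₀⟩ := exists_ne (0 : V)
    have hbij : Function.Bijective (fun h : H =>
        (⟨(h : V ≃ₗ[ZMod p] V) v₀, by simpa using hv₀⟩ : {v : V // v ≠ 0})) := by
      refine ⟨fun g h e => ?_, fun v => ?_⟩
      · obtain ⟨w, -, hw⟩ := hreg v₀ ((h : V ≃ₗ[ZMod p] V) v₀) hv₀ (by simpa using hv₀)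
        exact (hw g (congrArg Subtype.val e)).trans (hw h rfl).symm
      · obtain ⟨h, hh, -⟩ := hreg v₀ v.1 hv₀ v.2
        exact ⟨h, Subtype.ext hh⟩
    haveI := Fintype.ofFinite V
    rw [Nat.card_congr (Equiv.ofBijective _ hbij), Nat.card_eq_fintype_card, Fintype.card_subtype_compl,
      Fintype.card_subtype_eq, Nat.card_eq_fintype_card]
    have : 0 < Fintype.card V := Fintype.card_pos
    omega
  obtain ⟨k, hk⟩ : ∃ k, Module.finrank (ZMod p) W = k := ⟨_, rfl⟩
  have hWcard : Nat.card W = p ^ k := by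
    rw [Module.natCard_eq_pow_finrank (K := ZMod p) (V := W), Nat.card_zmod, hk]
  have hW2 : 2 ≤ Nat.card W := Finite.one_lt_card_iff_nontrivial.mpr ((Submodule.nontrivial_iff_ne_bot).mpr hW)
  have hm2 : 2 ≤ m := by
    by_contra hh
    have hlt : Nat.card W < Nat.card V := by
      obtain ⟨v, -, hv⟩ := SetLike.exists_of_lt (lt_top_iff_ne_top.mpr hWt)
      refine lt_of_le_of_ne (Nat.card_le_card_of_injective _ Subtype.val_injective) fun e => hv ?_
      obtain ⟨w, rfl⟩ := ((Nat.bijective_iff_injective_and_card (fun w : W => (w : V))).mpr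
        ⟨Subtype.val_injective, e⟩).2 v
      exact w.2
    interval_cases m <;> simp_all
  -- the minimal nonabelian normal subgroup
  have hCna : ¬ IsMulCommutative C := by
    intro hc
    have hCA : C = A := hAmax' C inferInstance hc hAC
    have h1 : Nat.card H ∣ Nat.card A * k := by
      rw [← C.card_mul_index, hCA]; exact Nat.mul_dvd_mul_left _ (hk ▸ hCA ▸ hidx)
    have hk0 : 0 < k := Nat.pos_of_ne_zero fun e => by rw [hWcard, e, pow_zero] at hW2; omega
    have h2 := Nat.le_of_dvd (Nat.mul_pos Nat.card_pos hk0) h1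
    have h3 := Nat.le_of_dvd (by omega) hAdvd
    have h4 : k < p ^ k := Nat.lt_pow_self hp.one_lt
    have h5 : Nat.card A * k ≤ (Nat.card W - 1) * (Nat.card W - 1) := Nat.mul_le_mul h3 (by omega)
    have h6 : Nat.card W ^ 2 ≤ Nat.card V := hm ▸ Nat.pow_le_pow_right (by omega) hm2
    obtain ⟨w, hw⟩ : ∃ w, Nat.card W = w + 1 := ⟨Nat.card W - 1, by omega⟩
    rw [hw] at h5 h6
    rw [hw] at hW2
    simp only [Nat.add_sub_cancel] at h5
    nlinarith
  obtain ⟨N, ⟨hNn, hNC, hNna⟩, hNmin⟩ := Set.Finite.exists_minimal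
    (Set.toFinite {N : Subgroup H | N.Normal ∧ N ≤ C ∧ ¬ IsMulCommutative N})
    ⟨C, inferInstance, le_rfl, hCna⟩
  haveI := hNn
  haveI := hsolv
  have hN'lt : ⁅N, N⁆ ≠ N := by
    intro e
    haveI : Nontrivial N := by
      by_contra hh
      rw [not_nontrivial_iff_subsingleton] at hh
      exact hNna ⟨⟨fun x y => Subsingleton.elim _ _⟩⟩
    have h1 := IsSolvable.commutator_lt_top_of_nontrivial N
    refine h1.ne (Subgroup.map_injective N.subtype_injective ?_)
    rw [Subgroup.map_subtype_commutator, ← MonoidHom.range_eq_map, N.range_subtype]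
    exact e
  have hN'le : ⁅N, N⁆ ≤ N := Subgroup.commutator_le_self N
  have hN'c : IsMulCommutative (⁅N, N⁆ : Subgroup H) := by
    by_contra hh
    exact hN'lt (le_antisymm hN'le (hNmin (y := ⁅N, N⁆) ⟨Subgroup.commutator_normal N N, hN'le.trans hNC, hh⟩ hN'le))
  have hN'A : ⁅N, N⁆ ≤ A := by
    have hB : IsMulCommutative (A ⊔ ⁅N, N⁆ : Subgroup H) := by
      have hle : (A ⊔ ⁅N, N⁆ : Subgroup H) ≤ Subgroup.centralizer ((A ⊔ ⁅N, N⁆ : Subgroup H) : Set H) := by
        refine sup_le ?_ ?_ <;> rw [Subgroup.le_centralizer_iff] <;> refine sup_le ?_ ?_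
        · exact hAC
        · exact hN'le.trans hNC
        · rw [Subgroup.le_centralizer_iff]; exact hN'le.trans hNC
        · exact fun x hx => Subgroup.mem_centralizer_iff.mpr fun y hy =>
            congrArg Subtype.val (hN'c.is_comm.comm (⟨y, hy⟩ : (⁅N, N⁆ : Subgroup H)) ⟨x, hx⟩)
      exact ⟨⟨fun x y => Subtype.ext (Subgroup.mem_centralizer_iff.mp (hle y.2) x x.2)⟩⟩
    haveI := Subgroup.commutator_normal N N
    exact le_sup_right.trans (hAmax' _ inferInstance hB le_sup_left).le
  have hcomN : commutator N ≤ Subgroup.center N := by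
    intro x hx
    refine Subgroup.mem_center_iff.mpr fun y => Subtype.ext ?_
    have hxA : (x : H) ∈ A := hN'A (by
      rw [← Subgroup.map_subtype_commutator]; exact ⟨x, hx, rfl⟩)
    exact (Subgroup.mem_centralizer_iff.mp (hNC y.2) x hxA).symm
  haveI hNnil : Group.IsNilpotent N := by
    have : Group.IsNilpotent (Abelianization N) := inferInstance
    exact Subgroup.isNilpotent_of_ker_le_center (Abelianization.of : N →* Abelianization N)
      (by rw [Abelianization.ker_of]; exact hcomN)
  have hpgrp : ∀ (q : ℕ) [Fact q.Prime] (S : Subgroup H), IsPGroup q S →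
      IsCyclic S ∨ (q = 2 ∧ ∃ n : ℕ, Nonempty (S ≃* QuaternionGroup (2 ^ n))) := by
    intro q _ S hS
    refine Cfsg.Agent.S0016.result q hS ?_
    rcases subsingleton_or_nontrivial S with h | h
    · intro B B' hB hB'
      have := Nat.card_of_subsingleton (1 : B)
      have := (Fact.out : q.Prime).two_le
      omega
    haveI := hS.center_nontrivial
    obtain ⟨z, hz⟩ := exists_prime_orderOf_dvd_card' (G := Subgroup.center S) q (by
      obtain ⟨j, hj⟩ := IsPGroup.iff_card.mp (hS.to_subgroup (Subgroup.center S))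
      rw [hj]
      refine dvd_pow_self q fun e => ?_
      rw [e, pow_zero] at hj
      exact absurd hj (Finite.one_lt_card).ne')
    have key : ∀ B : Subgroup S, Nat.card B = q → B = Subgroup.zpowers (z : S) := by
      intro B hB
      obtain ⟨y, hy⟩ := exists_prime_orderOf_dvd_card' (G := B) q (dvd_of_eq hB.symm)
      rw [← Subgroup.orderOf_coe] at hy
      let J : Subgroup S := Subgroup.closure {(z : S), (y : S)}
      have hcomm : IsMulCommutative J := by
        refine Subgroup.isMulCommutative_closure ?_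
        rintro a (rfl | rfl) b (rfl | rfl) <;> first | rfl | exact (Subgroup.mem_center_iff.mp z.2 _).symm | exact Subgroup.mem_center_iff.mp z.2 _
      haveI : IsCyclic J := by
        haveI := hcomm
        have := abelian_cyclic hreg (J.map S.subtype) ⟨⟨fun a b => by
          obtain ⟨_, a', ha', rfl⟩ := a
          obtain ⟨_, b', hb', rfl⟩ := b
          exact Subtype.ext (show (a' : H) * b' = b' * a' from congrArg Subtype.val
            (congrArg Subtype.val (hcomm.is_comm.comm (⟨a', ha'⟩ : J) ⟨b', hb'⟩)))⟩⟩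
        exact isCyclic_of_surjective (J.equivMapOfInjective S.subtype S.subtype_injective).symm.toMonoidHom
          (J.equivMapOfInjective S.subtype S.subtype_injective).symm.surjective
      have hyJ : (y : S) ∈ J := Subgroup.subset_closure (by simp)
      have hzJ : (z : S) ∈ J := Subgroup.subset_closure (by simp)
      have hz' : orderOf (z : S) = q := by rw [Subgroup.orderOf_coe]; exact hz
      have heq : Subgroup.zpowers (⟨y, hyJ⟩ : J) = Subgroup.zpowers (⟨z, hzJ⟩ : J) := by
        refine zpowers_eq_of_orderOf_eq ?_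
        exact (Subgroup.orderOf_mk _ _).trans (hy.trans (hz'.symm.trans (Subgroup.orderOf_mk _ _).symm))
      have h2 := congrArg (Subgroup.map J.subtype) heq
      rw [MonoidHom.map_zpowers, MonoidHom.map_zpowers] at h2
      change Subgroup.zpowers (y : S) = Subgroup.zpowers (z : S) at h2
      rw [← h2]
      refine (Subgroup.eq_of_le_of_card_ge (Subgroup.zpowers_le.mpr y.2) ?_).symm
      rw [Nat.card_zpowers, hy, hB]
    intro B B' hB hB'
    rw [key B hB, key B' hB']
  obtain ⟨eQ⟩ : Nonempty (N ≃* QuaternionGroup 2) := by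
    haveI : Fact (Nat.Prime 2) := ⟨Nat.prime_two⟩
    obtain ⟨S⟩ : Nonempty (Sylow 2 N) := inferInstance
    haveI : (S : Subgroup N).Normal := inferInstance
    haveI : (S : Subgroup N).Characteristic := S.characteristic_of_normal inferInstance
    have hSn : ((S : Subgroup N).map N.subtype).Normal := ConjAct.normal_of_characteristic_of_normal
    by_cases hSc : IsMulCommutative (S : Subgroup N)
    · exfalso
      refine hNna ?_
      haveI : IsZGroup N := by
        refine ⟨fun q hq Q => ?_⟩
        haveI := Fact.mk hq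
        have hmap : IsPGroup q ((Q : Subgroup N).map N.subtype) := Q.2.map N.subtype
        have hcyc : IsCyclic ((Q : Subgroup N).map N.subtype) := by
          rcases hpgrp q _ hmap with h | ⟨rfl, -⟩
          · exact h
          · refine abelian_cyclic hreg _ ?_
            have hQS : (Q : Subgroup N) = S := by
              haveI : Unique (Sylow 2 N) := Sylow.unique_of_normal S inferInstance
              exact congrArg _ (Subsingleton.elim Q S)
            rw [hQS]
            exact ⟨⟨fun a b => by
              obtain ⟨_, a', ha', rfl⟩ := a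
              obtain ⟨_, b', hb', rfl⟩ := b
              exact Subtype.ext (show (a' : H) * b' = b' * a' from congrArg Subtype.val
                (congrArg Subtype.val (hSc.is_comm.comm (⟨a', ha'⟩ : (S : Subgroup N)) ⟨b', hb'⟩)))⟩⟩
        haveI := hcyc
        exact isCyclic_of_surjective ((Q : Subgroup N).equivMapOfInjective N.subtype N.subtype_injective).symm.toMonoidHom
          ((Q : Subgroup N).equivMapOfInjective N.subtype N.subtype_injective).symm.surjective
      haveI : IsCyclic N := inferInstance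
      exact ⟨⟨fun x y => by letI := IsCyclic.commGroup (α := N); exact mul_comm x y⟩⟩
    · have hle : (S : Subgroup N).map N.subtype ≤ N := Subgroup.map_subtype_le _
      have hNS : N ≤ (S : Subgroup N).map N.subtype := hNmin (y := (S : Subgroup N).map N.subtype)
        ⟨hSn, hle.trans hNC, fun hc => hSc ⟨⟨fun a b => Subtype.ext (Subtype.ext (show ((a : N) : H) * (b : N) = (b : N) * (a : N) from
          congrArg Subtype.val (hc.is_comm.comm (⟨_, a, a.2, rfl⟩ : (S : Subgroup N).map N.subtype) ⟨_, b, b.2, rfl⟩)))⟩⟩⟩ hle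
      have hN2 : IsPGroup 2 N := (S.2.map N.subtype).to_le hNS
      rcases hpgrp 2 N hN2 with h | ⟨-, n, ⟨e⟩⟩
      · haveI := h
        exact absurd ⟨⟨fun x y => by letI := IsCyclic.commGroup (α := N); exact mul_comm x y⟩⟩ hNna
      rcases n with _ | n
      · refine absurd ⟨⟨fun x y => e.injective ?_⟩⟩ hNna
        rw [map_mul, map_mul]
        revert x y
        have : ∀ u v : QuaternionGroup (2 ^ 0), u * v = v * u := by decide
        exact fun x y => this _ _
      have hn : n = 0 := by
        by_contra hn0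
        have hc : e.symm (QuaternionGroup.a 2) ∈ Subgroup.center N := by
          refine hcomN ?_
          rw [commutator_def]
          have h1 : ⁅e.symm (QuaternionGroup.a 1), e.symm (QuaternionGroup.xa 0)⁆ = e.symm (QuaternionGroup.a 2) := by
            rw [commutatorElement_def, ← map_inv, ← map_inv, ← map_mul, ← map_mul, ← map_mul]
            congr 1
            rw [show (QuaternionGroup.xa 0 : QuaternionGroup (2 ^ (n + 1)))⁻¹ =
                QuaternionGroup.xa (((2 ^ (n + 1) : ℕ) : ZMod (2 * 2 ^ (n + 1))) + 0) from rfl,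
              show (QuaternionGroup.a 1 : QuaternionGroup (2 ^ (n + 1)))⁻¹ = QuaternionGroup.a (-1) from rfl]
            simp only [QuaternionGroup.a_mul_xa, QuaternionGroup.xa_mul_a, QuaternionGroup.xa_mul_xa]
            congr 1
            have h2 : ((2 * 2 ^ (n + 1) : ℕ) : ZMod (2 * 2 ^ (n + 1))) = 0 := ZMod.natCast_self _
            push_cast at h2 ⊢
            linear_combination h2
          exact h1 ▸ Subgroup.commutator_mem_commutator (Subgroup.mem_top _) (Subgroup.mem_top _)
        have h2 := congrArg e (Subgroup.mem_center_iff.mp hc (e.symm (QuaternionGroup.xa 0)))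
        rw [map_mul, map_mul, e.apply_symm_apply, e.apply_symm_apply, QuaternionGroup.a_mul_xa,
          QuaternionGroup.xa_mul_a] at h2
        injection h2 with h2
        have h3 : ((4 : ℕ) : ZMod (2 * 2 ^ (n + 1))) = 0 := by push_cast; linear_combination h2
        rw [ZMod.natCast_eq_zero_iff, ← pow_succ', show (4 : ℕ) = 2 ^ 2 by norm_num,
          Nat.pow_dvd_pow_iff_le_right (by norm_num)] at h3
        omega
      subst hn
      exact ⟨e⟩
  -- the bound
  have hCker : Nat.card C ∣ Nat.card A * 24 := by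
    let θ : C →* MulAut N := (MulAut.conjNormal (H := N)).comp C.subtype
    have hθ : θ.ker.map C.subtype ≤ A := by
      have hBn : (C ⊓ Subgroup.centralizer (N : Set H)).Normal := inferInstance
      intro x hx
      obtain ⟨x, hx', rfl⟩ := hx
      have hxN : (x : H) ∈ C ⊓ Subgroup.centralizer (N : Set H) := by
        refine ⟨x.2, Subgroup.mem_centralizer_iff.mpr fun y hy => ?_⟩
        have h1 := congrArg Subtype.val (DFunLike.congr_fun (MonoidHom.mem_ker.mp hx') ⟨y, hy⟩)
        exact (mul_inv_eq_iff_eq_mul.mp (show (x : H) * y * (x : H)⁻¹ = y from h1)).symm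
      set B := C ⊓ Subgroup.centralizer (N : Set H) with hB
      have hBc : IsMulCommutative B := by
        by_contra hBna
        obtain ⟨M, ⟨hMn, hMB, hMna⟩, hMmin⟩ := Set.Finite.exists_minimal
          (Set.toFinite {M : Subgroup H | M.Normal ∧ M ≤ B ∧ ¬ IsMulCommutative M}) ⟨B, hBn, le_rfl, hBna⟩
        -- a subgroup of order four in the centralizer and in `N`
        obtain ⟨x₀, hx₀⟩ : ∃ x : N, orderOf x = 4 := ⟨eQ.symm (QuaternionGroup.a 1), by
          rw [MulEquiv.orderOf_eq, QuaternionGroup.orderOf_a_one]⟩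
        haveI : Fact (Nat.Prime 2) := ⟨Nat.prime_two⟩
        obtain ⟨P⟩ : Nonempty (Sylow 2 M) := inferInstance
        -- the centraliser of `N` has no element of order four
        have hno4 : ∀ y ∈ B, orderOf y ≠ 4 := by
          intro y hy hy4
          let J : Subgroup H := Subgroup.closure {y, (x₀ : H)}
          have hyx : y * x₀ = x₀ * y := (Subgroup.mem_centralizer_iff.mp hy.2 _ x₀.2).symm
          haveI : IsCyclic J := abelian_cyclic hreg J (Subgroup.isMulCommutative_closure (by
            rintro a (rfl | rfl) b (rfl | rfl) <;> first | rfl | exact hyx | exact hyx.symm))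
          have hyJ : y ∈ J := Subgroup.subset_closure (by simp)
          have hxJ : (x₀ : H) ∈ J := Subgroup.subset_closure (by simp)
          have heq : Subgroup.zpowers (⟨y, hyJ⟩ : J) = Subgroup.zpowers (⟨x₀, hxJ⟩ : J) := by
            refine zpowers_eq_of_orderOf_eq ?_
            exact (Subgroup.orderOf_mk _ _).trans (hy4.trans (hx₀.symm.trans ((Subgroup.orderOf_coe x₀).symm.trans (Subgroup.orderOf_mk _ _).symm)))
          have hxmem : (⟨x₀, hxJ⟩ : J) ∈ Subgroup.zpowers (⟨y, hyJ⟩ : J) := heq ▸ Subgroup.mem_zpowers _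
          obtain ⟨j, hj⟩ := Subgroup.mem_zpowers_iff.mp hxmem
          have hj' : y ^ j = x₀ := congrArg Subtype.val hj
          have hxB : (x₀ : H) ∈ Subgroup.centralizer (N : Set H) := hj' ▸ Subgroup.zpow_mem _ hy.2 j
          have hxc : x₀ ∈ Subgroup.center N := Subgroup.mem_center_iff.mpr fun z => Subtype.ext
            (Subgroup.mem_centralizer_iff.mp hxB z z.2)
          have h5 : eQ x₀ ∈ Subgroup.center (QuaternionGroup 2) := Subgroup.mem_center_iff.mpr fun z => by
            obtain ⟨z, rfl⟩ := eQ.surjective z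
            rw [← map_mul, ← map_mul, Subgroup.mem_center_iff.mp hxc z]
          have h6 : ∀ q : QuaternionGroup 2, (∀ z, z * q = q * z) → q ^ 2 = 1 := by decide
          have h7 := orderOf_dvd_of_pow_eq_one (h6 _ (Subgroup.mem_center_iff.mp h5))
          rw [MulEquiv.orderOf_eq, hx₀] at h7
          norm_num at h7
        -- so `M` is a `Z`-group with abelian derived subgroup inside `A`
        have hMC : M ≤ C := hMB.trans inf_le_left
        haveI := hMn
        haveI : Nontrivial M := by
          by_contra hh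
          rw [not_nontrivial_iff_subsingleton] at hh
          exact hMna ⟨⟨fun x y => Subsingleton.elim _ _⟩⟩
        have hM'lt : ⁅M, M⁆ ≠ M := fun e => by
          refine (IsSolvable.commutator_lt_top_of_nontrivial M).ne (Subgroup.map_injective M.subtype_injective ?_)
          rw [Subgroup.map_subtype_commutator, ← MonoidHom.range_eq_map, M.range_subtype]
          exact e
        have hM'le : ⁅M, M⁆ ≤ M := Subgroup.commutator_le_self M
        have hM'c : IsMulCommutative (⁅M, M⁆ : Subgroup H) := by
          by_contra hh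
          exact hM'lt (le_antisymm hM'le
            (hMmin (y := ⁅M, M⁆) ⟨Subgroup.commutator_normal M M, hM'le.trans hMB, hh⟩ hM'le))
        have hM'A : ⁅M, M⁆ ≤ A := by
          have hB' : IsMulCommutative (A ⊔ ⁅M, M⁆ : Subgroup H) := by
            have hle : (A ⊔ ⁅M, M⁆ : Subgroup H) ≤ Subgroup.centralizer ((A ⊔ ⁅M, M⁆ : Subgroup H) : Set H) := by
              refine sup_le ?_ ?_ <;> rw [Subgroup.le_centralizer_iff] <;> refine sup_le ?_ ?_
              · exact hAC
              · exact hM'le.trans hMC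
              · rw [Subgroup.le_centralizer_iff]; exact hM'le.trans hMC
              · exact fun x hx => Subgroup.mem_centralizer_iff.mpr fun y hy =>
                  congrArg Subtype.val (hM'c.is_comm.comm (⟨y, hy⟩ : (⁅M, M⁆ : Subgroup H)) ⟨x, hx⟩)
            exact ⟨⟨fun x y => Subtype.ext (Subgroup.mem_centralizer_iff.mp (hle y.2) x x.2)⟩⟩
          haveI := Subgroup.commutator_normal M M
          exact le_sup_right.trans (hAmax' _ inferInstance hB' le_sup_left).le
        haveI : Group.IsNilpotent M := by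
          have : Group.IsNilpotent (Abelianization M) := inferInstance
          refine Subgroup.isNilpotent_of_ker_le_center (Abelianization.of : M →* Abelianization M) ?_
          rw [Abelianization.ker_of]
          intro x hx
          refine Subgroup.mem_center_iff.mpr fun y => Subtype.ext ?_
          have hxA : (x : H) ∈ A := hM'A (by rw [← Subgroup.map_subtype_commutator]; exact ⟨x, hx, rfl⟩)
          exact (Subgroup.mem_centralizer_iff.mp (hMC y.2) x hxA).symm
        haveI : IsZGroup M := by
          refine ⟨fun q hq Q => ?_⟩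
          haveI := Fact.mk hq
          rcases hpgrp q _ (Q.2.map M.subtype) with h | ⟨-, n, ⟨e⟩⟩
          · haveI := h
            exact isCyclic_of_surjective ((Q : Subgroup M).equivMapOfInjective M.subtype M.subtype_injective).symm.toMonoidHom
              ((Q : Subgroup M).equivMapOfInjective M.subtype M.subtype_injective).symm.surjective
          · exfalso
            haveI : NeZero (2 ^ n) := ⟨pow_ne_zero _ two_ne_zero⟩
            refine hno4 ((e.symm (QuaternionGroup.xa 0) : (Q : Subgroup M).map M.subtype) : H) ?_ ?_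
            · obtain ⟨w, hw, hw'⟩ := (e.symm (QuaternionGroup.xa 0)).2
              exact hMB (hw' ▸ w.2)
            · rw [Subgroup.orderOf_coe, MulEquiv.orderOf_eq, QuaternionGroup.orderOf_xa]
        haveI : IsCyclic M := inferInstance
        exact hMna ⟨⟨fun x y => by letI := IsCyclic.commGroup (α := M); exact mul_comm x y⟩⟩
      have hAB : A ≤ B := le_inf hAC fun x hx => Subgroup.mem_centralizer_iff.mpr fun y hy =>
        (Subgroup.mem_centralizer_iff.mp (hNC hy) x hx).symm
      exact (hAmax' B hBn hBc hAB) ▸ hxN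
    rw [← θ.ker.card_mul_index, Subgroup.index_ker]
    refine Nat.mul_dvd_mul ?_ ?_
    · rw [← Subgroup.card_subtype C θ.ker]; exact Subgroup.card_dvd_of_le hθ
    · have h24 : Nat.card (MulAut (QuaternionGroup 2)) = 24 := by
        obtain ⟨e⟩ := Cfsg.Agent.S3742.result
        rw [Nat.card_congr e.toEquiv, Nat.card_perm, Nat.card_eq_fintype_card, Fintype.card_fin]; rfl
      rw [← h24, Nat.card_congr (MulAut.congr eQ).symm.toEquiv]
      exact Subgroup.card_subgroup_dvd_card _
  have hHdvd : Nat.card H ∣ (Nat.card W - 1) * (24 * k) := by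
    rw [← C.card_mul_index, ← mul_assoc]
    exact Nat.mul_dvd_mul (hCker.trans (Nat.mul_dvd_mul_right hAdvd 24)) (hk ▸ hidx)
  -- the arithmetic
  have hk0 : 1 ≤ k := Nat.one_le_iff_ne_zero.mpr fun e => by rw [hWcard, e, pow_zero] at hW2; omega
  obtain ⟨u, hu⟩ : ∃ u, p ^ k = u + 1 := ⟨p ^ k - 1, by omega⟩
  have hpodd : p ≠ 2 := by
    rintro rfl
    have h8 : 8 ∣ Nat.card H := by
      have h1 := Subgroup.card_subgroup_dvd_card N
      rwa [Nat.card_congr eQ.toEquiv, Nat.card_eq_fintype_card, QuaternionGroup.card] at h1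
    have h2 : 2 ∣ Nat.card V := by
      rw [hm, hWcard]; exact dvd_pow (dvd_pow_self 2 (by omega)) (by omega)
    omega
  have hp3 : 3 ≤ p := by have := hp.two_le; omega
  rw [hWcard, hu, Nat.add_sub_cancel] at hHdvd
  rw [hm, hWcard, hu] at hHcard
  rw [hm, hWcard, hu]
  rcases Nat.lt_or_ge m 3 with hm3 | hm3
  · obtain rfl : m = 2 := by omega
    have h1 : u + 2 ∣ 24 * k := by
      refine Nat.dvd_of_mul_dvd_mul_left (show 0 < u by omega) ?_
      rwa [show Nat.card H = u * (u + 2) by nlinarith] at hHdvd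
    have h2 := Nat.le_of_dvd (by omega) h1
    have hk5 : k ≤ 4 := by
      by_contra hk5
      have h3 : 3 ^ k ≤ p ^ k := Nat.pow_le_pow_left hp3 k
      have h4 : ∀ j, 5 ≤ j → 24 * j < 3 ^ j := by
        intro j hj
        induction j, hj using Nat.le_induction with
        | base => norm_num
        | succ j hj ih => rw [pow_succ]; omega
      have := h4 k (by omega)
      omega
    rcases (show k = 1 ∨ k = 2 ∨ k = 3 ∨ k = 4 by omega) with rfl | rfl | rfl | rfl
    · rw [pow_one] at hu
      have hp24 : p ≤ 23 := by omega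
      interval_cases p <;> first | (exfalso; norm_num at hp; done) | skip
      · -- nine vectors
        exfalso
        obtain rfl : u = 2 := by omega
        haveI : NeZero 2 := ⟨two_ne_zero⟩
        have hH8 : Nat.card H = 8 := by omega
        have hNtop : N = ⊤ := Subgroup.eq_top_of_card_eq N (by
          rw [Nat.card_congr eQ.toEquiv, hH8, Nat.card_eq_fintype_card, QuaternionGroup.card])
        let x : H := (eQ.symm (QuaternionGroup.a 1) : H)
        have hx4 : orderOf x = 4 := by
          show orderOf ((eQ.symm (QuaternionGroup.a 1) : N) : H) = 4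
          rw [Subgroup.orderOf_coe, MulEquiv.orderOf_eq, QuaternionGroup.orderOf_a_one]
        let Y := Subgroup.zpowers x
        have hYn : Y.Normal := Subgroup.normal_of_index_eq_two (by
          have := Y.card_mul_index
          rw [Nat.card_zpowers, hx4, hH8] at this
          omega)
        obtain ⟨W₁, h1', h2', h3'⟩ := hI Y hYn inferInstance
        obtain ⟨W₂, h4', h5', h6', h7'⟩ := exists_min_inv Y W₁ h1' h3'
        have hY := (cyclic_of_minimal hreg Y inferInstance W₂ h5' h6' h7').2
        rw [Nat.card_zpowers, hx4] at hY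
        have hlt : Nat.card W₂ < 9 := by
          obtain ⟨v, -, hv⟩ := SetLike.exists_of_lt (lt_top_iff_ne_top.mpr h2')
          have hV9 : Nat.card V = 9 := by rw [hm, hWcard]; norm_num
          rw [← hV9]
          refine lt_of_le_of_ne (Nat.card_le_card_of_injective _ Subtype.val_injective) fun e => hv ?_
          obtain ⟨w, rfl⟩ := ((Nat.bijective_iff_injective_and_card (fun w : W₂ => (w : V))).mpr
            ⟨Subtype.val_injective, e⟩).2 v
          exact h4' w.2
        have h2w : 2 ≤ Nat.card W₂ := Finite.one_lt_card_iff_nontrivial.mpr ((Submodule.nontrivial_iff_ne_bot).mpr h5')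
        have hW9 : Nat.card W₂ ∣ 3 ^ 2 := by
          have hW₂c : Nat.card W₂ = 3 ^ Module.finrank (ZMod 3) W₂ := by
            rw [Module.natCard_eq_pow_finrank (K := ZMod 3) (V := W₂), Nat.card_zmod]
          rw [hW₂c]
          refine Nat.pow_dvd_pow 3 ?_
          by_contra hh
          have := Nat.pow_le_pow_right (show 0 < 3 by norm_num) (show 2 ≤ Module.finrank (ZMod 3) W₂ by omega)
          omega
        obtain ⟨i, hi, hi'⟩ := (Nat.dvd_prime_pow Nat.prime_three).mp hW9
        interval_cases i <;> omega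
      all_goals
        obtain rfl := (show ∀ a b : ℕ, a = b + 1 → b = a - 1 from fun a b h => by omega) _ _ hu
        norm_num at h1 <;> norm_num
    all_goals
      exfalso
      have hp9 : p ≤ 9 := by
        by_contra hh
        have := Nat.pow_le_pow_left (show 10 ≤ p by omega)
        first
          | (have := this 2; omega)
          | (have := this 3; omega)
          | (have := this 4; omega)
      interval_cases p <;> first
        | (norm_num at hp; done)
        | (obtain rfl := (show ∀ a b : ℕ, a = b + 1 → b = a - 1 from fun a b h => by omega) _ _ hu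
           norm_num at h1 <;> norm_num at h2)
  · exfalso
    have h1 : Nat.card H ≤ u * (24 * k) := Nat.le_of_dvd (by nlinarith) hHdvd
    have h2 : (u + 1) ^ 3 ≤ (u + 1) ^ m := Nat.pow_le_pow_right (by omega) hm3
    have h3 : 3 ^ k ≤ p ^ k := Nat.pow_le_pow_left hp3 k
    have h4 : ∀ j, 1 ≤ j → 2 * j + 1 ≤ 3 ^ j := by
      intro j hj
      induction j, hj using Nat.le_induction with
      | base => norm_num
      | succ j hj ih => rw [pow_succ]; omega
    have h5 := h4 k hk0
    rcases Nat.lt_or_ge u 9 with hu9 | hu9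
    · have hpk : p ^ k ≤ 9 := by omega
      have hk2 : k ≤ 2 := by
        by_contra hh
        have := Nat.pow_le_pow_right (show 0 < 3 by norm_num) (show 3 ≤ k by omega)
        omega
      have hp9 : p ≤ 9 := (Nat.le_self_pow (by omega) p).trans hpk
      rcases Nat.lt_or_ge m 4 with hm4 | hm4
      · obtain rfl : m = 3 := by omega
        interval_cases k <;> interval_cases p <;> first
          | (exfalso; norm_num at hp; done)
          | omega
          | (obtain rfl := (show ∀ a b : ℕ, a = b + 1 → b = a - 1 from fun a b h => by omega) _ _ hu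
             rw [(show ∀ a b : ℕ, a + 1 = b → a = b - 1 from fun a b h => by omega) _ _ hHcard] at hHdvd
             norm_num at hHdvd)
      · have h6 : (u + 1) ^ 4 ≤ (u + 1) ^ m := Nat.pow_le_pow_right (by omega) hm4
        have h7 : u * (24 * k) ≤ u * (12 * u) := Nat.mul_le_mul_left _ (by omega)
        have h8 : 1 ≤ u := by omega
        rcases (show u = 1 ∨ 2 ≤ u by omega) with rfl | h9
        · norm_num at h6 h7; omega
        · nlinarith [Nat.mul_le_mul_left (u * u) h9, Nat.mul_le_mul_left (u * u * u) h9]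
    · have h7 : u * (24 * k) ≤ u * (12 * u) := Nat.mul_le_mul_left _ (by omega)
      nlinarith [Nat.mul_le_mul_left (u * u) hu9]

end Cfsg.Lib.Perm.NearFieldAb
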