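import Cfsg.Agent.Lib.Perm.SharpThreeHom
import Cfsg.Agent.Lib.Perm.ZasAbelian.Main
import Cfsg.Agent.S0741

/-!
# Simple Zassenhaus groups with two-point stabilizers of even order
-/

set_option autoImplicit false
set_option linter.style.haveILetI false

namespace Cfsg.Lib.Perm.ZasSimpleEven

open Cfsg

/-- In a simple Zassenhaus group a two-point stabilizer of even order has two orbits on the other points. -/
theorem card_sub_two_eq {G Ω : Type*} [Group G] [Finite G] [MulAction G Ω] [Fintype Ω]
    (hZ : Cfsg.IsZassenhausGroup G Ω) [IsSimpleGroup G] {a b : Ω} (hab : a ≠ b)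
    (heven : Even (Nat.card ↥(MulAction.stabilizer G a ⊓ MulAction.stabilizer G b : Subgroup G))) :
    Fintype.card Ω - 2 =
      2 * Nat.card ↥(MulAction.stabilizer G a ⊓ MulAction.stabilizer G b : Subgroup G) := by
  classical
  haveI := Fintype.ofFinite G
  have hfaith := hZ.1
  have hsemi := hZ.2.2.1
  set d := Nat.card ↥(MulAction.stabilizer G a ⊓ MulAction.stabilizer G b) with hd
  have hd2 : 2 ≤ d := by
    obtain ⟨m, hm⟩ := heven
    have : 0 < d := Nat.card_pos
    omega
  rcases Cfsg.Lib.Perm.ZasAbelian.two_orbits hZ hab (Cfsg.Agent.S0741.result hZ hab heven) with h | htr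
  · exact h
  exfalso
  have hcard3 : 3 ≤ Fintype.card Ω := Cfsg.Lib.Char.zas_two_lt_card hZ
  let ψ := MulAction.toPermHom G Ω
  have hψ : Function.Injective ψ := MulAction.toPerm_injective
  have hsm : ∀ (g : G) (x : Ω), (⟨ψ g, g, rfl⟩ : ψ.range) • x = g • x := fun g x => rfl
  have h3 : MulAction.IsMultiplyPretransitive ψ.range Ω 3 := by
    obtain ⟨c, hca, hcb⟩ : ∃ c, c ≠ a ∧ c ≠ b := by
      obtain ⟨c, hc⟩ := Finset.exists_mem_notMem_of_card_lt_card (s := ({a, b} : Finset Ω))
        (t := Finset.univ) (by rw [Finset.card_pair hab, Finset.card_univ]; omega)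
      simp only [Finset.mem_univ, Finset.mem_insert, Finset.mem_singleton, not_or, true_and] at hc
      exact ⟨c, hc.1, hc.2⟩
    have hstd : ∀ t : Fin 3 ↪ Ω, ∃ g : G, g • t 0 = a ∧ g • t 1 = b ∧ g • t 2 = c := by
      intro t
      obtain ⟨k, hk0, hk1⟩ := MulAction.is_two_pretransitive_iff.1 hZ.2.1
        (t.injective.ne (by decide : (0 : Fin 3) ≠ 1)) hab
      obtain ⟨m, hm0, hm1, hm2⟩ := htr (k • t 2) c
        (fun e => t.injective.ne (by decide : (2 : Fin 3) ≠ 0) (MulAction.injective k (e.trans hk0.symm)))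
        (fun e => t.injective.ne (by decide : (2 : Fin 3) ≠ 1) (MulAction.injective k (e.trans hk1.symm)))
        hca hcb
      exact ⟨m * k, by rw [mul_smul, hk0, hm0], by rw [mul_smul, hk1, hm1], by rw [mul_smul, hm2]⟩
    refine ⟨fun t u => ?_⟩
    obtain ⟨g, hg0, hg1, hg2⟩ := hstd t
    obtain ⟨k, hk0, hk1, hk2⟩ := hstd u
    refine ⟨⟨ψ (k⁻¹ * g), _, rfl⟩, DFunLike.ext _ _ fun i => ?_⟩
    show (k⁻¹ * g) • t i = u i
    rw [mul_smul, inv_smul_eq_iff]
    fin_cases i
    · exact hg0.trans hk0.symm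
    · exact hg1.trans hk1.symm
    · exact hg2.trans hk2.symm
  have hsharp : ∀ t : Fin 3 ↪ Ω, MulAction.stabilizer ψ.range t = ⊥ := by
    intro t
    rw [Subgroup.eq_bot_iff_forall]
    rintro ⟨_, g, rfl⟩ hg
    have h : ∀ i, g • t i = t i := fun i => DFunLike.congr_fun (MulAction.mem_stabilizer_iff.mp hg) i
    have hg1 : g = 1 := hsemi g (t 0) (t 1) (t 2) (t.injective.ne (by decide)) (t.injective.ne (by decide))
      (t.injective.ne (by decide)) (h 0) (h 1) (h 2)
    exact Subtype.ext ((congrArg ψ hg1).trans (map_one ψ))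
  -- the two-point stabilizer is regular on the other points, so the degree is even
  have heven' : Even (Fintype.card Ω) := by
    obtain ⟨c, hca, hcb⟩ : ∃ c, c ≠ a ∧ c ≠ b := by
      obtain ⟨c, hc⟩ := Finset.exists_mem_notMem_of_card_lt_card (s := ({a, b} : Finset Ω))
        (t := Finset.univ) (by rw [Finset.card_pair hab, Finset.card_univ]; omega)
      simp only [Finset.mem_univ, Finset.mem_insert, Finset.mem_singleton, not_or, true_and] at hc
      exact ⟨c, hc.1, hc.2⟩
    have hc' := Cfsg.Lib.Perm.SharpThreeHom.card_two_point_stabilizer ψ.range h3 hsharp hab hca.symm hcb.symm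
    let e : G ≃* ψ.range := MonoidHom.ofInjective hψ
    have hdd : d = Fintype.card Ω - 2 := by
      rw [hd, ← hc']
      exact Nat.card_congr
        { toFun := fun g => ⟨e g, g.2.1, g.2.2⟩
          invFun := fun g => ⟨e.symm g, by
            have h : e (e.symm g) • a = a ∧ e (e.symm g) • b = b := by
              rw [MulEquiv.apply_symm_apply]; exact ⟨g.2.1, g.2.2⟩
            exact ⟨h.1, h.2⟩⟩
          left_inv := fun g => Subtype.ext (e.symm_apply_apply _)
          right_inv := fun g => Subtype.ext (e.apply_symm_apply _) }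
    obtain ⟨m, hm⟩ := heven
    exact ⟨m + 1, by omega⟩
  obtain ⟨φ, g, hg⟩ := Cfsg.Lib.Perm.SharpThreeHom.exists_sign_hom ψ.range h3 hsharp heven' (by omega)
  set χ := φ.comp ψ.rangeRestrict with hχ
  rcases (MonoidHom.normal_ker χ).eq_bot_or_eq_top with h | h
  · have h1 := Nat.card_le_card_of_injective χ ((MonoidHom.ker_eq_bot_iff χ).1 h)
    rw [Nat.card_eq_fintype_card (α := ℤˣ), Fintype.card_units_int] at h1
    have h2 : Fintype.card Ω ≤ Nat.card G := by
      haveI : MulAction.IsPretransitive G Ω := by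
        haveI := hZ.2.1
        exact MulAction.isPretransitive_of_is_two_pretransitive
      exact (Nat.card_eq_fintype_card (α := Ω)).symm.le.trans
        (Nat.card_le_card_of_surjective (fun g : G => g • a) (MulAction.surjective_smul G a))
    omega
  · obtain ⟨g', rfl⟩ := ψ.rangeRestrict_surjective g
    exact hg (MonoidHom.mem_ker.1 (h ▸ Subgroup.mem_top g' : g' ∈ χ.ker))

end Cfsg.Lib.Perm.ZasSimpleEven
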