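import Mathlib
import Cfsg.Agent.S0673

/-! Burnside's theorem on transitive groups of prime degree, after P. Müller. -/

set_option autoImplicit false

namespace Cfsg.Agent.PrimeDegree

open Polynomial

variable {p : ℕ} [Fact p.Prime]

/-- A permutation of `ZMod p` preserving differences in a small non-empty set of non-zero residues
is affine. -/
theorem affine_of_preserves (π : Equiv.Perm (ZMod p)) (S : Finset (ZMod p)) (hS : S.Nonempty)
    (h0 : (0 : ZMod p) ∉ S) (hcard : 2 * S.card ≤ p - 1)
    (hπ : ∀ x y : ZMod p, y - x ∈ S → π y - π x ∈ S) (x : ZMod p) :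
    π x = (π 1 - π 0) * x + π 0 := by
  classical
  have hp : p.Prime := Fact.out
  -- the difference operator
  let T : (ZMod p → ZMod p) →ₗ[ZMod p] (ZMod p → ZMod p) :=
    { toFun := fun f x => (∑ d ∈ S, f (x + d)) - (S.card : ZMod p) * f x
      map_add' := fun f g => by
        funext x; simp only [Pi.add_apply, Finset.sum_add_distrib]; ring
      map_smul' := fun c f => by
        funext x; simp only [Pi.smul_apply, smul_eq_mul, ← Finset.mul_sum, RingHom.id_apply]; ring }
  have hTapp : ∀ f x, T f x = (∑ d ∈ S, f (x + d)) - (S.card : ZMod p) * f x := fun f x => rfl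
  have hTsh : ∀ (f : ZMod p → ZMod p) (j : ZMod p), T f (j - 1) = T (fun i => f (i - 1)) j := by
    intro f j
    rw [hTapp, hTapp]
    simp only [sub_add_eq_add_sub]
  have hTpi : ∀ (f : ZMod p → ZMod p) (x : ZMod p), T (fun i => f (π i)) x = T f (π x) := by
    intro f x
    rw [hTapp, hTapp]
    have e : ∑ d ∈ S, f (π (x + d)) = ∑ d ∈ S, f (π x + d) := by
      have him : S.image (fun d => π (x + d) - π x) = S := by
        refine Finset.eq_of_subset_of_card_le ?_ ?_
        · intro y hy
          obtain ⟨d, hd, rfl⟩ := Finset.mem_image.mp hy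
          exact hπ x (x + d) (by rwa [add_sub_cancel_left])
        · rw [Finset.card_image_of_injective _ (fun a b h => by simpa using h)]
      conv_rhs => rw [← him]
      rw [Finset.sum_image (fun a _ b _ h => by simpa using h)]
      simp
    rw [e]
  set W : Submodule (ZMod p) (ZMod p → ZMod p) := LinearMap.ker T with hW
  have hWsh : ∀ f ∈ W, (fun j => f (j - 1)) ∈ W := by
    intro f hf
    rw [hW, LinearMap.mem_ker] at hf ⊢
    funext j; rw [← hTsh, hf]; rfl
  obtain ⟨r, hrp, hrd, hr⟩ := Cfsg.Agent.S0673.result (K := ZMod p) W hWsh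
  simp only [ZMod.cast_id', id_eq] at hr
  have hconst : ∀ c : ZMod p, (fun _ => c) ∈ W := fun c => by
    rw [hW, LinearMap.mem_ker]; funext x; rw [hTapp]; simp
  have hk0 : 0 < S.card := hS.card_pos
  have hk : (S.card : ZMod p) ≠ 0 := by
    rw [Ne, CharP.cast_eq_zero_iff (ZMod p) p]
    exact fun h => absurd (Nat.le_of_dvd hk0 h) (by omega)
  have huniq : ∀ P Q : (ZMod p)[X], P.degree < p → Q.degree < p →
      (∀ x, P.eval x = Q.eval x) → P = Q := by
    intro P Q hP hQ h
    rw [← sub_eq_zero]
    refine Polynomial.eq_zero_of_degree_lt_of_eval_index_eq_zero (s := (Finset.univ : Finset (ZMod p)))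
      (v := id) Function.injective_id.injOn ?_ (fun j _ => by simp [h])
    rw [Finset.card_univ, ZMod.card]
    exact lt_of_le_of_lt (Polynomial.degree_sub_le P Q) (max_lt hP hQ)
  have haff : ∀ a b : ZMod p, (∀ y, π y = a * y + b) → π x = (π 1 - π 0) * x + π 0 :=
    fun a b h => by rw [h, h, h]; ring
  have hmono : ∀ j, j < r → (fun y : ZMod p => y ^ j) ∈ W := fun j hj =>
    (hr _).mpr ⟨X ^ j, by rw [degree_X_pow]; exact_mod_cast hj, fun y => by simp⟩
  have hr1 : 1 ≤ r := by
    by_contra hh
    obtain ⟨P, hP, hP1⟩ := (hr _).mp (hconst 1)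
    have h1 := hP1 0
    rw [show r = 0 by omega] at hP
    have hP0 : P = 0 := Polynomial.degree_eq_bot.mp (by simpa using hP)
    rw [hP0, eval_zero] at h1
    exact one_ne_zero h1
  have hrk : r ≤ S.card := by
    by_contra hh
    set q : (ZMod p)[X] := ∏ d ∈ S, (X - C d) with hq
    have hqd : q.natDegree = S.card := Polynomial.natDegree_finsetProd_X_sub_C_eq_card S id
    have h1 : ∑ d ∈ S, q.eval d = 0 := Finset.sum_eq_zero fun d hd => by
      rw [hq, eval_prod]; exact Finset.prod_eq_zero hd (by simp)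
    have h2 : ∑ d ∈ S, q.eval d = q.coeff 0 * (S.card : ZMod p) := by
      simp only [eval_eq_sum_range, hqd]
      rw [Finset.sum_comm, Finset.sum_eq_single 0]
      · simp [mul_comm]
      · intro i hi hi0
        rw [← Finset.mul_sum]
        have := congrFun (LinearMap.mem_ker.mp (hmono i (by
          have := Finset.mem_range.mp hi; omega))) 0
        rw [hTapp] at this
        simp [hi0] at this
        rw [this, mul_zero]
      · simp
    rw [h1, coeff_zero_eq_eval_zero, hq, eval_prod] at h2
    rcases mul_eq_zero.mp h2.symm with h | h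
    · obtain ⟨d, hd, hd0⟩ := Finset.prod_eq_zero_iff.mp h
      simp only [eval_sub, eval_X, eval_C, zero_sub, neg_eq_zero] at hd0
      exact h0 (hd0 ▸ hd)
    · exact hk h
  rcases Nat.lt_or_ge r 2 with hr2 | hr2
  · -- the kernel consists of the constants only
    have hker : ∀ f ∈ W, ∃ c, ∀ y, f y = c := by
      intro f hf
      obtain ⟨P, hP, hPf⟩ := (hr f).mp hf
      refine ⟨P.coeff 0, fun y => ?_⟩
      have hPc : P.degree ≤ 0 := by
        have hr' : r = 1 := by omega
        rw [hr'] at hP
        rcases hd : P.degree with _ | d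
        · exact bot_le
        · rw [hd] at hP
          exact WithBot.coe_le_coe.mpr (Nat.lt_succ_iff.mp (WithBot.coe_lt_coe.mp hP))
      have hPC := eq_C_of_degree_le_zero hPc
      rw [hPf y, hPC]
      simp
    obtain ⟨f₁, hf₁⟩ : ∃ f, T f = fun _ => 1 := by
      have hsh : ∀ g ∈ LinearMap.range T, (fun j => g (j - 1)) ∈ LinearMap.range T := by
        rintro _ ⟨f, rfl⟩
        exact ⟨fun i => f (i - 1), funext fun j => (hTsh f j).symm⟩
      obtain ⟨s, _, _, hs⟩ := Cfsg.Agent.S0673.result (K := ZMod p) (LinearMap.range T) hsh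
      have hs1 : 1 ≤ s := by
        by_contra hh
        obtain ⟨P, hP, hP1⟩ := (hs _).mp ⟨fun y => if y = 0 then 1 else 0, rfl⟩
        have h1 := hP1 0
        rw [show s = 0 by omega] at hP
        have hP0 : P = 0 := Polynomial.degree_eq_bot.mp (by simpa using hP)
        rw [hP0, eval_zero, hTapp,
          Finset.sum_eq_zero (fun d hd => by
            rw [if_neg]; rw [zero_add]; exact fun e => h0 (e ▸ hd))] at h1
        simp at h1
        exact hk h1
      exact (hs _).mpr ⟨C 1, lt_of_le_of_lt degree_C_le (by exact_mod_cast hs1), fun y => by simp⟩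
    have hsplit : ∀ f, T (T f) = 0 → ∃ c b, ∀ y, f y = c * f₁ y + b := by
      intro f hf
      obtain ⟨c, hc⟩ := hker (T f) hf
      have hm : f - c • f₁ ∈ W := by
        rw [hW, LinearMap.mem_ker, map_sub, map_smul, hf₁]
        funext y; simp [hc]
      obtain ⟨b, hb⟩ := hker _ hm
      refine ⟨c, b, fun y => ?_⟩
      have := hb y
      simp only [Pi.sub_apply, Pi.smul_apply, smul_eq_mul] at this
      rw [← this]; ring
    have hsh2 : ∀ f ∈ LinearMap.ker (T.comp T), (fun j => f (j - 1)) ∈ LinearMap.ker (T.comp T) := by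
      intro f hf
      simp only [LinearMap.mem_ker, LinearMap.comp_apply] at hf ⊢
      rw [show T (fun i => f (i - 1)) = fun i => T f (i - 1) from funext fun i => (hTsh f i).symm]
      funext j; rw [← hTsh, hf]; rfl
    obtain ⟨s, _, _, hs⟩ := Cfsg.Agent.S0673.result (K := ZMod p) _ hsh2
    simp only [ZMod.cast_id', id_eq] at hs
    have hf2 : f₁ ∈ LinearMap.ker (T.comp T) := by
      simp only [LinearMap.mem_ker, LinearMap.comp_apply, hf₁]
      exact hconst 1
    have hs2 : 2 ≤ s := by
      by_contra hh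
      obtain ⟨P, hP, hP1⟩ := (hs _).mp hf2
      have hPc : P.degree ≤ 0 := by
        rcases hd : P.degree with _ | d
        · exact bot_le
        · rw [hd] at hP
          have := WithBot.coe_lt_coe.mp hP
          exact WithBot.coe_le_coe.mpr (by simp at this ⊢; omega)
      have hPC := eq_C_of_degree_le_zero hPc
      have hf1c : f₁ = fun _ => P.coeff 0 := funext fun y => by
        rw [hP1, hPC]; simp
      have := congrFun hf₁ 0
      rw [hf1c, LinearMap.mem_ker.mp (hconst _)] at this
      exact zero_ne_one this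
    have hid : (fun y : ZMod p => y) ∈ LinearMap.ker (T.comp T) :=
      (hs _).mpr ⟨X, by rw [degree_X]; exact_mod_cast hs2, fun y => by simp⟩
    simp only [LinearMap.mem_ker, LinearMap.comp_apply] at hid
    obtain ⟨c, b, hcb⟩ := hsplit _ hid
    have hc : c ≠ 0 := by
      rintro rfl
      have h1 := hcb 0
      have h2 := hcb 1
      simp at h1 h2
      exact one_ne_zero (h2.trans h1.symm)
    obtain ⟨c', b', hcb'⟩ := hsplit (fun y => π y) (by
      rw [show (fun y => π y) = fun y => (fun z : ZMod p => z) (π y) from rfl,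
        show T (fun y => (fun z : ZMod p => z) (π y)) = fun y => T (fun z => z) (π y) from
          funext fun y => hTpi (fun z => z) y]
      funext y
      rw [hTpi, hid]; rfl)
    refine haff (c' / c) (b' - c' / c * b) fun y => ?_
    have h : c' * f₁ y = c' / c * (c * f₁ y) := by rw [← mul_assoc, div_mul_cancel₀ _ hc]
    rw [hcb' y, h, show c * f₁ y = y - b from eq_sub_of_add_eq (hcb y).symm]
    ring
  · -- the identity function lies in the kernel
    have hcomp : ∀ f ∈ W, (fun y => f (π y)) ∈ W := by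
      intro f hf
      rw [hW, LinearMap.mem_ker] at hf ⊢
      funext y; rw [hTpi, hf]; rfl
    obtain ⟨P, hP, hPπ⟩ := (hr _).mp (hcomp _ (hmono 1 (by omega)))
    simp only [pow_one] at hPπ
    rcases Nat.lt_or_ge P.natDegree 2 with hn | hn
    · refine haff (P.coeff 1) (P.coeff 0) fun y => ?_
      rw [hPπ y, eq_X_add_C_of_natDegree_le_one (p := P) (by omega)]
      simp
    exfalso
    set n := P.natDegree with hn'
    set j := (r + n - 1) / n with hj
    have hj1 : r ≤ j * n := by
      have := Nat.lt_div_mul_add (a := r + n - 1) (b := n) (by omega)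
      rw [← hj] at this; omega
    have hj2 : j * n ≤ r + n - 1 := Nat.div_mul_le_self _ _
    have hjr : j < r := by
      by_contra hh
      have := Nat.mul_le_mul_right n (Nat.le_of_not_lt hh)
      have h2 : r + n ≤ r * n := by nlinarith
      omega
    have hnr : n < r := by
      have hP0 : P ≠ 0 := by intro h; rw [hn', h] at hn; simp at hn
      exact (natDegree_lt_iff_degree_lt hP0).mpr hP
    obtain ⟨Q, hQ, hQπ⟩ := (hr _).mp (hcomp _ (hmono j hjr))
    have hlt : j * n < p := by omega
    have heq : P ^ j = Q := huniq _ _ (lt_of_le_of_lt degree_le_natDegree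
      (by rw [natDegree_pow]; exact_mod_cast hlt))
      (lt_of_lt_of_le hQ (by exact_mod_cast hrp))
      (fun y => by rw [eval_pow, ← hPπ y, ← hQπ y])
    have hQ0 : Q ≠ 0 := by
      intro h
      have h1 := congrArg Polynomial.natDegree heq
      rw [natDegree_pow, h, natDegree_zero, ← hn'] at h1
      omega
    have h1 := (natDegree_lt_iff_degree_lt hQ0).mpr hQ
    rw [← heq, natDegree_pow, ← hn'] at h1
    omega

variable {α : Type*} [Fintype α] [DecidableEq α]

/-- A cyclic numbering of the points by a transitive group of prime degree. -/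
theorem exists_numbering (hα : Fintype.card α = p) (G : Subgroup (Equiv.Perm α))
    [MulAction.IsPretransitive G α] :
    ∃ e : ZMod p ≃ α, ∀ t : ZMod p, ∃ g ∈ G, ∀ i, g (e i) = e (i + t) := by
  classical
  have hp : p.Prime := Fact.out
  obtain ⟨a⟩ : Nonempty α := Fintype.card_pos_iff.mp (hα ▸ hp.pos)
  have hdvd : p ∣ Nat.card G := by
    rw [← hα, ← Nat.card_eq_fintype_card, ← MulAction.index_stabilizer_of_transitive G a]
    exact Subgroup.index_dvd_card _
  obtain ⟨c, hc⟩ := exists_prime_orderOf_dvd_card' p hdvd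
  have hco : orderOf (c : Equiv.Perm α) = p := by rwa [Subgroup.orderOf_coe]
  have hcyc : (c : Equiv.Perm α).IsCycle := by
    refine Equiv.Perm.isCycle_of_prime_order'' (hα ▸ hp) ?_
    rw [hco, hα]
  have hsupp : (c : Equiv.Perm α).support = Finset.univ := by
    refine Finset.eq_univ_of_card _ ?_
    rw [← hcyc.orderOf, hco, hα]
  have hmv : ∀ b, (c : Equiv.Perm α) b ≠ b := fun b =>
    Equiv.Perm.mem_support.mp (hsupp ▸ Finset.mem_univ b)
  have hsur : Function.Surjective fun i : ZMod p => ((c : Equiv.Perm α) ^ i.val) a := by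
    intro b
    obtain ⟨n, hn⟩ := hcyc.exists_pow_eq (hmv a) (hmv b)
    refine ⟨(n : ZMod p), ?_⟩
    show ((c : Equiv.Perm α) ^ (n : ZMod p).val) a = b
    rw [ZMod.val_natCast]
    conv_lhs => rw [← hco, pow_mod_orderOf]
    exact hn
  have hbij : Function.Bijective fun i : ZMod p => ((c : Equiv.Perm α) ^ i.val) a :=
    (Fintype.bijective_iff_surjective_and_card _).mpr ⟨hsur, by rw [ZMod.card, hα]⟩
  refine ⟨Equiv.ofBijective _ hbij, fun t => ⟨(c : Equiv.Perm α) ^ t.val, pow_mem c.2 _, fun i => ?_⟩⟩
  simp only [Equiv.ofBijective_apply]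
  have hmod := pow_mod_orderOf (c : Equiv.Perm α) (i.val + t.val)
  rw [hco] at hmod
  rw [← Equiv.Perm.mul_apply, ← pow_add, ZMod.val_add, hmod, add_comm]

/-- Burnside: a transitive group of prime degree is doubly transitive or affine. -/
theorem two_transitive_or_affine (hα : Fintype.card α = p) (G : Subgroup (Equiv.Perm α))
    [MulAction.IsPretransitive G α] :
    MulAction.IsMultiplyPretransitive G α 2 ∨
      ∃ e : ZMod p ≃ α, ∀ g ∈ G, ∀ i : ZMod p,
        e.symm (g (e i)) = (e.symm (g (e 1)) - e.symm (g (e 0))) * i + e.symm (g (e 0)) := by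
  classical
  obtain ⟨e, he⟩ := exists_numbering hα G
  set D : Finset (ZMod p) :=
    Finset.univ.filter fun d => ∃ h ∈ G, h (e 0) = e 0 ∧ h (e 1) = e d with hD
  have hD1 : (1 : ZMod p) ∈ D := by
    rw [hD, Finset.mem_filter]; exact ⟨Finset.mem_univ _, 1, G.one_mem, rfl, rfl⟩
  have hD0 : (0 : ZMod p) ∉ D := by
    rw [hD, Finset.mem_filter]
    rintro ⟨-, h, -, h1, h2⟩
    exact one_ne_zero (e.injective (h.injective (h2.trans h1.symm)))
  have hpres : ∀ g ∈ G, ∀ x y : ZMod p, y - x ∈ D →
      e.symm (g (e y)) - e.symm (g (e x)) ∈ D := by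
    intro g hg x y hxy
    rw [hD, Finset.mem_filter] at hxy ⊢
    obtain ⟨-, h, hh, h1, h2⟩ := hxy
    obtain ⟨t₁, ht₁, ht₁'⟩ := he x
    obtain ⟨t₂, ht₂, ht₂'⟩ := he (-e.symm (g (e x)))
    refine ⟨Finset.mem_univ _, t₂ * (g * (t₁ * h)), G.mul_mem ht₂ (G.mul_mem hg (G.mul_mem ht₁ hh)),
      ?_, ?_⟩
    · simp only [Equiv.Perm.mul_apply, h1, ht₁', zero_add]
      have h3 := ht₂' (e.symm (g (e x)))
      rw [e.apply_symm_apply] at h3
      rw [h3, add_neg_cancel]
    · simp only [Equiv.Perm.mul_apply, h2, ht₁', sub_add_cancel]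
      have h3 := ht₂' (e.symm (g (e y)))
      rw [e.apply_symm_apply] at h3
      rw [h3, sub_eq_add_neg]
  by_cases hall : ∀ d, d ≠ 0 → d ∈ D
  · left
    rw [MulAction.is_two_pretransitive_iff]
    intro a b c d hab hcd
    have key : ∀ a b : α, a ≠ b → ∃ g ∈ G, g (e 0) = a ∧ g (e 1) = b := by
      intro a b hab
      have := hall (e.symm b - e.symm a) (sub_ne_zero.mpr fun h => hab (e.symm.injective h).symm)
      rw [hD, Finset.mem_filter] at this
      obtain ⟨-, h, hh, h1, h2⟩ := this
      obtain ⟨t, ht, ht'⟩ := he (e.symm a)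
      refine ⟨t * h, G.mul_mem ht hh, ?_, ?_⟩
      · rw [Equiv.Perm.mul_apply, h1, ht', zero_add, e.apply_symm_apply]
      · rw [Equiv.Perm.mul_apply, h2, ht', sub_add_cancel, e.apply_symm_apply]
    obtain ⟨g₁, hg₁, ha, hb⟩ := key a b hab
    obtain ⟨g₂, hg₂, hc, hd⟩ := key c d hcd
    refine ⟨⟨g₂ * g₁⁻¹, G.mul_mem hg₂ (G.inv_mem hg₁)⟩, ?_, ?_⟩
    · show g₂ (g₁⁻¹ a) = c
      rw [← ha, Equiv.Perm.inv_def, Equiv.symm_apply_apply, hc]
    · show g₂ (g₁⁻¹ b) = d
      rw [← hb, Equiv.Perm.inv_def, Equiv.symm_apply_apply, hd]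
  · right
    push Not at hall
    obtain ⟨d₀, hd₀, hd₀'⟩ := hall
    set D' := (Finset.univ.erase (0 : ZMod p)) \ D with hD'
    have hpres' : ∀ g ∈ G, ∀ x y : ZMod p, y - x ∈ D' →
        e.symm (g (e y)) - e.symm (g (e x)) ∈ D' := by
      intro g hg x y hxy
      simp only [hD', Finset.mem_sdiff, Finset.mem_erase, Finset.mem_univ, and_true] at hxy ⊢
      refine ⟨sub_ne_zero.mpr fun h => hxy.1 ?_, fun h => hxy.2 ?_⟩
      · rw [sub_eq_zero]; exact e.injective (g.injective (e.symm.injective h))
      · simpa using hpres g⁻¹ (G.inv_mem hg) _ _ h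
    have hsum : D.card + D'.card = p - 1 := by
      have hsub : D ⊆ Finset.univ.erase 0 := fun d hd =>
        Finset.mem_erase.mpr ⟨fun h => hD0 (h ▸ hd), Finset.mem_univ _⟩
      have h1 := Finset.card_sdiff_add_card_eq_card hsub
      rw [← hD', Finset.card_erase_of_mem (Finset.mem_univ _), Finset.card_univ, ZMod.card] at h1
      omega
    refine ⟨e, fun g hg i => ?_⟩
    rcases Nat.le_total D.card D'.card with hle | hle
    · exact affine_of_preserves (e.trans (g.trans e.symm)) D ⟨1, hD1⟩ hD0 (by omega) (hpres g hg) i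
    · exact affine_of_preserves (e.trans (g.trans e.symm)) D' ⟨d₀, by simp [hD', hd₀, hd₀']⟩
        (by simp [hD']) (by omega) (hpres' g hg) i

/-- An affine group is solvable. -/
theorem isSolvable_of_affine (G : Subgroup (Equiv.Perm α)) (e : ZMod p ≃ α)
    (h : ∀ g ∈ G, ∀ i : ZMod p,
      e.symm (g (e i)) = (e.symm (g (e 1)) - e.symm (g (e 0))) * i + e.symm (g (e 0))) :
    Group.IsSolvable G := by
  classical
  let φ : G →* ZMod p :=
    { toFun := fun g => e.symm ((g : Equiv.Perm α) (e 1)) - e.symm ((g : Equiv.Perm α) (e 0))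
      map_one' := by simp
      map_mul' := fun g k => by
        have h1 := h g g.2 (e.symm ((k : Equiv.Perm α) (e 1)))
        have h0 := h g g.2 (e.symm ((k : Equiv.Perm α) (e 0)))
        rw [e.apply_symm_apply] at h1 h0
        simp only [Subgroup.coe_mul, Equiv.Perm.mul_apply]
        rw [h1, h0]; ring }
  have hker : ∀ a b : φ.toHomUnits.ker, a * b = b * a := by
    intro a b
    have ha : φ a.1 = 1 := by
      have := congrArg Units.val (MonoidHom.mem_ker.mp a.2)
      simpa using this
    have hb : φ b.1 = 1 := by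
      have := congrArg Units.val (MonoidHom.mem_ker.mp b.2)
      simpa using this
    refine Subtype.ext (Subtype.ext (Equiv.ext fun x => ?_))
    obtain ⟨i, rfl⟩ := e.surjective x
    have key : ∀ (c : G), φ c = 1 → ∀ j, (c : Equiv.Perm α) (e j) =
        e (j + e.symm ((c : Equiv.Perm α) (e 0))) := by
      intro c hc j
      apply e.symm.injective
      rw [h c c.2 j, e.symm_apply_apply]
      rw [show e.symm ((c : Equiv.Perm α) (e 1)) - e.symm ((c : Equiv.Perm α) (e 0)) = 1 from hc,
        one_mul]
    simp only [Subgroup.coe_mul, Equiv.Perm.mul_apply]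
    rw [key b.1 hb i, key a.1 ha (i + _), key a.1 ha i, key b.1 hb (i + _), add_right_comm]
  haveI : Group.IsSolvable φ.toHomUnits.ker := Group.isSolvable_of_comm hker
  exact Group.isSolvable_of_ker_le_range φ.toHomUnits.ker.subtype φ.toHomUnits
    (by rw [Subgroup.range_subtype])

end Cfsg.Agent.PrimeDegree
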