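import Mathlib
import Cfsg.Agent.Lib.Perm.PrimeDegree

/-! Subgroups of index `p` in transitive groups of prime degree `p`. -/

set_option autoImplicit false

namespace Cfsg.Agent.PrimeDegree

open scoped Pointwise

variable {α : Type*} [Fintype α] [DecidableEq α] {p : ℕ} [Fact p.Prime]

theorem card_sq_not_dvd (hα : Fintype.card α = p) (G : Subgroup (Equiv.Perm α)) :
    ¬ p ^ 2 ∣ Nat.card G := by
  have hp : p.Prime := Fact.out
  intro h
  have h0 := Subgroup.card_subgroup_dvd_card G
  rw [Nat.card_eq_fintype_card (α := Equiv.Perm α), Fintype.card_perm, hα] at h0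
  have h1 := h.trans h0
  rw [← Nat.mul_factorial_pred hp.ne_zero, pow_two] at h1
  have h2 := Nat.dvd_of_mul_dvd_mul_left hp.pos h1
  exact absurd (hp.dvd_factorial.mp h2) (by have := hp.pos; omega)

theorem not_dvd_card_of_index (hα : Fintype.card α = p) (G : Subgroup (Equiv.Perm α))
    (H : Subgroup G) (hH : H.index = p) : ¬ p ∣ Nat.card H := by
  intro h
  refine card_sq_not_dvd hα G ?_
  rw [← Subgroup.card_mul_index H, hH, pow_two]
  exact Nat.mul_dvd_mul_right h p

/-- A solvable transitive group of prime degree is affine. -/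
theorem affine_of_isSolvable (hα : Fintype.card α = p) (G : Subgroup (Equiv.Perm α))
    [MulAction.IsPretransitive G α] (hsolv : Group.IsSolvable G) :
    ∃ e : ZMod p ≃ α, ∀ g ∈ G, ∀ i : ZMod p,
      e.symm (g (e i)) = (e.symm (g (e 1)) - e.symm (g (e 0))) * i + e.symm (g (e 0)) := by
  classical
  have hp : p.Prime := Fact.out
  obtain ⟨e, he⟩ := exists_numbering hα G
  refine ⟨e, ?_⟩
  obtain ⟨c, hc, hc'⟩ := he 1
  obtain ⟨a0⟩ : Nonempty α := Fintype.card_pos_iff.mp (hα ▸ hp.pos)
  have hpG : p ∣ Nat.card G := by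
    rw [← hα, ← Nat.card_eq_fintype_card, ← MulAction.index_stabilizer_of_transitive G a0]
    exact Subgroup.index_dvd_card _
  -- a non-trivial abelian normal subgroup
  obtain ⟨A, hAn, hA1, hAab⟩ : ∃ A : Subgroup G, A.Normal ∧ A ≠ ⊥ ∧ ∀ x ∈ A, ∀ y ∈ A, x * y = y * x := by
    obtain ⟨n, hn⟩ := hsolv.solvable
    classical
    have hex : ∃ m, derivedSeries G m = ⊥ := ⟨n, hn⟩
    have hm0 : Nat.find hex ≠ 0 := by
      intro h0
      have := Nat.find_spec hex
      rw [h0, derivedSeries_zero] at this
      have h1 : Nat.card G = 1 := by rw [← Subgroup.card_top, this, Subgroup.card_bot]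
      rw [h1] at hpG
      exact hp.ne_one (Nat.dvd_one.mp hpG)
    obtain ⟨m, hm⟩ := Nat.exists_eq_succ_of_ne_zero hm0
    refine ⟨derivedSeries G m, derivedSeries_normal G m, Nat.find_min hex (by omega), fun x hx y hy => ?_⟩
    have h1 := Nat.find_spec hex
    rw [hm, derivedSeries_succ] at h1
    have := Subgroup.commutator_mem_commutator hx hy
    rw [h1, Subgroup.mem_bot] at this
    exact commutatorElement_eq_one_iff_mul_comm.mp this
  haveI := hAn
  have hpA : p ∣ Nat.card A := by
    obtain ⟨a, ha, ha1⟩ := Subgroup.bot_or_exists_ne_one A |>.resolve_left hA1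
    obtain ⟨x, hx⟩ : ∃ x : α, (a : Equiv.Perm α) x ≠ x := by
      by_contra hcon
      push Not at hcon
      exact ha1 (Subtype.ext (Equiv.ext hcon))
    haveI : MulAction.IsPreprimitive G α := MulAction.IsPreprimitive.of_prime_card (by rwa [Nat.card_eq_fintype_card, hα])
    have hfix : MulAction.fixedPoints A α ≠ Set.univ := by
      intro h
      exact hx ((h.symm ▸ Set.mem_univ x : x ∈ MulAction.fixedPoints A α) ⟨a, ha⟩)
    haveI := MulAction.IsQuasiPreprimitive.isPretransitive_of_normal (G := G) (X := α) hfix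
    rw [← hα, ← Nat.card_eq_fintype_card, ← MulAction.index_stabilizer_of_transitive A a0]
    exact Subgroup.index_dvd_card _
  have hcA : (⟨c, hc⟩ : G) ∈ A := by
    rw [← QuotientGroup.eq_one_iff]
    have hcp : (⟨c, hc⟩ : G) ^ p = 1 := by
      refine Subtype.ext (Equiv.ext fun x => ?_)
      obtain ⟨i, rfl⟩ := e.surjective x
      have key : ∀ (n : ℕ) (i : ZMod p), (c ^ n) (e i) = e (i + n) := by
        intro n
        induction n with
        | zero => intro i; simp
        | succ n ih =>
            intro i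
            rw [pow_succ', Equiv.Perm.mul_apply, ih, hc']
            congr 1; push_cast; ring
      simp [key]
    have h2 : orderOf (QuotientGroup.mk ⟨c, hc⟩ : G ⧸ A) ∣ p :=
      orderOf_dvd_of_pow_eq_one (by rw [← QuotientGroup.mk_pow, hcp, QuotientGroup.mk_one])
    rcases (Nat.dvd_prime hp).mp h2 with h | h
    · exact orderOf_eq_one_iff.mp h
    · exfalso
      have h3 : p ∣ Nat.card (G ⧸ A) := h ▸ orderOf_dvd_natCard _
      refine card_sq_not_dvd hα G ?_
      rw [Subgroup.card_eq_card_quotient_mul_card_subgroup A, pow_two]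
      exact Nat.mul_dvd_mul h3 hpA
  -- the elements of `A` are translations
  have htr : ∀ a ∈ A, ∀ i : ZMod p,
      e.symm ((a : Equiv.Perm α) (e i)) = i + e.symm ((a : Equiv.Perm α) (e 0)) := by
    intro a ha i
    have hcomm := congrArg Subtype.val (hAab a ha _ hcA)
    simp only [Subgroup.coe_mul] at hcomm
    rw [← ZMod.natCast_rightInverse i]
    induction i.val with
    | zero => simp
    | succ n ih =>
        rw [Nat.cast_succ, ← hc', ← Equiv.Perm.mul_apply, hcomm, Equiv.Perm.mul_apply]
        have h4 : (a : Equiv.Perm α) (e n) = e ((n : ZMod p) + e.symm ((a : Equiv.Perm α) (e 0))) := by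
          rw [← ih, e.apply_symm_apply]
        rw [h4, hc', e.symm_apply_apply]; ring
  intro g hg i
  set π : ZMod p → ZMod p := fun j => e.symm (g (e j)) with hπ
  have hd : ∃ k : ZMod p, ∀ j, π (j + 1) = π j + k := by
    have hm : (⟨g, hg⟩ : G) * ⟨c, hc⟩ * (⟨g, hg⟩ : G)⁻¹ ∈ A := hAn.conj_mem _ hcA _
    refine ⟨e.symm ((((⟨g, hg⟩ : G) * ⟨c, hc⟩ * (⟨g, hg⟩ : G)⁻¹ : G) : Equiv.Perm α) (e 0)), fun j => ?_⟩
    have := htr _ hm (π j)
    rw [← this]
    simp [hπ, hc']
  obtain ⟨k, hk⟩ := hd
  have hlin : ∀ n : ℕ, π (n : ZMod p) = π 0 + k * n := by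
    intro n
    induction n with
    | zero => simp
    | succ n ih => rw [Nat.cast_succ, hk, ih]; ring
  have hlin' : ∀ j, π j = π 0 + k * j := fun j => by
    have := hlin j.val; rwa [ZMod.natCast_rightInverse j] at this
  show π i = (π 1 - π 0) * i + π 0
  rw [hlin' i, hlin' 1]; ring

/-- In an affine group a subgroup of order prime to `p` fixes a point. -/
theorem fixed_point_of_not_dvd (G : Subgroup (Equiv.Perm α)) (e : ZMod p ≃ α)
    (he : ∀ g ∈ G, ∀ i : ZMod p,
      e.symm (g (e i)) = (e.symm (g (e 1)) - e.symm (g (e 0))) * i + e.symm (g (e 0)))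
    (H : Subgroup G) (hH : ¬ p ∣ Nat.card H) : ∃ a : α, ∀ h ∈ H, h • a = a := by
  classical
  have hex : ∀ g : G, ∃ st : ZMod p × ZMod p, ∀ i, (g : Equiv.Perm α) (e i) = e (st.1 * i + st.2) :=
    fun g => ⟨(_, _), fun i => by rw [← he g g.2 i, e.apply_symm_apply]⟩
  choose st happ₀ using hex
  obtain ⟨sl, hsl'⟩ : ∃ f : G → ZMod p, f = fun g => (st g).1 := ⟨_, rfl⟩
  obtain ⟨tr, htr'⟩ : ∃ f : G → ZMod p, f = fun g => (st g).2 := ⟨_, rfl⟩
  have happ : ∀ (g : G) i, (g : Equiv.Perm α) (e i) = e (sl g * i + tr g) := fun g i => by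
    rw [hsl', htr']; exact happ₀ g i
  -- elements of slope one in `H` are trivial
  have hone : ∀ h ∈ H, sl h = 1 → h = 1 := by
    intro h hh h1
    have key : ∀ (n : ℕ) (i : ZMod p), ((h : Equiv.Perm α) ^ n) (e i) = e (i + n * tr h) := by
      intro n
      induction n with
      | zero => intro i; simp
      | succ n ih =>
          intro i
          rw [pow_succ', Equiv.Perm.mul_apply, ih, happ, h1]
          congr 1; push_cast; ring
    have hpow : (⟨h, hh⟩ : H) ^ p = 1 := by
      refine Subtype.ext (Subtype.ext (Equiv.ext fun x => ?_))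
      obtain ⟨i, rfl⟩ := e.surjective x
      simp [key]
    by_contra hne
    refine hH ?_
    have : orderOf (⟨h, hh⟩ : H) = p :=
      orderOf_eq_prime hpow (fun e => hne (congrArg Subtype.val e))
    exact this ▸ orderOf_dvd_natCard _
  by_cases htriv : ∀ h ∈ H, h = 1
  · exact ⟨e 0, fun h hh => by rw [htriv h hh, one_smul]⟩
  push Not at htriv
  obtain ⟨h₀, hh₀, hne₀⟩ := htriv
  have hsl : sl h₀ ≠ 1 := fun h => hne₀ (hone h₀ hh₀ h)
  have hsub : sl h₀ - 1 ≠ 0 := sub_ne_zero.mpr hsl
  set x := -tr h₀ / (sl h₀ - 1) with hx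
  have hxf : sl h₀ * x + tr h₀ = x := by
    have : (sl h₀ - 1) * x = -tr h₀ := by rw [hx]; exact mul_div_cancel₀ _ hsub
    linear_combination this
  have huniq : ∀ y, sl h₀ * y + tr h₀ = y → y = x := fun y hy => by
    refine mul_left_cancel₀ hsub ?_
    linear_combination hy - hxf
  refine ⟨e x, fun h hh => ?_⟩
  have hmul : ∀ u v : G, sl (u * v) = sl u * sl v := by
    intro u v
    have h1 := happ (u * v) 1
    have h0 := happ (u * v) 0
    rw [Subgroup.coe_mul, Equiv.Perm.mul_apply, happ v, happ u] at h1 h0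
    linear_combination (e.injective h0) - (e.injective h1)
  have hcomm : h₀ * h = h * h₀ := by
    have h1 : sl (h₀ * h * (h * h₀)⁻¹) = 1 := by
      have e1 := hmul (h₀ * h * (h * h₀)⁻¹) (h * h₀)
      rw [inv_mul_cancel_right, hmul h₀ h, hmul h h₀] at e1
      have hnz : sl h * sl h₀ ≠ 0 := by
        have hnz' : ∀ g : G, sl g ≠ 0 := fun g hg0 => by
          have := happ g 1
          have h0 := happ g 0
          rw [hg0] at this h0
          simp at this h0
          exact one_ne_zero (e.injective ((g : Equiv.Perm α).injective (this.trans h0.symm)))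
        exact mul_ne_zero (hnz' h) (hnz' h₀)
      refine mul_right_cancel₀ hnz ?_
      linear_combination -e1
    have := hone _ (H.mul_mem (H.mul_mem hh₀ hh) (H.inv_mem (H.mul_mem hh hh₀))) h1
    exact mul_inv_eq_one.mp this
  have h2 := congrArg (fun g : G => (g : Equiv.Perm α) (e x)) hcomm
  simp only [Subgroup.coe_mul, Equiv.Perm.mul_apply, happ, hxf] at h2
  have h3 := huniq _ (e.injective h2)
  show (h : Equiv.Perm α) (e x) = e x
  rw [happ, h3]

set_option maxHeartbeats 800000 in
/-- A triply transitive group of prime degree: a subgroup of index `p` fixes a point. -/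
theorem fixed_point_of_three_transitive (hα : Fintype.card α = p) (G : Subgroup (Equiv.Perm α))
    [MulAction.IsPretransitive G α] (h3 : MulAction.IsMultiplyPretransitive G α 3)
    (H : Subgroup G) (hH : H.index = p) : ∃ a : α, ∀ h ∈ H, h • a = a := by
  classical
  have hp : p.Prime := Fact.out
  obtain ⟨a₀⟩ : Nonempty α := Fintype.card_pos_iff.mp (hα ▸ hp.pos)
  set D : Finset α := Finset.univ.filter fun x => ∃ h ∈ H, h • a₀ = x with hD
  have hDa : a₀ ∈ D := by rw [hD, Finset.mem_filter]; exact ⟨Finset.mem_univ _, 1, H.one_mem, one_smul _ _⟩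
  have hDH : ∀ h ∈ H, h • D = D := by
    intro h hh
    refine Finset.eq_of_subset_of_card_le ?_ (by rw [Finset.card_smul_finset])
    intro y hy
    obtain ⟨x, hx, rfl⟩ := Finset.mem_smul_finset.mp hy
    rw [hD, Finset.mem_filter] at hx ⊢
    obtain ⟨-, k, hk, rfl⟩ := hx
    exact ⟨Finset.mem_univ _, h * k, H.mul_mem hh hk, mul_smul _ _ _⟩
  have hDp : D.card < p := by
    rcases (hα ▸ D.card_le_univ : D.card ≤ p).lt_or_eq with h | h
    · exact h
    exfalso
    have huniv : D = Finset.univ := Finset.eq_univ_of_card _ (h.trans hα.symm)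
    haveI : MulAction.IsPretransitive H α := by
      refine MulAction.IsPretransitive.mk fun x y => ?_
      have hx := huniv.symm ▸ Finset.mem_univ x
      have hy := huniv.symm ▸ Finset.mem_univ y
      rw [hD, Finset.mem_filter] at hx hy
      obtain ⟨-, k, hk, rfl⟩ := hx
      obtain ⟨-, l, hl, rfl⟩ := hy
      exact ⟨⟨l * k⁻¹, H.mul_mem hl (H.inv_mem hk)⟩, by
        show (l * k⁻¹) • k • a₀ = l • a₀
        rw [← mul_smul, inv_mul_cancel_right]⟩
    refine not_dvd_card_of_index hα G H hH ?_
    rw [← hα, ← Nat.card_eq_fintype_card, ← MulAction.index_stabilizer_of_transitive H a₀]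
    exact Subgroup.index_dvd_card _
  rcases Nat.lt_or_ge D.card 2 with h1 | h2
  · refine ⟨a₀, fun h hh => ?_⟩
    have hmem : h • a₀ ∈ D := by rw [hD, Finset.mem_filter]; exact ⟨Finset.mem_univ _, h, hh, rfl⟩
    exact Finset.card_le_one.mp (by omega) _ hmem _ hDa
  -- the blocks
  set B : Finset (Finset α) := Finset.univ.image fun g : G => g • D with hB
  have hinv : ∀ (g : G) E, g • E ∈ B ↔ E ∈ B := by
    intro g E
    simp only [hB, Finset.mem_image, Finset.mem_univ, true_and]
    constructor
    · rintro ⟨k, hk⟩; exact ⟨g⁻¹ * k, by rw [mul_smul, hk, inv_smul_smul]⟩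
    · rintro ⟨k, rfl⟩; exact ⟨g * k, mul_smul _ _ _⟩
  have hBcard : ∀ E ∈ B, E.card = D.card := by
    intro E hE
    obtain ⟨g, -, rfl⟩ := Finset.mem_image.mp hE
    exact Finset.card_smul_finset _ _
  have hBp : B.card = p := by
    have hstab : MulAction.stabilizer G D = H := by
      have hle : H ≤ MulAction.stabilizer G D := fun h hh => MulAction.mem_stabilizer_iff.mpr (hDH h hh)
      have hd := Subgroup.index_dvd_of_le hle
      rw [hH] at hd
      rcases (Nat.dvd_prime hp).mp hd with h | h
      · exfalso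
        rw [Subgroup.index_eq_one] at h
        obtain ⟨y, hy⟩ : ∃ y, y ∉ D := by
          by_contra hcon
          push Not at hcon
          rw [Finset.eq_univ_of_forall hcon, Finset.card_univ, hα] at hDp
          exact lt_irrefl _ hDp
        obtain ⟨g, hg⟩ := MulAction.exists_smul_eq G a₀ y
        have hgD : g • D = D := MulAction.mem_stabilizer_iff.mp (h ▸ Subgroup.mem_top g)
        exact hy (hgD ▸ hg ▸ Finset.smul_mem_smul_finset hDa)
      · refine (Subgroup.eq_of_le_of_card_ge hle (le_of_eq ?_)).symm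
        have e1 := Subgroup.card_mul_index (MulAction.stabilizer G D)
        rw [h, ← Subgroup.card_mul_index H, hH] at e1
        exact Nat.eq_of_mul_eq_mul_right hp.pos e1
    have : (B : Set (Finset α)) = MulAction.orbit G D := by
      ext E; simp [hB, MulAction.mem_orbit_iff]
    rw [← Set.ncard_coe_finset, this, ← MulAction.index_stabilizer, hstab, hH]
  have htriple : ∀ x y z x' y' z' : α, x ≠ y → x ≠ z → y ≠ z → x' ≠ y' → x' ≠ z' → y' ≠ z' →
      ∃ g : G, g • x = x' ∧ g • y = y' ∧ g • z = z' := by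
    intro x y z x' y' z' a b c a' b' c'
    haveI := h3
    obtain ⟨g, hg⟩ := MulAction.exists_smul_eq G
      (⟨![x, y, z], by intro i j hij; fin_cases i <;> fin_cases j <;> simp_all⟩ : Fin 3 ↪ α)
      (⟨![x', y', z'], by intro i j hij; fin_cases i <;> fin_cases j <;> simp_all⟩ : Fin 3 ↪ α)
    exact ⟨g, DFunLike.congr_fun hg 0, DFunLike.congr_fun hg 1, DFunLike.congr_fun hg 2⟩
  let N : Finset α → ℕ := fun S => (B.filter fun E => S ⊆ E).card
  have hNinv : ∀ (g : G) S, N (g • S) = N S := by
    intro g S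
    refine (Finset.card_equiv (MulAction.toPerm g) fun E => ?_).symm
    simp [hinv, Finset.smul_finset_subset_smul_finset_iff]
  obtain ⟨y₀, hy₀, hy0a⟩ := Finset.exists_mem_ne h2 a₀
  obtain ⟨z₀, hz₀⟩ : ∃ z, z ∉ D := by
    by_contra hcon
    push Not at hcon
    rw [Finset.eq_univ_of_forall hcon, Finset.card_univ, hα] at hDp
    exact lt_irrefl _ hDp
  have hza : z₀ ≠ a₀ := fun h => hz₀ (h ▸ hDa)
  have hzy : z₀ ≠ y₀ := fun h => hz₀ (h ▸ hy₀)
  set lam := N {a₀, y₀} with hlam
  set mu := N {a₀, y₀, z₀} with hmu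
  have hmu_lt : mu < lam := by
    refine Finset.card_lt_card ?_
    rw [Finset.ssubset_iff_of_subset]
    · refine ⟨D, ?_, ?_⟩
      · simp only [Finset.mem_filter]
        exact ⟨Finset.mem_image.mpr ⟨1, Finset.mem_univ _, one_smul _ _⟩,
          by simp [Finset.insert_subset_iff, hDa, hy₀]⟩
      · simp [Finset.insert_subset_iff, hz₀]
    · intro E hE
      simp only [Finset.mem_filter, Finset.insert_subset_iff] at hE ⊢
      exact ⟨hE.1, hE.2.1, Finset.singleton_subset_iff.mpr hE.2.2.1⟩
  set Ba := B.filter fun E => a₀ ∈ E with hBa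
  have hBa_card : Ba.card = D.card := by
    have hdeg : ∀ x, (B.filter fun E => x ∈ E).card = Ba.card := by
      intro x
      obtain ⟨g, rfl⟩ := MulAction.exists_smul_eq G a₀ x
      refine (Finset.card_equiv (MulAction.toPerm g) fun E => ?_).symm
      simp [hBa, hinv, Finset.smul_mem_smul_finset_iff]
    have h1 : ∑ x : α, (B.filter fun E => x ∈ E).card = ∑ E ∈ B, E.card := by
      simp only [Finset.card_filter]
      rw [Finset.sum_comm]
      simp
    simp only [hdeg, Finset.sum_const, Finset.card_univ, hα, smul_eq_mul,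
      Finset.sum_congr rfl hBcard, hBp] at h1
    exact Nat.eq_of_mul_eq_mul_left hp.pos h1
  -- Fisher's inequality in the derived design
  let v : {x : α // x ≠ a₀} → ({E // E ∈ Ba} → ℚ) := fun x E => if x.1 ∈ E.1 then 1 else 0
  have hdot : ∀ x y : {x : α // x ≠ a₀}, ∑ E : {E // E ∈ Ba}, v x E * v y E =
      if x = y then (lam : ℚ) else (mu : ℚ) := by
    intro x y
    have e1 : ∑ E : {E // E ∈ Ba}, v x E * v y E = (N {a₀, x.1, y.1} : ℚ) := by
      simp only [v, mul_ite, mul_one, mul_zero, ← ite_and]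
      rw [Finset.sum_coe_sort Ba (fun E => if y.1 ∈ E ∧ x.1 ∈ E then (1 : ℚ) else 0),
        Finset.sum_boole, hBa, Finset.filter_filter]
      simp only [N]
      congr 2
      ext E
      simp [Finset.insert_subset_iff]
      tauto
    rw [e1]
    split_ifs with hxy
    · subst hxy
      obtain ⟨z', hz', hz'x⟩ : ∃ z', z' ≠ a₀ ∧ z' ≠ x.1 := by
        by_contra hcon
        push Not at hcon
        have h3 : (Finset.univ : Finset α) ⊆ {a₀, x.1} := fun z _ => by
          rcases eq_or_ne z a₀ with h | h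
          · simp [h]
          · simp [hcon z h]
        have := Finset.card_le_card h3
        rw [Finset.card_univ, hα] at this
        have := Finset.card_le_two (a := a₀) (b := x.1)
        omega
      obtain ⟨g, g1, g2, -⟩ := htriple a₀ y₀ z₀ a₀ x.1 z' hy0a.symm hza.symm hzy.symm x.2.symm hz'.symm hz'x.symm
      have h7 := hNinv g {a₀, y₀}
      simp only [Finset.smul_finset_insert, Finset.smul_finset_singleton, g1, g2] at h7
      rw [hlam, ← h7]
      simp
    · obtain ⟨g, g1, g2, g3⟩ := htriple a₀ y₀ z₀ a₀ x.1 y.1 hy0a.symm hza.symm hzy.symm x.2.symm y.2.symm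
        (fun h => hxy (Subtype.ext h))
      have h7 := hNinv g {a₀, y₀, z₀}
      simp only [Finset.smul_finset_insert, Finset.smul_finset_singleton, g1, g2, g3] at h7
      rw [hmu, ← h7]
  have hli : LinearIndependent ℚ v := by
    rw [Fintype.linearIndependent_iff]
    intro c hc
    set C := ∑ x, c x with hC
    have hrow : ∀ y, ((lam : ℚ) - mu) * c y + mu * C = 0 := by
      intro y
      have h0 : ∑ E, (∑ x, c x • v x) E * v y E = 0 := by rw [hc]; simp
      simp only [Finset.sum_apply, Pi.smul_apply, smul_eq_mul, Finset.sum_mul, mul_assoc] at h0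
      rw [Finset.sum_comm] at h0
      simp only [← Finset.mul_sum, hdot] at h0
      rw [← h0, hC, Finset.mul_sum]
      have : ∀ x, c x * (if x = y then (lam : ℚ) else mu) = mu * c x + (if x = y then ((lam : ℚ) - mu) * c x else 0) := by
        intro x; split_ifs <;> ring
      simp only [this, Finset.sum_add_distrib, Finset.sum_ite_eq', Finset.mem_univ, if_true]
      ring
    have hpos : (0 : ℚ) < (lam : ℚ) - mu := sub_pos.mpr (by exact_mod_cast hmu_lt)
    have hC0 : C = 0 := by
      have h4 : ∑ y, (((lam : ℚ) - mu) * c y + mu * C) = 0 := Finset.sum_eq_zero fun y _ => hrow y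
      simp only [Finset.sum_add_distrib, ← Finset.mul_sum, ← hC, Finset.sum_const, nsmul_eq_mul] at h4
      have h5 : C * (((lam : ℚ) - mu) + mu * (Finset.univ : Finset {x : α // x ≠ a₀}).card) = 0 := by
        linear_combination h4
      refine (mul_eq_zero.mp h5).resolve_right (ne_of_gt ?_)
      positivity
    intro y
    have := hrow y
    rw [hC0, mul_zero, add_zero] at this
    exact (mul_eq_zero.mp this).resolve_left (ne_of_gt hpos)
  have hfisher := hli.fintype_card_le_finrank
  rw [Module.finrank_pi, Fintype.card_coe, hBa_card, Fintype.card_subtype_compl, Fintype.card_subtype_eq, hα] at hfisher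
  -- so the complement of `D` is a fixed point
  have hc1 : Dᶜ.card = 1 := by rw [Finset.card_compl, hα]; omega
  obtain ⟨a, ha⟩ := Finset.card_eq_one.mp hc1
  refine ⟨a, fun h hh => ?_⟩
  have haD : a ∉ D := Finset.mem_compl.mp (ha ▸ Finset.mem_singleton_self a)
  have h6 : h • a ∉ D := by rw [← hDH h hh, Finset.smul_mem_smul_finset_iff]; exact haD
  exact Finset.mem_singleton.mp (ha ▸ Finset.mem_compl.mpr h6)

end Cfsg.Agent.PrimeDegree
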