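import Cfsg.Agent.Lib.Char.AltSquare
import Cfsg.Agent.Lib.Char.SignedIrr
import Cfsg.Agent.Lib.Char.Indicator
import Cfsg.Agent.Lib.Perm.PrimeDegree
import Cfsg.Agent.Lib.Perm.PrimeDegreeIndex
import Cfsg.Agent.S0157
import Mathlib.Analysis.SpecialFunctions.Complex.CircleAddChar

/-!
# Groups of prime degree with a dihedral Sylow normalizer
-/

set_option autoImplicit false
set_option linter.unusedSectionVars false
set_option linter.style.haveILetI false

namespace Cfsg.Agent.DihedralNormalizer

open Cfsg Cfsg.Lib.Char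
open scoped ComplexConjugate

section CharPart

universe u

variable {G : Type u} [Group G] [Fintype G] {p : ℕ} [Fact p.Prime]

/-- A character of degree zero is zero. -/
theorem eq_zero_of_degree {f : G → ℂ} (hf : IsCharacter G f) (h : f 1 = 0) : f = 0 := by
  obtain ⟨n, ρ, rfl⟩ := hf
  have hn : n = 0 := by
    have : ρ.character 1 = (n : ℂ) := by simp
    rw [this] at h
    exact_mod_cast h
  subst hn
  funext g
  show LinearMap.trace ℂ _ (ρ g) = 0
  rw [Subsingleton.elim (ρ g) 0, map_zero]

/-- The additive characters of `ℤ/p`, summed. -/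
theorem sum_stdAddChar (i : ZMod p) :
    ∑ k : ZMod p, (ZMod.stdAddChar (i * k) : ℂ) = if i = 0 then (p : ℂ) else 0 := by
  have h := AddChar.sum_mulShift i (ZMod.isPrimitive_stdAddChar p)
  simp only [mul_comm _ i] at h
  rw [h, ZMod.card]
  split_ifs <;> simp

variable (p) in
/-- The function `1 - λ` on a group parametrised by `ℤ/p`. -/
noncomputable def oneSub {P : Subgroup G} (k : P ≃ ZMod p) (i : ZMod p) : P → ℂ :=
  fun y => 1 - ZMod.stdAddChar (i * k y)

/-- Exterior square of the degree `p - 1` character of a group with dihedral Sylow normalizer. -/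
theorem altSquare_identity (hp : 2 < p) (P : Subgroup G)
    (k : P ≃ ZMod p) (hk : ∀ y z : P, k (y * z) = k y + k z)
    (hC : ∀ y : P, y ≠ 1 → Subgroup.centralizer {(y : G)} ≤ P)
    (hN : Nat.card (Subgroup.normalizer (P : Set G)) = 2 * p)
    {χ : G → ℂ} (hχ : IsIrrCharacter G χ) (hχ1 : χ 1 = (p : ℂ) - 1)
    (hχP : ∀ y : P, y ≠ 1 → χ y = -1) (hne : χ ≠ fun _ => 1)
    (hsq : ∑ g : G, χ (g * g) = Nat.card G)
    (g : G) (hg1 : g ≠ 1) (hg : ∀ x : G, x⁻¹ * g * x ∉ P) :
    (χ g * χ g - χ (g * g)) / 2 = (((p - 1) / 2 : ℕ) : ℂ) * (χ g - 1) := by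
  classical
  haveI := Fintype.ofFinite P
  have hpp : p.Prime := Fact.out
  have hp0 : (p : ℂ) ≠ 0 := Nat.cast_ne_zero.2 hpp.ne_zero
  have hcardP : Nat.card P = p := by rw [Nat.card_congr k, Nat.card_zmod]
  have hk1 : k 1 = 0 := by
    have h := hk 1 1
    rw [one_mul] at h
    exact left_eq_add.mp h
  have hkne : ∀ y : P, y ≠ 1 → k y ≠ 0 := fun y hy h => hy (k.injective (h.trans hk1.symm))
  -- the normalizer inverts
  set N := Subgroup.normalizer (P : Set G) with hNdef
  have hPN : P ≤ N := Subgroup.le_normalizer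
  have hinv : ∀ x ∈ N, x ∉ P → ∀ y : P, x⁻¹ * y * x = ((y⁻¹ : P) : G) := by
    intro x hx hxP y
    have hidx : (P.subgroupOf N).index = 2 := by
      have h := Subgroup.card_mul_index (P.subgroupOf N)
      rw [Nat.card_congr (Subgroup.subgroupOfEquivOfLe hPN).toEquiv, hcardP, hN] at h
      have hpos := hpp.pos
      nlinarith
    have hsqP : x * x ∈ P := by
      have h := Subgroup.mul_self_mem_of_index_two hidx ⟨x, hx⟩
      exact h
    by_cases hy : y = 1
    · subst hy; simp
    have hmem : x⁻¹ * y * x ∈ P := by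
      have h := (Subgroup.mem_normalizer_iff.mp (inv_mem hx) (y : G)).mp y.2
      simpa using h
    set z : P := ⟨x⁻¹ * y * x, hmem⟩ with hz
    have hkz : ∃ c : ZMod p, k z = c * k y := ⟨k z / k y, by rw [div_mul_cancel₀ _ (hkne y hy)]⟩
    obtain ⟨c, hc⟩ := hkz
    -- conjugation by `x` is additive, hence scalar
    have hadd : ∀ (n : ℕ), k (⟨x⁻¹ * ((y ^ n : P) : G) * x,
        by simpa using (Subgroup.mem_normalizer_iff.mp (inv_mem hx) _).mp (y ^ n).2⟩ : P) =
          c * k (y ^ n) := by
      intro n
      induction n with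
      | zero =>
        have e1 : (⟨x⁻¹ * ((y ^ 0 : P) : G) * x,
          by simpa using (Subgroup.mem_normalizer_iff.mp (inv_mem hx) _).mp (y ^ 0).2⟩ : P) = 1 :=
          Subtype.ext (by simp)
        rw [e1, pow_zero, hk1, mul_zero]
      | succ m ih =>
        have e1 : (⟨x⁻¹ * ((y ^ (m + 1) : P) : G) * x,
          by simpa using (Subgroup.mem_normalizer_iff.mp (inv_mem hx) _).mp (y ^ (m + 1)).2⟩ : P) =
          ⟨x⁻¹ * ((y ^ m : P) : G) * x,
            by simpa using (Subgroup.mem_normalizer_iff.mp (inv_mem hx) _).mp (y ^ m).2⟩ * z :=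
          Subtype.ext (by simp [hz, pow_succ, mul_assoc])
        rw [e1, hk, ih, hc, pow_succ, hk, mul_add]
    have hgen : ∀ u : P, ∃ n : ℕ, y ^ n = u := fun u => by
      have h := mem_powers_of_prime_card hcardP (g' := u) hy
      exact h
    -- apply it to `z`
    obtain ⟨m, hm⟩ := hgen z
    have h2 := hadd m
    have e2 : (⟨x⁻¹ * ((y ^ m : P) : G) * x,
        by simpa using (Subgroup.mem_normalizer_iff.mp (inv_mem hx) _).mp (y ^ m).2⟩ : P) = y := by
      refine Subtype.ext ?_
      show x⁻¹ * ((y ^ m : P) : G) * x = (y : G)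
      rw [hm, hz]
      have hcomm : ((⟨x * x, hsqP⟩ : P) : G) * y = y * (⟨x * x, hsqP⟩ : P) := by
        have h := congrArg (fun u : P => (u : G))
          (show (⟨x * x, hsqP⟩ : P) * y = y * ⟨x * x, hsqP⟩ from
            k.injective (by rw [hk, hk, add_comm]))
        exact h
      show x⁻¹ * (x⁻¹ * y * x) * x = y
      calc x⁻¹ * (x⁻¹ * (y : G) * x) * x = (x * x)⁻¹ * ((y : G) * (x * x)) := by group
        _ = (x * x)⁻¹ * ((x * x) * (y : G)) := by rw [show (y : G) * (x * x) = x * x * y from hcomm.symm]
        _ = (y : G) := by group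
    rw [e2, hm, hc, ← mul_assoc] at h2
    have hc2 : c * c = 1 := by
      have := mul_right_cancel₀ (hkne y hy) (h2.symm.trans (one_mul _).symm)
      exact this
    rcases mul_self_eq_one_iff.mp hc2 with h | h
    · exfalso
      rw [h, one_mul] at hc
      have hzy : x⁻¹ * (y : G) * x = y := congrArg Subtype.val (k.injective hc)
      refine hxP (hC y hy (Subgroup.mem_centralizer_singleton_iff.mpr ?_))
      calc x * (y : G) = x * (x⁻¹ * y * x) := by rw [hzy]
        _ = y * x := by group
    · rw [h, neg_one_mul] at hc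
      have hy' : k y⁻¹ = -k y := by
        have := hk y⁻¹ y
        rw [inv_mul_cancel, hk1] at this
        exact eq_neg_of_add_eq_zero_left this.symm
      exact congrArg Subtype.val (k.injective (hc.trans hy'.symm))
  -- induced functions
  set R : ZMod p → G → ℂ := fun i => indFun P (oneSub p k i) with hR
  have hoff : ∀ i, ∀ y : G, (∀ x : G, x⁻¹ * y * x ∉ P) → R i y = 0 := by
    intro i y hy
    simp only [hR, indFun]
    rw [Finset.sum_eq_zero (fun x _ => extendByZero_of_notMem P _ (hy x)), mul_zero]
  have hon : ∀ i, ∀ y : P, y ≠ 1 →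
      R i y = 2 - ZMod.stdAddChar (i * k y) - ZMod.stdAddChar (-(i * k y)) := by
    intro i y hy
    have hterm : ∀ x : G, extendByZero P (oneSub p k i) (x⁻¹ * y * x) =
        extendByZero P (fun _ => oneSub p k i y) x +
          (extendByZero N (fun _ => oneSub p k i y⁻¹) x -
            extendByZero P (fun _ => oneSub p k i y⁻¹) x) := by
      intro x
      by_cases hx : x ∈ P
      · rw [extendByZero_of_mem P _ hx, extendByZero_of_mem P _ hx,
          extendByZero_of_mem N _ (hPN hx), sub_self, add_zero]
        have e1 : x⁻¹ * (y : G) * x = ((⟨x, hx⟩⁻¹ * y * ⟨x, hx⟩ : P) : G) := rfl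
        have e2 : (⟨x, hx⟩⁻¹ * y * ⟨x, hx⟩ : P) = y :=
          k.injective (by
            have h0 := hk (⟨x, hx⟩⁻¹) ⟨x, hx⟩
            rw [inv_mul_cancel, hk1] at h0
            rw [hk, hk, add_assoc, add_comm (k y), ← add_assoc, ← h0, zero_add])
        rw [e1, extendByZero_coe, e2]
      · rw [extendByZero_of_notMem P (fun _ => oneSub p k i y) hx,
          extendByZero_of_notMem P (fun _ => oneSub p k i y⁻¹) hx, zero_add, sub_zero]
        by_cases hxN : x ∈ N
        · rw [extendByZero_of_mem N _ hxN, hinv x hxN hx y, extendByZero_coe]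
        · rw [extendByZero_of_notMem N _ hxN, extendByZero_of_notMem P _ ?_]
          intro hmem
          refine hxN ?_
          have hz1 : (⟨x⁻¹ * y * x, hmem⟩ : P) ≠ 1 := by
            intro h
            apply hy
            have := congrArg Subtype.val h
            simp only [Subgroup.coe_one] at this
            exact Subtype.ext (by
              have h' : (y : G) = x * (x⁻¹ * y * x) * x⁻¹ := by group
              rw [h', this]; simp)
          have hle : P ≤ P.map (MulAut.conj x⁻¹).toMonoidHom := by
            intro u hu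
            obtain ⟨n, hn⟩ := mem_powers_of_prime_card hcardP (g' := (⟨u, hu⟩ : P)) hz1
            refine ⟨(y : G) ^ n, pow_mem y.2 n, ?_⟩
            have := congrArg Subtype.val hn
            simp only [SubmonoidClass.coe_pow] at this
            show x⁻¹ * (y : G) ^ n * x⁻¹⁻¹ = u
            rw [← conj_pow, inv_inv]
            exact this
          have heq : P.map (MulAut.conj x⁻¹).toMonoidHom = P := by
            refine (Subgroup.eq_of_le_of_card_ge hle ?_).symm
            rw [Nat.card_congr (P.equivMapOfInjective _ (MulAut.conj x⁻¹).injective).symm.toEquiv]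
          exact inv_inv x ▸ inv_mem (SetLike.mem_coe.mp (by
            rw [SetLike.mem_coe, hNdef, Subgroup.mem_normalizer_iff]
            intro u
            constructor
            · intro hu
              rw [← heq]
              exact ⟨u, hu, by simp⟩
            · intro hu
              rw [← heq] at hu
              obtain ⟨v, hv, hvu⟩ := hu
              have : v = u := by simpa using hvu
              exact this ▸ hv))
    simp only [hR, indFun, hterm]
    haveI := Fintype.ofFinite N
    have s1 := sum_extendByZero P (fun _ => oneSub p k i y) (fun _ => (1 : ℂ))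
    have s2 := sum_extendByZero P (fun _ => oneSub p k i y⁻¹) (fun _ => (1 : ℂ))
    have s3 := sum_extendByZero N (fun _ => oneSub p k i y⁻¹) (fun _ => (1 : ℂ))
    simp only [mul_one, Finset.sum_const, Finset.card_univ, nsmul_eq_mul,
      ← Nat.card_eq_fintype_card, hcardP, hN] at s1 s2 s3
    rw [Finset.sum_add_distrib, Finset.sum_sub_distrib, s1, s2, s3, hcardP]
    have hy' : k y⁻¹ = -k y := by
      have := hk y⁻¹ y
      rw [inv_mul_cancel, hk1] at this
      exact eq_neg_of_add_eq_zero_left this.symm
    simp only [oneSub, hy', mul_neg]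
    field_simp
    push_cast
    ring
  have hP1 : ∀ i, oneSub p k i 1 = 0 := fun i => by simp [oneSub, hk1]
  have hRclass : ∀ i, IsClassFunction G (R i) := fun i => isClassFunction_indFun P _
  have hconst : ∀ (i : ZMod p) (f : G → ℂ) (c : ℂ), i ≠ 0 → IsClassFunction G f →
      (∀ y : P, y ≠ 1 → f y = c) → classInner (R i) f = conj c := by
    intro i f c hi hf hfc
    rw [hR, classInner_indFun P _ hf]
    simp only [classInner]
    have : ∀ y : P, oneSub p k i y * conj (f y) = oneSub p k i y * conj c := by
      intro y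
      by_cases hy : y = 1
      · subst hy; rw [hP1, zero_mul, zero_mul]
      · rw [hfc y hy]
    rw [Finset.sum_congr rfl fun y _ => this y, ← Finset.sum_mul]
    simp only [oneSub, Finset.sum_sub_distrib, Finset.sum_const, Finset.card_univ, nsmul_eq_mul,
      ← Nat.card_eq_fintype_card, hcardP, mul_one]
    rw [Equiv.sum_comp k (fun z => (ZMod.stdAddChar (i * z) : ℂ)), sum_stdAddChar, if_neg hi]
    field_simp
    ring
  have hRR : ∀ i j : ZMod p, i ≠ 0 → j ≠ 0 → classInner (R i) (R j) =
      2 + (if i = j then 1 else 0) + (if i = -j then 1 else 0) := by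
    intro i j hi hj
    rw [hR, classInner_indFun P _ (hRclass j)]
    simp only [classInner]
    have : ∀ y : P, oneSub p k i y * conj (indFun P (oneSub p k j) y) =
        2 - ZMod.stdAddChar (j * k y) - ZMod.stdAddChar ((-j) * k y) -
          2 * ZMod.stdAddChar (i * k y) + ZMod.stdAddChar ((i + j) * k y) +
            ZMod.stdAddChar ((i - j) * k y) := by
      intro y
      by_cases hy : y = 1
      · subst hy; simp [hP1, hk1]; ring
      · rw [show indFun P (oneSub p k j) y = R j y from rfl, hon j y hy]
        simp only [oneSub]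
        rw [map_sub, map_sub, map_ofNat, ← AddChar.map_neg_eq_conj, ← AddChar.map_neg_eq_conj]
        simp only [neg_neg, sub_eq_add_neg, add_mul, neg_mul, AddChar.map_add_eq_mul]
        ring
    rw [Finset.sum_congr rfl fun y _ => this y]
    simp only [Finset.sum_add_distrib, Finset.sum_sub_distrib, Finset.sum_const, Finset.card_univ,
      nsmul_eq_mul, ← Nat.card_eq_fintype_card, hcardP, ← Finset.mul_sum]
    have hsum : ∀ c : ZMod p, ∑ y : P, (ZMod.stdAddChar (c * k y) : ℂ) =
        if c = 0 then (p : ℂ) else 0 := fun c => by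
      rw [Equiv.sum_comp k (fun z => (ZMod.stdAddChar (c * z) : ℂ)), sum_stdAddChar]
    simp only [hsum, if_neg hi, if_neg hj, neg_eq_zero, sub_eq_zero, add_eq_zero_iff_eq_neg]
    split_ifs <;> field_simp <;> ring
  -- the exceptional characters
  set one : G → ℂ := fun _ => 1 with hone
  have h1irr : IsIrrCharacter G one := isIrrCharacter_one
  have hR1 : ∀ i, i ≠ 0 → classInner (R i) one = 1 := fun i hi => by
    simpa using hconst i one 1 hi h1irr.isCharacter.isClassFunction (fun _ _ => rfl)
  have hRχ : ∀ i, i ≠ 0 → classInner (R i) χ = -1 := fun i hi => by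
    simpa using hconst i χ (-1) hi hχ.isCharacter.isClassFunction hχP
  set θ : ZMod p → G → ℂ := fun i => R i - one + χ with hθ
  have hθθ : ∀ i j : ZMod p, i ≠ 0 → j ≠ 0 → classInner (θ i) (θ j) =
      (if i = j then 1 else 0) + (if i = -j then 1 else 0) := by
    intro i j hi hj
    have e1 : classInner one (R j) = 1 := by rw [← classInner_conj_symm, hR1 j hj, map_one]
    have e2 : classInner χ (R j) = -1 := by
      rw [← classInner_conj_symm, hRχ j hj, map_neg, map_one]
    simp only [hθ, classInner_add_left, classInner_sub_left, classInner_add_right,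
      classInner_sub_right, hRR i j hi hj, hR1 i hi, hRχ i hi, e1, e2,
      classInner_irr_self h1irr, classInner_irr_self hχ, classInner_irr_ne hχ h1irr hne,
      classInner_irr_ne h1irr hχ (Ne.symm hne)]
    ring
  have hθ1 : ∀ i, θ i 1 = (p : ℂ) - 2 := fun i => by
    simp only [hθ, hR, Pi.add_apply, Pi.sub_apply, indFun_apply_one, hP1, mul_zero, hone, hχ1]
    ring
  set t := (p - 1) / 2 with ht
  set idx : Fin t → ZMod p := fun a => ((a.val + 1 : ℕ) : ZMod p) with hidx
  have hlt : ∀ a : Fin t, 2 * (a.val + 1) < p := fun a => by have := a.2; omega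
  have hidx0 : ∀ a, idx a ≠ 0 := fun a h => by
    rw [hidx, ZMod.natCast_eq_zero_iff] at h
    have := Nat.le_of_dvd (by omega) h
    have := hlt a; omega
  have hidxneg : ∀ a b, idx a ≠ -idx b := fun a b h => by
    rw [hidx, ← add_eq_zero_iff_eq_neg, ← Nat.cast_add, ZMod.natCast_eq_zero_iff] at h
    have := Nat.le_of_dvd (by omega) h
    have := hlt a; have := hlt b; omega
  have hidxinj : Function.Injective idx := fun a b h => by
    rw [hidx] at h
    have h' := congrArg ZMod.val h
    simp only at h'
    rw [ZMod.val_natCast_of_lt (by have := hlt a; omega),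
      ZMod.val_natCast_of_lt (by have := hlt b; omega)] at h'
    exact Fin.ext (by omega)
  have hθirr : ∀ a, IsIrrCharacter G (θ (idx a)) := by
    intro a
    have hgc : IsGeneralizedCharacter G (θ (idx a)) := by
      refine IsGeneralizedCharacter.add (IsGeneralizedCharacter.sub ?_ h1irr.isGeneralized)
        hχ.isGeneralized
      refine Lib.Char.isGeneralizedCharacter_indFun (H := P) (θ := oneSub p k (idx a)) ?_
      have hlam : IsCharacter P (fun y => (ZMod.stdAddChar (idx a * k y) : ℂ)) := by
        let φ : P →* ℂ :=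
          { toFun := fun y => ZMod.stdAddChar (idx a * k y)
            map_one' := by simp [hk1]
            map_mul' := fun y z => by rw [hk, mul_add, AddChar.map_add_eq_mul] }
        exact (isIrrCharacter_linear φ.toHomUnits).isCharacter
      exact isCharacter_one.isGeneralized.sub hlam.isGeneralized
    have hnorm : classInner (θ (idx a)) (θ (idx a)) = 1 := by
      rw [hθθ _ _ (hidx0 a) (hidx0 a), if_pos rfl, if_neg (hidxneg a a), add_zero]
    obtain ⟨ε, μ, hε, he⟩ := exists_signed_irr_of_norm_one hgc hnorm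
    rcases hε with rfl | rfl
    · rw [he]; simpa using μ.2
    · exfalso
      obtain ⟨d, hd0, hd⟩ := μ.2.exists_degree
      have h := congrFun he 1
      rw [hθ1, Pi.smul_apply, hd, smul_eq_mul] at h
      have h' : ((p - 2 + d : ℕ) : ℂ) = 0 := by
        rw [Nat.cast_add, Nat.cast_sub (by omega), Nat.cast_ofNat, h]
        push_cast; ring
      rw [Nat.cast_eq_zero] at h'
      omega
  -- the exterior square
  set f : G → ℂ := fun x => (χ x * χ x - χ (x * x)) / 2 with hf
  have hfc : IsCharacter G f := isCharacter_altSquare hχ.isCharacter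
  have hfP : ∀ y : P, y ≠ 1 → f y = 1 := by
    intro y hy
    have hyy : y * y ≠ 1 := by
      intro h
      apply hkne y hy
      have h2 : k y + k y = 0 := by rw [← hk, h, hk1]
      have h3 : (2 : ZMod p) * k y = 0 := by rw [two_mul, h2]
      refine (mul_eq_zero.mp h3).resolve_left fun h => ?_
      rw [show (2 : ZMod p) = ((2 : ℕ) : ZMod p) by norm_num, ZMod.natCast_eq_zero_iff] at h
      have := Nat.le_of_dvd (by norm_num) h
      omega
    have h := hχP (y * y) hyy
    simp only [Subgroup.coe_mul] at h
    simp only [hf, hχP y hy, h]; norm_num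
  have hf1 : classInner f one = 0 := by
    have hre : ∀ s, (χ s).im = 0 := by
      rcases indicator_cases hχ with ⟨-, h0⟩ | ⟨h, -⟩
      · rw [h0] at hsq; exact absurd hsq.symm card_cast_ne_zero
      · exact h
    have hn := classInner_irr_self hχ
    simp only [classInner, Complex.conj_eq_iff_im.mpr (hre _)] at hn
    rw [inv_mul_eq_one₀ card_cast_ne_zero] at hn
    simp only [classInner, hone, map_one, mul_one, hf]
    rw [← Finset.sum_div, Finset.sum_sub_distrib, ← hn, hsq, sub_self, zero_div, mul_zero]
  obtain ⟨b, hb⟩ := hfc.exists_nat_classInner hχ.isCharacter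
  have hfθ : ∀ a, classInner f (θ (idx a)) = 1 + (b : ℂ) := by
    intro a
    have e : classInner f (R (idx a)) = 1 := by
      rw [← classInner_conj_symm, hconst _ f 1 (hidx0 a) hfc.isClassFunction hfP]
      simp
    rw [hθ, classInner_add_right, classInner_sub_right, e, hf1, hb, sub_zero]
  have hD : IsCharacter G (f - ∑ a, θ (idx a)) := by
    refine isCharacter_iff.mpr ⟨?_, fun ψ hψ => ?_⟩
    · intro x z
      simp only [Pi.sub_apply, Finset.sum_apply, hfc.isClassFunction x z,
        fun a => (hθirr a).isCharacter.isClassFunction x z]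
    · rw [classInner_sub_left, classInner_sum_left]
      by_cases hψ' : ∃ a, θ (idx a) = ψ
      · obtain ⟨a, rfl⟩ := hψ'
        refine ⟨b, ?_⟩
        rw [hfθ, Finset.sum_eq_single a (fun c _ hc => ?_) (fun h => absurd (Finset.mem_univ a) h),
          hθθ _ _ (hidx0 a) (hidx0 a), if_pos rfl, if_neg (hidxneg a a)]
        · ring
        · rw [hθθ _ _ (hidx0 c) (hidx0 a), if_neg (fun h => hc (hidxinj h)),
            if_neg (hidxneg c a), add_zero]
      · push Not at hψ'
        obtain ⟨m, hm⟩ := hfc.exists_nat_classInner hψ.isCharacter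
        refine ⟨m, ?_⟩
        rw [hm, Finset.sum_eq_zero fun a _ => classInner_irr_ne (hθirr a) hψ (hψ' a), sub_zero]
  have hD1 : (f - ∑ a, θ (idx a)) 1 = 0 := by
    have hp1 : (p : ℂ) = 2 * (t : ℂ) + 1 := by
      have : p = 2 * t + 1 := by
        rcases hpp.eq_two_or_odd with h | h <;> omega
      exact_mod_cast this
    simp only [Pi.sub_apply, Finset.sum_apply, hθ1, Finset.sum_const, Finset.card_univ,
      Fintype.card_fin, nsmul_eq_mul, hf, mul_one, hχ1]
    rw [hp1]; ring
  have hfin := congrFun (eq_zero_of_degree hD hD1) g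
  simp only [Pi.sub_apply, Finset.sum_apply, Pi.zero_apply, sub_eq_zero] at hfin
  have hθg : ∀ a, θ (idx a) g = χ g - 1 := fun a => by
    simp only [hθ, Pi.add_apply, Pi.sub_apply, hoff _ g hg, hone]
    ring
  simp only [hθg, Finset.sum_const, Finset.card_univ, Fintype.card_fin, nsmul_eq_mul] at hfin
  exact hfin

end CharPart

section GroupPart

variable {α : Type*} [Fintype α] [DecidableEq α] {p : ℕ} [Fact p.Prime]

/-- A group of permutations of `p` letters, `p` prime, with Sylow normalizer of order `2p` and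
non-normal Sylow `p`-subgroup is triply transitive with trivial three-point stabilizers. -/
theorem sharply_three_transitive (hp : 2 < p) (hα : Fintype.card α = p)
    (G : Subgroup (Equiv.Perm α)) (P : Sylow p G)
    (hN : Nat.card (Subgroup.normalizer ((P : Subgroup G) : Set G)) = 2 * p)
    (hnn : ¬ (P : Subgroup G).Normal) :
    MulAction.IsMultiplyPretransitive G α 3 ∧
      ∀ g : G, 3 ≤ Nat.card (MulAction.fixedBy α g) → g = 1 := by
  classical
  haveI := Fintype.ofFinite G
  have hpp : p.Prime := Fact.out
  have hα' : Nat.card α = p := by rw [Nat.card_eq_fintype_card, hα]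
  -- the Sylow subgroup
  have hdvd : p ∣ Nat.card G :=
    (Dvd.intro_left 2 hN.symm).trans (Subgroup.card_subgroup_dvd_card _)
  have hcardP : Nat.card (P : Subgroup G) = p := by
    rw [P.card_eq_multiplicity]
    have h1 : (Nat.card G).factorization p = 1 := by
      have hle := (hpp.dvd_iff_one_le_factorization Nat.card_pos.ne').mp hdvd
      by_contra hne
      exact PrimeDegree.card_sq_not_dvd hα G
        ((hpp.pow_dvd_iff_le_factorization Nat.card_pos.ne').mpr (by omega))
    rw [h1, pow_one]
  set Q : Subgroup G := (P : Subgroup G) with hQ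
  -- regular action
  have hfree : ∀ y : G, y ∈ Q → y ≠ 1 → ∀ a : α, y • a ≠ a := by
    intro y hy hy1 a ha
    obtain ⟨b, hb⟩ : ∃ b : α, y • b ≠ b := by
      by_contra h
      push Not at h
      exact hy1 (Subtype.ext (Equiv.ext fun b => h b))
    let Y : Subgroup G := Q
    have hYp : IsPGroup p Y := P.2
    haveI := Fintype.ofFinite (MulAction.orbit Y b)
    obtain ⟨n, hn⟩ := hYp.card_orbit b
    have hn0 : n ≠ 0 := by
      rintro rfl
      rw [pow_zero, Nat.card_eq_one_iff_unique] at hn
      have := hn.1.elim ⟨b, MulAction.mem_orbit_self b⟩ ⟨y • b, MulAction.mem_orbit b (⟨y, hy⟩ : Y)⟩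
      exact hb (congrArg Subtype.val this).symm
    have hle : p ≤ Nat.card (MulAction.orbit Y b) := by
      rw [hn]; exact Nat.le_self_pow hn0 p
    have htop : MulAction.orbit Y b = Set.univ := by
      refine Set.eq_of_subset_of_ncard_le (Set.subset_univ _) ?_
      rw [Set.ncard_univ, hα', ← Nat.card_coe_set_eq]
      exact hle
    have hab : a ∈ MulAction.orbit Y b := by rw [htop]; trivial
    obtain ⟨u, hu⟩ := hab
    haveI := isCyclic_of_prime_card hcardP
    have hcomm : u * ⟨y, hy⟩ = (⟨y, hy⟩ : Y) * u := by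
      letI : CommGroup Y := IsCyclic.commGroup
      exact mul_comm _ _
    refine hb (MulAction.injective u ?_)
    show u • ((⟨y, hy⟩ : Y) • b) = u • b
    rw [← mul_smul, hcomm, mul_smul]
    simp only at hu
    rw [hu]
    exact ha
  obtain ⟨y₀, hy₀, hy₀1⟩ : ∃ y ∈ Q, y ≠ (1 : G) := by
    have hne : Q ≠ ⊥ := fun h => by
      rw [h, Subgroup.card_bot] at hcardP
      exact hpp.ne_one hcardP.symm
    obtain ⟨⟨y, hyQ⟩, hy⟩ := (Subgroup.ne_bot_iff_exists_ne_one (H := Q)).mp hne
    exact ⟨y, hyQ, fun h => hy (Subtype.ext h)⟩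
  have hgenP : ∀ y : G, y ∈ Q → y ≠ 1 → ∀ a b : α, ∃ n : ℕ, y ^ n • a = b := by
    intro y hy hy1 a b
    have hinj : Function.Injective (fun u : Q => (u : G) • a) := by
      intro u v huv
      by_contra hne
      refine hfree (((v⁻¹ * u : Q) : G)) (v⁻¹ * u).2 (fun h => hne ?_) a ?_
      · exact (inv_mul_eq_one.mp (Subtype.ext h : v⁻¹ * u = 1)).symm
      · simp only at huv
        rw [Subgroup.coe_mul, mul_smul, huv, ← mul_smul, Subgroup.coe_inv, inv_mul_cancel, one_smul]
    haveI := Fintype.ofFinite Q
    have hbij := (Fintype.bijective_iff_injective_and_card _).mpr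
      ⟨hinj, by rw [← Nat.card_eq_fintype_card, hcardP, hα]⟩
    obtain ⟨u, hu⟩ := hbij.2 b
    obtain ⟨n, hn⟩ := mem_powers_of_prime_card hcardP (g' := u)
      (show (⟨y, hy⟩ : Q) ≠ 1 from fun h => hy1 (congrArg Subtype.val h))
    refine ⟨n, ?_⟩
    have := congrArg (fun u : Q => (u : G)) hn
    simp only [SubmonoidClass.coe_pow] at this
    rw [this]; exact hu
  haveI htrans : MulAction.IsPretransitive G α :=
    ⟨fun a b => (hgenP y₀ hy₀ hy₀1 a b).elim fun n hn => ⟨y₀ ^ n, hn⟩⟩
  have hC : ∀ y : Q, y ≠ 1 → Subgroup.centralizer {(y : G)} ≤ Q := by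
    intro y hy g hg
    rw [Subgroup.mem_centralizer_singleton_iff] at hg
    have hy1 : (y : G) ≠ 1 := fun h => hy (Subtype.ext h)
    obtain ⟨a⟩ : Nonempty α := Fintype.card_pos_iff.mp (by omega)
    obtain ⟨n, hn⟩ := hgenP y y.2 hy1 a (g • a)
    have hgn : g = (y : G) ^ n := by
      refine Subtype.ext (Equiv.ext fun b => ?_)
      obtain ⟨m, rfl⟩ := hgenP y y.2 hy1 a b
      show g • ((y : G) ^ m • a) = (y : G) ^ n • ((y : G) ^ m • a)
      rw [← mul_smul, ((Commute.pow_right hg m)).eq, mul_smul, ← hn, ← mul_smul, ← mul_smul,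
        ← pow_add, ← pow_add, add_comm]
    exact hgn ▸ pow_mem y.2 n
  -- double transitivity
  have h2 : MulAction.IsMultiplyPretransitive G α 2 := by
    rcases PrimeDegree.two_transitive_or_affine hα G with h | ⟨e, he⟩
    · exact h
    · exfalso
      let sl : G → ZMod p := fun g =>
        e.symm ((g : Equiv.Perm α) (e 1)) - e.symm ((g : Equiv.Perm α) (e 0))
      have hsl : ∀ g h : G, sl (g * h) = sl g * sl h := by
        intro g h
        have h1 := he g g.2 (e.symm ((h : Equiv.Perm α) (e 1)))
        have h0 := he g g.2 (e.symm ((h : Equiv.Perm α) (e 0)))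
        rw [Equiv.apply_symm_apply] at h1 h0
        simp only [sl, Subgroup.coe_mul, Equiv.Perm.mul_apply]
        rw [h1, h0]; ring
      let φ : G →* ZMod p := { toFun := sl, map_one' := by simp [sl], map_mul' := hsl }
      let K : Subgroup G := φ.toHomUnits.ker
      have hmemK : ∀ g : G, g ∈ K ↔ sl g = 1 := fun g => by
        simp [K, MonoidHom.mem_ker, Units.ext_iff, φ]
      have hQK : Q ≤ K := by
        intro y hy
        rw [hmemK]
        have hord : y ^ p = 1 := by
          have := congrArg Subtype.val (pow_card_eq_one' (x := (⟨y, hy⟩ : Q)))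
          rw [hcardP] at this
          simpa using this
        have h := map_pow φ y p
        rw [hord, map_one, ZMod.pow_card] at h
        exact h.symm
      have hKle : Nat.card K ≤ p := by
        let v : K → ZMod p := fun g => e.symm (((g : G) : Equiv.Perm α) (e 0))
        have hv : Function.Injective v := by
          intro g h hgh
          refine Subtype.ext (Subtype.ext (Equiv.ext fun a => e.symm.injective ?_))
          obtain ⟨i, rfl⟩ := e.surjective a
          rw [he _ (g : G).2, he _ (h : G).2]
          have e1 := (hmemK g).mp g.2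
          have e2 := (hmemK h).mp h.2
          simp only [sl] at e1 e2
          simp only [v] at hgh
          rw [e1, e2, hgh]
        exact (Nat.card_le_card_of_injective v hv).trans (by rw [Nat.card_zmod])
      refine hnn ?_
      rw [show Q = K from Subgroup.eq_of_le_of_card_ge hQK (by rw [hcardP]; exact hKle)]
      infer_instance
  -- the character of degree `p - 1`
  set χ : G → ℂ := fun g => (Nat.card (MulAction.fixedBy α g) : ℂ) - 1 with hχdef
  have hχ : IsIrrCharacter G χ := (S0157.result (G := G) α (by omega)).mpr h2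
  have hfixfree : ∀ g : G, (∃ x : G, x⁻¹ * g * x ∈ Q) → g ≠ 1 →
      Nat.card (MulAction.fixedBy α g) = 0 := by
    rintro g ⟨x, hx⟩ hg
    rw [Nat.card_eq_zero]
    left
    refine ⟨fun ⟨a, ha⟩ => hfree _ hx ?_ (x⁻¹ • a) ?_⟩
    · intro h
      apply hg
      have : g = x * (x⁻¹ * g * x) * x⁻¹ := by group
      rw [this, h]; simp
    · rw [← mul_smul, mul_inv_cancel_right, mul_smul, MulAction.mem_fixedBy.mp ha]
  have hχ1 : χ 1 = (p : ℂ) - 1 := by
    simp only [hχdef, MulAction.fixedBy_one_eq_univ, Nat.card_univ, hα']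
  obtain ⟨k, hk⟩ : ∃ k : Q ≃ ZMod p, ∀ y z : Q, k (y * z) = k y + k z := by
    haveI := isCyclic_of_prime_card hcardP
    let e := (zmodCyclicMulEquiv (G := Q) inferInstance).symm
    refine ⟨(e.toEquiv.trans Multiplicative.toAdd).trans (ZMod.ringEquivCongr hcardP).toEquiv,
      fun y z => ?_⟩
    show ZMod.ringEquivCongr hcardP (Multiplicative.toAdd (e (y * z))) = _
    rw [map_mul, toAdd_mul, map_add]
    rfl
  have hχP : ∀ y : Q, y ≠ 1 → χ y = -1 := fun y hy => by
    simp only [hχdef]
    rw [hfixfree y ⟨1, by simp⟩ fun h => hy (Subtype.ext h)]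
    simp
  have hne : χ ≠ fun _ => 1 := fun h => by
    have := congrFun h y₀
    rw [hχP ⟨y₀, hy₀⟩ fun h => hy₀1 (congrArg Subtype.val h)] at this
    norm_num at this
  have hburn : (∑ g : G, Nat.card (MulAction.fixedBy α g) : ℕ) = Nat.card G := by
    haveI : Subsingleton (Quotient (MulAction.orbitRel G α)) :=
      (MulAction.pretransitive_iff_subsingleton_quotient G α).mp inferInstance
    haveI : Nonempty α := Fintype.card_pos_iff.mp (by omega)
    have h := MulAction.sum_card_fixedBy_eq_card_orbits_mul_card_group G α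
    simp only [← Nat.card_eq_fintype_card] at h
    rw [h, Nat.card_eq_one_iff_unique.mpr ⟨inferInstance, ‹Nonempty α›.map (Quotient.mk _)⟩,
      one_mul]
  have hmono : ∀ g : G, Nat.card (MulAction.fixedBy α g) ≤ Nat.card (MulAction.fixedBy α (g * g)) :=
    fun g => Nat.card_mono (Set.toFinite _) fun a ha => by
      rw [MulAction.mem_fixedBy] at ha ⊢
      rw [mul_smul, ha, ha]
  have hsq : ∑ g : G, χ (g * g) = Nat.card G := by
    have hge : Nat.card G ≤ ∑ g : G, Nat.card (MulAction.fixedBy α (g * g)) :=
      hburn.symm.le.trans (Finset.sum_le_sum fun g _ => hmono g)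
    have he : ∑ g : G, χ (g * g) =
        ((∑ g : G, Nat.card (MulAction.fixedBy α (g * g)) - Nat.card G : ℕ) : ℂ) := by
      rw [Nat.cast_sub hge, Nat.cast_sum, hχdef]
      simp [Finset.sum_sub_distrib, Nat.card_eq_fintype_card]
    rcases indicator_cases hχ with ⟨hnr, -⟩ | ⟨-, h | ⟨h, -⟩⟩
    · exact absurd (fun s => by simp [hχdef]) hnr
    · exact h
    · exfalso
      rw [he, ← add_eq_zero_iff_eq_neg, ← Nat.cast_add, Nat.cast_eq_zero] at h
      have := Nat.card_pos (α := G)
      omega
  -- few fixed points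
  have hsemi : ∀ g : G, 3 ≤ Nat.card (MulAction.fixedBy α g) → g = 1 := by
    intro g hg3
    by_contra hg1
    have hg : ∀ x : G, x⁻¹ * g * x ∉ Q := fun x hx => by
      rw [hfixfree g ⟨x, hx⟩ hg1] at hg3; omega
    have hid := altSquare_identity hp Q k hk hC hN hχ hχ1 hχP hne hsq g hg1 hg
    set F := Nat.card (MulAction.fixedBy α g) with hF
    set F₂ := Nat.card (MulAction.fixedBy α (g * g)) with hF₂
    set t := (p - 1) / 2 with ht
    have hpt : p = 2 * t + 1 := by
      rcases hpp.eq_two_or_odd with h | h <;> omega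
    have h' : (((F : ℤ) - 1) * ((F : ℤ) - 1) - ((F₂ : ℤ) - 1) : ℤ) = 2 * t * ((F : ℤ) - 2) := by
      have h := hid
      simp only [hχdef, ← hF, ← hF₂] at h
      rw [div_eq_iff two_ne_zero] at h
      have : ((((F : ℤ) - 1) * ((F : ℤ) - 1) - ((F₂ : ℤ) - 1) : ℤ) : ℂ) =
          ((2 * t * ((F : ℤ) - 2) : ℤ) : ℂ) := by
        push_cast; rw [h]; ring
      exact_mod_cast this
    have hFp : F < p := by
      rw [← hα', hF]
      have hlt : MulAction.fixedBy α g ⊂ Set.univ := Set.ssubset_univ_iff.mpr fun h =>
        hg1 (Subtype.ext (Equiv.ext fun a => by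
          have : a ∈ MulAction.fixedBy α g := h ▸ trivial
          exact this))
      have := Set.ncard_lt_ncard hlt
      rwa [Set.ncard_univ, ← Nat.card_coe_set_eq] at this
    have hle := hmono g
    rw [← hF, ← hF₂] at hle
    nlinarith [mul_pos (show (0 : ℤ) < (F : ℤ) - 2 by omega) (show (0 : ℤ) < (p : ℤ) - F by omega)]
  refine ⟨?_, hsemi⟩
  -- count
  set emb := Fin 2 ↪ α
  haveI : MulAction.IsPretransitive G (Fin 2 ↪ α) := h2
  obtain ⟨x₀⟩ : Nonempty (Fin 2 ↪ α) :=
    Function.Embedding.nonempty_of_card_le (by simp [hα]; omega)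
  have hstab : ∀ (x : Fin 2 ↪ α) (h : G), h ∈ MulAction.stabilizer G x ↔
      ∀ i, h • x i = x i := fun x h => by
    rw [MulAction.mem_stabilizer_iff, Function.Embedding.ext_iff]
    rfl
  have hcount : ∀ x : Fin 2 ↪ α,
      Nat.card G = p * (p - 1) * Nat.card (MulAction.stabilizer G x) := fun x => by
    have hidx : (MulAction.stabilizer G x).index = Nat.card (Fin 2 ↪ α) := by
      haveI : @MulAction.IsPretransitive G (Fin 2 ↪ α) MulAction.toSemigroupAction.toSMul := h2
      exact MulAction.index_stabilizer_of_transitive G x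
    rw [← (MulAction.stabilizer G x).index_mul_card, hidx,
      Nat.card_eq_fintype_card (α := Fin 2 ↪ α), Fintype.card_embedding_eq, hα, Fintype.card_fin]
    simp [Nat.descFactorial_succ, mul_comm]
  have hnp : ∃ n : ℕ, n ≡ 1 [MOD p] ∧ Nat.card G = n * (2 * p) := by
    refine ⟨Nat.card (Sylow p G), card_sylow_modEq_one p G, ?_⟩
    rw [P.card_eq_index_normalizer, ← hN]
    exact (Subgroup.index_mul_card _).symm
  have hthird : ∀ (x : Fin 2 ↪ α) (c c' : α), c ∉ Set.range x → c' ∉ Set.range x →
      ∃ h : G, (∀ i, h • x i = x i) ∧ h • c = c' := by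
    intro x c c' hc hc'
    set H := MulAction.stabilizer G x
    haveI := Fintype.ofFinite H
    let O := {z : α // z ∉ Set.range x}
    have hmaps : ∀ h : H, (h : G) • c ∉ Set.range x := by
      rintro h ⟨i, hi⟩
      refine hc ⟨i, MulAction.injective (h : G) ?_⟩
      simp only
      rw [(hstab x h).mp h.2 i, hi]
    let v : H → O := fun h => ⟨(h : G) • c, hmaps h⟩
    have hvinj : Function.Injective v := by
      intro h h' hh
      have h0 := congrArg Subtype.val hh
      simp only [v] at h0
      set u : G := (h' : G)⁻¹ * h with hu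
      have hfix : ∀ z ∈ ({x 0, x 1, c} : Finset α), u • z = z := by
        intro z hz
        simp only [Finset.mem_insert, Finset.mem_singleton] at hz
        rw [hu, mul_smul, inv_smul_eq_iff]
        rcases hz with rfl | rfl | rfl
        · rw [(hstab x h).mp h.2, (hstab x h').mp h'.2]
        · rw [(hstab x h).mp h.2, (hstab x h').mp h'.2]
        · exact h0
      have hcard : ({x 0, x 1, c} : Finset α).card = 3 := Finset.card_eq_three.mpr
        ⟨x 0, x 1, c, x.injective.ne (by decide), fun h => hc ⟨0, h⟩, fun h => hc ⟨1, h⟩, rfl⟩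
      have hu1 : u = 1 := hsemi u (by
        rw [← hcard, ← Nat.card_eq_finsetCard]
        exact Nat.card_le_card_of_injective
          (fun z : ({x 0, x 1, c} : Finset α) => (⟨z.1, hfix z.1 z.2⟩ : MulAction.fixedBy α u))
          fun z w hzw => Subtype.ext (congrArg (fun q : MulAction.fixedBy α u => (q : α)) hzw))
      exact Subtype.ext (inv_mul_eq_one.mp hu1).symm
    have hO : Fintype.card O = p - 2 := by
      rw [Fintype.card_subtype_compl, hα]
      congr 1
      exact (Fintype.card_congr (Equiv.ofInjective x x.injective)).symm.trans (Fintype.card_fin 2)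
    set d := Fintype.card H with hd
    have hd1 : 1 ≤ d := Fintype.card_pos
    have hdle : d ≤ p - 2 := by rw [← hO]; exact Fintype.card_le_of_injective v hvinj
    have hdeq : d = p - 2 := by
      obtain ⟨n, hn, hG⟩ := hnp
      have hh : n * 2 = (p - 1) * d := by
        have := (hcount x).symm.trans hG
        rw [Nat.card_eq_fintype_card, ← hd] at this
        refine (Nat.eq_of_mul_eq_mul_left hpp.pos (?_ : p * (n * 2) = p * ((p - 1) * d)))
        linarith
      have h2d : ((d : ZMod p) + 2) = 0 := by
        have e1 : (n : ZMod p) = 1 := by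
          rw [← Nat.cast_one, ZMod.natCast_eq_natCast_iff]; exact hn
        have e2 : ((n * 2 : ℕ) : ZMod p) = (((p - 1) * d : ℕ) : ZMod p) := by rw [hh]
        rw [Nat.cast_mul, Nat.cast_mul, e1, Nat.cast_sub hpp.pos, ZMod.natCast_self] at e2
        push_cast at e2
        linear_combination e2
      rw [show (d : ZMod p) + 2 = ((d + 2 : ℕ) : ZMod p) by push_cast; ring,
        ZMod.natCast_eq_zero_iff] at h2d
      have := Nat.le_of_dvd (by omega) h2d
      omega
    have hvbij := (Fintype.bijective_iff_injective_and_card v).mpr ⟨hvinj, by rw [← hd, hdeq, hO]⟩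
    obtain ⟨h, hh⟩ := hvbij.2 ⟨c', hc'⟩
    exact ⟨h, (hstab x h).mp h.2, congrArg Subtype.val hh⟩
  refine ⟨fun x y => ?_⟩
  let r : (Fin 3 ↪ α) → (Fin 2 ↪ α) := fun x => Fin.castSuccEmb.trans x
  obtain ⟨g, hg⟩ := MulAction.exists_smul_eq G (r x) (r y)
  have hgi : ∀ i : Fin 2, g • x i.castSucc = y i.castSucc := fun i =>
    (DFunLike.congr_fun hg i : _)
  have hlast : ∀ z : Fin 3 ↪ α, z (Fin.last 2) ∉ Set.range (r z) := by
    rintro z ⟨i, hi⟩
    exact Fin.castSucc_ne_last i (z.injective hi)
  have hc : g • x (Fin.last 2) ∉ Set.range (r y) := by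
    rintro ⟨i, hi⟩
    refine hlast x ⟨i, MulAction.injective g ?_⟩
    exact (hgi i).trans hi
  obtain ⟨h, hh, hh'⟩ := hthird (r y) _ _ hc (hlast y)
  refine ⟨h * g, Function.Embedding.ext fun i => ?_⟩
  refine Fin.lastCases ?_ (fun j => ?_) i
  · show (h * g) • x (Fin.last 2) = _
    rw [mul_smul, hh']
  · show (h * g) • x j.castSucc = _
    rw [mul_smul, hgi]
    exact hh j

end GroupPart

end Cfsg.Agent.DihedralNormalizer
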