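import Cfsg.Agent.Lib.Perm.CentralizerRing
import Mathlib.LinearAlgebra.Eigenspace.Triangularizable
import Mathlib.LinearAlgebra.Eigenspace.Minpoly
import Mathlib.GroupTheory.GroupAction.Quotient
import Mathlib.RingTheory.IntegralClosure.IsIntegralClosure.Basic
import Mathlib.LinearAlgebra.Matrix.Charpoly.Minpoly

/-! The complex permutation character: matrix entries of the commutant, orbital operators and
the divisibility of subdegrees by common divisors of the degrees of constituents. -/

set_option autoImplicit false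
set_option linter.unusedSectionVars false
set_option linter.style.haveILetI false

namespace Cfsg.Agent.PermCharacter

open Cfsg Cfsg.Lib.Char Cfsg.Agent.CentralizerRing Module Polynomial
open scoped ComplexConjugate

universe u v

variable {G : Type u} [Group G] [Fintype G]

section Trace

variable {V : Type v} [AddCommGroup V] [Module ℂ V] [FiniteDimensional ℂ V]

theorem trace_split (T : V →ₗ[ℂ] V) (p q : Submodule ℂ V) (h : IsCompl p q) :
    LinearMap.trace ℂ V T = LinearMap.trace ℂ p (p.projectionOnto q h ∘ₗ T ∘ₗ p.subtype) +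
      LinearMap.trace ℂ q (q.projectionOnto p h.symm ∘ₗ T ∘ₗ q.subtype) := by
  have hsplit : T = (T ∘ₗ p.subtype) ∘ₗ p.projectionOnto q h +
      (T ∘ₗ q.subtype) ∘ₗ q.projectionOnto p h.symm := by
    refine LinearMap.ext fun x => ?_
    have hx : x ∈ p ⊔ q := by rw [h.sup_eq_top]; trivial
    obtain ⟨y, hy, z, hz, rfl⟩ := Submodule.mem_sup.mp hx
    simp only [LinearMap.add_apply, LinearMap.comp_apply, map_add,
      Submodule.projectionOnto_apply_of_mem_left h hy,
      Submodule.projectionOnto_apply_of_mem_left h.symm hz,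
      (Submodule.projectionOnto_apply_eq_zero_iff h).mpr hz,
      (Submodule.projectionOnto_apply_eq_zero_iff h.symm).mpr hy, Submodule.subtype_apply]
    simp
  conv_lhs => rw [hsplit]
  rw [map_add, LinearMap.trace_comp_comm' (p.projectionOnto q h) (T ∘ₗ p.subtype),
    LinearMap.trace_comp_comm' (q.projectionOnto p h.symm) (T ∘ₗ q.subtype)]

/-- Degree of a character all whose constituent degrees are divisible by `f`. -/
theorem dvd_finrank (ρ : Representation ℂ G V) (f : ℕ)
    (hf : ∀ χ : G → ℂ, IsIrrCharacter G χ → classInner ρ.character χ ≠ 0 →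
      ∃ m : ℕ, χ 1 = (f : ℂ) * m) : f ∣ finrank ℂ V := by
  classical
  choose n hn using fun χ : IrrCharacter G =>
    (isCharacter_character ρ).exists_nat_classInner χ.2.isCharacter
  have hm : ∀ χ : IrrCharacter G, ∃ m : ℕ, classInner ρ.character χ * (χ : G → ℂ) 1 = (f : ℂ) * m := by
    intro χ
    by_cases h : classInner ρ.character (χ : G → ℂ) = 0
    · exact ⟨0, by rw [h]; simp⟩
    · obtain ⟨m, hm⟩ := hf χ χ.2 h
      exact ⟨n χ * m, by rw [hn, hm]; push_cast; ring⟩
  choose m hm using hm
  refine ⟨∑ χ, m χ, ?_⟩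
  have h1 := congrFun (eq_sum_classInner (isCharacter_character ρ).isClassFunction) 1
  simp only [Finset.sum_apply, Pi.smul_apply, smul_eq_mul, ρ.char_one, hm,
    ← Finset.mul_sum] at h1
  exact_mod_cast h1

/-- The trace of an integral element of the commutant is `f` times an algebraic integer when `f`
divides the degrees of all constituents. -/
theorem trace_eq_mul_integral (ρ : Representation ℂ G V) (f : ℕ)
    (hf : ∀ χ : G → ℂ, IsIrrCharacter G χ → classInner ρ.character χ ≠ 0 →
      ∃ m : ℕ, χ 1 = (f : ℂ) * m)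
    {T : V →ₗ[ℂ] V} (hT : Commutes ρ T) {P : ℤ[X]} (hP : P.Monic)
    (hPT : Polynomial.aeval (T : Module.End ℂ V) (P.map (Int.castRingHom ℂ)) = 0) :
    ∃ z : ℂ, IsIntegral ℤ z ∧ LinearMap.trace ℂ V T = f * z := by
  suffices H : ∀ (n : ℕ) (V : Type v) [AddCommGroup V] [Module ℂ V] [FiniteDimensional ℂ V]
      (ρ : Representation ℂ G V), finrank ℂ V = n →
      (∀ χ : G → ℂ, IsIrrCharacter G χ → classInner ρ.character χ ≠ 0 →
        ∃ m : ℕ, χ 1 = (f : ℂ) * m) →
      ∀ T : V →ₗ[ℂ] V, Commutes ρ T →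
      Polynomial.aeval (T : Module.End ℂ V) (P.map (Int.castRingHom ℂ)) = 0 →
      ∃ z : ℂ, IsIntegral ℤ z ∧ LinearMap.trace ℂ V T = f * z from
    H _ V ρ rfl hf T hT hPT
  intro n
  induction n using Nat.strong_induction_on with
  | _ n ih =>
    intro V _ _ _ ρ hn hf T hT hPT
    rcases subsingleton_or_nontrivial V with hV | hV
    · refine ⟨0, isIntegral_zero, ?_⟩
      rw [show T = 0 from Subsingleton.elim _ _, map_zero, mul_zero]
    obtain ⟨lam, hlam⟩ := Module.End.exists_eigenvalue (T : Module.End ℂ V)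
    obtain ⟨v, hv⟩ := hlam.exists_hasEigenvector
    have hint : IsIntegral ℤ lam := by
      refine ⟨P, hP, ?_⟩
      have h1 := Module.End.aeval_apply_of_hasEigenvector (p := P.map (Int.castRingHom ℂ)) hv
      rw [hPT, LinearMap.zero_apply, eq_comm, smul_eq_zero] at h1
      have h2 := h1.resolve_right hv.2
      rw [Polynomial.eval_map] at h2
      exact h2
    let E : Subrepresentation ρ :=
      ⟨Module.End.eigenspace T lam, fun g x hx => by
        rw [Module.End.mem_eigenspace_iff] at hx ⊢
        rw [show T (ρ g x) = ρ g (T x) from LinearMap.congr_fun (hT g) x, hx, map_smul]⟩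
    obtain ⟨q, hq⟩ := exists_isCompl_subrep ρ E
    have hTE : ∀ x ∈ E.toSubmodule, T x = lam • x := fun x hx =>
      Module.End.mem_eigenspace_iff.mp hx
    have hfE : f ∣ finrank ℂ E.toSubmodule := by
      refine dvd_finrank E.toRepresentation f fun χ hχ hne => hf χ hχ ?_
      obtain ⟨a, b, ha, -, hab⟩ := inner_add E q hq hχ
      rw [ha, Nat.cast_ne_zero] at hne
      rw [hab, Nat.cast_ne_zero]
      omega
    have hfq : ∀ χ : G → ℂ, IsIrrCharacter G χ → classInner q.toRepresentation.character χ ≠ 0 →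
        ∃ m : ℕ, χ 1 = (f : ℂ) * m := by
      refine fun χ hχ hne => hf χ hχ ?_
      obtain ⟨a, b, -, hb, hab⟩ := inner_add E q hq hχ
      rw [hb, Nat.cast_ne_zero] at hne
      rw [hab, Nat.cast_ne_zero]
      omega
    set π := q.toSubmodule.projectionOnto E.toSubmodule hq.symm with hπ
    have hπT : ∀ x, π (T x) = π (T (π x : V)) := by
      intro x
      have hx : x - (π x : V) ∈ E.toSubmodule := by
        have := Submodule.sub_projection_mem hq.symm x
        rwa [Submodule.projection_apply] at this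
      have : π (T (x - (π x : V))) = 0 := by
        rw [hTE _ hx, map_smul, (Submodule.projectionOnto_apply_eq_zero_iff hq.symm).mpr hx,
          smul_zero]
      rw [map_sub, map_sub, sub_eq_zero] at this
      exact this
    let T' : q.toSubmodule →ₗ[ℂ] q.toSubmodule := π ∘ₗ T ∘ₗ q.toSubmodule.subtype
    have hT' : Commutes q.toRepresentation T' := by
      intro g
      refine LinearMap.ext fun y => ?_
      simp only [T', LinearMap.comp_apply, Submodule.subtype_apply]
      rw [show (q.toRepresentation g y : V) = ρ g (y : V) from rfl,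
        show T (ρ g (y : V)) = ρ g (T y) from LinearMap.congr_fun (hT g) _, hπ,
        commutes_projection q E hq.symm g]
    have haeval : ∀ (R : ℂ[X]) (x : V), π (Polynomial.aeval (T : Module.End ℂ V) R x) =
        Polynomial.aeval (T' : Module.End ℂ q.toSubmodule) R (π x) := by
      intro R
      induction R using Polynomial.induction_on with
      | C a => intro x; simp [Module.algebraMap_end_apply]
      | add p r hp hr => intro x; simp [hp, hr]
      | monomial m a hm =>
          intro x
          simp only [pow_succ, ← mul_assoc, map_mul, Polynomial.aeval_X, Module.End.mul_apply] at hm ⊢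
          rw [hm]
          rw [hπT x]; rfl
    have hPT' : Polynomial.aeval (T' : Module.End ℂ q.toSubmodule) (P.map (Int.castRingHom ℂ)) = 0 := by
      refine LinearMap.ext fun y => ?_
      have := haeval (P.map (Int.castRingHom ℂ)) (y : V)
      rw [hPT, LinearMap.zero_apply, map_zero, hπ, Submodule.projectionOnto_apply_left] at this
      exact this.symm
    have hlt : finrank ℂ q.toSubmodule < n := by
      have h1 := finrank_add_of_isCompl E q hq
      have h2 : 0 < finrank ℂ E.toSubmodule := by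
        rw [Nat.pos_iff_ne_zero, ne_eq, Submodule.finrank_eq_zero]
        intro h
        exact hv.2 ((Submodule.mem_bot ℂ).mp (h ▸ (Module.End.mem_eigenspace_iff.mpr hv.apply_eq_smul)))
      omega
    obtain ⟨z, hz, hzt⟩ := ih _ hlt q.toSubmodule q.toRepresentation rfl hfq T' hT' hPT'
    obtain ⟨k, hk⟩ := hfE
    refine ⟨lam * k + z, (hint.mul (by simpa using isIntegral_algebraMap (R := ℤ) (A := ℂ) (x := (k : ℤ)))).add hz, ?_⟩
    rw [trace_split T E.toSubmodule q.toSubmodule hq]
    have hE : E.toSubmodule.projectionOnto q.toSubmodule hq ∘ₗ T ∘ₗ E.toSubmodule.subtype =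
        lam • LinearMap.id := by
      refine LinearMap.ext fun y => ?_
      simp only [LinearMap.comp_apply, Submodule.subtype_apply]
      rw [hTE _ y.2, map_smul, Submodule.projectionOnto_apply_left]
      rfl
    rw [hE, map_smul, LinearMap.trace_id, smul_eq_mul, hk, ← hπ]
    rw [show LinearMap.trace ℂ q.toSubmodule (π ∘ₗ T ∘ₗ q.toSubmodule.subtype) = (f : ℂ) * z from hzt]
    push_cast
    ring

end Trace

section Action

variable (Ω : Type v) [Fintype Ω] [MulAction G Ω]

omit [Fintype G] in
theorem permRep_single [DecidableEq Ω] (g : G) (y : Ω) :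
    permRep ℂ G Ω g (Pi.single y 1) = Pi.single (g • y) 1 := by
  funext x
  show (Pi.single y (1 : ℂ) : Ω → ℂ) (g⁻¹ • x) = _
  simp only [Pi.single_apply, inv_smul_eq_iff]

/-- The permutation character counts fixed points. -/
theorem character_permRep :
    (permRep ℂ G Ω).character = fun g : G => (Nat.card (MulAction.fixedBy Ω g) : ℂ) := by
  classical
  funext g
  show LinearMap.trace ℂ (Ω → ℂ) (permRep ℂ G Ω g) = _
  rw [LinearMap.trace_eq_matrix_trace ℂ (Pi.basisFun ℂ Ω), Matrix.trace]
  simp only [Matrix.diag, LinearMap.toMatrix_apply, Pi.basisFun_apply, Pi.basisFun_repr,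
    permRep_single]
  simp only [Pi.single_apply]
  rw [Finset.sum_boole, Nat.card_eq_fintype_card, ← Fintype.card_subtype]
  congr 1
  exact Fintype.card_congr (Equiv.subtypeEquivRight fun x => by simp [eq_comm])

theorem entry_smul [DecidableEq Ω] {T : (Ω → ℂ) →ₗ[ℂ] (Ω → ℂ)} (hT : Commutes (permRep ℂ G Ω) T)
    (g : G) (x y : Ω) : T (Pi.single (g • y) 1) (g • x) = T (Pi.single y 1) x := by
  rw [← permRep_single Ω g y]
  have h := LinearMap.congr_fun (hT g) (Pi.single y (1 : ℂ))
  simp only [LinearMap.comp_apply] at h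
  rw [h]
  show T (Pi.single y 1) (g⁻¹ • g • x) = _
  rw [inv_smul_smul]

theorem averageOp_single [DecidableEq Ω] (f : G → ℂ) (x y : Ω) :
    averageOp (permRep ℂ G Ω) f (Pi.single y 1) x =
      ∑ g, if g • y = x then f g else 0 := by
  simp only [averageOp_apply, Finset.sum_apply, Pi.smul_apply, permRep_single, Pi.single_apply,
    smul_eq_mul, mul_ite, mul_one, mul_zero]
  exact Finset.sum_congr rfl fun g _ => by simp only [eq_comm]

/-- The integral matrix of an orbital. -/
noncomputable def orbitalMatrix (a b : Ω) : Matrix Ω Ω ℤ :=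
  open Classical in fun x y => if ∃ g : G, g • a = x ∧ g • b = y then 1 else 0

/-- The operator of an orbital. -/
noncomputable def orbitalOp (a b : Ω) : (Ω → ℂ) →ₗ[ℂ] (Ω → ℂ) :=
  (Matrix.map (orbitalMatrix (G := G) Ω a b) (Int.castRingHom ℂ)).mulVecLin

open Classical in
theorem orbitalOp_apply (a b : Ω) (φ : Ω → ℂ) (x : Ω) :
    orbitalOp (G := G) Ω a b φ x =
      ∑ y, if ∃ g : G, g • a = x ∧ g • b = y then φ y else 0 := by
  simp only [orbitalOp, Matrix.mulVecLin_apply, Matrix.mulVec, dotProduct, Matrix.map_apply,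
    orbitalMatrix]
  refine Finset.sum_congr rfl fun y _ => ?_
  split_ifs <;> simp

theorem orbitalOp_commutes (a b : Ω) :
    Commutes (permRep ℂ G Ω) (orbitalOp (G := G) Ω a b) := by
  classical
  intro h
  refine LinearMap.ext fun φ => funext fun x => ?_
  show orbitalOp (G := G) Ω a b (fun z => φ (h⁻¹ • z)) x = orbitalOp (G := G) Ω a b φ (h⁻¹ • x)
  rw [orbitalOp_apply, orbitalOp_apply]
  refine Fintype.sum_equiv (MulAction.toPerm h⁻¹) _ _ fun y => ?_
  simp only [MulAction.toPerm_apply]
  refine if_congr ⟨?_, ?_⟩ rfl rfl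
  · rintro ⟨g, rfl, rfl⟩
    exact ⟨h⁻¹ * g, by rw [mul_smul], by rw [mul_smul]⟩
  · rintro ⟨g, hg, hg'⟩
    exact ⟨h * g, by rw [mul_smul, hg, smul_inv_smul], by rw [mul_smul, hg', smul_inv_smul]⟩

theorem orbitalOp_aeval (a b : Ω) : ∃ P : ℤ[X], P.Monic ∧
    Polynomial.aeval (orbitalOp (G := G) Ω a b : Module.End ℂ (Ω → ℂ))
      (P.map (Int.castRingHom ℂ)) = 0 := by
  classical
  obtain ⟨P, hP, h⟩ := (Matrix.isIntegral (R := ℤ) (M := orbitalMatrix (G := G) Ω a b))
  refine ⟨P, hP, ?_⟩
  have h' : Polynomial.aeval (orbitalMatrix (G := G) Ω a b) P = 0 := h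
  rw [← algebraMap_int_eq, Polynomial.aeval_map_algebraMap]
  let φ : Matrix Ω Ω ℤ →ₐ[ℤ] Module.End ℂ (Ω → ℂ) :=
    ((Matrix.toLinAlgEquiv' : Matrix Ω Ω ℂ ≃ₐ[ℂ] _).toAlgHom.restrictScalars ℤ).comp
      ((Int.castRingHom ℂ).toIntAlgHom.mapMatrix)
  have := Polynomial.aeval_algHom_apply φ (orbitalMatrix (G := G) Ω a b) P
  rw [h', map_zero] at this
  exact this

theorem trace_orbitalOp (a b : Ω) (hab : b ≠ a) :
    LinearMap.trace ℂ (Ω → ℂ) (orbitalOp (G := G) Ω a b) = 0 := by
  classical
  rw [LinearMap.trace_eq_matrix_trace ℂ (Pi.basisFun ℂ Ω), Matrix.trace]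
  refine Finset.sum_eq_zero fun x _ => ?_
  simp only [Matrix.diag, LinearMap.toMatrix_apply, Pi.basisFun_apply, Pi.basisFun_repr,
    orbitalOp_apply]
  refine Finset.sum_eq_zero fun y _ => ?_
  split_ifs with h
  · obtain ⟨g, h1, h2⟩ := h
    rw [Pi.single_apply, if_neg]
    intro hy
    exact hab (smul_left_cancel g (h2.trans (hy.trans h1.symm)))
  · rfl

variable [MulAction.IsPretransitive G Ω]

theorem orbitalOp_one (a b : Ω) :
    orbitalOp (G := G) Ω a b (fun _ => 1) =
      fun _ => (Nat.card (MulAction.orbit (MulAction.stabilizer G a) b) : ℂ) := by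
  classical
  funext x
  obtain ⟨h, rfl⟩ := MulAction.exists_smul_eq G a x
  rw [orbitalOp_apply, Finset.sum_boole, Nat.card_eq_fintype_card]
  congr 1
  rw [← Fintype.card_subtype]
  refine Fintype.card_congr ((MulAction.toPerm h⁻¹).subtypeEquiv fun y => ?_)
  simp only [MulAction.toPerm_apply, MulAction.mem_orbit_iff]
  constructor
  · rintro ⟨g, h1, h2⟩
    refine ⟨⟨h⁻¹ * g, ?_⟩, ?_⟩
    · rw [MulAction.mem_stabilizer_iff, mul_smul, h1, inv_smul_smul]
    · rw [Subgroup.mk_smul, mul_smul, h2]
  · rintro ⟨⟨g, hg⟩, h2⟩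
    rw [Subgroup.mk_smul] at h2
    exact ⟨h * g, by rw [mul_smul, hg], by rw [mul_smul, h2, smul_inv_smul]⟩

theorem classInner_one [Nonempty Ω] :
    classInner (permRep ℂ G Ω).character (fun _ => (1 : ℂ)) = 1 := by
  classical
  rw [classInner_one_right, character_permRep]
  have h := MulAction.sum_card_fixedBy_eq_card_orbits_mul_card_group G Ω
  haveI : Subsingleton (Quotient (MulAction.orbitRel G Ω)) :=
    (MulAction.pretransitive_iff_subsingleton_quotient G Ω).mp inferInstance
  have h' : (∑ g : G, (Nat.card (MulAction.fixedBy Ω g) : ℂ)) =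
      (Nat.card (Quotient (MulAction.orbitRel G Ω)) : ℂ) * Nat.card G := by
    simp only [Nat.card_eq_fintype_card]
    exact_mod_cast h
  rw [h', Nat.card_eq_one_iff_unique.mpr ⟨inferInstance,
      ‹Nonempty Ω›.map (Quotient.mk _)⟩, Nat.cast_one, one_mul,
    inv_mul_cancel₀ card_cast_ne_zero]

/-- A common divisor of the degrees of the nonprincipal constituents divides every subdegree. -/
theorem dvd_subdegree (f : ℕ)
    (hf : ∀ χ : G → ℂ, IsIrrCharacter G χ → χ ≠ (fun _ => 1) →
      classInner (permRep ℂ G Ω).character χ ≠ 0 → ∃ m : ℕ, χ 1 = (f : ℂ) * m)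
    (a b : Ω) (hab : b ≠ a) :
    f ∣ Nat.card (MulAction.orbit (MulAction.stabilizer G a) b) := by
  classical
  set ρ := permRep ℂ G Ω with hρ
  set V₀ := permSumZero ℂ G Ω
  set V₁ := permConstants ℂ G Ω
  have hn : (Fintype.card Ω : ℂ) ≠ 0 := Nat.cast_ne_zero.mpr (Fintype.card_pos_iff.mpr ⟨a⟩).ne'
  have hc : IsCompl V₀.toSubmodule V₁.toSubmodule := by
    constructor
    · rw [Submodule.disjoint_def]
      intro φ h0 h1
      obtain ⟨c, rfl⟩ := Submodule.mem_span_singleton.mp h1
      have h0' : ∑ _x : Ω, c • (1 : ℂ) = 0 := h0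
      simp [hn] at h0'
      simp [h0']
    · rw [codisjoint_iff, eq_top_iff]
      intro φ _
      refine Submodule.mem_sup.mpr ⟨φ - ((∑ x, φ x) / Fintype.card Ω) • (fun _ => 1 : Ω → ℂ), ?_,
        ((∑ x, φ x) / Fintype.card Ω) • (fun _ => 1 : Ω → ℂ),
        Submodule.smul_mem _ _ (Submodule.mem_span_singleton_self _), sub_add_cancel _ _⟩
      show ∑ x, (φ - ((∑ x, φ x) / Fintype.card Ω) • (fun _ => (1 : ℂ) : Ω → ℂ)) x = 0
      simp [Finset.sum_sub_distrib, mul_div_cancel₀ _ hn]
  set d := Nat.card (MulAction.orbit (MulAction.stabilizer G a) b) with hd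
  set T := orbitalOp (G := G) Ω a b with hTdef
  have hT := orbitalOp_commutes (G := G) Ω a b
  have hT1 : ∀ φ ∈ V₁.toSubmodule, T φ = (d : ℂ) • φ := by
    intro φ hφ
    obtain ⟨c, rfl⟩ := Submodule.mem_span_singleton.mp hφ
    rw [map_smul, orbitalOp_one, ← hd]
    funext x
    simp [mul_comm]
  have hone : V₁.toRepresentation.character = fun _ => (1 : ℂ) := by
    funext g
    show LinearMap.trace ℂ _ (V₁.toRepresentation g) = 1
    have hid : V₁.toRepresentation g = LinearMap.id := by
      refine LinearMap.ext fun ⟨φ, hφ⟩ => Subtype.ext ?_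
      obtain ⟨c, rfl⟩ := Submodule.mem_span_singleton.mp hφ
      rfl
    rw [hid, LinearMap.trace_id]
    have h1 : finrank ℂ (Submodule.span ℂ {(fun _ => 1 : Ω → ℂ)}) = 1 :=
      finrank_span_singleton (fun h => one_ne_zero (congrFun h a))
    rw [show finrank ℂ V₁.toSubmodule = 1 from h1, Nat.cast_one]
  have hf0 : ∀ χ : G → ℂ, IsIrrCharacter G χ →
      classInner V₀.toRepresentation.character χ ≠ 0 → ∃ m : ℕ, χ 1 = (f : ℂ) * m := by
    intro χ hχ hne
    obtain ⟨i, j, hi, hj, hij⟩ := inner_add V₀ V₁ hc hχ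
    rw [hi, Nat.cast_ne_zero] at hne
    refine hf χ hχ ?_ (by rw [hij, Nat.cast_ne_zero]; omega)
    rintro rfl
    haveI : Nonempty Ω := ⟨a⟩
    have h1 := classInner_one (G := G) Ω
    rw [hij, Nat.cast_eq_one] at h1
    rw [hone, classInner_irr_self hχ, eq_comm, Nat.cast_eq_one] at hj
    omega
  set π := V₀.toSubmodule.projectionOnto V₁.toSubmodule hc
  have hπT : ∀ x, π (T x) = π (T (π x : Ω → ℂ)) := by
    intro x
    have hx : x - (π x : Ω → ℂ) ∈ V₁.toSubmodule := by
      have := Submodule.sub_projection_mem hc x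
      rwa [Submodule.projection_apply] at this
    have : π (T (x - (π x : Ω → ℂ))) = 0 := by
      rw [hT1 _ hx, map_smul, (Submodule.projectionOnto_apply_eq_zero_iff hc).mpr hx, smul_zero]
    rw [map_sub, map_sub, sub_eq_zero] at this
    exact this
  let T' : V₀.toSubmodule →ₗ[ℂ] V₀.toSubmodule := π ∘ₗ T ∘ₗ V₀.toSubmodule.subtype
  have hT' : Commutes V₀.toRepresentation T' := by
    intro g
    refine LinearMap.ext fun y => ?_
    simp only [T', LinearMap.comp_apply, Submodule.subtype_apply]
    rw [show (V₀.toRepresentation g y : Ω → ℂ) = ρ g (y : Ω → ℂ) from rfl,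
      show T (ρ g (y : Ω → ℂ)) = ρ g (T y) from LinearMap.congr_fun (hT g) _,
      commutes_projection V₀ V₁ hc g]
  obtain ⟨P, hP, hPT⟩ := orbitalOp_aeval (G := G) Ω a b
  have haeval : ∀ (R : ℂ[X]) (x : Ω → ℂ), π (Polynomial.aeval (T : Module.End ℂ (Ω → ℂ)) R x) =
      Polynomial.aeval (T' : Module.End ℂ V₀.toSubmodule) R (π x) := by
    intro R
    induction R using Polynomial.induction_on with
    | C c => intro x; simp [Module.algebraMap_end_apply]
    | add p r hp hr => intro x; simp [hp, hr]
    | monomial m c hm =>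
        intro x
        simp only [pow_succ, ← mul_assoc, map_mul, Polynomial.aeval_X, Module.End.mul_apply] at hm ⊢
        rw [hm]
        rw [hπT x]; rfl
  have hPT' : Polynomial.aeval (T' : Module.End ℂ V₀.toSubmodule) (P.map (Int.castRingHom ℂ)) = 0 := by
    refine LinearMap.ext fun y => ?_
    have := haeval (P.map (Int.castRingHom ℂ)) (y : Ω → ℂ)
    rw [hPT, LinearMap.zero_apply, map_zero] at this
    rw [show π (y : Ω → ℂ) = y from Submodule.projectionOnto_apply_left hc y] at this
    exact this.symm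
  obtain ⟨z, hz, hzt⟩ := trace_eq_mul_integral V₀.toRepresentation f hf0 hT' hP hPT'
  have htr := trace_split T V₀.toSubmodule V₁.toSubmodule hc
  rw [trace_orbitalOp Ω a b hab] at htr
  have hE : V₁.toSubmodule.projectionOnto V₀.toSubmodule hc.symm ∘ₗ T ∘ₗ V₁.toSubmodule.subtype =
      (d : ℂ) • LinearMap.id := by
    refine LinearMap.ext fun y => ?_
    simp only [LinearMap.comp_apply, Submodule.subtype_apply]
    rw [hT1 _ y.2, map_smul, Submodule.projectionOnto_apply_left]
    rfl
  have hzt' : LinearMap.trace ℂ V₀.toSubmodule (π ∘ₗ T ∘ₗ V₀.toSubmodule.subtype) = f * z := hzt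
  rw [hE, map_smul, LinearMap.trace_id, hzt'] at htr
  have h1 : finrank ℂ V₁.toSubmodule = 1 :=
    finrank_span_singleton (K := ℂ) (v := (fun _ => 1 : Ω → ℂ)) (fun h => one_ne_zero (congrFun h a))
  rw [h1, Nat.cast_one, smul_eq_mul, mul_one] at htr
  rcases eq_or_ne f 0 with rfl | hf'
  · rw [Nat.cast_zero, zero_mul, zero_add, eq_comm, Nat.cast_eq_zero] at htr
    rw [htr]
  · refine natCast_dvd_of_isIntegral hf' ?_
    have : (d : ℂ) / f = -z := by
      rw [div_eq_iff (Nat.cast_ne_zero.mpr hf')]
      linear_combination -htr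
    rw [this]
    exact hz.neg

end Action

end Cfsg.Agent.PermCharacter
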