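import Mathlib

/-!
Scott's form of Ree's inequality: the cycle counts of permutations with product one.
-/

set_option autoImplicit false

namespace Cfsg.Lib.Perm.Ree

open Equiv

variable {α : Type*} [Fintype α] [DecidableEq α]

/-- The functions invariant under a permutation. -/
def fixSpace (g : Perm α) : Submodule ℚ (α → ℚ) where
  carrier := {f | ∀ a, f (g a) = f a}
  add_mem' := fun hf hh a => by simp only [Pi.add_apply, hf a, hh a]
  zero_mem' := fun _ => rfl
  smul_mem' := fun c f hf a => by simp only [Pi.smul_apply, hf a]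

/-- `f ↦ f - f ∘ g`. -/
noncomputable def diff (g : Perm α) : (α → ℚ) →ₗ[ℚ] (α → ℚ) :=
  LinearMap.id - LinearMap.funLeft ℚ ℚ g

theorem diff_apply (g : Perm α) (f : α → ℚ) (a : α) : diff g f a = f a - f (g a) := rfl

theorem ker_diff (g : Perm α) : LinearMap.ker (diff g) = fixSpace g := by
  ext f
  rw [LinearMap.mem_ker]
  constructor
  · intro h a
    have := congrFun h a
    rw [diff_apply, Pi.zero_apply, sub_eq_zero] at this
    exact this.symm
  · intro h
    funext a
    rw [diff_apply, h a, sub_self, Pi.zero_apply]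

theorem finrank_range_diff (g : Perm α) :
    Module.finrank ℚ ↥(LinearMap.range (diff g)) + Module.finrank ℚ ↥(fixSpace g) = Fintype.card α := by
  rw [← ker_diff, LinearMap.finrank_range_add_finrank_ker, Module.finrank_fintype_fun_eq_card]

variable {x y z : Perm α} (h : x * y * z = 1)
include h

/-- Scott's inequality. -/
theorem fixSpace_sum_le :
    Module.finrank ℚ ↥(fixSpace x) + Module.finrank ℚ ↥(fixSpace y) + Module.finrank ℚ ↥(fixSpace z) ≤
      Fintype.card α + 2 * Module.finrank ℚ ↥(fixSpace x ⊓ fixSpace y) := by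
  set I := fixSpace x ⊓ fixSpace y with hI
  set Rx := LinearMap.range (diff x) with hRx
  set Ry := LinearMap.range (diff y) with hRy
  set Rz := LinearMap.range (diff z) with hRz
  have hxyz : ∀ a, x (y (z a)) = a := fun a => by
    rw [← Perm.mul_apply, ← Perm.mul_apply, h, Perm.one_apply]
  let Φ : (α → ℚ) →ₗ[ℚ] ↥Rx × ↥Ry × ↥Rz :=
    LinearMap.prod (LinearMap.rangeRestrict (diff x))
      (LinearMap.prod ((LinearMap.rangeRestrict (diff y)).comp (LinearMap.funLeft ℚ ℚ x))
        ((LinearMap.rangeRestrict (diff z)).comp (LinearMap.funLeft ℚ ℚ (x * y : Perm α))))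
  let S : (↥Rx × ↥Ry × ↥Rz) →ₗ[ℚ] (α → ℚ) := LinearMap.coprod Rx.subtype (LinearMap.coprod Ry.subtype Rz.subtype)
  have hS : LinearMap.range S = Rx ⊔ (Ry ⊔ Rz) := by
    simp only [S, LinearMap.range_coprod, Submodule.range_subtype]
  have hΦ : LinearMap.range Φ ≤ LinearMap.ker S := by
    rintro _ ⟨f, rfl⟩
    rw [LinearMap.mem_ker]
    funext a
    show (f a - f (x a)) + ((f (x a) - f (x (y a))) + (f (x (y a)) - f (x (y (z a))))) = 0
    rw [hxyz]; ring
  have hker : LinearMap.ker Φ ≤ I := by
    intro f hf
    rw [LinearMap.mem_ker] at hf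
    have h1 : diff x f = 0 := congrArg (fun w => ((Prod.fst w : ↥Rx) : (α → ℚ))) hf
    have h2 : diff y (LinearMap.funLeft ℚ ℚ x f) = 0 :=
      congrArg (fun w => ((Prod.fst (Prod.snd w) : ↥Ry) : (α → ℚ))) hf
    have hx : f ∈ fixSpace x := ker_diff x ▸ LinearMap.mem_ker.2 h1
    refine ⟨hx, fun a => ?_⟩
    have := congrFun h2 a
    change f (x a) - f (x (y a)) = 0 at this
    rw [hx, hx] at this
    linarith
  -- the ranges, together with the invariants, span everything
  have hR : Fintype.card α ≤ Module.finrank ℚ ↥(LinearMap.range S) + Module.finrank ℚ ↥I := by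
    set R := LinearMap.range S
    let H : Subgroup (Perm α) :=
      { carrier := {g | ∀ f : (α → ℚ), diff g f ∈ R}
        one_mem' := fun f => by
          have : diff (1 : Perm α) f = 0 := by funext a; simp [diff_apply]
          rw [this]; exact zero_mem _
        mul_mem' := fun {g k} hg hk f => by
          have : diff (g * k) f = diff g f + diff k (LinearMap.funLeft ℚ ℚ g f) := by
            funext a
            show f a - f (g (k a)) = (f a - f (g a)) + (f (g a) - f (g (k a)))
            ring
          rw [this]; exact add_mem (hg f) (hk _)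
        inv_mem' := fun {g} hg f => by
          have : diff g⁻¹ f = - diff g (LinearMap.funLeft ℚ ℚ (g⁻¹ : Perm α) f) := by
            funext a
            show f a - f (g⁻¹ a) = -(f (g⁻¹ a) - f (g⁻¹ (g a)))
            rw [Perm.inv_def, Equiv.symm_apply_apply]; ring
          rw [this]; exact neg_mem (hg _) }
    have hle : Subgroup.closure ({x, y} : Set (Perm α)) ≤ H := by
      refine (Subgroup.closure_le H).2 ?_
      rintro g (rfl | rfl) <;> intro f <;> rw [hS]
      · exact Submodule.mem_sup_left ⟨f, rfl⟩
      · exact Submodule.mem_sup_right (Submodule.mem_sup_left ⟨f, rfl⟩)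
    classical
    set G := Subgroup.closure ({x, y} : Set (Perm α)) with hG
    have htop : (⊤ : Submodule ℚ (α → ℚ)) ≤ R ⊔ I := by
      intro f _
      let av : (α → ℚ) := fun a => (Fintype.card ↥G : ℚ)⁻¹ * ∑ g : ↥G, f ((g : Perm α) a)
      have hav : ∀ k : ↥G, ∀ a, av ((k : Perm α) a) = av a := fun k a => by
        show _ * _ = _ * _
        congr 1
        exact Fintype.sum_equiv (Equiv.mulRight k) _ _ fun g => rfl
      have hIav : av ∈ I := ⟨fun a => hav ⟨x, Subgroup.subset_closure (Or.inl rfl)⟩ a,
        fun a => hav ⟨y, Subgroup.subset_closure (Or.inr rfl)⟩ a⟩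
      have hRav : f - av ∈ R := by
        have e : f - av = ∑ g : ↥G, (Fintype.card ↥G : ℚ)⁻¹ • diff (g : Perm α) f := by
          funext a
          have hc : (Fintype.card ↥G : ℚ) ≠ 0 := Nat.cast_ne_zero.2 Fintype.card_ne_zero
          show f a - av a = _
          simp only [Finset.sum_apply, Pi.smul_apply, diff_apply, smul_eq_mul,
            ← Finset.mul_sum, Finset.sum_sub_distrib, Finset.sum_const, Finset.card_univ, nsmul_eq_mul]
          rw [mul_sub, inv_mul_cancel_left₀ hc]
        rw [e]
        exact Submodule.sum_mem _ fun g _ => Submodule.smul_mem _ _ (hle g.2 f)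
      rw [← sub_add_cancel f av]
      exact Submodule.add_mem_sup hRav hIav
    calc Fintype.card α = Module.finrank ℚ ↥(⊤ : Submodule ℚ (α → ℚ)) := by
          rw [finrank_top]; exact (Module.finrank_fintype_fun_eq_card ℚ).symm
      _ ≤ Module.finrank ℚ ↥(R ⊔ I) := Submodule.finrank_mono htop
      _ ≤ _ := Submodule.finrank_add_le_finrank_add_finrank R I
  have h1 := LinearMap.finrank_range_add_finrank_ker S
  have h2 := LinearMap.finrank_range_add_finrank_ker Φ
  have h3 := Submodule.finrank_mono hΦ
  have h4 := Submodule.finrank_mono hker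
  rw [Module.finrank_prod, Module.finrank_prod] at h1
  have h5 : Module.finrank ℚ (α → ℚ) = Fintype.card α := Module.finrank_fintype_fun_eq_card ℚ
  have e1 := finrank_range_diff x
  have e2 := finrank_range_diff y
  have e3 := finrank_range_diff z
  rw [← hRx] at e1
  rw [← hRy] at e2
  rw [← hRz] at e3
  omega

omit h

/-- The invariant functions have the dimension at least the number of cycles. -/
theorem cycles_le_fixSpace {g : Perm α} {p : ℕ} [Fact p.Prime] (hg : orderOf g = p) {f : ℕ}
    (hf : f ≤ (Finset.univ.filter fun a => g a = a).card) :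
    Fintype.card α + (p - 1) * f ≤ p * Module.finrank ℚ ↥(fixSpace g) := by
  classical
  set C := Subgroup.zpowers g
  let L : ((Quotient (MulAction.orbitRel ↥C α)) → ℚ) →ₗ[ℚ] ↥(fixSpace g) :=
    (LinearMap.funLeft ℚ ℚ (Quotient.mk'' : α → (Quotient (MulAction.orbitRel ↥C α)))).codRestrict (fixSpace g) fun w a => by
      show w (Quotient.mk'' (g a)) = w (Quotient.mk'' a)
      refine congrArg w (Quotient.sound' ?_)
      exact ⟨⟨g, Subgroup.mem_zpowers g⟩, rfl⟩
  have hL : Function.Injective L := fun w w' e => funext fun q => by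
    obtain ⟨a, rfl⟩ := Quotient.mk''_surjective q
    exact congrFun (congrArg Subtype.val e) a
  have h1 : Fintype.card (Quotient (MulAction.orbitRel ↥C α)) ≤ Module.finrank ℚ ↥(fixSpace g) := by
    rw [← Module.finrank_fintype_fun_eq_card ℚ (η := (Quotient (MulAction.orbitRel ↥C α)))]
    exact LinearMap.finrank_le_finrank_of_injective hL
  have h2 := MulAction.sum_card_fixedBy_eq_card_orbits_mul_card_group ↥C α
  have hC : Fintype.card ↥C = p := by
    rw [← Nat.card_eq_fintype_card, Nat.card_zpowers, hg]
  rw [hC, ← Finset.add_sum_erase _ _ (Finset.mem_univ (1 : ↥C))] at h2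
  have h3 : Fintype.card (MulAction.fixedBy α (1 : ↥C)) = Fintype.card α :=
    Fintype.card_congr ((Equiv.subtypeUnivEquiv fun a => show (1 : Perm α) a = a from rfl))
  have h4 : (p - 1) * f ≤ ∑ k ∈ Finset.univ.erase (1 : ↥C), Fintype.card (MulAction.fixedBy α k) := by
    refine le_trans (le_of_eq ?_) (Finset.card_nsmul_le_sum _ _ f fun k hk => ?_)
    · rw [Finset.card_erase_of_mem (Finset.mem_univ _), Finset.card_univ, hC, smul_eq_mul]
    · refine hf.trans ?_
      rw [Fintype.card_subtype]
      refine Finset.card_le_card fun a ha => Finset.mem_filter.2 ⟨Finset.mem_univ _, ?_⟩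
      show (k : Perm α) a = a
      obtain ⟨i, hi⟩ := Subgroup.mem_zpowers_iff.1 k.2
      rw [← hi]
      exact Perm.zpow_apply_eq_self_of_apply_eq_self (Finset.mem_filter.1 ha).2 i
  rw [h3] at h2
  calc Fintype.card α + (p - 1) * f ≤ Fintype.card (Quotient (MulAction.orbitRel ↥C α)) * p := by omega
    _ ≤ Module.finrank ℚ ↥(fixSpace g) * p := Nat.mul_le_mul_right _ h1
    _ = _ := mul_comm _ _

end Cfsg.Lib.Perm.Ree
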