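import Mathlib

/-!
# Sequences of involutions with `2`-group windows (Tutte, Sims)

A two-sided sequence of involutions in which every `l ≤ n` consecutive terms generate a group of
order `2 ^ l`, and commutation is invariant under shifts.  If the first non-commuting distance
`lam` is `< n` then `2 n ≤ 3 lam`.
-/

namespace Cfsg.Lib.Perm.Window

open Subgroup
open scoped Pointwise

variable {G : Type*} [Group G]

/-- The subgroup generated by `t s, ..., t (s + l - 1)`. -/
def seg (t : ℤ → G) (s : ℤ) (l : ℕ) : Subgroup G := closure (t '' Set.Ico s (s + l))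

theorem mem_seg (t : ℤ → G) {s k : ℤ} {l : ℕ} (h1 : s ≤ k) (h2 : k < s + l) : t k ∈ seg t s l :=
  subset_closure ⟨k, ⟨h1, h2⟩, rfl⟩

theorem seg_le {t : ℤ → G} {s : ℤ} {l : ℕ} {X : Subgroup G}
    (h : ∀ k, s ≤ k → k < s + l → t k ∈ X) : seg t s l ≤ X :=
  (closure_le _).2 (by rintro _ ⟨k, hk, rfl⟩; exact h k hk.1 hk.2)

theorem seg_mono (t : ℤ → G) {s s' : ℤ} {l l' : ℕ} (h1 : s' ≤ s) (h2 : s + l ≤ s' + l') :
    seg t s l ≤ seg t s' l' :=
  seg_le fun _ hk1 hk2 => mem_seg t (by omega) (by omega)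

theorem seg_zero (t : ℤ → G) (s : ℤ) : seg t s 0 = ⊥ :=
  eq_bot_iff.2 (seg_le fun k h1 h2 => absurd h2 (by omega))

theorem seg_le_centralizer {t : ℤ → G} {s : ℤ} {l : ℕ} {z : G}
    (h : ∀ k, s ≤ k → k < s + l → Commute (t k) z) {x : G} (hx : x ∈ seg t s l) : Commute x z := by
  have : seg t s l ≤ centralizer ({z} : Set G) := seg_le fun k h1 h2 =>
    mem_centralizer_iff.2 fun y hy => by rw [Set.mem_singleton_iff.1 hy]; exact (h k h1 h2).symm.eq
  exact (mem_centralizer_iff.1 (this hx) z rfl).symm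

theorem seg_split (t : ℤ → G) (s : ℤ) (l : ℕ) :
    seg t s (l + 1) = seg t s l ⊔ zpowers (t (s + l)) := by
  refine le_antisymm (seg_le fun k h1 h2 => ?_) (sup_le (seg_mono t le_rfl (by omega))
    (zpowers_le.2 (mem_seg t (by omega) (by omega))))
  rcases eq_or_ne k (s + l) with rfl | hk
  · exact mem_sup_right (mem_zpowers _)
  · exact mem_sup_left (mem_seg t h1 (by omega))

theorem seg_split' (t : ℤ → G) (s : ℤ) (l : ℕ) :
    seg t s (l + 1) = zpowers (t s) ⊔ seg t (s + 1) l := by
  refine le_antisymm (seg_le fun k h1 h2 => ?_) (sup_le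
    (zpowers_le.2 (mem_seg t le_rfl (by omega))) (seg_mono t (by omega) (by omega)))
  rcases eq_or_ne k s with rfl | hk
  · exact mem_sup_left (mem_zpowers _)
  · exact mem_sup_right (mem_seg t (by omega) (by omega))

/-- A window sequence. -/
structure Seq (n : ℕ) (t : ℤ → G) : Prop where
  card : ∀ (s : ℤ) (l : ℕ), l ≤ n → Nat.card (seg t s l) = 2 ^ l
  sq : ∀ k, t k * t k = 1
  shift : ∀ i j s : ℤ, Commute (t i) (t j) → Commute (t (i + s)) (t (j + s))

variable [Finite G] {n : ℕ} {t : ℤ → G}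

omit [Finite G] in
theorem Seq.inv_eq (hS : Seq n t) (k : ℤ) : (t k)⁻¹ = t k := inv_eq_of_mul_eq_one_left (hS.sq k)

omit [Finite G] in
theorem Seq.comm_of (hS : Seq n t) {lam : ℕ} (hlam : ∀ k : ℕ, k < lam → Commute (t 0) (t k))
    {i j : ℤ} (h1 : i - j < lam) (h2 : j - i < lam) : Commute (t i) (t j) := by
  rcases le_total i j with h | h
  · have := hS.shift 0 ((j - i).toNat : ℕ) i (hlam (j - i).toNat (by omega))
    rwa [zero_add, show (((j - i).toNat : ℕ) : ℤ) + i = j by omega] at this
  · have := hS.shift 0 ((i - j).toNat : ℕ) j (hlam (i - j).toNat (by omega))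
    rw [zero_add, show (((i - j).toNat : ℕ) : ℤ) + j = i by omega] at this
    exact this.symm

theorem normalizer_of_index_two {X Y : Subgroup G} (hle : X ≤ Y) (h : Nat.card Y = 2 * Nat.card X) :
    Y ≤ normalizer (X : Set G) := by
  refine (normal_subgroupOf_iff_le_normalizer hle).1 (normal_of_index_eq_two ?_)
  have h1 := card_mul_index (X.subgroupOf Y)
  rw [Nat.card_congr (subgroupOfEquivOfLe hle).toEquiv, h] at h1
  rw [mul_comm 2] at h1
  exact Nat.eq_of_mul_eq_mul_left Nat.card_pos h1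

theorem Seq.not_mem_left (hS : Seq n t) (s : ℤ) {l : ℕ} (hl : l + 1 ≤ n) :
    t s ∉ seg t (s + 1) l := by
  intro h
  have : seg t s (l + 1) ≤ seg t (s + 1) l := by
    rw [seg_split']; exact sup_le (zpowers_le.2 h) le_rfl
  have := card_le_of_le this
  rw [hS.card _ _ hl, hS.card _ _ (by omega), pow_succ] at this
  have := Nat.two_pow_pos l
  omega

theorem Seq.not_mem_right (hS : Seq n t) (s : ℤ) {l : ℕ} (hl : l + 1 ≤ n) :
    t (s + l) ∉ seg t s l := by
  intro h
  have : seg t s (l + 1) ≤ seg t s l := by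
    rw [seg_split]; exact sup_le le_rfl (zpowers_le.2 h)
  have := card_le_of_le this
  rw [hS.card _ _ hl, hS.card _ _ (by omega), pow_succ] at this
  have := Nat.two_pow_pos l
  omega

theorem Seq.ne_one (hS : Seq n t) (hn : 1 ≤ n) (k : ℤ) : t k ≠ 1 := fun h =>
  hS.not_mem_left k (l := 0) hn (by rw [h]; exact one_mem _)

theorem eq_of_index_two {X Y Z : Subgroup G} (hXZ : X ≤ Z) (hZY : Z ≤ Y)
    (hY : Nat.card Y = 2 * Nat.card X) (hne : ¬ Y ≤ Z) : Z = X := by
  refine (eq_of_le_of_card_ge hXZ ?_).symm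
  obtain ⟨a, ha⟩ := card_dvd_of_le hXZ
  obtain ⟨b, hb⟩ := card_dvd_of_le hZY
  have hb1 : b ≠ 1 := by
    rintro rfl
    rw [mul_one] at hb
    exact hne (eq_of_le_of_card_ge hZY hb.le).ge
  have hab : a * b = 2 := by
    rw [ha] at hb
    exact Nat.eq_of_mul_eq_mul_left (Nat.card_pos (α := X)) (by rw [← mul_assoc, ← hb, hY, mul_comm])
  have ha2 : a ∣ 2 := ⟨b, hab.symm⟩
  rcases (Nat.dvd_prime Nat.prime_two).1 ha2 with rfl | rfl
  · rw [ha, mul_one]
  · omega

theorem Seq.seg_inf (hS : Seq n t) (s : ℤ) {l : ℕ} (hl : l + 2 ≤ n) :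
    seg t s (l + 1) ⊓ seg t (s + 1) (l + 1) = seg t (s + 1) l := by
  refine eq_of_index_two (Y := seg t s (l + 1))
    (le_inf (seg_mono t (by omega) (by omega)) (seg_mono t le_rfl (by omega))) inf_le_left
    (by rw [hS.card _ _ (by omega), hS.card _ _ (by omega), pow_succ, mul_comm]) fun h => ?_
  exact hS.not_mem_left s (l := l + 1) hl ((h (mem_seg t le_rfl (by omega))).2)

/-- `[t s, t (s + l)]` lies in the open interval. -/
theorem Seq.commutator_mem (hS : Seq n t) (s : ℤ) {l : ℕ} (h1 : 1 ≤ l) (hl : l + 1 ≤ n) :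
    t s * t (s + l) * t s * t (s + l) ∈ seg t (s + 1) (l - 1) := by
  obtain ⟨m, rfl⟩ : ∃ m, l = m + 1 := ⟨l - 1, by omega⟩
  rw [Nat.add_sub_cancel, ← hS.seg_inf s (by omega)]
  have hcard : ∀ s' : ℤ, seg t s' (m + 1) ≤ seg t s (m + 2) →
      seg t s (m + 2) ≤ normalizer (seg t s' (m + 1) : Set G) := fun s' h =>
    normalizer_of_index_two h
      (by rw [hS.card _ _ (by omega), hS.card _ _ (by omega), pow_succ, mul_comm])
  have hx : t s ∈ seg t s (m + 2) := mem_seg t le_rfl (by omega)
  have hy : t (s + (m + 1 : ℕ)) ∈ seg t s (m + 2) := mem_seg t (by omega) (by omega)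
  refine ⟨?_, ?_⟩
  · have h := (mem_normalizer_iff.1 (hcard s (seg_mono t le_rfl (by omega)) hy) (t s)).1
      (mem_seg t le_rfl (by omega))
    rw [hS.inv_eq] at h
    have h2 := (seg t s (m + 1)).mul_mem (mem_seg t le_rfl (by omega) : t s ∈ seg t s (m + 1)) h
    show _ ∈ seg t s (m + 1)
    simpa only [mul_assoc] using h2
  · have h := (mem_normalizer_iff.1 (hcard (s + 1) (seg_mono t (by omega) (by omega)) hx)
      (t (s + (m + 1 : ℕ)))).1 (mem_seg t (by omega) (by omega))
    rw [hS.inv_eq] at h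
    exact (seg t (s + 1) (m + 1)).mul_mem h (mem_seg t (by omega) (by omega))

omit [Finite G] in
theorem zpowers_sq {x : G} (hx : x * x = 1) {y : G} (hy : y ∈ zpowers x) : y = 1 ∨ y = x := by
  obtain ⟨k, rfl⟩ := hy
  have h2 : x ^ (2 : ℤ) = 1 := by rw [zpow_two]; exact hx
  rcases Int.even_or_odd k with ⟨m, rfl⟩ | ⟨m, rfl⟩
  · left; show x ^ (m + m) = 1
    rw [← two_mul, zpow_mul, h2, one_zpow]
  · right; show x ^ (2 * m + 1) = x
    rw [zpow_add_one, zpow_mul, h2, one_zpow, one_mul]

theorem Seq.seg_cases (hS : Seq n t) {lam : ℕ} (hlam : ∀ k : ℕ, k < lam → Commute (t 0) (t k))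
    (s : ℤ) {l : ℕ} (hl : l + 1 ≤ lam) {x : G} (hx : x ∈ seg t s (l + 1)) :
    ∃ y ∈ seg t (s + 1) l, x = y ∨ x = t s * y := by
  rw [seg_split'] at hx
  have hn : zpowers (t s) ≤ normalizer (seg t (s + 1) l : Set G) := by
    refine le_trans ?_ (centralizer_le_normalizer _)
    refine zpowers_le.2 (mem_centralizer_iff.2 fun y hy => ?_)
    exact (seg_le_centralizer (fun k h1 h2 => hS.comm_of hlam (by omega) (by omega)) hy).eq
  rw [← SetLike.mem_coe, coe_mul_of_left_le_normalizer_right _ _ hn] at hx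
  obtain ⟨a, ha, y, hy, rfl⟩ := hx
  rcases zpowers_sq (hS.sq s) ha with rfl | rfl
  · exact ⟨y, hy, Or.inl (one_mul y)⟩
  · exact ⟨y, hy, Or.inr rfl⟩

/-- The lower end of the first nontrivial commutator. -/
theorem Seq.commutator_low (hS : Seq n t) {lam : ℕ} (h1 : 1 ≤ lam) (hlt : lam < n)
    (hlam : ∀ k : ℕ, k < lam → Commute (t 0) (t k)) (hne : ¬ Commute (t 0) (t lam)) :
    ∀ i : ℕ, 1 ≤ i → i + lam ≤ n → i ≤ lam →
      t 0 * t lam * t 0 * t lam ∈ seg t i (lam - i) := by
  intro i hi
  induction i, hi using Nat.le_induction with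
  | base =>
    intro _ _
    have := hS.commutator_mem 0 (l := lam) h1 hlt
    simpa using this
  | succ i hi ih =>
    intro hin hil
    set w := t 0 * t lam * t 0 * t lam with hw
    have hwm := ih (by omega) (by omega)
    rw [show lam - i = (lam - i - 1) + 1 by omega] at hwm
    obtain ⟨y, hy, hcase⟩ := hS.seg_cases hlam (i : ℤ) (by omega) hwm
    rw [show lam - (i + 1) = lam - i - 1 by omega, Nat.cast_add, Nat.cast_one]
    rcases hcase with h | h
    · rw [h]; exact hy
    exfalso
    -- `z := t (i + lam)` centralizes `w`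
    set z := t ((i + lam : ℕ) : ℤ) with hz
    have hzl : Commute z (t lam) := hS.comm_of hlam (by omega) (by omega)
    set u := t 0 * z * t 0 * z with hu
    have hum : u ∈ seg t 1 (i + lam - 1) := by
      have := hS.commutator_mem 0 (l := i + lam) (by omega) (by omega)
      rw [hu, hz]
      simpa using this
    have hul : Commute u (t lam) :=
      seg_le_centralizer (fun k h1 h2 => hS.comm_of hlam (by omega) (by omega)) hum
    have hz0 : z * t 0 * z = t 0 * u := by
      rw [hu, ← mul_assoc, ← mul_assoc, ← mul_assoc, hS.sq, one_mul]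
    have hzw : z * w * z = w := by
      have hzz : z * z = 1 := hS.sq _
      have h2 : z * t lam * z = t lam := by rw [hzl.eq, mul_assoc, hzz, mul_one]
      have hui : (t 0 * u)⁻¹ = t 0 * u := by
        rw [← hz0, mul_inv_rev, mul_inv_rev, hS.inv_eq, hS.inv_eq, mul_assoc]
      calc z * w * z = (z * t 0 * z) * (z * t lam * z) * (z * t 0 * z) * (z * t lam * z) := by
            rw [hw]; simp only [mul_assoc, mul_left_inj, mul_right_inj]
            rw [← mul_assoc z z, hzz, one_mul, ← mul_assoc z z, hzz, one_mul, ← mul_assoc z z, hzz,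
              one_mul]
        _ = (t 0 * u) * t lam * (t 0 * u)⁻¹ * t lam := by rw [hz0, h2, hui]
        _ = w := by
            rw [mul_inv_rev, mul_assoc (t 0) u, hul.eq, ← mul_assoc (t 0), hw, hS.inv_eq]
            simp only [mul_assoc, mul_inv_cancel_left]
    have hzy : Commute y z :=
      seg_le_centralizer (fun k h1 h2 => hS.comm_of hlam (by omega) (by omega)) hy
    have hwz : Commute w z := by
      calc w * z = z * w * z * z := by rw [hzw]
        _ = z * w := by rw [mul_assoc, hS.sq, mul_one]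
    have hiz : Commute (t i) z := by
      have : Commute (w * y⁻¹) z := hwz.mul_left hzy.inv_left
      rwa [h, mul_assoc, mul_inv_cancel, mul_one] at this
    have := hS.shift _ _ (-(i : ℤ)) hiz
    rw [add_neg_cancel, show ((i + lam : ℕ) : ℤ) + -(i : ℤ) = (lam : ℤ) by omega] at this
    exact hne this

/-- Both ends of the first nontrivial commutator. -/
theorem Seq.commutator_range (hS : Seq n t) {lam : ℕ} (hn : n ≤ 2 * lam) (hlt : lam < n)
    (hlam : ∀ k : ℕ, k < lam → Commute (t 0) (t k)) (hne : ¬ Commute (t 0) (t lam)) :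
    t 0 * t lam * t 0 * t lam ∈ seg t ((n : ℤ) - lam) (2 * lam - n) ∧
      t 0 * t lam * t 0 * t lam ∈ seg t 1 (2 * lam - n) := by
  constructor
  · have := hS.commutator_low (by omega) hlt hlam hne (n - lam) (by omega) (by omega) (by omega)
    rwa [show lam - (n - lam) = 2 * lam - n by omega,
      show ((n - lam : ℕ) : ℤ) = (n : ℤ) - lam by omega] at this
  · -- the sequence `k ↦ t (lam - k)`
    set r : ℤ → G := fun k => t (lam - k) with hr
    have hR : Seq n r := by
      refine ⟨fun s l hl => ?_, fun k => hS.sq _, fun i j s h => ?_⟩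
      · have : seg r s l = seg t (lam + 1 - s - l) l := by
          refine le_antisymm (seg_le fun k h1 h2 => mem_seg t (by omega) (by omega))
            (seg_le fun k h1 h2 => ?_)
          have h : r ((lam : ℤ) - k) ∈ seg r s l := mem_seg r (by omega) (by omega)
          change t ((lam : ℤ) - ((lam : ℤ) - k)) ∈ seg r s l at h
          rwa [sub_sub_cancel] at h
        rw [this, hS.card _ _ hl]
      · have := hS.shift _ _ (-s) h
        show Commute (t ((lam : ℤ) - (i + s))) (t ((lam : ℤ) - (j + s)))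
        rwa [show (lam : ℤ) - (i + s) = (lam : ℤ) - i + -s by ring,
          show (lam : ℤ) - (j + s) = (lam : ℤ) - j + -s by ring]
    have hRlam : ∀ k : ℕ, k < lam → Commute (r 0) (r k) := fun k hk =>
      hS.comm_of hlam (by omega) (by omega)
    have hr0 : r 0 = t lam := by simp [hr]
    have hrl : r lam = t 0 := by simp [hr]
    have hRne : ¬ Commute (r 0) (r lam) := by rw [hr0, hrl]; exact fun h => hne h.symm
    have := hR.commutator_low (by omega) hlt hRlam hRne (n - lam) (by omega) (by omega) (by omega)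
    rw [hr0, hrl] at this
    have hle : seg r ((n - lam : ℕ) : ℤ) (lam - (n - lam)) ≤ seg t 1 (2 * lam - n) :=
      seg_le fun k h1 h2 => mem_seg t (by omega) (by omega)
    have h := inv_mem (hle this)
    simpa [mul_assoc, hS.inv_eq] using h

omit [Finite G] in
theorem Seq.disjoint_segs (hS : Seq n t) {lam : ℕ}
    (hlam : ∀ k : ℕ, k < lam → Commute (t 0) (t k)) (s : ℤ) (a : ℕ) {b : ℕ} [Finite G]
    (hab : a + b ≤ lam) (hn : a + b ≤ n) {x : G} (hx : x ∈ seg t s a)
    (hy : x ∈ seg t (s + a) b) : x = 1 := by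
  induction a generalizing s with
  | zero => rw [seg_zero] at hx; exact hx
  | succ a ih =>
    obtain ⟨y, hy', hc⟩ := hS.seg_cases hlam s (by omega) hx
    have hy2 : x ∈ seg t (s + 1 + a) b := by rwa [add_assoc s, add_comm (1 : ℤ), ← Nat.cast_succ]
    rcases hc with rfl | rfl
    · exact ih (s + 1) (by omega) (by omega) hy' hy2
    · exfalso
      refine hS.not_mem_left s (l := a + b) (by omega) ?_
      have h1 : seg t (s + 1) a ≤ seg t (s + 1) (a + b) := seg_mono t le_rfl (by omega)
      have h2 : seg t (s + 1 + a) b ≤ seg t (s + 1) (a + b) := seg_mono t (by omega) (by omega)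
      have := mul_mem (h2 hy2) (inv_mem (h1 hy'))
      rwa [mul_assoc, mul_inv_cancel, mul_one] at this

/-- Tutte's inequality. -/
theorem Seq.two_mul_le (hS : Seq n t) {lam : ℕ} (h1 : 1 ≤ lam) (hlt : lam < n)
    (hlam : ∀ k : ℕ, k < lam → Commute (t 0) (t k)) (hne : ¬ Commute (t 0) (t lam)) :
    2 * n ≤ 3 * lam := by
  by_contra hcon
  have hw1 : t 0 * t lam * t 0 * t lam ≠ 1 := fun h => hne (by
    have : t 0 * t lam * t 0 = t lam := (eq_inv_of_mul_eq_one_left h).trans (hS.inv_eq _)
    calc t 0 * t lam = t 0 * t lam * t 0 * t 0 := by rw [mul_assoc _ (t 0), hS.sq, mul_one]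
      _ = t lam * t 0 := by rw [this])
  rcases le_or_gt (2 * lam) n with hn2 | hn2
  · -- the interval is empty
    have := hS.commutator_low h1 hlt hlam hne lam h1 (by omega) le_rfl
    rw [Nat.sub_self, seg_zero] at this
    exact hw1 this
  · obtain ⟨hlo, hhi⟩ := hS.commutator_range (by omega) hlt hlam hne
    refine hw1 (hS.disjoint_segs hlam 1 (n - lam - 1) (b := 2 * lam - n) (by omega) (by omega)
      (seg_mono t le_rfl (by omega) hhi) ?_)
    rwa [show (1 : ℤ) + ((n - lam - 1 : ℕ) : ℤ) = (n : ℤ) - lam by omega]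

end Cfsg.Lib.Perm.Window
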