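import Mathlib
import Cfsg.Agent.Lib.Core.Layer

/-!
# The Thompson-Wielandt theorem

`A`, `B` two conjugate subgroups of a finite group such that every nontrivial normal subgroup of
either has it as its normalizer.  If both second cores are nontrivial then, for a prime `p`, they
are `p`-groups and the generalized Fitting subgroups of `A`, `B` and the first cores are `p`-groups.

The proof is self-contained: no component and no `O_r` (`r ≠ p`) survives, and if the
`p`-residual `U` of the second core of `A` were nontrivial then Wielandt's normalizing lemma,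
applied to the conjugates of `U` under `B`, gives `O_p(A) = O_p(B)`.
-/

namespace Cfsg.Lib.Perm.TW

open Subgroup Cfsg.Lib.Core
open scoped Pointwise

variable {G : Type*} [Group G]

/-- The largest subgroup of `H ⊓ A` normalized by `A`. -/
def coreIn (H A : Subgroup G) : Subgroup G := (H.subgroupOf A).normalCore.map A.subtype

theorem coreIn_le_right (H A : Subgroup G) : coreIn H A ≤ A := map_subtype_le _

theorem coreIn_le_left (H A : Subgroup G) : coreIn H A ≤ H := by
  rintro x ⟨y, hy, rfl⟩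
  exact normalCore_le (H.subgroupOf A) hy

theorem le_normalizer_of_subgroupOf_normal {X A : Subgroup G} (hle : X ≤ A)
    (h : (X.subgroupOf A).Normal) : A ≤ normalizer (X : Set G) :=
  (normal_subgroupOf_iff_le_normalizer hle).1 h

theorem le_normalizer_map_subtype {A : Subgroup G} {X : Subgroup A} (h : X.Normal) :
    A ≤ normalizer ((X.map A.subtype : Subgroup G) : Set G) := by
  refine le_normalizer_of_subgroupOf_normal (map_subtype_le _) ?_
  rwa [← comap_subtype, comap_map_eq_self_of_injective A.subtype_injective]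

theorem le_normalizer_coreIn (H A : Subgroup G) : A ≤ normalizer (coreIn H A : Set G) :=
  le_normalizer_map_subtype (normalCore_normal _)

theorem le_coreIn {X H A : Subgroup G} (hH : X ≤ H) (hA : X ≤ A)
    (hn : A ≤ normalizer (X : Set G)) : X ≤ coreIn H A := by
  have h : (X.subgroupOf A).Normal := (normal_subgroupOf_iff_le_normalizer hA).2 hn
  intro x hx
  refine ⟨⟨x, hA hx⟩, ?_, rfl⟩
  exact (normal_le_normalCore (H := H.subgroupOf A) (N := X.subgroupOf A)).2
    (fun y hy => hH hy) hx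

/-- `O_p(A)` as a subgroup of the ambient group. -/
def pc (p : ℕ) (A : Subgroup G) : Subgroup G := (Cfsg.pCore p A).map A.subtype

theorem pc_le (p : ℕ) (A : Subgroup G) : pc p A ≤ A := map_subtype_le _

section Fin

variable [Finite G]

theorem le_normalizer_pc (p : ℕ) (A : Subgroup G) : A ≤ normalizer (pc p A : Set G) :=
  le_normalizer_map_subtype inferInstance

theorem isPGroup_pc (p : ℕ) (A : Subgroup G) : IsPGroup p (pc p A) :=
  (pCore_isPGroup p A).map _

theorem le_pc {p : ℕ} {X A : Subgroup G} (hA : X ≤ A) (hn : A ≤ normalizer (X : Set G))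
    (hp : IsPGroup p X) : X ≤ pc p A := by
  have hX : (X.subgroupOf A).Normal := (normal_subgroupOf_iff_le_normalizer hA).2 hn
  have h : X.subgroupOf A ≤ Cfsg.pCore p A :=
    le_pCore' hX (hp.of_equiv (subgroupOfEquivOfLe hA).symm)
  intro x hx
  exact ⟨⟨x, hA hx⟩, h hx, rfl⟩

theorem pc_normalizer_mono {p : ℕ} {A X : Subgroup G} (h : A ≤ normalizer (X : Set G)) :
    A ≤ normalizer (pc p X : Set G) := by
  intro g hg
  have hX : X.map (MulAut.conj g).toMonoidHom = X :=
    mem_normalizer_iff_map_conj.1 (h hg)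
  have h1 : (pc p X).map (MulAut.conj g).toMonoidHom ≤ pc p X := by
    refine le_pc ((map_mono (pc_le p X)).trans hX.le) ?_ ((isPGroup_pc p X).map _)
    rintro x hx
    rw [← hX] at hx
    obtain ⟨y, hy, rfl⟩ := hx
    refine mem_normalizer_iff_map_conj.2 ?_
    have hy' := mem_normalizer_iff_map_conj.1 (le_normalizer_pc p X hy)
    conv_rhs => rw [← hy']
    rw [map_map, map_map]
    congr 1
    ext z
    simp [mul_assoc]
  refine mem_normalizer_iff_map_conj.2 (eq_of_le_of_card_ge h1 ?_)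
  rw [card_map_of_injective (MulAut.conj g).injective]

theorem card_pc_of_equiv (p : ℕ) {A B : Subgroup G} (e : A ≃* B) :
    Nat.card (pc p A) = Nat.card (pc p B) := by
  rw [pc, pc, card_map_of_injective A.subtype_injective, card_map_of_injective B.subtype_injective,
    ← map_pCore_equiv e]
  exact (card_map_of_injective e.injective).symm

/-- Two `p`-, `r`-subgroups normalizing each other commute. -/
theorem commute_of_ne {p r : ℕ} (hp : p.Prime) (hr : r.Prime) (hpr : p ≠ r) {X Y : Subgroup G}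
    (hX : IsPGroup p X) (hY : IsPGroup r Y) (hXY : X ≤ normalizer (Y : Set G))
    (hYX : Y ≤ normalizer (X : Set G)) : X ≤ centralizer (Y : Set G) := by
  have : Fact p.Prime := ⟨hp⟩
  have : Fact r.Prime := ⟨hr⟩
  intro x hx
  refine mem_centralizer_iff.2 fun y hy => ?_
  have h1 : x * y * x⁻¹ * y⁻¹ ∈ Y := Y.mul_mem ((mem_normalizer_iff.1 (hXY hx) y).1 hy) (Y.inv_mem hy)
  have h2 : x * y * x⁻¹ * y⁻¹ ∈ X := by
    have h := X.mul_mem hx ((mem_normalizer_iff.1 (hYX hy) x⁻¹).1 (X.inv_mem hx))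
    simpa only [mul_assoc] using h
  have h3 := disjoint_def.1 (IsPGroup.disjoint_of_ne p r hpr X Y hX hY) h2 h1
  rw [mul_inv_eq_one, mul_inv_eq_iff_eq_mul] at h3
  exact h3.symm

omit [Finite G] in
theorem le_normalizer_centralizer {A Q : Subgroup G} (h : A ≤ normalizer (Q : Set G)) :
    A ≤ normalizer ((centralizer (Q : Set G) ⊓ A : Subgroup G) : Set G) := by
  have key : ∀ g ∈ A, ∀ x ∈ centralizer (Q : Set G) ⊓ A, g * x * g⁻¹ ∈ centralizer (Q : Set G) ⊓ A := by
    rintro g hg x ⟨hx, hxA⟩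
    refine ⟨mem_centralizer_iff.2 fun q hq => ?_, A.mul_mem (A.mul_mem hg hxA) (A.inv_mem hg)⟩
    have h1 := mem_centralizer_iff.1 hx _ ((mem_normalizer_iff.1 (h (A.inv_mem hg)) q).1 hq)
    rw [inv_inv] at h1
    calc q * (g * x * g⁻¹) = g * ((g⁻¹ * q * g) * x) * g⁻¹ := by simp only [mul_assoc, mul_inv_cancel_left]
      _ = g * (x * (g⁻¹ * q * g)) * g⁻¹ := by rw [h1]
      _ = g * x * g⁻¹ * q := by simp only [mul_assoc, mul_inv_cancel, mul_one]
  intro g hg
  refine mem_normalizer_iff.2 fun x => ⟨key g hg x, fun hx => ?_⟩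
  have := key g⁻¹ (A.inv_mem hg) _ hx
  simpa [mul_assoc] using this

omit [Finite G] in
theorem le_normalizer_inf' {A X Y : Subgroup G} (hX : A ≤ normalizer (X : Set G))
    (hY : A ≤ normalizer (Y : Set G)) : A ≤ normalizer ((X ⊓ Y : Subgroup G) : Set G) := by
  intro g hg
  refine mem_normalizer_iff.2 fun x => ?_
  rw [mem_inf, mem_inf, mem_normalizer_iff.1 (hX hg) x, mem_normalizer_iff.1 (hY hg) x]

/-- The normalizer condition in a `p`-group. -/
theorem le_of_normalizer_inf_le {p : ℕ} [Fact p.Prime] {T Y : Subgroup G} (hT : IsPGroup p T)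
    (hYT : Y ≤ T) (h : normalizer (Y : Set G) ⊓ T ≤ Y) : T ≤ Y := by
  have : Group.IsNilpotent T := hT.isNilpotent
  have hnc : NormalizerCondition T := Group.normalizerCondition_of_isNilpotent
  have hfix : normalizer ((Y.subgroupOf T : Subgroup T) : Set T) ≤ Y.subgroupOf T := by
    intro t ht
    refine h ⟨mem_normalizer_iff.2 fun y => ?_, t.2⟩
    constructor
    · intro hy
      exact (mem_normalizer_iff.1 ht ⟨y, hYT hy⟩).1 hy
    · intro hy
      have hyT : y ∈ T := by
        have := T.mul_mem (T.mul_mem (T.inv_mem t.2) (hYT hy)) t.2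
        simpa [mul_assoc] using this
      exact (mem_normalizer_iff.1 ht ⟨y, hyT⟩).2 hy
  have : Y.subgroupOf T = ⊤ := (normalizerCondition_iff_only_full_group_self_normalizing.1 hnc) _
    (le_antisymm hfix le_normalizer)
  exact subgroupOf_eq_top.1 this

/-- Elements of order prime to `p` generate the `p`-residual. -/
def res (p : ℕ) (X : Subgroup G) : Subgroup G :=
  closure {g : G | g ∈ X ∧ (orderOf g).Coprime p}

omit [Finite G] in
theorem res_le (p : ℕ) (X : Subgroup G) : res p X ≤ X := (closure_le _).2 fun _ h => h.1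

omit [Finite G] in
theorem res_res (p : ℕ) (X : Subgroup G) : res p (res p X) = res p X :=
  le_antisymm (res_le p _) ((closure_le _).2 fun _ h => subset_closure ⟨subset_closure h, h.2⟩)

omit [Finite G] in
theorem res_map_equiv (p : ℕ) (φ : G ≃* G) (X : Subgroup G) :
    res p (X.map φ.toMonoidHom) = (res p X).map φ.toMonoidHom := by
  rw [res, res, MonoidHom.map_closure]
  congr 1
  ext x
  constructor
  · rintro ⟨⟨y, hy, rfl⟩, hx⟩
    exact ⟨y, ⟨hy, by rwa [← MulEquiv.orderOf_eq φ y]⟩, rfl⟩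
  · rintro ⟨y, ⟨hy, hy'⟩, rfl⟩
    exact ⟨mem_map_of_mem _ hy, (MulEquiv.orderOf_eq φ y).symm ▸ hy'⟩

theorem isPGroup_of_res_eq_bot {p : ℕ} (hp : p.Prime) {X : Subgroup G} (h : res p X = ⊥) :
    IsPGroup p X := by
  intro x
  obtain ⟨k, m, hm, hkm⟩ := Nat.exists_eq_pow_mul_and_not_dvd (orderOf_pos x).ne' p hp.ne_one
  refine ⟨k, ?_⟩
  have hord : orderOf (x ^ p ^ k) = m := by
    rw [orderOf_pow' _ (pow_ne_zero _ hp.ne_zero), Nat.gcd_eq_right ⟨m, hkm⟩, hkm,
      Nat.mul_div_cancel_left _ (pow_pos hp.pos _)]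
  have hmem : ((x ^ p ^ k : X) : G) ∈ res p X := subset_closure ⟨(x ^ p ^ k : X).2, by
    rw [Subgroup.orderOf_coe, hord]
    exact ((Nat.Prime.coprime_iff_not_dvd hp).2 hm).symm⟩
  rw [h, mem_bot] at hmem
  exact Subtype.ext hmem

/-- If `Y` is generated by `p'`-elements of `Z ≤ Y₀ ⊔ P`, `P` a `p`-group normalizing `Y₀`,
then `Y ≤ Y₀`. -/
theorem res_le_of_le_sup {p : ℕ} {Z Y P : Subgroup G} (hP : IsPGroup p P)
    (hPY : P ≤ normalizer (Y : Set G)) (hZ : Z ≤ Y ⊔ P) : res p Z ≤ Y := by
  refine (closure_le _).2 fun g hg => ?_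
  obtain ⟨hgZ, hcop⟩ := hg
  set K := Y ⊔ P with hK
  have hn : (Y.subgroupOf K).Normal :=
    (normal_subgroupOf_iff_le_normalizer le_sup_left).2 (sup_le le_normalizer hPY)
  set f := QuotientGroup.mk' (Y.subgroupOf K) with hf
  have hg' : g ∈ ((Y : Set G) * (P : Set G)) := by
    rw [← coe_mul_of_right_le_normalizer_left Y P hPY]; exact hZ hgZ
  obtain ⟨y, hy, π, hπ, rfl⟩ := hg'
  let gK : K := ⟨y * π, hZ hgZ⟩
  let yK : K := ⟨y, mem_sup_left hy⟩
  let πK : K := ⟨π, mem_sup_right hπ⟩
  have hfy : f yK = 1 := (QuotientGroup.eq_one_iff yK).2 hy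
  have hfg : f gK = f πK := by
    rw [show gK = yK * πK from rfl, map_mul, hfy, one_mul]
  obtain ⟨k, hk⟩ := hP ⟨π, hπ⟩
  have hk' : π ^ p ^ k = 1 := congrArg (Subgroup.subtype P) hk
  have h1 : orderOf (f gK) ∣ p ^ k := by
    rw [hfg]
    refine orderOf_dvd_of_pow_eq_one ?_
    rw [← map_pow, show πK ^ p ^ k = 1 from Subtype.ext hk', map_one]
  have h2 : orderOf (f gK) ∣ orderOf (y * π) := by
    refine (orderOf_map_dvd f gK).trans (Eq.dvd ?_)
    exact (Subgroup.orderOf_coe gK).symm
  have h3 : orderOf (f gK) = 1 :=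
    Nat.eq_one_of_dvd_coprimes (Nat.Coprime.pow_right k hcop) h2 h1
  exact (QuotientGroup.eq_one_iff gK).1 (orderOf_eq_one_iff.1 h3)

/-- Wielandt's normalizing argument. -/
theorem mem_normalizer_of_conj_le {p : ℕ} {Y P : Subgroup G} {π : G} (hY : res p Y = Y)
    (hP : IsPGroup p P) (hPY : P ≤ normalizer (Y : Set G))
    (h : ∀ u ∈ Y, π * u * π⁻¹ ∈ Y ⊔ P) : π ∈ normalizer (Y : Set G) := by
  have hle : Y.map (MulAut.conj π).toMonoidHom ≤ Y := by
    have h1 : res p (Y.map (MulAut.conj π).toMonoidHom) ≤ Y :=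
      res_le_of_le_sup hP hPY (by rintro _ ⟨u, hu, rfl⟩; exact h u hu)
    rwa [res_map_equiv, hY] at h1
  refine mem_normalizer_iff_map_conj.2 (eq_of_le_of_card_ge hle ?_)
  rw [card_map_of_injective (MulAut.conj π).injective]

/-- `A` is the normalizer of each of its nontrivial normal subgroups. -/
def SelfLocal (A : Subgroup G) : Prop :=
  ∀ X : Subgroup G, X ≤ A → A ≤ normalizer (X : Set G) → X ≠ ⊥ → normalizer (X : Set G) ≤ A

omit [Finite G] in
theorem selfLocal_of_isCoatom {A : Subgroup G} (hA : IsCoatom A) (hc : A.normalCore = ⊥) :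
    SelfLocal A := by
  intro X hX hn hne
  by_contra hle
  have htop : normalizer (X : Set G) = ⊤ := hA.2 _ (lt_of_le_not_ge hn hle)
  have hXn : X.Normal := normalizer_eq_top_iff.1 htop
  exact hne (le_bot_iff.1 (hc ▸ normal_le_normalCore.2 hX))

omit [Finite G] in
theorem eq_bot_of_both {A B X : Subgroup G} (hA : SelfLocal A) (hB : SelfLocal B) (hne : A ≠ B)
    (h1 : X ≤ A) (h2 : A ≤ normalizer (X : Set G)) (h3 : X ≤ B)
    (h4 : B ≤ normalizer (X : Set G)) : X = ⊥ := by
  by_contra h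
  exact hne (le_antisymm (h2.trans (hB X h3 h4 h)) (h4.trans (hA X h1 h2 h)))

/-- A component of `A` contained in `H ≤ A` lies in a normal subgroup of `H` or centralizes it. -/
theorem component_rel {A H N : Subgroup G} {K : Subgroup A} (hK : Cfsg.IsComponent K)
    (hHA : H ≤ A) (hKH : K.map A.subtype ≤ H) (hNH : N ≤ H)
    (hn : H ≤ normalizer (N : Set G)) :
    K.map A.subtype ≤ N ∨ K.map A.subtype ≤ centralizer (N : Set G) := by
  have hKH' : K ≤ H.subgroupOf A := fun x hx => hKH ⟨x, hx, rfl⟩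
  have hn' : ((N.subgroupOf A).subgroupOf (H.subgroupOf A)).Normal := by
    refine ⟨fun x hx g => ?_⟩
    exact (mem_normalizer_iff.1 (hn g.2) _).1 hx
  rcases component_le_or_commute (IsComponent.subgroupOf hK hKH') hn'.isSubnormal with h | h
  · left
    rintro _ ⟨x, hx, rfl⟩
    exact h (show (⟨x, hKH' hx⟩ : H.subgroupOf A) ∈ K.subgroupOf _ from hx)
  · right
    rintro _ ⟨x, hx, rfl⟩
    refine mem_centralizer_iff.2 fun n hn => ?_
    have := commutator_eq_bot_iff_forall.1 h (⟨x, hKH' hx⟩ : H.subgroupOf A) hx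
      ⟨⟨n, hHA (hNH hn)⟩, hNH hn⟩ hn
    exact (congrArg (fun z : H.subgroupOf A => ((z : A) : G)) this).symm

variable {A B : Subgroup G}

/-- The components of `A` and `B` vanish. -/
theorem layer_eq_bot (hA : SelfLocal A) (hB : SelfLocal B) (hne : A ≠ B) (e : A ≃* B)
    (hA2 : coreIn (coreIn (A ⊓ B) A ⊓ coreIn (A ⊓ B) B) A ≠ ⊥)
    (hB2 : coreIn (coreIn (A ⊓ B) A ⊓ coreIn (A ⊓ B) B) B ≠ ⊥) :
    Cfsg.layer A = ⊥ := by
  set A1 := coreIn (A ⊓ B) A with hA1
  set B1 := coreIn (A ⊓ B) B with hB1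
  set A2 := coreIn (A1 ⊓ B1) A with hA2d
  set B2 := coreIn (A1 ⊓ B1) B with hB2d
  set E := (Cfsg.layer A).map A.subtype with hE
  have hEn : A ≤ normalizer (E : Set G) := le_normalizer_map_subtype inferInstance
  have hA1n := le_normalizer_coreIn (A ⊓ B) A
  have hB1n := le_normalizer_coreIn (A ⊓ B) B
  have hB2B : normalizer (B2 : Set G) ≤ B :=
    hB B2 (coreIn_le_right _ _) (le_normalizer_coreIn _ _) hB2
  have hA2A : normalizer (A2 : Set G) ≤ A :=
    hA A2 (coreIn_le_right _ _) (le_normalizer_coreIn _ _) hA2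
  have hKinH : ∀ K : Subgroup A, Cfsg.IsComponent K → K.map A.subtype ≤ A ⊓ B := by
    intro K hK
    refine le_inf (map_subtype_le _) ?_
    rcases component_rel hK le_rfl (map_subtype_le _) (coreIn_le_right (A ⊓ B) A) hA1n with h | h
    · exact h.trans ((coreIn_le_left _ _).trans inf_le_right)
    · refine h.trans (le_trans ?_ hB2B)
      exact (centralizer_le ((coreIn_le_left (A1 ⊓ B1) B).trans inf_le_left)).trans
        (centralizer_le_normalizer _)
  have hDle : centralizer (B1 : Set G) ⊓ B ≤ B1 := by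
    refine le_coreIn (le_inf ?_ inf_le_right) inf_le_right (le_normalizer_centralizer hB1n)
    refine inf_le_left.trans (le_trans ?_ hA2A)
    exact (centralizer_le ((coreIn_le_left (A1 ⊓ B1) A).trans inf_le_right)).trans
      (centralizer_le_normalizer _)
  have hEB1 : E ≤ B1 := by
    rw [hE, Cfsg.layer, sSup_eq_iSup, Subgroup.map_iSup]
    refine iSup_le fun K => ?_
    rw [Subgroup.map_iSup]
    refine iSup_le fun hK => ?_
    have hKH := hKinH K hK
    rcases component_rel hK inf_le_left hKH (coreIn_le_left (A ⊓ B) B)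
        ((inf_le_right : A ⊓ B ≤ B).trans hB1n) with h | h
    · exact h
    · exfalso
      have hsub : K.map A.subtype ≤ B1 := (le_inf h (hKH.trans inf_le_right)).trans hDle
      have hab : IsMulCommutative K := ⟨⟨fun x y => by
        have := mem_centralizer_iff.1 (h ⟨x, x.2, rfl⟩) _ (hsub ⟨y, y.2, rfl⟩)
        exact Subtype.ext (Subtype.ext this.symm)⟩⟩
      exact IsComponent.not_solvable hK (isSolvable_of_isMulCommutative K)
  have hEB : E ≤ B := hEB1.trans (coreIn_le_right _ _)
  -- `E` is a subnormal subgroup of `B` which is its own layer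
  have hsub : (E.subgroupOf B).IsSubnormal := by
    refine isSubnormal_of_normal_subgroupOf (H := E.subgroupOf B) (K := B1.subgroupOf B)
      (fun x hx => hEB1 hx) ?_ ?_
    · exact ((normal_subgroupOf_iff_le_normalizer (coreIn_le_right _ _)).2 hB1n).isSubnormal
    · refine ⟨fun x hx g => ?_⟩
      exact (mem_normalizer_iff.1 (hEn ((coreIn_le_left (A ⊓ B) B g.2).1)) _).1 hx
  have hlayE : Cfsg.layer (Cfsg.layer A) = ⊤ := by
    apply map_injective (Cfsg.layer A).subtype_injective
    rw [layer_map_eq_of_isSubnormal (Subgroup.Normal.isSubnormal inferInstance),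
      ← MonoidHom.range_eq_map, range_subtype]
    exact le_antisymm (sSup_le fun L hL => hL.2) (sSup_le fun L hL => le_sSup ⟨hL, le_layer hL⟩)
  let eE : Cfsg.layer A ≃* E.subgroupOf B :=
    ((Cfsg.layer A).equivMapOfInjective _ A.subtype_injective).trans (subgroupOfEquivOfLe hEB).symm
  have hlayE' : Cfsg.layer (E.subgroupOf B) = ⊤ := by
    rw [← map_layer_equiv eE, hlayE]
    exact map_top_of_surjective _ eE.surjective
  have hle : E.subgroupOf B ≤ Cfsg.layer B := by
    have h := layer_map_le_of_isSubnormal hsub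
    rwa [hlayE', ← MonoidHom.range_eq_map, range_subtype] at h
  have hle' : E ≤ (Cfsg.layer B).map B.subtype := fun x hx => ⟨⟨x, hEB hx⟩, hle hx, rfl⟩
  have heq : E = (Cfsg.layer B).map B.subtype := by
    refine eq_of_le_of_card_ge hle' ?_
    rw [hE, card_map_of_injective A.subtype_injective, card_map_of_injective B.subtype_injective,
      ← map_layer_equiv e, card_map_of_injective e.injective]
  have hbot : E = ⊥ := eq_bot_of_both hA hB hne (map_subtype_le _) hEn hEB
    (heq ▸ le_normalizer_map_subtype inferInstance)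
  rwa [hE, map_eq_bot_iff_of_injective _ A.subtype_injective] at hbot

/-- One half of the Thompson-Wielandt theorem. -/
theorem half (hA : SelfLocal A) (hB : SelfLocal B) (hne : A ≠ B) (e : A ≃* B)
    (hA2 : coreIn (coreIn (A ⊓ B) A ⊓ coreIn (A ⊓ B) B) A ≠ ⊥)
    (hB2 : coreIn (coreIn (A ⊓ B) A ⊓ coreIn (A ⊓ B) B) B ≠ ⊥) :
    ∃ p : ℕ, p.Prime ∧ pc p A ≠ ⊥ ∧ (∀ r : ℕ, r.Prime → r ≠ p → pc r A = ⊥) ∧
      Cfsg.generalizedFittingSubgroup A = Cfsg.pCore p A ∧
      Cfsg.generalizedFittingSubgroup (coreIn (A ⊓ B) A) = Cfsg.pCore p (coreIn (A ⊓ B) A) ∧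
      IsPGroup p (coreIn (coreIn (A ⊓ B) A ⊓ coreIn (A ⊓ B) B) A) := by
  have hlA := layer_eq_bot hA hB hne e hA2 hB2
  have hlB : Cfsg.layer B = ⊥ := by rw [← map_layer_equiv e, hlA, Subgroup.map_bot]
  set A1 := coreIn (A ⊓ B) A with hA1
  set B1 := coreIn (A ⊓ B) B with hB1
  set A2 := coreIn (A1 ⊓ B1) A with hA2d
  set B2 := coreIn (A1 ⊓ B1) B with hB2d
  have hA1n : A ≤ normalizer (A1 : Set G) := le_normalizer_coreIn _ _
  have hB1n : B ≤ normalizer (B1 : Set G) := le_normalizer_coreIn _ _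
  have hA1H : A1 ≤ A ⊓ B := coreIn_le_left _ _
  have hB1H : B1 ≤ A ⊓ B := coreIn_le_left _ _
  -- the prime
  obtain ⟨p, hp, hW⟩ : ∃ p : ℕ, p.Prime ∧ pc p B ⊓ B2 ≠ ⊥ := by
    set N := B2.subgroupOf B with hN
    have hNn : N.Normal := (normal_subgroupOf_iff_le_normalizer (coreIn_le_right _ _)).2
      (le_normalizer_coreIn _ _)
    have hNne : N ≠ ⊥ := fun h => hB2 (by
      have hle : B2 ≤ B := coreIn_le_right _ _
      have hmap := map_subgroupOf_eq_of_le hle
      rw [← hN, h, Subgroup.map_bot] at hmap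
      exact hmap.symm)
    by_contra hcon
    push Not at hcon
    have hdis : ∀ q : Nat.Primes, Cfsg.pCore (q : ℕ) B ⊓ N = ⊥ := by
      intro q
      refine (eq_bot_iff_forall _).2 fun x hx => ?_
      have : (x : G) ∈ pc (q : ℕ) B ⊓ B2 := ⟨⟨x, hx.1, rfl⟩, hx.2⟩
      rw [hcon q q.2, mem_bot] at this
      exact Subtype.ext this
    have hcent : N ≤ centralizer (Cfsg.fittingSubgroup B : Set B) := by
      rw [← commutator_eq_bot_iff_le_centralizer, commutator_comm,
        commutator_eq_bot_iff_le_centralizer, fittingSubgroup_eq_iSup_pCore]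
      refine iSup_le fun q => ?_
      rw [← commutator_eq_bot_iff_le_centralizer]
      exact le_bot_iff.1 ((commutator_le_inf _ _).trans (hdis q).le)
    have hNF : N ≤ Cfsg.fittingSubgroup B :=
      hcent.trans ((centralizer_fitting_le_iff_layer_eq_bot).2 hlB)
    have hnil : Group.IsNilpotent N := isNilpotent_of_le hNF (fittingSubgroup_isNilpotent B)
    have hcard : Nat.card N ≠ 1 := fun h => hNne (eq_bot_of_card_eq N h)
    set q := (Nat.card N).minFac with hq
    have : Fact q.Prime := ⟨Nat.minFac_prime hcard⟩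
    obtain ⟨P⟩ := (inferInstance : Nonempty (Sylow q N))
    have hPn : (P : Subgroup N).Normal := inferInstance
    have hPne : (P : Subgroup N) ≠ ⊥ := P.ne_bot_of_dvd_card (Nat.minFac_dvd _)
    have hmap : ((P : Subgroup N).map N.subtype) ≤ Cfsg.pCore q B ⊓ N :=
      le_inf (le_pCore_of_isSubnormal (hPn.isSubnormal.trans' hNn.isSubnormal) (P.2.map _))
        (map_subtype_le _)
    rw [hdis ⟨q, Fact.out⟩, le_bot_iff, map_eq_bot_iff_of_injective _ N.subtype_injective] at hmap
    exact hPne hmap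
  have : Fact p.Prime := ⟨hp⟩
  set W := pc p B ⊓ B2 with hWd
  have hWB : B ≤ normalizer (W : Set G) :=
    le_normalizer_inf' (le_normalizer_pc _ _) (le_normalizer_coreIn _ _)
  have hWA1 : W ≤ A1 := inf_le_right.trans ((coreIn_le_left _ _).trans inf_le_left)
  have hWp : IsPGroup p W := (isPGroup_pc p B).to_le inf_le_left
  have hNW : normalizer (W : Set G) ≤ B := hB W (inf_le_left.trans (pc_le _ _)) hWB hW
  set Q := pc p A1 with hQd
  have hQn : A ≤ normalizer (Q : Set G) := pc_normalizer_mono hA1n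
  have hWQ : W ≤ Q := le_pc hWA1 ((hA1H.trans inf_le_right).trans hWB) hWp
  have hQA : Q ≤ pc p A := le_pc ((pc_le _ _).trans (coreIn_le_right _ _)) hQn (isPGroup_pc _ _)
  have hD : centralizer (Q : Set G) ⊓ A ≤ A1 := by
    refine le_coreIn (le_inf inf_le_right ?_) inf_le_right (le_normalizer_centralizer hQn)
    exact inf_le_left.trans ((centralizer_le hWQ).trans ((centralizer_le_normalizer _).trans hNW))
  have hpcA : pc p A ≠ ⊥ := fun h => hW (le_bot_iff.1 (h ▸ hWQ.trans hQA))
  have hcardpc : ∀ r, Nat.card (pc r A) = Nat.card (pc r B) := fun r => card_pc_of_equiv r e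
  have hother : ∀ r : ℕ, r.Prime → r ≠ p → pc r A = ⊥ := by
    intro r hr hrp
    have : Fact r.Prime := ⟨hr⟩
    by_contra hR
    set R := pc r A with hRd
    have hRB : R ≤ B := by
      have h1 : R ≤ centralizer (pc p A : Set G) :=
        commute_of_ne hr hp hrp (isPGroup_pc _ _) (isPGroup_pc _ _)
          ((pc_le _ _).trans (le_normalizer_pc _ _)) ((pc_le _ _).trans (le_normalizer_pc _ _))
      exact h1.trans ((centralizer_le (hWQ.trans hQA)).trans
        ((centralizer_le_normalizer _).trans hNW))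
    have hS : pc r B ⊓ A ≤ R := by
      have hSp : IsPGroup r (pc r B ⊓ A : Subgroup G) := (isPGroup_pc r B).to_le inf_le_left
      have hSB : pc r B ⊓ A ≤ B := inf_le_left.trans (pc_le _ _)
      have hSn : A ⊓ B ≤ normalizer ((pc r B ⊓ A : Subgroup G) : Set G) :=
        le_normalizer_inf' (inf_le_right.trans (le_normalizer_pc _ _))
          (inf_le_left.trans le_normalizer)
      have h1 : pc r B ⊓ A ≤ centralizer (Q : Set G) :=
        commute_of_ne hr hp hrp hSp (isPGroup_pc _ _) (inf_le_right.trans hQn)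
          ((pc_le _ _).trans (hA1H.trans hSn))
      have h2 : pc r B ⊓ A ≤ A1 := (le_inf h1 inf_le_right).trans hD
      refine le_trans (le_pc h2 (hA1H.trans hSn) hSp) ?_
      exact le_pc ((pc_le _ _).trans (coreIn_le_right _ _)) (pc_normalizer_mono hA1n)
        (isPGroup_pc _ _)
    set T := R ⊔ pc r B with hTd
    have hRn : R ≤ normalizer (pc r B : Set G) := hRB.trans (le_normalizer_pc _ _)
    have hT : IsPGroup r T := (isPGroup_pc r A).to_sup_of_normal_right' (isPGroup_pc r B) hRn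
    have hTR : T ≤ R := by
      refine le_of_normalizer_inf_le hT le_sup_left ?_
      rintro t ⟨ht1, ht2⟩
      have htA : t ∈ A := hA R (pc_le _ _) (le_normalizer_pc _ _) hR ht1
      have ht' : t ∈ ((R : Set G) * (pc r B : Set G)) := by
        rw [← coe_mul_of_left_le_normalizer_right R (pc r B) hRn]; exact ht2
      obtain ⟨x, hx, y, hy, rfl⟩ := ht'
      refine R.mul_mem hx (hS ⟨hy, ?_⟩)
      have := A.mul_mem (A.inv_mem (pc_le _ _ hx)) htA
      rwa [inv_mul_cancel_left] at this
    have heq : pc r B = R := eq_of_le_of_card_ge (le_sup_right.trans hTR) (hcardpc r).le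
    exact hR (eq_bot_of_both hA hB hne (pc_le _ _) (le_normalizer_pc _ _) hRB
      (heq ▸ le_normalizer_pc r B))
  have hFA : Cfsg.generalizedFittingSubgroup A = Cfsg.pCore p A := by
    rw [generalizedFitting_eq_fitting_of_layer_eq_bot hlA]
    refine le_antisymm ?_ (pCore_le_fittingSubgroup p A)
    rw [fittingSubgroup_eq_iSup_pCore]
    refine iSup_le fun q => ?_
    rcases eq_or_ne (q : ℕ) p with hq | hq
    · rw [hq]
    · have h := hother q q.2 hq
      rw [pc, map_eq_bot_iff_of_injective _ A.subtype_injective] at h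
      rw [h]; exact bot_le
  have hFA1 : Cfsg.generalizedFittingSubgroup A1 = Cfsg.pCore p A1 := by
    refine generalizedFitting_eq_pCore_iff.2 fun x hx => ?_
    set D := (centralizer (Q : Set G) ⊓ A).subgroupOf A with hDd
    have hDn : D.Normal :=
      (normal_subgroupOf_iff_le_normalizer inf_le_right).2 (le_normalizer_centralizer hQn)
    have hxQ : (x : G) ∈ centralizer (Q : Set G) := by
      refine mem_centralizer_iff.2 ?_
      rintro _ ⟨q, hq, rfl⟩
      exact congrArg Subtype.val (mem_centralizer_iff.1 hx q hq)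
    let xD : D := ⟨⟨x, coreIn_le_right _ _ x.2⟩, hxQ, coreIn_le_right _ _ x.2⟩
    have hmap := generalizedFitting_map_eq_inf_of_isSubnormal hDn.isSubnormal
    rw [hFA] at hmap
    have hinQ : ∀ z : A, z ∈ Cfsg.pCore p A → z ∈ D → (z : G) ∈ Q := by
      intro z hz hzD
      have hle : pc p A ⊓ A1 ≤ Q :=
        le_pc inf_le_right
          (le_normalizer_inf' ((coreIn_le_right _ _).trans (le_normalizer_pc _ _)) le_normalizer)
          ((isPGroup_pc p A).to_le inf_le_left)
      exact hle ⟨⟨z, hz, rfl⟩, hD hzD⟩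
    have hxc : xD ∈ centralizer (Cfsg.generalizedFittingSubgroup D : Set D) := by
      refine mem_centralizer_iff.2 fun f hf => ?_
      have hf' : (f : A) ∈ Cfsg.pCore p A ⊓ D := hmap ▸ mem_map_of_mem D.subtype hf
      exact Subtype.ext (Subtype.ext (mem_centralizer_iff.1 hxQ _ (hinQ _ hf'.1 hf'.2)))
    have hxF : (xD : A) ∈ Cfsg.pCore p A ⊓ D :=
      hmap ▸ mem_map_of_mem D.subtype (centralizer_generalizedFitting_le hxc)
    obtain ⟨y, hy, hyx⟩ := hinQ _ hxF.1 hxF.2
    exact (Subtype.ext hyx : y = x) ▸ hy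
  refine ⟨p, hp, hpcA, hother, hFA, hFA1, isPGroup_of_res_eq_bot hp ?_⟩
  -- the second core is a `p`-group
  by_contra hU
  set U := res p A2 with hUd
  have hUA2 : U ≤ A2 := res_le _ _
  have hUB1 : U ≤ B1 := hUA2.trans ((coreIn_le_left _ _).trans inf_le_right)
  have hUn : A ≤ normalizer (U : Set G) := by
    intro g hg
    refine mem_normalizer_iff_map_conj.2 ?_
    rw [hUd, ← res_map_equiv, mem_normalizer_iff_map_conj.1 (le_normalizer_coreIn (A1 ⊓ B1) A hg)]
  have hNU : normalizer (U : Set G) ≤ A :=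
    hA U (hUA2.trans (coreIn_le_right _ _)) hUn hU
  set PA := pc p A with hPAd
  set PB := pc p B with hPBd
  have hPBp : IsPGroup p PB := isPGroup_pc p B
  have hB1A : B1 ≤ A := hB1H.trans inf_le_left
  have hB1B : B1 ≤ B := coreIn_le_right _ _
  have hPBN : PB ≤ normalizer (U : Set G) := by
    intro π hπ
    refine mem_normalizer_of_conj_le (P := PB ⊓ B1) (res_res p A2) (hPBp.to_le inf_le_left)
      ((inf_le_right.trans hB1A).trans hUn) fun u hu => ?_
    have hπB : π ∈ B := pc_le _ _ hπ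
    have huB1 : u ∈ B1 := hUB1 hu
    have h1 : π * u * π⁻¹ * u⁻¹ ∈ PB := by
      have h := PB.mul_mem hπ
        ((mem_normalizer_iff.1 (le_normalizer_pc p B (hB1B huB1)) π⁻¹).1 (PB.inv_mem hπ))
      simpa only [mul_assoc] using h
    have h2 : π * u * π⁻¹ * u⁻¹ ∈ B1 :=
      B1.mul_mem ((mem_normalizer_iff.1 (hB1n hπB) u).1 huB1) (B1.inv_mem huB1)
    have h3 := mul_mem (mem_sup_right (S := U) (T := PB ⊓ B1) ⟨h1, h2⟩) (mem_sup_left hu)
    simpa [mul_assoc] using h3
  have hPBA : PB ≤ A := hPBN.trans hNU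
  set R := PA ⊓ B with hRd
  have hRp : IsPGroup p R := (isPGroup_pc p A).to_le inf_le_left
  have hRn : A ⊓ B ≤ normalizer (R : Set G) :=
    le_normalizer_inf' (inf_le_left.trans (le_normalizer_pc _ _)) (inf_le_right.trans le_normalizer)
  have hRPB : R ≤ PB := by
    have hRB1PB : R ⊓ B1 ≤ PB := by
      refine le_trans (le_pc inf_le_right (le_normalizer_inf' (hB1H.trans hRn) le_normalizer)
        (hRp.to_le inf_le_left)) ?_
      exact le_pc ((pc_le _ _).trans hB1B) (pc_normalizer_mono hB1n) (isPGroup_pc _ _)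
    have hconj : ∀ π ∈ R, ∀ h ∈ B, h⁻¹ * π * h ∈ A := by
      intro π hπ h hh
      set Y := U.map (MulAut.conj h).toMonoidHom with hY
      have hYres : res p Y = Y := by rw [hY, res_map_equiv, res_res]
      have hYB1 : Y ≤ B1 := by
        rintro _ ⟨u, hu, rfl⟩
        exact (mem_normalizer_iff.1 (hB1n hh) u).1 (hUB1 hu)
      have hYN : ∀ g : G, g ∈ normalizer (Y : Set G) ↔ h⁻¹ * g * h ∈ normalizer (U : Set G) := by
        intro g
        rw [mem_normalizer_iff_map_conj, mem_normalizer_iff_map_conj, hY, map_map]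
        rw [← (map_injective (f := (MulAut.conj h).toMonoidHom) (MulAut.conj h).injective).eq_iff
          (a := U.map (MulAut.conj (h⁻¹ * g * h)).toMonoidHom), map_map]
        have hc : (MulAut.conj g).toMonoidHom.comp (MulAut.conj h).toMonoidHom =
            (MulAut.conj h).toMonoidHom.comp (MulAut.conj (h⁻¹ * g * h)).toMonoidHom := by
          ext z; simp [mul_assoc]
        rw [hc]
      have hPBY : PB ≤ normalizer (Y : Set G) := by
        intro g hg
        refine (hYN g).2 (hPBN ?_)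
        have := (mem_normalizer_iff.1 (le_normalizer_pc p B (B.inv_mem hh)) g).1 hg
        rwa [inv_inv] at this
      refine hNU ((hYN π).1 (mem_normalizer_of_conj_le hYres hPBp hPBY fun u hu => ?_))
      have huB1 : u ∈ B1 := hYB1 hu
      have h1 : π * u * π⁻¹ * u⁻¹ ∈ R := by
        have h := R.mul_mem hπ ((mem_normalizer_iff.1 (hRn (hB1H huB1)) π⁻¹).1 (R.inv_mem hπ))
        simpa only [mul_assoc] using h
      have h2 : π * u * π⁻¹ * u⁻¹ ∈ B1 :=
        B1.mul_mem ((mem_normalizer_iff.1 (hB1n hπ.2) u).1 huB1) (B1.inv_mem huB1)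
      have h3 := mul_mem (mem_sup_right (S := Y) (T := PB) (hRB1PB ⟨h1, h2⟩)) (mem_sup_left hu)
      simpa [mul_assoc] using h3
    have hRB1 : R ≤ B1 := by
      intro π hπ
      refine ⟨⟨π, hπ.2⟩, fun b => ?_, rfl⟩
      constructor
      · have := hconj π hπ _ (B.inv_mem b.2)
        simpa using this
      · exact B.mul_mem (B.mul_mem b.2 hπ.2) (B.inv_mem b.2)
    exact (le_inf le_rfl hRB1).trans hRB1PB
  have hPBne : PB ≠ ⊥ := fun h => hW (le_bot_iff.1 (h ▸ inf_le_left))
  set T := PB ⊔ PA with hTd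
  have hPBn : PB ≤ normalizer (PA : Set G) := hPBA.trans (le_normalizer_pc _ _)
  have hT : IsPGroup p T := hPBp.to_sup_of_normal_right' (isPGroup_pc p A) hPBn
  have hTPB : T ≤ PB := by
    refine le_of_normalizer_inf_le hT le_sup_left ?_
    rintro t ⟨ht1, ht2⟩
    have htB : t ∈ B := hB PB (pc_le _ _) (le_normalizer_pc _ _) hPBne ht1
    have ht' : t ∈ ((PB : Set G) * (PA : Set G)) := by
      rw [← coe_mul_of_left_le_normalizer_right PB PA hPBn]; exact ht2
    obtain ⟨x, hx, y, hy, rfl⟩ := ht'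
    refine PB.mul_mem hx (hRPB ⟨hy, ?_⟩)
    have := B.mul_mem (B.inv_mem (pc_le _ _ hx)) htB
    rwa [inv_mul_cancel_left] at this
  have heq : PA = PB := eq_of_le_of_card_ge (le_sup_right.trans hTPB) (hcardpc p).ge
  exact hpcA (eq_bot_of_both hA hB hne (pc_le _ _) (le_normalizer_pc _ _) (heq.trans_le (pc_le p B))
    (heq.symm ▸ le_normalizer_pc p B))

/-- **Thompson-Wielandt.** -/
theorem thompson_wielandt (hA : SelfLocal A) (hB : SelfLocal B) (hne : A ≠ B) (e : A ≃* B)
    (hA2 : coreIn (coreIn (A ⊓ B) A ⊓ coreIn (A ⊓ B) B) A ≠ ⊥)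
    (hB2 : coreIn (coreIn (A ⊓ B) A ⊓ coreIn (A ⊓ B) B) B ≠ ⊥) :
    ∃ p : ℕ, p.Prime ∧
      IsPGroup p ↥(coreIn (coreIn (A ⊓ B) A ⊓ coreIn (A ⊓ B) B) A ⊔
        coreIn (coreIn (A ⊓ B) A ⊓ coreIn (A ⊓ B) B) B) ∧
      Cfsg.generalizedFittingSubgroup A = Cfsg.pCore p A ∧
      Cfsg.generalizedFittingSubgroup (coreIn (A ⊓ B) A) = Cfsg.pCore p (coreIn (A ⊓ B) A) ∧
      Cfsg.generalizedFittingSubgroup B = Cfsg.pCore p B ∧
      Cfsg.generalizedFittingSubgroup (coreIn (A ⊓ B) B) = Cfsg.pCore p (coreIn (A ⊓ B) B) := by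
  obtain ⟨p, hp, -, hother, hFA, hFA1, hA2p⟩ := half hA hB hne e hA2 hB2
  have hswap : B ⊓ A = A ⊓ B := inf_comm B A
  have h2 := half hB hA hne.symm e.symm
    (by rwa [hswap, inf_comm (coreIn (A ⊓ B) B)]) (by rwa [hswap, inf_comm (coreIn (A ⊓ B) B)])
  rw [hswap, inf_comm (coreIn (A ⊓ B) B)] at h2
  obtain ⟨q, hq, hqB, -, hFB, hFB1, hB2q⟩ := h2
  have hqp : q = p := by
    by_contra h
    have h1 := hother q hq h
    have h2 := card_pc_of_equiv q e
    rw [h1, card_bot] at h2
    exact hqB (eq_bot_of_card_eq _ h2.symm)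
  subst hqp
  refine ⟨q, hp, ?_, hFA, hFA1, hFB, hFB1⟩
  have : Fact q.Prime := ⟨hp⟩
  refine hA2p.to_sup_of_normal_right' hB2q ?_
  exact (((coreIn_le_left _ _).trans inf_le_right).trans (coreIn_le_right _ _)).trans
    (le_normalizer_coreIn _ _)

end Fin

end Cfsg.Lib.Perm.TW
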