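import Mathlib
import Cfsg.Agent.Lib.Perm.InvolutionWindow
import Cfsg.Agent.Lib.Perm.ThompsonWielandt
import Cfsg.Agent.Lib.Dickson.SmallIds
import Cfsg.Agent.Lib.TwoGroup.Models

/-!
# Vertex groups of an involution window sequence: `n ≤ 4` and the five types
-/

namespace Cfsg.Lib.Perm.Window

open Subgroup Cfsg.Lib.Perm.TW
open scoped Pointwise

variable {G : Type*} [Group G] {n : ℕ} {t : ℤ → G}

/-- A window sequence whose `(n+1)`-windows are self-local groups of order `3 * 2 ^ n`. -/
structure Vertex (n : ℕ) (t : ℤ → G) : Prop extends Seq n t where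
  pos : 1 ≤ n
  top : ∀ s, Nat.card (seg t s (n + 1)) = 3 * 2 ^ n
  loc : ∀ s, SelfLocal (seg t s (n + 1))
  top_ne : ∀ s, seg t s (n + 1) ≠ seg t (s + 1) (n + 1)
  conj : ∃ h : G, ∀ k s : ℤ, t (k + s) = h ^ s * t k * (h ^ s)⁻¹

theorem mem_normalizer_seg [Finite G] {x : G} {s : ℤ} {l : ℕ}
    (h : ∀ j, s ≤ j → j < s + l → x * t j * x⁻¹ ∈ seg t s l) :
    x ∈ normalizer (seg t s l : Set G) := by
  have hle : (seg t s l).map (MulAut.conj x).toMonoidHom ≤ seg t s l := by
    rw [map_le_iff_le_comap]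
    exact seg_le h
  refine Cfsg.Lib.Core.mem_normalizer_iff_map_conj.2 (eq_of_le_of_card_ge hle ?_)
  rw [card_map_of_injective (MulAut.conj x).injective]

theorem conj_eq_of_commute {x y : G} (h : Commute x y) : x * y * x⁻¹ = y := by
  rw [h.eq, mul_inv_cancel_right]

/-- The elements of `V` acting trivially on `A ⧸ Z`. -/
def kern (A Z V : Subgroup G) (hA : V ≤ normalizer (A : Set G)) (hZ : V ≤ normalizer (Z : Set G)) :
    Subgroup G where
  carrier := {g | g ∈ V ∧ ∀ a ∈ A, g * a * g⁻¹ * a⁻¹ ∈ Z}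
  one_mem' := ⟨V.one_mem, fun a _ => by simp⟩
  mul_mem' := by
    rintro g h ⟨hg, hgA⟩ ⟨hh, hhA⟩
    refine ⟨V.mul_mem hg hh, fun a ha => ?_⟩
    have h1 := hgA _ ((mem_normalizer_iff.1 (hA hh) a).1 ha)
    have h2 := hhA a ha
    have h3 := Z.mul_mem h1 h2
    simpa [mul_assoc] using h3
  inv_mem' := by
    rintro g ⟨hg, hgA⟩
    refine ⟨V.inv_mem hg, fun a ha => ?_⟩
    have h1 := hgA _ ((mem_normalizer_iff.1 (hA (V.inv_mem hg)) a).1 ha)
    have h2 := Z.inv_mem h1
    simpa [mul_assoc] using h2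

theorem comm_closure {A Z : Subgroup G} (hA : A ≤ normalizer (Z : Set G)) {g : G} {S : Set G}
    (hS : S ⊆ A) (hgen : ∀ a ∈ S, g * a * g⁻¹ * a⁻¹ ∈ Z) {a : G} (ha : a ∈ closure S) :
    g * a * g⁻¹ * a⁻¹ ∈ Z := by
  induction ha using closure_induction with
  | mem x hx => exact hgen x hx
  | one => simp
  | mul x y hx hy ihx ihy =>
    have h1 := (mem_normalizer_iff.1 (hA ((closure_le A).2 hS hx)) _).1 ihy
    have h2 := Z.mul_mem ihx h1
    simpa [mul_assoc] using h2
  | inv x hx ihx =>
    have h1 := (mem_normalizer_iff.1 (hA (A.inv_mem ((closure_le A).2 hS hx))) _).1 (Z.inv_mem ihx)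
    simpa [mul_assoc] using h1

theorem noNormalCyclic_of [Finite G] (hcard : Nat.card G = 24)
    (hz : ∀ z : G, (∀ g, g * z = z * g) → z * z = 1 → z = 1)
    (h3 : ∀ P : Subgroup G, P.Normal → Nat.card P ≠ 3) : Cfsg.Lib.Dickson.NoNormalCyclic G := by
  classical
  intro N hN hcyc
  by_contra hne
  have hcardN : Nat.card N ≠ 1 := fun h => hne (eq_bot_of_card_eq N h)
  set q := (Nat.card N).minFac with hq
  have hqp : q.Prime := Nat.minFac_prime hcardN
  have : Fact q.Prime := ⟨hqp⟩
  obtain ⟨x, hx⟩ := exists_prime_orderOf_dvd_card' (G := N) q (Nat.minFac_dvd _)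
  have hq23 : q = 2 ∨ q = 3 := by
    have hdvd : q ∣ 24 := hcard ▸ (Nat.minFac_dvd _).trans (card_subgroup_dvd_card N)
    rw [show 24 = 2 ^ 3 * 3 by norm_num, hqp.dvd_mul] at hdvd
    rcases hdvd with h | h
    · exact Or.inl ((Nat.prime_dvd_prime_iff_eq hqp Nat.prime_two).1 (hqp.dvd_of_dvd_pow h))
    · exact Or.inr ((Nat.prime_dvd_prime_iff_eq hqp Nat.prime_three).1 h)
  set P := (zpowers x).map N.subtype with hP
  have hPcard : Nat.card P = q := by
    rw [hP, card_map_of_injective N.subtype_injective, Nat.card_zpowers, hx]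
  have hPn : P.Normal := by
    have hset : ∀ y : N, y ^ q = 1 → y ∈ zpowers x := by
      intro y hy
      have : Fintype N := Fintype.ofFinite N
      by_contra hyn
      have hle := IsCyclic.card_pow_eq_one_le (α := N) hqp.pos
      have hsub : insert y (Finset.univ.filter fun z : N => z ∈ zpowers x) ⊆
          Finset.univ.filter fun z : N => z ^ q = 1 := by
        intro z hz
        rw [Finset.mem_insert] at hz
        rcases hz with rfl | hz
        · simp [hy]
        · obtain ⟨k, rfl⟩ := (Finset.mem_filter.1 hz).2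
          refine Finset.mem_filter.2 ⟨Finset.mem_univ _, ?_⟩
          show (x ^ k) ^ q = 1
          rw [← zpow_natCast (x ^ k), ← zpow_mul, mul_comm, zpow_mul, zpow_natCast, ← hx,
            pow_orderOf_eq_one, one_zpow]
      have h1 := (Finset.card_le_card hsub).trans hle
      rw [Finset.card_insert_of_notMem (by simp [hyn]), ← Fintype.card_subtype,
        ← Nat.card_eq_fintype_card] at h1
      have : Nat.card {z : N // z ∈ zpowers x} = q := (Nat.card_zpowers x).trans hx
      omega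
    refine ⟨fun p hp g => ?_⟩
    obtain ⟨y, hy, rfl⟩ := hp
    refine ⟨⟨g * y * g⁻¹, hN.conj_mem _ y.2 g⟩, hset _ ?_, rfl⟩
    apply Subtype.ext
    show (g * (y : G) * g⁻¹) ^ q = 1
    obtain ⟨k, rfl⟩ := hy
    have hy' : ((x ^ k : N) : G) ^ q = 1 := by
      rw [← SubgroupClass.coe_pow, ← zpow_natCast (x ^ k), ← zpow_mul, mul_comm, zpow_mul,
        zpow_natCast, ← hx, pow_orderOf_eq_one, one_zpow]
      rfl
    rw [conj_pow, hy', mul_one, mul_inv_cancel]
  rcases hq23 with h2 | h3'
  · rw [h2] at hx hPcard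
    have hxc : ∀ g : G, g * x = x * g := by
      intro g
      have hmem : g * (x : G) * g⁻¹ ∈ P := hPn.conj_mem _ ⟨x, mem_zpowers x, rfl⟩ g
      obtain ⟨y, hy, hyx⟩ := hmem
      have hxx : x * x = 1 := by rw [← pow_two, ← hx, pow_orderOf_eq_one]
      rcases zpowers_sq hxx hy with rfl | rfl
      · exfalso
        have h1 : g * (x : G) * g⁻¹ = 1 := hyx.symm
        have : (x : G) = 1 := by
          rw [mul_inv_eq_one] at h1
          exact mul_eq_left.1 h1
        rw [show x = 1 from Subtype.ext this, orderOf_one] at hx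
        omega
      · exact mul_inv_eq_iff_eq_mul.1 hyx.symm
    have := hz x hxc (by rw [← pow_two, ← hx, ← SubgroupClass.coe_pow, pow_orderOf_eq_one]; rfl)
    rw [show x = 1 from Subtype.ext this, orderOf_one] at hx
    omega
  · exact h3 P hPn (hPcard.trans h3')

variable [Finite G]

theorem Vertex.shift_mem (hV : Vertex n t) {x : G} {s : ℤ} {l : ℕ} (hx : x ∈ seg t s l) (d : ℤ) :
    ∃ h : G, h * x * h⁻¹ ∈ seg t (s + d) l ∧ ∀ k, h * t k * h⁻¹ = t (k + d) := by
  obtain ⟨h, hh⟩ := hV.conj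
  refine ⟨h ^ d, ?_, fun k => (hh k d).symm⟩
  have : seg t s l ≤ (seg t (s + d) l).comap (MulAut.conj (h ^ d)).toMonoidHom :=
    seg_le fun k h1 h2 => by
      show h ^ d * t k * (h ^ d)⁻¹ ∈ seg t (s + d) l
      rw [← hh]; exact mem_seg t (by omega) (by omega)
  exact this hx

/-- Shifting a commutator. -/
theorem Vertex.shift_comm (hV : Vertex n t) {a b s : ℤ} {l : ℕ}
    (h : t a * t b * t a * t b ∈ seg t s l) (d : ℤ) :
    t (a + d) * t (b + d) * t (a + d) * t (b + d) ∈ seg t (s + d) l := by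
  obtain ⟨g, hg, hgk⟩ := hV.shift_mem h d
  rw [← hgk, ← hgk]
  simpa [mul_assoc] using hg

theorem Vertex.left_ne (hV : Vertex n t) (s : ℤ) : ¬ seg t s (n + 1) ≤ seg t s n := by
  intro h
  have := card_le_of_le h
  rw [hV.top, hV.card _ _ le_rfl] at this
  have := Nat.two_pow_pos n
  omega

theorem Vertex.not_mem_right (hV : Vertex n t) (s : ℤ) : t (s + n) ∉ seg t s n := fun h =>
  hV.left_ne s (by rw [seg_split]; exact sup_le le_rfl (zpowers_le.2 h))

theorem Vertex.not_mem_left (hV : Vertex n t) (s : ℤ) : t s ∉ seg t (s + 1) n := by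
  intro h
  have hle : seg t s (n + 1) ≤ seg t (s + 1) n := by
    rw [seg_split']; exact sup_le (zpowers_le.2 h) le_rfl
  have := card_le_of_le hle
  rw [hV.top, hV.card _ _ le_rfl] at this
  have := Nat.two_pow_pos n
  omega

theorem Vertex.core_normalized (hV : Vertex n t) (s : ℤ) :
    seg t s (n + 1) ≤ normalizer (seg t (s + 1) (n - 1) : Set G) := by
  have hpow : 2 ^ n = 2 * 2 ^ (n - 1) := by
    rw [← pow_succ']; congr 1; have := hV.pos; omega
  have h1 : seg t s n ≤ normalizer (seg t (s + 1) (n - 1) : Set G) :=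
    normalizer_of_index_two (seg_mono t (by omega) (by have := hV.pos; omega))
      (by rw [hV.card _ _ le_rfl, hV.card _ _ (by omega), hpow])
  have h2 : seg t (s + 1) n ≤ normalizer (seg t (s + 1) (n - 1) : Set G) :=
    normalizer_of_index_two (seg_mono t le_rfl (by omega))
      (by rw [hV.card _ _ le_rfl, hV.card _ _ (by omega), hpow])
  rw [seg_split]
  exact sup_le h1 (zpowers_le.2 (h2 (mem_seg t (by have := hV.pos; omega) (by omega))))

theorem Vertex.inter (hV : Vertex n t) (s : ℤ) :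
    seg t s n ⊓ seg t (s + 1) n = seg t (s + 1) (n - 1) := by
  have := hV.pos
  refine eq_of_index_two (Y := seg t s n)
    (le_inf (seg_mono t (by omega) (by omega)) (seg_mono t le_rfl (by omega))) inf_le_left ?_
    fun h => hV.not_mem_left s (h (mem_seg t le_rfl (by omega))).2
  rw [hV.card _ _ le_rfl, hV.card _ _ (by omega), ← pow_succ']
  congr 1; omega

theorem Vertex.self_normalizing (hV : Vertex n t) (s i : ℤ) (hi : i = s ∨ i = s + 1) {z : G}
    (hz : z ∈ seg t s (n + 1)) (hzn : z ∈ normalizer (seg t i n : Set G)) : z ∈ seg t i n := by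
  have := hV.pos
  set V := seg t s (n + 1)
  set H := seg t i n
  have hHV : H ≤ V := by rcases hi with rfl | rfl <;> exact seg_mono t (by omega) (by omega)
  by_contra hcon
  set K := normalizer (H : Set G) ⊓ V
  have hHK : H ≤ K := le_inf le_normalizer hHV
  have hKV : K = V := by
    refine eq_of_le_of_card_ge inf_le_right ?_
    obtain ⟨a, ha⟩ := card_dvd_of_le hHK
    obtain ⟨b, hb⟩ := card_dvd_of_le (inf_le_right : K ≤ V)
    rw [hV.top, ha, mul_assoc, hV.card i n le_rfl, mul_comm 3] at hb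
    have hab : 3 = a * b := Nat.eq_of_mul_eq_mul_left (Nat.two_pow_pos n) hb
    have ha3 : a ∣ 3 := ⟨b, hab⟩
    rcases (Nat.dvd_prime Nat.prime_three).1 ha3 with rfl | rfl
    · exact absurd ((eq_of_le_of_card_ge hHK (by rw [ha, mul_one])) ▸ (⟨hzn, hz⟩ : z ∈ K)) hcon
    · have hb1 : b = 1 := by omega
      rw [hV.top, ha, hV.card i n le_rfl, mul_comm]
  have hn : V ≤ normalizer (H : Set G) := fun g hg => (hKV.symm ▸ hg : g ∈ K).1
  have hall : ∀ X : Subgroup G, X ≤ V → Nat.card X = 2 ^ n → X ≤ H := by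
    intro X hXV hX
    have : Fact (Nat.Prime 2) := ⟨Nat.prime_two⟩
    have hp : IsPGroup 2 ↥(X ⊔ H) :=
      (IsPGroup.of_card (p := 2) (n := n) (by rw [hX])).to_sup_of_normal_right'
        (IsPGroup.of_card (p := 2) (n := n) (by rw [hV.card i n le_rfl])) (hXV.trans hn)
    obtain ⟨k, hk⟩ := hp.exists_card_eq
    have hd := card_dvd_of_le (sup_le hXV hHV)
    rw [hk, hV.top] at hd
    have hle : 2 ^ k ∣ 2 ^ n := (Nat.Coprime.pow_left k (by norm_num)).dvd_of_dvd_mul_left hd
    exact le_sup_left.trans (eq_of_le_of_card_ge (le_sup_right : H ≤ X ⊔ H)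
      (by rw [hk, hV.card i n le_rfl]; exact Nat.le_of_dvd (Nat.two_pow_pos n) hle)).ge
  have h1 : seg t s n ≤ H := hall _ (seg_mono t le_rfl (by omega)) (hV.card _ _ le_rfl)
  have h2 : seg t (s + 1) n ≤ H := hall _ (seg_mono t (by omega) (by omega)) (hV.card _ _ le_rfl)
  have : V ≤ H := by
    show seg t s (n + 1) ≤ H
    rw [seg_split']
    exact sup_le (zpowers_le.2 (h1 (mem_seg t le_rfl (by omega)))) h2
  have := card_le_of_le this
  rw [hV.top, hV.card i n le_rfl] at this
  have := Nat.two_pow_pos n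
  omega

/-- An element of the vertex group commuting with both end involutions lies in the core. -/
theorem Vertex.mem_core (hV : Vertex n t) (s : ℤ) {z : G} (hz : z ∈ seg t s (n + 1))
    (h0 : Commute z (t s)) (hn : Commute z (t (s + n))) : z ∈ seg t (s + 1) (n - 1) := by
  have hpos := hV.pos
  have hz' := hV.core_normalized s hz
  rw [← hV.inter s]
  refine ⟨hV.self_normalizing s s (Or.inl rfl) hz (mem_normalizer_seg fun j h1 h2 => ?_),
    hV.self_normalizing s (s + 1) (Or.inr rfl) hz (mem_normalizer_seg fun j h1 h2 => ?_)⟩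
  · rcases eq_or_ne j s with rfl | hj
    · rw [conj_eq_of_commute h0]; exact mem_seg t le_rfl (by omega)
    · exact seg_mono t (by omega) (by omega)
        ((mem_normalizer_iff.1 hz' (t j)).1 (mem_seg t (by omega) (by omega)))
  · rcases eq_or_ne j (s + n) with rfl | hj
    · rw [conj_eq_of_commute hn]; exact mem_seg t (by omega) (by omega)
    · exact seg_mono t le_rfl (by omega)
        ((mem_normalizer_iff.1 hz' (t j)).1 (mem_seg t (by omega) (by omega)))

/-- A subgroup normal in the vertex group containing one Sylow `2`-window contains the other. -/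
theorem Vertex.kernel_transfer (hV : Vertex n t) (K : Subgroup G)
    (hK : seg t 0 (n + 1) ≤ normalizer (K : Set G)) {i j : ℤ} (hi : i = 0 ∨ i = 1)
    (hj : j = 0 ∨ j = 1) (hle : seg t i n ≤ K) : seg t j n ≤ K := by
  have : Fact (Nat.Prime 2) := ⟨Nat.prime_two⟩
  set V := seg t 0 (n + 1) with hVd
  have hsub : ∀ k : ℤ, k = 0 ∨ k = 1 → seg t k n ≤ V := fun k hk => by
    rcases hk with rfl | rfl <;> exact seg_mono t (by omega) (by omega)
  have hmult : (Nat.card V).factorization 2 = n := by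
    rw [hVd, hV.top, Nat.factorization_mul (by norm_num) (by positivity)]
    simp [Nat.prime_three.factorization, Nat.prime_two.factorization_self]
  have hc : ∀ k : ℤ, k = 0 ∨ k = 1 →
      Nat.card ((seg t k n).subgroupOf V) = 2 ^ (Nat.card V).factorization 2 := fun k hk => by
    rw [Nat.card_congr (subgroupOfEquivOfLe (hsub k hk)).toEquiv, hV.card k n le_rfl, hmult]
  let P : Sylow 2 V := Sylow.ofCard ((seg t i n).subgroupOf V) (hc i hi)
  let Q : Sylow 2 V := Sylow.ofCard ((seg t j n).subgroupOf V) (hc j hj)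
  obtain ⟨g, hg⟩ := MulAction.exists_smul_eq V P Q
  intro x hx
  have hxQ : (⟨x, hsub j hj hx⟩ : V) ∈ ((g • P : Sylow 2 V) : Subgroup V) := by
    rw [hg]; exact hx
  rw [Sylow.coe_subgroup_smul] at hxQ
  obtain ⟨y, hy, hxy⟩ := hxQ
  have := (mem_normalizer_iff.1 (hK g.2) (y : G)).1 (hle hy)
  have hval : (g : G) * y * (g : G)⁻¹ = x := congrArg Subtype.val hxy
  rwa [hval] at this

/-- The first non-commuting distance. -/
theorem Vertex.exists_lam (hV : Vertex n t) :
    ∃ lam : ℕ, 1 ≤ lam ∧ lam ≤ n ∧ (∀ k : ℕ, k < lam → Commute (t 0) (t k)) ∧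
      (lam < n → ¬ Commute (t 0) (t lam)) ∧ 2 * lam ≤ n + 2 ∧ (lam < n → 2 * n ≤ 3 * lam) := by
  classical
  have hex : ∃ k : ℕ, n ≤ k ∨ ¬ Commute (t 0) (t k) := ⟨n, Or.inl le_rfl⟩
  set lam := Nat.find hex with hl
  have hlt : ∀ k : ℕ, k < lam → Commute (t 0) (t k) := fun k hk => by
    have := Nat.find_min hex hk
    push Not at this
    exact this.2
  have hle : lam ≤ n := Nat.find_le (Or.inl le_rfl)
  have hne : lam < n → ¬ Commute (t 0) (t lam) := fun h =>
    (Nat.find_spec hex).resolve_left (by omega)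
  have h1 : 1 ≤ lam := by
    by_contra h
    have h0 : lam = 0 := by omega
    exact hne (by have := hV.pos; omega) (by rw [h0]; exact Commute.refl _)
  refine ⟨lam, h1, hle, hlt, hne, ?_, fun h => hV.toSeq.two_mul_le h1 h hlt (hne h)⟩
  by_contra hcon
  set z := t ((lam - 1 : ℕ) : ℤ) with hz
  have hcent : ∀ s : ℤ, s = 0 ∨ s = 1 →
      seg t s (n + 1) ≤ normalizer ((zpowers z : Subgroup G) : Set G) := by
    intro s hs
    refine le_trans ?_ (centralizer_le_normalizer _)
    intro x hx
    refine mem_centralizer_iff.2 fun y hy => ?_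
    obtain ⟨k, rfl⟩ := hy
    have hc : Commute x z :=
      seg_le_centralizer (fun j h1 h2 => hV.toSeq.comm_of hlt (by omega) (by omega)) hx
    exact (hc.zpow_right k).symm.eq
  have := eq_bot_of_both (hV.loc 0) (hV.loc (0 + 1)) (hV.top_ne 0) (X := zpowers z)
    (zpowers_le.2 (mem_seg t (by omega) (by omega))) (hcent 0 (Or.inl rfl))
    (zpowers_le.2 (mem_seg t (by omega) (by omega))) (hcent (0 + 1) (Or.inr (zero_add 1)))
  rw [zpowers_eq_bot] at this
  exact hV.toSeq.ne_one hV.pos _ this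

theorem seg_cases_right (hS : Seq n t) {lam : ℕ} (hlam : ∀ k : ℕ, k < lam → Commute (t 0) (t k))
    (s : ℤ) {l : ℕ} (hl : l + 1 ≤ lam) {x : G} (hx : x ∈ seg t s (l + 1)) :
    ∃ y ∈ seg t s l, x = y ∨ x = y * t (s + l) := by
  rw [seg_split] at hx
  have hn : zpowers (t (s + l)) ≤ normalizer (seg t s l : Set G) := by
    refine le_trans ?_ (centralizer_le_normalizer _)
    refine zpowers_le.2 (mem_centralizer_iff.2 fun y hy => ?_)
    exact (seg_le_centralizer (fun k h1 h2 => hS.comm_of hlam (by omega) (by omega)) hy).eq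
  rw [← SetLike.mem_coe, coe_mul_of_right_le_normalizer_left _ _ hn] at hx
  obtain ⟨y, hy, a, ha, rfl⟩ := hx
  rcases zpowers_sq (hS.sq _) ha with rfl | rfl
  · exact ⟨y, hy, Or.inl (mul_one y)⟩
  · exact ⟨y, hy, Or.inr rfl⟩

theorem seg_exp_two (hS : Seq n t) {lam : ℕ} (hlam : ∀ k : ℕ, k < lam → Commute (t 0) (t k)) :
    ∀ (l : ℕ) (s : ℤ), l ≤ lam → ∀ x ∈ seg t s l, x * x = 1 := by
  intro l
  induction l with
  | zero => intro s _ x hx; rw [seg_zero] at hx; rw [mem_bot.1 hx, one_mul]
  | succ l ih =>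
    intro s hl x hx
    obtain ⟨y, hy, hc⟩ := hS.seg_cases hlam s (by omega) hx
    rcases hc with rfl | rfl
    · exact ih _ (by omega) x hy
    · have hc : Commute y (t s) :=
        seg_le_centralizer (fun k h1 h2 => hS.comm_of hlam (by omega) (by omega)) hy
      calc t s * y * (t s * y) = t s * (y * t s) * y := by simp only [mul_assoc]
        _ = (t s * t s) * (y * y) := by rw [hc.eq]; simp only [mul_assoc]
        _ = 1 := by rw [hS.sq, one_mul, ih _ (by omega) y hy]

theorem Vertex.not_six (hV : Vertex 6 t) {lam : ℕ}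
    (hlam : ∀ k : ℕ, k < lam → Commute (t 0) (t k)) (hl : lam = 4)
    (hne : ¬ Commute (t 0) (t lam)) : False := by
  subst hl
  have hS := hV.toSeq
  have hc : ∀ {i j : ℤ}, i - j < 4 → j - i < 4 → Commute (t i) (t j) := fun h1 h2 =>
    hS.comm_of hlam h1 h2
  have hinv := hS.inv_eq
  have hne' : t 0 * t 4 * t 0 * t 4 ≠ 1 := fun h => hne (by
    have h' : t 0 * t 4 * t 0 = t 4 := (eq_inv_of_mul_eq_one_left h).trans (hinv 4)
    calc t 0 * t ((4 : ℕ) : ℤ) = t 0 * t 4 * (t 0 * t 0) := by rw [hS.sq, mul_one]; rfl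
      _ = t ((4 : ℕ) : ℤ) * t 0 := by rw [← mul_assoc, h']; rfl)
  -- `[t 0, t 4] = t 2`
  have hw : t 0 * t 4 * t 0 * t 4 = t 2 := by
    obtain ⟨h1, h2⟩ := hS.commutator_range (by norm_num) (by norm_num) hlam hne
    norm_num at h1 h2
    obtain ⟨y, hy, hcase⟩ := hS.seg_cases hlam 1 (l := 1) (by norm_num) h2
    norm_num at hy
    rcases hcase with h | h
    · rw [seg_split', seg_zero, sup_bot_eq] at hy
      exact h.trans ((zpowers_sq (hS.sq 2) hy).resolve_left fun e => hne' (h.trans e))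
    · exfalso
      have h3 := mul_mem h1 (inv_mem (seg_mono t (l := 1) (l' := 2) le_rfl (by norm_num) hy))
      rw [h, mul_assoc, mul_inv_cancel, mul_one] at h3
      exact hS.not_mem_left 1 (l := 2) (by norm_num) h3
  have h04 : t 0 * t 4 * (t 0)⁻¹ = t 2 * t 4 := by
    rw [← hw, hinv]; simp [mul_assoc, hS.sq]
  have hw' : ∀ d : ℤ, t d * t (4 + d) * t d * t (4 + d) = t (2 + d) := by
    intro d
    obtain ⟨h, -, hk⟩ := hV.shift_mem (mem_seg t (s := 2) (l := 1) le_rfl (by norm_num)) d
    have := congrArg (fun x => h * x * h⁻¹) hw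
    simp only [hk] at this
    rw [← this]
    rw [← zero_add d, ← hk 0, zero_add, ← hk 4]
    simp [mul_assoc]
  have h62 : t 6 * t 2 * (t 6)⁻¹ = t 2 * t 4 := by
    have := hw' 2
    norm_num at this
    rw [← this, hinv]
    simp only [mul_assoc, ← mul_assoc (t 2) (t 2), hS.sq, one_mul]
  have h51 : t 5 * t 1 * (t 5)⁻¹ = t 1 * t 3 := by
    have := hw' 1
    norm_num at this
    rw [← this, hinv]
    simp only [mul_assoc, ← mul_assoc (t 1) (t 1), hS.sq, one_mul]
  have hm13 : t (-1) * t 3 * (t (-1))⁻¹ = t 1 * t 3 := by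
    have := hw' (-1)
    norm_num at this
    rw [← this, hinv]
    simp [mul_assoc, hS.sq]
  -- `[t 0, t 5]`
  set w5 := t 0 * t 5 * t 0 * t 5 with hw5
  have hw5m : w5 ∈ seg t 1 4 := by
    have := hS.commutator_mem 0 (l := 5) (by norm_num) (by norm_num)
    simpa using this
  have hw5c : Commute w5 (t 0) := by
    have h := eq_inv_of_mul_eq_one_left (seg_exp_two hS hlam 4 1 le_rfl w5 hw5m)
    show w5 * t 0 = t 0 * w5
    conv_lhs => rw [h, hw5]
    simp [mul_assoc, hinv, hS.sq, hw5, ← mul_assoc (t 0) (t 0)]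
  have hw5' : w5 ∈ seg t 1 3 := by
    obtain ⟨y, hy, hcase⟩ := seg_cases_right hS hlam 1 (l := 3) (by norm_num) hw5m
    rcases hcase with h | h
    · rwa [h]
    · exfalso
      have hy0 : Commute y (t 0) :=
        seg_le_centralizer (fun k h1 h2 => hc (by omega) (by omega)) hy
      have h4 : Commute (y⁻¹ * w5) (t 0) := hy0.inv_left.mul_left hw5c
      rw [h, inv_mul_cancel_left] at h4
      norm_num at h4
      exact hne h4.symm
  set A1 := seg t 1 5 with hA1
  set Z := seg t 2 3 with hZ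
  set V := seg t 0 7 with hV0
  have hA1n : V ≤ normalizer (A1 : Set G) := hV.core_normalized 0
  have hZn : V ≤ normalizer (Z : Set G) := seg_le fun k hk1 hk2 =>
    mem_normalizer_seg fun j hj1 hj2 => by
      rcases eq_or_ne k 0 with rfl | hk0
      · rcases eq_or_ne j 4 with rfl | hj4
        · rw [h04]; exact mul_mem (mem_seg t le_rfl (by norm_num)) (mem_seg t (by norm_num) (by norm_num))
        · rw [conj_eq_of_commute (hc (by omega) (by omega))]; exact mem_seg t hj1 hj2
      · rcases eq_or_ne k 6 with rfl | hk6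
        · rcases eq_or_ne j 2 with rfl | hj2'
          · rw [h62]; exact mul_mem (mem_seg t le_rfl (by norm_num)) (mem_seg t (by norm_num) (by norm_num))
          · rw [conj_eq_of_commute (hc (by omega) (by omega))]; exact mem_seg t hj1 hj2
        · rw [conj_eq_of_commute (hc (by omega) (by omega))]; exact mem_seg t hj1 hj2
  set K := kern A1 Z V hA1n hZn with hK
  have hA1V : A1 ≤ V := seg_mono t (by norm_num) (by norm_num)
  have hKn : V ≤ normalizer (K : Set G) := by
    have key : ∀ v ∈ V, ∀ g ∈ K, v * g * v⁻¹ ∈ K := by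
      rintro v hv g ⟨hg, hgA⟩
      refine ⟨V.mul_mem (V.mul_mem hv hg) (V.inv_mem hv), fun a ha => ?_⟩
      have h1 := hgA _ ((mem_normalizer_iff.1 (hA1n (V.inv_mem hv)) a).1 ha)
      have h2 := (mem_normalizer_iff.1 (hZn hv) _).1 h1
      simpa [mul_assoc] using h2
    intro v hv
    refine mem_normalizer_iff.2 fun g => ⟨key v hv g, fun hg => ?_⟩
    have := key v⁻¹ (V.inv_mem hv) _ hg
    simpa [mul_assoc] using this
  have h15 : t 1 * t 5 * t 1 * t 5 ∈ Z := by
    have := hw' 1; norm_num at this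
    rw [this]; exact mem_seg t (by norm_num) (by norm_num)
  have hKmem : ∀ k, 0 ≤ k → k < 7 →
      (∀ j, 1 ≤ j → j < 6 → t k * t j * (t k)⁻¹ * (t j)⁻¹ ∈ Z) → t k ∈ K := fun k hk1 hk2 h =>
    ⟨mem_seg t hk1 (by norm_num; omega), fun a ha =>
      comm_closure (hA1V.trans hZn) subset_closure (by rintro _ ⟨j, hj, rfl⟩; exact h j hj.1 hj.2) ha⟩
  have hH' : seg t 1 6 ≤ K := seg_le fun k hk1 hk2 => by
    refine hKmem k (by omega) (by omega) fun j hj1 hj2 => ?_
    by_cases hkj : k - j < 4 ∧ j - k < 4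
    · rw [conj_eq_of_commute (hc hkj.1 hkj.2), mul_inv_cancel]; exact one_mem _
    · have hcases : (k = 1 ∧ j = 5) ∨ (k = 5 ∧ j = 1) ∨ (k = 6 ∧ j = 1) ∨ (k = 6 ∧ j = 2) := by omega
      rcases hcases with ⟨rfl, rfl⟩ | ⟨rfl, rfl⟩ | ⟨rfl, rfl⟩ | ⟨rfl, rfl⟩
      · rw [hinv, hinv]; exact h15
      · have := inv_mem h15
        simpa [mul_assoc, hinv] using this
      · have := inv_mem (hV.shift_comm hw5' 1)
        norm_num at this
        simpa [mul_assoc, hinv] using this
      · rw [h62]
        have : Commute (t 2) (t 4) := hc (by norm_num) (by norm_num)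
        rw [this.eq, mul_inv_cancel_right]
        exact mem_seg t (by norm_num) (by norm_num)
  have hH : seg t 0 6 ≤ K := hV.kernel_transfer K hKn (Or.inr rfl) (Or.inl rfl) hH'
  have hw5Z : w5 ∈ Z := by
    have := (hH (mem_seg t le_rfl (by norm_num))).2 (t 5) (mem_seg t (by norm_num) (by norm_num))
    rwa [hinv, hinv] at this
  set X := seg t 1 4 with hX
  have hX1 : V ≤ normalizer (X : Set G) := seg_le fun k hk1 hk2 =>
    mem_normalizer_seg fun j hj1 hj2 => by
      by_cases hkj : k - j < 4 ∧ j - k < 4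
      · rw [conj_eq_of_commute (hc hkj.1 hkj.2)]; exact mem_seg t hj1 hj2
      · have hcases : (k = 0 ∧ j = 4) ∨ (k = 5 ∧ j = 1) ∨ (k = 6 ∧ j = 1) ∨ (k = 6 ∧ j = 2) := by omega
        rcases hcases with ⟨rfl, rfl⟩ | ⟨rfl, rfl⟩ | ⟨rfl, rfl⟩ | ⟨rfl, rfl⟩
        · rw [h04]; exact mul_mem (mem_seg t (by norm_num) (by norm_num)) (mem_seg t (by norm_num) (by norm_num))
        · rw [h51]; exact mul_mem (mem_seg t (by norm_num) (by norm_num)) (mem_seg t (by norm_num) (by norm_num))
        · have := inv_mem (hV.shift_comm hw5' 1)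
          norm_num at this
          have h2 := mul_mem (seg_mono t (s' := 1) (l' := 4) (by norm_num) (by norm_num) this)
            (mem_seg t (s := 1) (l := 4) (k := 1) le_rfl (by norm_num))
          simpa [mul_assoc, hinv, hS.sq] using h2
        · rw [h62]; exact mul_mem (mem_seg t (by norm_num) (by norm_num)) (mem_seg t (by norm_num) (by norm_num))
  have hX2 : seg t (-1) 7 ≤ normalizer (X : Set G) := seg_le fun k hk1 hk2 =>
    mem_normalizer_seg fun j hj1 hj2 => by
      rcases eq_or_ne k (-1) with rfl | hk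
      · by_cases hj : j ≤ 2
        · rw [conj_eq_of_commute (hc (by omega) (by omega))]; exact mem_seg t hj1 hj2
        · have hcases : j = 3 ∨ j = 4 := by omega
          rcases hcases with rfl | rfl
          · rw [hm13]; exact mul_mem (mem_seg t (by norm_num) (by norm_num)) (mem_seg t (by norm_num) (by norm_num))
          · have := hV.shift_comm hw5Z (-1)
            norm_num at this
            have h2 := mul_mem (seg_mono t (s' := 1) (l' := 4) le_rfl (by norm_num) this)
              (mem_seg t (s := 1) (l := 4) (k := 4) (by norm_num) (by norm_num))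
            simpa [mul_assoc, hinv, hS.sq] using h2
      · exact (mem_normalizer_iff.1 (hX1 (mem_seg t (by omega) (by omega))) (t j)).1 (mem_seg t hj1 hj2)
  have hne'' : seg t (-1) 7 ≠ V := by
    have := hV.top_ne (-1)
    norm_num at this
    exact this
  have := eq_bot_of_both (hV.loc (-1)) (hV.loc 0) hne'' (X := X)
    (seg_mono t (by norm_num) (by norm_num)) hX2 (seg_mono t (by norm_num) (by norm_num)) hX1
  exact hS.ne_one hV.pos 1 (mem_bot.1 (this ▸ mem_seg t le_rfl (by norm_num)))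

theorem Vertex.n_le_four (hV : Vertex n t) : n ≤ 4 := by
  obtain ⟨lam, h1, hle, hlam, hne, hup, hlo⟩ := hV.exists_lam
  by_contra h
  have hlt : lam < n := by omega
  have := hlo hlt
  have h6 : n = 6 := by omega
  subst h6
  exact hV.not_six hlam (by omega) (hne hlt)

end Cfsg.Lib.Perm.Window
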