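import Mathlib
import Cfsg.Agent.Lib.Perm.WindowVertex

/-!
# The four possible vertex groups: `S₃`, `D₁₂`, `S₄`, `S₄ × 2`
-/

namespace Cfsg.Lib.Perm.Window

open Subgroup Cfsg.Lib.Perm.TW
open scoped Pointwise

variable {G : Type*} [Group G] {n : ℕ} {t : ℤ → G}

theorem seg_translate (t : ℤ → G) (d s : ℤ) (l : ℕ) :
    seg (fun k => t (k + d)) s l = seg t (s + d) l := by
  refine le_antisymm (seg_le fun k h1 h2 => mem_seg t (by omega) (by omega))
    (seg_le fun k h1 h2 => ?_)
  have h : t (k - d + d) ∈ seg (fun k => t (k + d)) s l :=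
    mem_seg (fun k => t (k + d)) (k := k - d) (by omega) (by omega)
  rwa [sub_add_cancel] at h

theorem Vertex.translate [Finite G] (hV : Vertex n t) (d : ℤ) : Vertex n fun k => t (k + d) := by
  refine ⟨⟨fun s l hl => ?_, fun k => hV.sq _, fun i j s h => ?_⟩, hV.pos, fun s => ?_, fun s => ?_,
    fun s => ?_, ?_⟩
  · rw [seg_translate]; exact hV.card _ _ hl
  · have := hV.shift _ _ s h
    rwa [add_right_comm i d s, add_right_comm j d s] at this
  · rw [seg_translate]; exact hV.top _
  · rw [seg_translate]; exact hV.loc _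
  · rw [seg_translate, seg_translate, add_right_comm s 1 d]; exact hV.top_ne _
  · obtain ⟨h, hh⟩ := hV.conj
    refine ⟨h, fun k s => ?_⟩
    show t (k + s + d) = _
    rw [add_right_comm k s d]; exact hh _ _

theorem seg_one (t : ℤ → G) (s : ℤ) : seg t s 1 = zpowers (t s) := by
  rw [seg_split', seg_zero, sup_bot_eq]

theorem commute_of_comm_eq_one {x y : G} (hx : x * x = 1) (hy : y * y = 1)
    (h : x * y * x * y = 1) : Commute x y := by
  have h' : x * y * x = y := (eq_inv_of_mul_eq_one_left h).trans (inv_eq_of_mul_eq_one_left hy)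
  calc x * y = x * y * x * x := by rw [mul_assoc _ x, hx, mul_one]
    _ = y * x := by rw [h']

/-- A dihedral group from two involutions inside a given subgroup. -/
theorem equiv_dihedral_of {x u : G} {V : Subgroup G} {m : ℕ} (hm : 3 ≤ m) (hx : x * x = 1)
    (hu : u * u = 1) (hord : orderOf (x * u) = m) (hxV : x ∈ V) (huV : u ∈ V)
    (hcard : Nat.card V = 2 * m) : Nonempty (V ≃* DihedralGroup m) := by
  have hinv : x * (x * u) * x⁻¹ = (x * u)⁻¹ := by
    rw [mul_inv_rev, inv_eq_of_mul_eq_one_left hu, inv_eq_of_mul_eq_one_left hx, ← mul_assoc, hx,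
      one_mul]
  have hnot : x ∉ zpowers (x * u) := by
    rintro ⟨k, hk⟩
    replace hk : (x * u) ^ k = x := hk
    have hc : Commute x (x * u) := by
      conv => arg 1; rw [← hk]
      exact (Commute.refl _).zpow_left k
    rw [conj_eq_of_commute hc] at hinv
    have h2 : (x * u) ^ 2 = 1 := by rw [pow_two]; conv_lhs => arg 2; rw [hinv]
                                    rw [mul_inv_cancel]
    have := Nat.le_of_dvd (by norm_num) (orderOf_dvd_of_pow_eq_one h2)
    omega
  obtain ⟨e⟩ := Cfsg.Lib.TwoGroup.equiv_dihedral hx hinv hnot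
  rw [hord] at e
  have hle : closure ({x * u, x} : Set G) ≤ V := by
    rw [closure_le]
    rintro y (rfl | rfl)
    · exact V.mul_mem hxV huV
    · exact hxV
  have heq : closure ({x * u, x} : Set G) = V := by
    have hm0 : NeZero m := ⟨by omega⟩
    have : Finite V := Nat.finite_of_card_ne_zero (by omega)
    refine eq_of_le_of_card_ge hle ?_
    rw [hcard, Nat.card_congr e.toEquiv, DihedralGroup.nat_card]
  exact ⟨(MulEquiv.subgroupCongr heq.symm).trans e⟩

theorem dihedral_three_equiv : Nonempty (DihedralGroup 3 ≃* Equiv.Perm (Fin 3)) := by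
  have h1 : (finRotate 3) ^ orderOf (finRotate 3) = 1 := pow_orderOf_eq_one _
  have ho : orderOf (finRotate 3) = 3 := by
    refine orderOf_eq_prime (by decide +kernel) (by decide +kernel)
  have ht : Equiv.swap (1 : Fin 3) 2 * Equiv.swap 1 2 = 1 := by decide +kernel
  have hi : Equiv.swap (1 : Fin 3) 2 * finRotate 3 * (Equiv.swap 1 2)⁻¹ = (finRotate 3)⁻¹ := by
    decide +kernel
  have hnot : Equiv.swap (1 : Fin 3) 2 ∉ zpowers (finRotate 3) := by
    intro h
    have h2 : orderOf (Equiv.swap (1 : Fin 3) 2) = 2 :=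
      orderOf_eq_prime (by decide +kernel) (by decide +kernel)
    have := orderOf_dvd_of_mem_zpowers h
    rw [ho, h2] at this
    omega
  obtain ⟨e⟩ := Cfsg.Lib.TwoGroup.equiv_dihedral ht hi hnot
  rw [ho] at e
  have htop : closure ({finRotate 3, Equiv.swap (1 : Fin 3) 2} : Set (Equiv.Perm (Fin 3))) = ⊤ := by
    refine eq_top_of_card_eq _ ?_
    rw [Nat.card_congr e.toEquiv, DihedralGroup.nat_card, Nat.card_perm, Nat.card_fin]
    rfl
  exact ⟨e.symm.trans ((MulEquiv.subgroupCongr htop).trans topEquiv)⟩

variable [Finite G]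

theorem Vertex.sq_of_mem (hV : Vertex n t) {lam : ℕ}
    (hlam : ∀ k : ℕ, k < lam → Commute (t 0) (t k)) {s : ℤ} {l : ℕ} (hl : l ≤ lam) {x : G}
    (hx : x ∈ seg t s l) : x * x = 1 := seg_exp_two hV.toSeq hlam l s hl x hx

theorem Vertex.no_normal_three (hV : Vertex n t) (P : Subgroup G) (hP : Nat.card P = 3)
    (hPV : P ≤ seg t 0 (n + 1)) (hn : seg t 0 (n + 1) ≤ normalizer (P : Set G))
    (hc : ∀ j, 0 ≤ j → j < (n : ℤ) → Commute (t j) (t 1)) (hn1 : 2 ≤ n)
    (hne : ¬ Commute (t n) (t 1)) : False := by
  set H := seg t 0 n with hH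
  set V := seg t 0 (n + 1) with hV0
  have hA1n : V ≤ normalizer (seg t 1 (n - 1) : Set G) := hV.core_normalized 0
  have hHV : H ≤ V := seg_mono t le_rfl (by omega)
  have hA1V : seg t 1 (n - 1) ≤ V := seg_mono t (by omega) (by omega)
  have : Fact (Nat.Prime 2) := ⟨Nat.prime_two⟩
  have : Fact (Nat.Prime 3) := ⟨Nat.prime_three⟩
  have hPc : P ≤ centralizer (seg t 1 (n - 1) : Set G) :=
    commute_of_ne (p := 3) (r := 2) Nat.prime_three Nat.prime_two (by norm_num)
      (IsPGroup.of_card (n := 1) (by rw [hP]; rfl))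
      (IsPGroup.of_card (n := n - 1) (hV.card 1 (n - 1) (by omega))) (hPV.trans hA1n)
      (hA1V.trans hn)
  have hsup : H ⊔ P = V := by
    refine eq_of_le_of_card_ge (sup_le hHV hPV) ?_
    have h1 : Nat.card H ∣ Nat.card ↥(H ⊔ P) := card_dvd_of_le le_sup_left
    have h2 : Nat.card P ∣ Nat.card ↥(H ⊔ P) := card_dvd_of_le le_sup_right
    rw [hV.card 0 n le_rfl] at h1
    rw [hP] at h2
    rw [hV.top, mul_comm]
    exact Nat.le_of_dvd Nat.card_pos
      ((Nat.Coprime.pow_left n (by norm_num)).mul_dvd_of_dvd_of_dvd h1 h2)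
  have htn : t n ∈ ((H : Set G) * (P : Set G)) := by
    rw [← coe_mul_of_left_le_normalizer_right H P (hHV.trans hn), hsup]
    exact mem_seg t (by omega) (by omega)
  obtain ⟨a, ha, p, hp, hap⟩ := htn
  refine hne ?_
  have h1 : Commute p (t 1) :=
    (mem_centralizer_iff.1 (hPc hp) _ (mem_seg t le_rfl (by omega))).symm
  have h2 : Commute a (t 1) := seg_le_centralizer (fun k h1 h2 => hc k h1 (by omega)) ha
  rw [← hap]
  exact h2.mul_left h1

/-- **The vertex groups.** -/
theorem Vertex.types (hV : Vertex n t) :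
    Nonempty (seg t 0 (n + 1) ≃* Equiv.Perm (Fin 3)) ∨
      Nonempty (seg t 0 (n + 1) ≃* DihedralGroup 6) ∨
      Nonempty (seg t 0 (n + 1) ≃* Equiv.Perm (Fin 4)) ∨
      Nonempty (seg t 0 (n + 1) ≃* Equiv.Perm (Fin 4) × Multiplicative (ZMod 2)) := by
  obtain ⟨lam, h1, hle, hlam, hne, hup, hlo⟩ := hV.exists_lam
  have hS := hV.toSeq
  have hc : ∀ {i j : ℤ}, i - j < lam → j - i < lam → Commute (t i) (t j) := fun h1 h2 =>
    hS.comm_of hlam h1 h2
  have hinv := hS.inv_eq
  have hpos := hV.pos
  have hmem : ∀ k : ℤ, 0 ≤ k → k ≤ n → t k ∈ seg t 0 (n + 1) := fun k a b => mem_seg t a (by omega)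
  have hncomm : ¬ Commute (t 0) (t n) := fun h => by
    have := hV.mem_core 0 (hmem 0 le_rfl (by omega)) (Commute.refl _) (by rwa [zero_add])
    exact hS.not_mem_left 0 (l := n - 1) (by omega) this
  obtain h4 := hV.n_le_four
  interval_cases n
  · -- `n = 1`
    set V := seg t 0 (1 + 1) with hVd
    left
    obtain ⟨e3⟩ := dihedral_three_equiv
    have hord : orderOf (t 0 * t 1) = 3 := by
      have hd : orderOf (t 0 * t 1) ∣ 6 := by
        have h := orderOf_dvd_natCard (⟨t 0 * t 1, V.mul_mem (hmem 0 le_rfl (by norm_num))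
          (hmem 1 (by norm_num) le_rfl)⟩ : V)
        rw [Subgroup.orderOf_mk, hVd, hV.top] at h
        simpa using h
      have hnot2 : ¬ orderOf (t 0 * t 1) ∣ 2 := fun h => by
        refine hncomm (commute_of_comm_eq_one (hS.sq _) (hS.sq _) ?_)
        have := orderOf_dvd_iff_pow_eq_one.1 h
        rw [pow_two] at this
        simpa [mul_assoc] using this
      have hle6 := Nat.le_of_dvd (by norm_num) hd
      have h1236 : orderOf (t 0 * t 1) = 1 ∨ orderOf (t 0 * t 1) = 2 ∨ orderOf (t 0 * t 1) = 3 ∨
          orderOf (t 0 * t 1) = 6 := by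
        have h := Nat.mem_divisors.2 ⟨hd, (by norm_num : (6 : ℕ) ≠ 0)⟩
        rw [show Nat.divisors 6 = {1, 2, 3, 6} by decide] at h
        simpa using h
      rcases h1236 with ho | ho | ho | ho
      · exact absurd (ho ▸ one_dvd 2) hnot2
      · exact absurd ho.dvd hnot2
      · exact ho
      exfalso
      have hcyc : IsCyclic V := isCyclic_of_orderOf_eq_card
        (⟨t 0 * t 1, V.mul_mem (hmem 0 le_rfl (by norm_num)) (hmem 1 (by norm_num) le_rfl)⟩ : V)
        (by rw [Subgroup.orderOf_mk, ho, hVd, hV.top]; norm_num)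
      obtain ⟨g, hg⟩ := hcyc.exists_generator
      obtain ⟨a, ha⟩ := hg ⟨t 0, hmem 0 le_rfl (by norm_num)⟩
      obtain ⟨b, hb⟩ := hg ⟨t 1, hmem 1 (by norm_num) le_rfl⟩
      refine hncomm ?_
      have hab : Commute (g ^ a) (g ^ b) := (Commute.refl g).zpow_zpow a b
      rw [show g ^ a = _ from ha, show g ^ b = _ from hb] at hab
      exact congrArg Subtype.val hab.eq
    obtain ⟨e⟩ := equiv_dihedral_of le_rfl (hS.sq 0) (hS.sq 1) hord (hmem 0 le_rfl (by norm_num))
      (hmem 1 (by norm_num) le_rfl) (by rw [hVd, hV.top]; norm_num)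
    exact ⟨e.trans e3⟩
  · -- `n = 2`
    set V := seg t 0 (2 + 1) with hVd
    right; left
    have hl2 : lam = 2 := by
      by_contra h
      have := hlo (by omega)
      omega
    subst hl2
    have h1c : ∀ x ∈ V, Commute x (t 1) := fun x hx =>
      seg_le_centralizer (fun k h1 h2 => hc (by omega) (by omega)) hx
    have key : ∀ u ∈ V, u * u = 1 → orderOf (t 0 * u) = 6 →
        Nonempty (V ≃* DihedralGroup 6) := fun u hu hu2 ho =>
      equiv_dihedral_of (by norm_num) (hS.sq 0) hu2 ho (hmem 0 le_rfl (by norm_num)) hu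
        (by rw [hVd, hV.top]; norm_num)
    set d := orderOf (t 0 * t 2) with hd'
    have hrV : t 0 * t 2 ∈ V := V.mul_mem (hmem 0 le_rfl (by norm_num)) (hmem 2 (by norm_num) le_rfl)
    have hd : d ∣ 12 := by
      have h := orderOf_dvd_natCard (⟨t 0 * t 2, hrV⟩ : V)
      rw [Subgroup.orderOf_mk, hVd, hV.top] at h
      simpa using h
    have hnot2 : ¬ d ∣ 2 := fun h => by
      refine hncomm (commute_of_comm_eq_one (hS.sq _) (hS.sq _) ?_)
      have := orderOf_dvd_iff_pow_eq_one.1 h
      rw [pow_two] at this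
      simpa [mul_assoc] using this
    have hd3 : d ≠ 4 ∧ d ≠ 12 := by
      -- an element of order four would generate the group modulo the central involution `t 1`
      have hinvr : t 0 * (t 0 * t 2) * (t 0)⁻¹ = (t 0 * t 2)⁻¹ := by
        rw [mul_inv_rev, hinv, hinv, ← mul_assoc, hS.sq, one_mul]
      have hnot : t 0 ∉ zpowers (t 0 * t 2) := by
        rintro ⟨k, hk⟩
        replace hk : (t 0 * t 2) ^ k = t 0 := hk
        have hcm : Commute (t 0) (t 0 * t 2) := by
          conv => arg 1; rw [← hk]
          exact (Commute.refl _).zpow_left k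
        rw [conj_eq_of_commute hcm] at hinvr
        refine hnot2 (orderOf_dvd_of_pow_eq_one ?_)
        rw [pow_two]; conv_lhs => arg 2; rw [hinvr]
        rw [mul_inv_cancel]
      obtain ⟨e⟩ := Cfsg.Lib.TwoGroup.equiv_dihedral (hS.sq 0) hinvr hnot
      have hle : closure ({t 0 * t 2, t 0} : Set G) ≤ V := by
        rw [closure_le]; rintro y (rfl | rfl)
        · exact hrV
        · exact hmem 0 le_rfl (by norm_num)
      have hdvd := card_dvd_of_le hle
      rw [Nat.card_congr e.toEquiv, DihedralGroup.nat_card, hVd, hV.top, ← hd'] at hdvd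
      refine ⟨fun h => ?_, fun h => ?_⟩ <;> rw [h] at hdvd <;> norm_num at hdvd
    have hd36 : d = 3 ∨ d = 6 := by
      have h := Nat.mem_divisors.2 ⟨hd, (by norm_num : (12 : ℕ) ≠ 0)⟩
      rw [show Nat.divisors 12 = {1, 2, 3, 4, 6, 12} by decide] at h
      simp only [Finset.mem_insert, Finset.mem_singleton] at h
      rcases h with h | h | h | h | h | h
      · exact absurd (h ▸ one_dvd 2) hnot2
      · exact absurd h.dvd hnot2
      · exact Or.inl h
      · exact absurd h hd3.1
      · exact Or.inr h
      · exact absurd h hd3.2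
    rcases hd36 with h3 | h6
    · refine key (t 2 * t 1) (V.mul_mem (hmem 2 (by norm_num) le_rfl) (hmem 1 (by norm_num) (by norm_num))) ?_ ?_
      · have h21 : Commute (t 2) (t 1) := hc (by norm_num) (by norm_num)
        calc t 2 * t 1 * (t 2 * t 1) = t 2 * (t 1 * t 2) * t 1 := by simp only [mul_assoc]
          _ = t 2 * t 2 * (t 1 * t 1) := by rw [← h21.eq]; simp only [mul_assoc]
          _ = 1 := by rw [hS.sq, hS.sq, one_mul]
      · rw [← mul_assoc]
        have h12 : orderOf (t 1) = 2 :=
          orderOf_eq_prime (by rw [pow_two]; exact hS.sq 1) (hS.ne_one hV.pos 1)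
        rw [(h1c _ hrV).orderOf_mul_eq_mul_orderOf_of_coprime (by rw [← hd', h3, h12]; norm_num),
          ← hd', h3, h12]
    · exact key (t 2) (hmem 2 (by norm_num) le_rfl) (hS.sq 2) h6
  · -- `n = 3`
    set V := seg t 0 (3 + 1) with hVd
    right; right; left
    have hl2 : lam = 2 := by
      by_contra h
      have := hlo (by omega)
      omega
    subst hl2
    have hne2 : ¬ Commute (t 0) (t 2) := hne (by norm_num)
    have hshift : ¬ Commute (t 3) (t 1) := fun h => hne2 (by
      have := hS.shift _ _ (-1) h.symm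
      simpa using this)
    refine Cfsg.Lib.Dickson.iso_perm_four (noNormalCyclic_of (by rw [hVd, hV.top]; norm_num) ?_ ?_)
      (by rw [hVd, hV.top]; norm_num)
    · intro z hzc hz2
      have hz : (z : G) ∈ seg t 1 2 := by
        have := hV.mem_core 0 z.2
          (congrArg Subtype.val (hzc ⟨t 0, hmem 0 le_rfl (by norm_num)⟩)).symm
          (by rw [zero_add]; exact (congrArg Subtype.val (hzc ⟨t 3, hmem 3 (by norm_num) le_rfl⟩)).symm)
        simpa using this
      have hz0 : Commute (z : G) (t 0) :=
        (congrArg Subtype.val (hzc ⟨t 0, hmem 0 le_rfl (by norm_num)⟩)).symm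
      have hz3 : Commute (z : G) (t 3) :=
        (congrArg Subtype.val (hzc ⟨t 3, hmem 3 (by norm_num) le_rfl⟩)).symm
      obtain ⟨y, hy, hcase⟩ := seg_cases_right hS hlam 1 (l := 1) (by norm_num) hz
      rw [seg_one] at hy
      norm_num at hcase
      have hy0 : Commute y (t 0) := by
        rcases zpowers_sq (hS.sq 1) hy with rfl | rfl
        · exact Commute.one_left _
        · exact hc (by norm_num) (by norm_num)
      rcases hcase with h | h
      · rcases zpowers_sq (hS.sq 1) hy with rfl | rfl
        · exact Subtype.ext h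
        · rw [h] at hz3; exact absurd hz3.symm hshift
      · rw [h] at hz0
        have := hy0.inv_left.mul_left hz0
        rw [inv_mul_cancel_left] at this
        exact absurd this.symm hne2
    · intro P hP hP3
      refine hV.no_normal_three (P.map V.subtype)
        (by rw [card_map_of_injective V.subtype_injective, hP3]) (map_subtype_le _)
        (le_normalizer_map_subtype hP) (fun j h1 h2 => hc (by omega) (by omega)) (by norm_num) ?_
      exact hshift
  · -- `n = 4`
    set V := seg t 0 (4 + 1) with hVd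
    right; right; right
    have hl3 : lam = 3 := by
      by_contra h
      have := hlo (by omega)
      omega
    subst hl3
    have hne3 : ¬ Commute (t 0) (t 3) := hne (by norm_num)
    have hne14 : ¬ Commute (t 4) (t 1) := fun h => hne3 (by
      have := hS.shift _ _ (-1) h.symm
      simpa using this)
    have ht2 : ∀ x ∈ V, Commute x (t 2) := fun x hx =>
      seg_le_centralizer (fun k h1 h2 => hc (by omega) (by omega)) hx
    have hA1n : V ≤ normalizer (seg t 1 3 : Set G) := hV.core_normalized 0
    have hA1V : seg t 1 3 ≤ V := seg_mono t (by norm_num) (by norm_num)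
    have hZn : V ≤ normalizer ((zpowers (t 2) : Subgroup G) : Set G) := by
      refine le_trans ?_ (centralizer_le_normalizer _)
      intro x hx
      refine mem_centralizer_iff.2 fun y hy => ?_
      obtain ⟨k, rfl⟩ := hy
      exact ((ht2 x hx).zpow_right k).symm.eq
    have hcore : ∀ z ∈ V, Commute z (t 0) → Commute z (t 4) → z = 1 ∨ z = t 2 := by
      intro z hz h0 h4
      have hz1 : z ∈ seg t 1 3 := by
        have := hV.mem_core 0 hz h0 (by rw [zero_add]; exact h4)
        simpa using this
      obtain ⟨y, hy, hcase⟩ := seg_cases_right hS hlam 1 (l := 2) (by norm_num) hz1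
      have hy0 : Commute y (t 0) := seg_le_centralizer (fun k a b => hc (by omega) (by omega)) hy
      have hzy : z = y := by
        refine hcase.resolve_right fun h => hne3 ?_
        have := hy0.inv_left.mul_left h0
        rw [h, inv_mul_cancel_left] at this
        norm_num at this
        exact this.symm
      subst hzy
      obtain ⟨w, hw, hcase'⟩ := hS.seg_cases hlam 1 (l := 1) (by norm_num) hy
      norm_num at hw
      have hw4 : Commute w (t 4) := seg_le_centralizer (fun k a b => hc (by omega) (by omega)) hw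
      have hzw : z = w := by
        refine hcase'.resolve_right fun h => hne14 ?_
        have := h4.mul_left hw4.inv_left
        rw [h, mul_inv_cancel_right] at this
        exact this.symm
      rw [seg_one] at hw
      rcases zpowers_sq (hS.sq 2) hw with h | h
      · exact Or.inl (hzw.trans h)
      · exact Or.inr (hzw.trans h)
    -- `[t 0, t 3] = t 1 t 2`
    set K := kern (seg t 1 3) (zpowers (t 2)) V hA1n hZn with hK
    have hKn : V ≤ normalizer (K : Set G) := by
      have key : ∀ v ∈ V, ∀ g ∈ K, v * g * v⁻¹ ∈ K := by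
        rintro v hv g ⟨hg, hgA⟩
        refine ⟨V.mul_mem (V.mul_mem hv hg) (V.inv_mem hv), fun a ha => ?_⟩
        have h1 := hgA _ ((mem_normalizer_iff.1 (hA1n (V.inv_mem hv)) a).1 ha)
        have h2 := (mem_normalizer_iff.1 (hZn hv) _).1 h1
        simpa [mul_assoc] using h2
      intro v hv
      refine mem_normalizer_iff.2 fun g => ⟨key v hv g, fun hg => ?_⟩
      have := key v⁻¹ (V.inv_mem hv) _ hg
      simpa [mul_assoc] using this
    have hKgen : ∀ k, 0 ≤ k → k ≤ 4 →
        (∀ j, 1 ≤ j → j < 4 → t k * t j * (t k)⁻¹ * (t j)⁻¹ ∈ zpowers (t 2)) → t k ∈ K :=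
      fun k a b h => ⟨hmem k a b, fun x hx => comm_closure (hA1V.trans hZn) subset_closure
        (by rintro _ ⟨j, hj, rfl⟩; exact h j hj.1 hj.2) hx⟩
    have hone : ∀ k j : ℤ, k - j < 3 → j - k < 3 →
        t k * t j * (t k)⁻¹ * (t j)⁻¹ ∈ zpowers (t 2) := fun k j a b => by
      rw [conj_eq_of_commute (hc a b), mul_inv_cancel]; exact one_mem _
    have hw12 : t 0 * t 3 * t 0 * t 3 ∈ seg t 1 2 := by
      have := hS.commutator_mem 0 (l := 3) (by norm_num) (by norm_num)
      simpa using this
    have hw : t 0 * t 3 * t 0 * t 3 = t 1 * t 2 := by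
      obtain ⟨y, hy, hcase⟩ := hS.seg_cases hlam 1 (l := 1) (by norm_num) hw12
      norm_num at hy
      rw [seg_one] at hy
      rcases hcase with h | h <;> rcases zpowers_sq (hS.sq 2) hy with hy' | hy' <;> subst hy'
      · exact absurd (commute_of_comm_eq_one (hS.sq _) (hS.sq _) h) hne3
      · -- the value `t 2`
        exfalso
        have hH : seg t 0 4 ≤ K := seg_le fun k a b => hKgen k a (by omega) fun j j1 j2 => by
          by_cases hkj : k - j < 3 ∧ j - k < 3
          · exact hone k j hkj.1 hkj.2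
          · obtain ⟨rfl, rfl⟩ : k = 0 ∧ j = 3 := by omega
            rw [hinv, hinv, h]; exact mem_zpowers _
        have := ((hV.kernel_transfer K hKn (Or.inl rfl) (Or.inr rfl) hH)
          (mem_seg t (k := 4) (by norm_num) (by norm_num))).2 (t 1) (mem_seg t le_rfl (by norm_num))
        rw [hinv, hinv] at this
        obtain ⟨g, hg, hgk⟩ := hV.shift_mem (mem_seg t (s := 2) (l := 1) le_rfl (by norm_num)) 1
        have h1 := congrArg (fun x => g * x * g⁻¹) h
        have h1' : t 1 * t 4 * t 1 * t 4 = t 3 := by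
          have e0 : g * t 0 * g⁻¹ = t 1 := by rw [hgk]; norm_num
          have e3 : g * t 3 * g⁻¹ = t 4 := by rw [hgk]; norm_num
          have e2 : g * t 2 * g⁻¹ = t 3 := by rw [hgk]; norm_num
          rw [← e0, ← e3]
          conv_rhs => rw [← e2]
          simpa [mul_assoc] using h1
        have h2 : t 4 * t 1 * t 4 * t 1 = t 3 := by
          have := congrArg (·⁻¹) h1'
          simpa [mul_assoc, hinv] using this
        rw [h2] at this
        have h23 := hS.not_mem_left 3 (l := 0) (by norm_num)
        rcases zpowers_sq (hS.sq 2) this with e | e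
        · exact hS.ne_one hpos 3 e
        · refine hS.not_mem_right 2 (l := 1) (by norm_num) ?_
          norm_num
          rw [e, seg_one]; exact mem_zpowers _
      · exfalso
        rw [mul_one] at h
        have h' := hV.shift_comm (s := 1) (l := 1) (a := 0) (b := 3) (by rw [h, seg_one]; exact mem_zpowers _) 1
        norm_num at h'
        rw [seg_one] at h'
        have hH : seg t 1 4 ≤ K := seg_le fun k a b => hKgen k (by omega) (by omega) fun j j1 j2 => by
          by_cases hkj : k - j < 3 ∧ j - k < 3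
          · exact hone k j hkj.1 hkj.2
          · obtain ⟨rfl, rfl⟩ : k = 4 ∧ j = 1 := by omega
            have := inv_mem h'
            simpa [mul_assoc, hinv] using this
        have := ((hV.kernel_transfer K hKn (Or.inr rfl) (Or.inl rfl) hH)
          (mem_seg t (k := 0) le_rfl (by norm_num))).2 (t 3) (mem_seg t (by norm_num) (by norm_num))
        rw [hinv, hinv, h] at this
        rcases zpowers_sq (hS.sq 2) this with e | e
        · exact hS.ne_one hpos 1 e
        · refine hS.not_mem_right 1 (l := 1) (by norm_num) ?_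
          norm_num
          rw [seg_one, ← e]; exact mem_zpowers _
      · exact h
    have h03 : t 0 * t 3 * (t 0)⁻¹ = t 1 * t 2 * t 3 := by
      rw [← hw, hinv]; simp [mul_assoc, hS.sq]
    have h14 : t 1 * t 4 * t 1 * t 4 = t 2 * t 3 := by
      obtain ⟨g, -, hgk⟩ := hV.shift_mem (mem_seg t (s := 2) (l := 1) le_rfl (by norm_num)) 1
      have h1 := congrArg (fun x => g * x * g⁻¹) hw
      have e0 : g * t 0 * g⁻¹ = t 1 := by rw [hgk]; norm_num
      have e3 : g * t 3 * g⁻¹ = t 4 := by rw [hgk]; norm_num
      have e1 : g * t 1 * g⁻¹ = t 2 := by rw [hgk]; norm_num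
      have e2 : g * t 2 * g⁻¹ = t 3 := by rw [hgk]; norm_num
      rw [← e0, ← e3]
      conv_rhs => rw [← e1, ← e2]
      simpa [mul_assoc] using h1
    have h41 : t 4 * t 1 * (t 4)⁻¹ = t 1 * t 2 * t 3 := by
      rw [mul_assoc (t 1) (t 2), ← h14, hinv]
      simp only [← mul_assoc, hS.sq, one_mul]
    -- the involution `u`
    set r := t 0 * t 4 with hr
    have hrV : r ∈ V := V.mul_mem (hmem 0 le_rfl (by norm_num)) (hmem 4 (by norm_num) le_rfl)
    have hr3 : r ^ 3 ∈ seg t 1 3 := by
      set A' := (seg t 1 3).subgroupOf V with hA'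
      have : A'.Normal := (normal_subgroupOf_iff_le_normalizer hA1V).2 hA1n
      set q := QuotientGroup.mk' A'
      set a : V ⧸ A' := q ⟨t 0, hmem 0 le_rfl (by norm_num)⟩
      set b : V ⧸ A' := q ⟨t 4, hmem 4 (by norm_num) le_rfl⟩
      have hq6 : Nat.card (V ⧸ A') = 6 := by
        have h1 := card_eq_card_quotient_mul_card_subgroup A'
        rw [Nat.card_congr (subgroupOfEquivOfLe hA1V).toEquiv, hV.card 1 3 (by norm_num),
          show Nat.card V = 3 * 2 ^ 4 from hV.top 0] at h1
        omega
      have hnc : ¬ Commute a b := by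
        intro hab
        have hmap : ∀ x : V, q x = 1 → (x : G) ∈ seg t 1 3 := fun x hx =>
          (QuotientGroup.eq_one_iff x).1 hx
        have h' : t 4 * t 0 * t 4 * t 0 ∈ seg t 1 3 := by
          refine hmap (⟨t 4, hmem 4 (by norm_num) le_rfl⟩ * ⟨t 0, hmem 0 le_rfl (by norm_num)⟩ *
            ⟨t 4, hmem 4 (by norm_num) le_rfl⟩ * ⟨t 0, hmem 0 le_rfl (by norm_num)⟩) ?_
          rw [map_mul, map_mul, map_mul]
          show b * a * b * a = 1
          rw [mul_assoc b a b, hab.eq, ← mul_assoc b b a, mul_assoc _ a a]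
          have ha2 : a * a = 1 := by
            show q _ * q _ = 1
            rw [← map_mul, show (⟨t 0, hmem 0 le_rfl (by norm_num)⟩ : V) * ⟨t 0, hmem 0 le_rfl (by norm_num)⟩ = 1 from Subtype.ext (hS.sq 0), map_one]
          have hb2 : b * b = 1 := by
            show q _ * q _ = 1
            rw [← map_mul, show (⟨t 4, hmem 4 (by norm_num) le_rfl⟩ : V) * ⟨t 4, hmem 4 (by norm_num) le_rfl⟩ = 1 from Subtype.ext (hS.sq 4), map_one]
          rw [hb2, ha2, one_mul]
        refine hV.not_mem_right 0 ?_
        rw [zero_add]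
        refine hV.self_normalizing 0 0 (Or.inl rfl) (hmem 4 (by norm_num) le_rfl)
          (mem_normalizer_seg fun j j1 j2 => ?_)
        rcases eq_or_ne j 0 with rfl | hj
        · have := mul_mem (seg_mono t (s' := 0) (l' := 4) (by norm_num) (by norm_num) h')
            (mem_seg t (s := 0) (l := 4) (k := 0) le_rfl (by norm_num))
          rw [hinv]; simpa [mul_assoc, hS.sq] using this
        · exact seg_mono t (by norm_num) (by norm_num) ((mem_normalizer_iff.1
            (hA1n (hmem 4 (by norm_num) le_rfl)) (t j)).1 (mem_seg t (s := 1) (by omega) (by omega)))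
      have ha2 : a * a = 1 := by
        show q _ * q _ = 1
        rw [← map_mul, show (⟨t 0, hmem 0 le_rfl (by norm_num)⟩ : V) * ⟨t 0, hmem 0 le_rfl (by norm_num)⟩ = 1 from Subtype.ext (hS.sq 0), map_one]
      have hb2 : b * b = 1 := by
        show q _ * q _ = 1
        rw [← map_mul, show (⟨t 4, hmem 4 (by norm_num) le_rfl⟩ : V) * ⟨t 4, hmem 4 (by norm_num) le_rfl⟩ = 1 from Subtype.ext (hS.sq 4), map_one]
      have hab3 : (a * b) ^ 3 = 1 := by
        have hd : orderOf (a * b) ∣ 6 := hq6 ▸ orderOf_dvd_natCard _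
        have hn2 : ¬ orderOf (a * b) ∣ 2 := fun h => by
          refine hnc (commute_of_comm_eq_one ha2 hb2 ?_)
          have := orderOf_dvd_iff_pow_eq_one.1 h
          rw [pow_two] at this
          simpa [mul_assoc] using this
        have hn6 : orderOf (a * b) ≠ 6 := fun h => by
          have hcyc : IsCyclic (V ⧸ A') := isCyclic_of_orderOf_eq_card (a * b) (by rw [h, hq6])
          obtain ⟨g, hg⟩ := hcyc.exists_generator
          obtain ⟨i, hi⟩ := hg a
          obtain ⟨j, hj⟩ := hg b
          have hij := (Commute.refl g).zpow_zpow i j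
          rw [show g ^ i = a from hi, show g ^ j = b from hj] at hij
          exact hnc hij
        refine orderOf_dvd_iff_pow_eq_one.1 ?_
        have h := Nat.mem_divisors.2 ⟨hd, (by norm_num : (6 : ℕ) ≠ 0)⟩
        rw [show Nat.divisors 6 = {1, 2, 3, 6} by decide] at h
        simp only [Finset.mem_insert, Finset.mem_singleton] at h
        rcases h with h | h | h | h
        · exact absurd (h ▸ one_dvd 2) hn2
        · exact absurd h.dvd hn2
        · exact h.dvd
        · exact absurd h hn6
      have : q (⟨r, hrV⟩ ^ 3) = 1 := by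
        rw [map_pow, show (⟨r, hrV⟩ : V) = ⟨t 0, hmem 0 le_rfl (by norm_num)⟩ * ⟨t 4, hmem 4 (by norm_num) le_rfl⟩ from rfl, map_mul]
        exact hab3
      have hx : (⟨r, hrV⟩ : V) ^ 3 ∈ A' := (QuotientGroup.eq_one_iff _).1 this
      exact hx
    have hm : r ^ 3 = 1 ∨ r ^ 3 = t 2 := by
      have hc0 : Commute (r ^ 3) (t 0) := by
        have h1 : t 0 * r ^ 3 * (t 0)⁻¹ = (r ^ 3)⁻¹ := by
          rw [← conj_pow, ← inv_pow]
          congr 1
          rw [hr, mul_inv_rev, hinv, hinv, ← mul_assoc, hS.sq, one_mul]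
        rw [inv_eq_of_mul_eq_one_left (hV.sq_of_mem hlam le_rfl hr3)] at h1
        show r ^ 3 * t 0 = t 0 * r ^ 3
        rw [mul_inv_eq_iff_eq_mul] at h1
        exact h1.symm
      refine hcore _ (V.pow_mem hrV 3) hc0 ?_
      have hc1 : Commute (r ^ 3) (t 0 * r) := hc0.mul_right ((Commute.refl r).pow_left 3)
      rwa [hr, ← mul_assoc, hS.sq, one_mul] at hc1
    obtain ⟨u, hu2, huV, huord, hu4, hu4'⟩ : ∃ u, u * u = 1 ∧ u ∈ V ∧ (t 0 * u) ^ 3 = 1 ∧
        (∀ x, Commute x u → Commute x (t 2) → Commute x (t 4)) ∧ (t 4 = u ∨ t 4 = u * t 2) := by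
      rcases hm with h | h
      · exact ⟨t 4, hS.sq 4, hmem 4 (by norm_num) le_rfl, h, fun x hx _ => hx, Or.inl rfl⟩
      · have hc42 : Commute (t 4) (t 2) := hc (by norm_num) (by norm_num)
        refine ⟨t 4 * t 2, ?_, V.mul_mem (hmem 4 (by norm_num) le_rfl) (hmem 2 (by norm_num) (by norm_num)),
          ?_, fun x hx h2 => ?_, Or.inr (by rw [mul_assoc, hS.sq, mul_one])⟩
        · calc t 4 * t 2 * (t 4 * t 2) = t 4 * (t 2 * t 4) * t 2 := by simp only [mul_assoc]
            _ = t 4 * t 4 * (t 2 * t 2) := by rw [← hc42.eq]; simp only [mul_assoc]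
            _ = 1 := by rw [hS.sq, hS.sq, one_mul]
        · rw [← mul_assoc, ← hr, (ht2 r hrV).mul_pow, h, pow_succ, pow_two, hS.sq, one_mul, hS.sq]
        · have := hx.mul_right h2
          rwa [mul_assoc, hS.sq, mul_one] at this
    set σ := t 0 * u with hσ
    have h0V : t 0 ∈ V := hmem 0 le_rfl (by norm_num)
    have hσV : σ ∈ V := V.mul_mem h0V huV
    -- the complement
    set W := closure ({t 1 * t 2, t 2 * t 3} : Set G) with hW
    have hWA : W ≤ seg t 1 3 := by
      rw [hW, closure_le]; rintro y (rfl | rfl)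
      · exact mul_mem (mem_seg t le_rfl (by norm_num)) (mem_seg t (by norm_num) (by norm_num))
      · exact mul_mem (mem_seg t (by norm_num) (by norm_num)) (mem_seg t (by norm_num) (by norm_num))
    have ha : t 1 * t 2 ∈ W := subset_closure (Or.inl rfl)
    have hb : t 2 * t 3 ∈ W := subset_closure (Or.inr rfl)
    have hab : t 1 * t 3 ∈ W := by
      have := mul_mem ha hb
      rwa [mul_assoc, ← mul_assoc (t 2), hS.sq, one_mul] at this
    have hnW : ∀ x : G, x * (t 1 * t 2) * x⁻¹ ∈ W → x * (t 2 * t 3) * x⁻¹ ∈ W →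
        x ∈ normalizer (W : Set G) := by
      intro x hx1 hx2
      have hle : W.map (MulAut.conj x).toMonoidHom ≤ W := by
        rw [map_le_iff_le_comap, hW, closure_le]
        rintro y (rfl | rfl)
        · exact hx1
        · exact hx2
      refine Cfsg.Lib.Core.mem_normalizer_iff_map_conj.2 (eq_of_le_of_card_ge hle ?_)
      rw [card_map_of_injective (MulAut.conj x).injective]
    have h02 : Commute (t 0) (t 2) := hc (by norm_num) (by norm_num)
    have h42 : Commute (t 4) (t 2) := hc (by norm_num) (by norm_num)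
    have hn0 : t 0 ∈ normalizer (W : Set G) := by
      refine hnW _ ?_ ?_
      · rw [conj_eq_of_commute (show Commute (t 0) (t 1 * t 2) from
          (hc (by norm_num) (by norm_num)).mul_right h02)]; exact ha
      · rw [← conj_mul, conj_eq_of_commute h02, h03,
          show t 2 * (t 1 * t 2 * t 3) = t 1 * t 3 by
            have : Commute (t 2) (t 1) := hc (by norm_num) (by norm_num)
            calc t 2 * (t 1 * t 2 * t 3) = t 2 * t 1 * t 2 * t 3 := by simp only [mul_assoc]
              _ = t 1 * (t 2 * t 2) * t 3 := by rw [this.eq]; simp only [mul_assoc]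
              _ = t 1 * t 3 := by rw [hS.sq, mul_one]]
        exact hab
    have hn4 : t 4 ∈ normalizer (W : Set G) := by
      refine hnW _ ?_ ?_
      · rw [← conj_mul, conj_eq_of_commute h42, h41,
          show t 1 * t 2 * t 3 * t 2 = t 1 * t 3 by
            have : Commute (t 3) (t 2) := hc (by norm_num) (by norm_num)
            rw [mul_assoc _ (t 3), this.eq, ← mul_assoc, mul_assoc (t 1) (t 2), hS.sq, mul_one]]
        exact hab
      · rw [conj_eq_of_commute (show Commute (t 4) (t 2 * t 3) from
          h42.mul_right (hc (by norm_num) (by norm_num)))]; exact hb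
    have hnu : u ∈ normalizer (W : Set G) := by
      have h2W : t 2 ∈ normalizer (W : Set G) :=
        centralizer_le_normalizer _ (mem_centralizer_iff.2 fun y hy => (ht2 y (hA1V (hWA hy))).eq)
      rcases hu4' with h | h
      · exact h ▸ hn4
      · have := mul_mem hn4 h2W
        rwa [h, mul_assoc, hS.sq, mul_one] at this
    set D := zpowers (t 0) ⊔ zpowers σ with hD
    have hDn : D ≤ normalizer (W : Set G) :=
      sup_le (zpowers_le.2 hn0) (zpowers_le.2 (mul_mem hn0 hnu))
    have hDV : D ≤ V := sup_le (zpowers_le.2 h0V) (zpowers_le.2 hσV)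
    have hinvσ : t 0 * σ * (t 0)⁻¹ = σ⁻¹ := by
      rw [hσ, mul_inv_rev, inv_eq_of_mul_eq_one_left hu2, hinv, ← mul_assoc, hS.sq, one_mul]
    have h0n : zpowers (t 0) ≤ normalizer ((zpowers σ : Subgroup G) : Set G) := by
      refine zpowers_le.2 (Cfsg.Lib.Core.mem_normalizer_iff_map_conj.2 ?_)
      rw [MonoidHom.map_zpowers]
      show zpowers (t 0 * σ * (t 0)⁻¹) = _
      rw [hinvσ, zpowers_inv]
    have hσA : ∀ x ∈ zpowers σ, x ∈ seg t 1 3 → x = 1 := by
      rintro _ ⟨k, rfl⟩ hx
      have h1 : (σ ^ k) ^ (3 : ℤ) = 1 := by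
        rw [← zpow_mul, mul_comm, zpow_mul]
        rw [show (σ ^ (3 : ℤ)) = 1 by exact_mod_cast huord, one_zpow]
      have h2 : (σ ^ k) ^ (2 : ℤ) = 1 := by
        rw [zpow_two]; exact hV.sq_of_mem hlam le_rfl hx
      show σ ^ k = 1
      calc σ ^ k = (σ ^ k) ^ (3 : ℤ) * ((σ ^ k) ^ (2 : ℤ))⁻¹ := by rw [← zpow_neg, ← zpow_add]; norm_num
        _ = 1 := by rw [h1, h2, inv_one, mul_one]
    have hDA : ∀ x ∈ D, x ∈ seg t 1 3 → x = 1 := by
      intro x hx hxA
      rw [hD, ← SetLike.mem_coe, coe_mul_of_left_le_normalizer_right _ _ h0n] at hx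
      obtain ⟨a, ha', b, hb', rfl⟩ := hx
      rcases zpowers_sq (hS.sq 0) ha' with rfl | rfl
      · show 1 * b = 1
        rw [one_mul]
        exact hσA b hb' (by simpa using hxA)
      · exfalso
        -- `t 0` would lie in the core after conjugating by a power of `σ`
        obtain ⟨k, hk⟩ := hb'
        replace hk : σ ^ k = b := hk
        obtain ⟨j, hj⟩ : ∃ j : ℤ, σ ^ k = σ ^ (2 * j) := by
          refine ⟨2 * k, ?_⟩
          have h3 : σ ^ (3 : ℤ) = 1 := by exact_mod_cast huord
          rw [show 2 * (2 * k) = k + 3 * k by ring, zpow_add, zpow_mul, h3, one_zpow, mul_one]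
        have h0σ : ∀ i : ℤ, t 0 * σ ^ i = σ ^ (-i) * t 0 := by
          intro i
          have := congrArg (· ^ i) hinvσ
          simp only [conj_zpow, inv_zpow, ← zpow_neg] at this
          rw [← this, inv_mul_cancel_right]
        have hx' : σ ^ (-j) * t 0 * (σ ^ (-j))⁻¹ ∈ seg t 1 3 := by
          have hxA' : t 0 * b ∈ seg t 1 3 := hxA
          rwa [← hk, hj, two_mul, zpow_add, ← mul_assoc, h0σ, ← inv_inv (σ ^ j), ← zpow_neg] at hxA'
        have h0A : t 0 ∈ seg t 1 3 :=
          (mem_normalizer_iff.1 (hA1n (V.zpow_mem hσV (-j))) (t 0)).2 hx'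
        exact hS.not_mem_left 0 (l := 3) (by norm_num) (by simpa using h0A)
    have h2W : t 2 ∉ W := by
      have hWn : zpowers (t 1 * t 2) ≤ normalizer ((zpowers (t 2 * t 3) : Subgroup G) : Set G) := by
        refine le_trans ?_ (centralizer_le_normalizer _)
        refine zpowers_le.2 (mem_centralizer_iff.2 fun y hy => ?_)
        obtain ⟨k, rfl⟩ := hy
        have h : Commute (t 1 * t 2) (t 2 * t 3) :=
          ((hc (by norm_num) (by norm_num)).mul_right (hc (by norm_num) (by norm_num))).mul_left
            ((Commute.refl _).mul_right (hc (by norm_num) (by norm_num)))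
        exact (h.zpow_right k).symm.eq
      have hWeq : W = zpowers (t 1 * t 2) ⊔ zpowers (t 2 * t 3) := by
        rw [hW, zpowers_eq_closure, zpowers_eq_closure, ← Subgroup.closure_union, Set.singleton_union]
      intro h
      rw [hWeq, ← SetLike.mem_coe, coe_mul_of_left_le_normalizer_right _ _ hWn] at h
      obtain ⟨a, ha', b, hb', hab'⟩ := h
      have hsq : ∀ i j : ℤ, i - j < 3 → j - i < 3 → t i * t j * (t i * t j) = 1 := fun i j a b => by
        calc t i * t j * (t i * t j) = t i * (t j * t i) * t j := by simp only [mul_assoc]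
          _ = t i * t i * (t j * t j) := by rw [← (hc a b).eq]; simp only [mul_assoc]
          _ = 1 := by rw [hS.sq, hS.sq, one_mul]
      have hab2 : a * b = t 2 := hab'
      have c12 : Commute (t 1) (t 2) := hc (by norm_num) (by norm_num)
      rcases zpowers_sq (hsq 1 2 (by norm_num) (by norm_num)) ha' with rfl | rfl <;>
        rcases zpowers_sq (hsq 2 3 (by norm_num) (by norm_num)) hb' with rfl | rfl
      · rw [one_mul] at hab2; exact hS.ne_one hpos 2 hab2.symm
      · rw [one_mul] at hab2; exact hS.ne_one hpos 3 (mul_eq_left.1 hab2)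
      · rw [mul_one] at hab2; exact hS.ne_one hpos 1 (mul_eq_right.1 hab2)
      · -- `t 1 t 3 = t 2`
        rw [mul_assoc, ← mul_assoc (t 2), hS.sq, one_mul] at hab2
        refine hS.not_mem_left 1 (l := 2) (by norm_num) ?_
        have := mul_mem (mem_seg t (s := 2) (l := 2) (k := 2) le_rfl (by norm_num))
          (mem_seg t (s := 2) (l := 2) (k := 3) (by norm_num) (by norm_num))
        norm_num
        rwa [← hab2, mul_assoc, hS.sq, mul_one] at this
    set X := D ⊔ W with hX
    have hWV : W ≤ V := hWA.trans hA1V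
    have hXV : X ≤ V := sup_le hDV hWV
    have h2X : t 2 ∉ X := by
      intro h
      rw [hX, ← SetLike.mem_coe, coe_mul_of_left_le_normalizer_right _ _ hDn] at h
      obtain ⟨d, hd, w, hw', hdw⟩ := h
      have hdA : d ∈ seg t 1 3 := by
        have := mul_mem (mem_seg t (s := 1) (l := 3) (k := 2) (by norm_num) (by norm_num))
          (inv_mem (hWA hw'))
        rw [← show d * w = t 2 from hdw, mul_inv_cancel_right] at this
        exact this
      have := hdw
      rw [hDA d hd hdA] at this
      exact h2W (by rw [← show (1 : G) * w = t 2 from this, one_mul]; exact hw')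
    -- the direct product
    set Z := zpowers (t 2) with hZ
    have hcomm : ∀ (x : X) (z : Z), Commute (x : G) (z : G) := fun x z => by
      obtain ⟨k, hk⟩ := z.2
      have hk' : t 2 ^ k = (z : G) := hk
      rw [← hk']
      exact (ht2 x (hXV x.2)).zpow_right k
    let φ : X × Z →* G := MonoidHom.noncommCoprod X.subtype Z.subtype hcomm
    have hφinj : Function.Injective φ := by
      rw [injective_iff_map_eq_one]
      rintro ⟨x, z⟩ h
      have h' : (x : G) * (z : G) = 1 := h
      rcases zpowers_sq (hS.sq 2) z.2 with hz | hz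
      · rw [hz, mul_one] at h'
        exact Prod.ext (Subtype.ext h') (Subtype.ext hz)
      · exfalso
        have : (x : G) = t 2 := by
          rw [hz] at h'
          exact (eq_inv_of_mul_eq_one_left h').trans (hinv 2)
        exact h2X (this ▸ x.2)
    have hrange : φ.range = V := by
      refine le_antisymm ?_ ?_
      · rintro _ ⟨⟨x, z⟩, rfl⟩
        exact V.mul_mem (hXV x.2) ((zpowers_le.2 (hmem 2 (by norm_num) (by norm_num)) : Z ≤ V) z.2)
      · have hXr : X ≤ φ.range := fun x hx => ⟨(⟨x, hx⟩, 1), mul_one x⟩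
        have h2r : t 2 ∈ φ.range := ⟨(1, ⟨t 2, mem_zpowers _⟩), one_mul _⟩
        have h0r : t 0 ∈ φ.range := hXr (mem_sup_left (mem_sup_left (mem_zpowers _)))
        have hσr : σ ∈ φ.range := hXr (mem_sup_left (mem_sup_right (mem_zpowers _)))
        have hur : u ∈ φ.range := by
          have := mul_mem h0r hσr
          rwa [hσ, ← mul_assoc, hS.sq, one_mul] at this
        have h4r : t 4 ∈ φ.range := by
          rcases hu4' with h | h
          · exact h ▸ hur
          · exact h ▸ mul_mem hur h2r
        refine seg_le fun k a b => ?_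
        have hk : k = 0 ∨ k = 1 ∨ k = 2 ∨ k = 3 ∨ k = 4 := by omega
        rcases hk with rfl | rfl | rfl | rfl | rfl
        · exact h0r
        · have := mul_mem (hXr (mem_sup_right ha)) h2r
          rwa [mul_assoc, hS.sq, mul_one] at this
        · exact h2r
        · have := mul_mem h2r (hXr (mem_sup_right hb))
          rwa [← mul_assoc, hS.sq, one_mul] at this
        · exact h4r
    let eφ : X × Z ≃* V := (MonoidHom.ofInjective hφinj).trans (MulEquiv.subgroupCongr hrange)
    have hZ2 : Nat.card Z = 2 := by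
      rw [hZ, Nat.card_zpowers]
      exact orderOf_eq_prime (by rw [pow_two]; exact hS.sq 2) (hS.ne_one hV.pos 2)
    have hX24 : Nat.card X = 24 := by
      have h := Nat.card_congr eφ.toEquiv
      rw [Nat.card_prod, hZ2, hVd, hV.top] at h
      omega
    obtain ⟨eX⟩ : Nonempty (X ≃* Equiv.Perm (Fin 4)) := by
      refine Cfsg.Lib.Dickson.iso_perm_four (noNormalCyclic_of hX24 ?_ ?_) hX24
      · intro z hzc hz2
        have h0X : t 0 ∈ X := mem_sup_left (mem_sup_left (mem_zpowers _))
        have hσX : σ ∈ X := mem_sup_left (mem_sup_right (mem_zpowers _))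
        have hz0 : Commute (z : G) (t 0) := (congrArg Subtype.val (hzc ⟨t 0, h0X⟩)).symm
        have hzσ : Commute (z : G) σ := (congrArg Subtype.val (hzc ⟨σ, hσX⟩)).symm
        have hzu : Commute (z : G) u := by
          have := hz0.mul_right hzσ
          rwa [hσ, ← mul_assoc, hS.sq, one_mul] at this
        rcases hcore z (hXV z.2) hz0 (hu4 z hzu (ht2 z (hXV z.2))) with h | h
        · exact Subtype.ext h
        · exact absurd (h ▸ z.2) h2X
      · intro P hP hP3
        refine hV.no_normal_three (P.map X.subtype)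
          (by rw [card_map_of_injective X.subtype_injective, hP3])
          ((map_subtype_le P).trans hXV) ?_ (fun j j1 j2 => hc (by omega) (by omega)) (by norm_num)
          hne14
        have hZc : Z ≤ normalizer ((P.map X.subtype : Subgroup G) : Set G) := by
          refine zpowers_le.2 (centralizer_le_normalizer _ (mem_centralizer_iff.2 fun y hy => ?_))
          exact (ht2 y (hXV (map_subtype_le P hy))).eq
        show V ≤ _
        rw [← hrange]
        rintro _ ⟨⟨x, z⟩, rfl⟩
        exact mul_mem (le_normalizer_map_subtype hP x.2) (hZc z.2)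
    exact ⟨eφ.symm.trans (eX.prodCongr (mulEquivOfPrimeCardEq (p := 2) hZ2 (by simp)))⟩

end Cfsg.Lib.Perm.Window
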