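import Mathlib.GroupTheory.GroupAction.Quotient
import Mathlib.GroupTheory.Perm.Sign
import Mathlib.GroupTheory.OrderOfElement
import Mathlib.Tactic.Ring
import Mathlib.Tactic.IntervalCases
import Mathlib.Data.ZMod.Basic
import Mathlib.Algebra.BigOperators.Fin
import Mathlib.Logic.Equiv.Fintype
import Mathlib.Algebra.Group.Subgroup.Finite

/-!
# Abelian subgroups of symmetric groups

The order of an abelian permutation group is at most the product of its orbit lengths, hence at most
the largest product `maxProd n` of numbers with sum `n`; products of regular cyclic groups attain it.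
-/

set_option autoImplicit false

namespace Cfsg.Lib.AbelianPerm

/-- The largest product of positive integers with sum `n`. -/
def maxProd : ℕ → ℕ
  | 0 => 1
  | 1 => 1
  | 2 => 2
  | 3 => 3
  | 4 => 4
  | n + 5 => 3 * maxProd (n + 2)

theorem maxProd_pos : ∀ n, 0 < maxProd n
  | 0 => one_pos
  | 1 => one_pos
  | 2 => two_pos
  | 3 => three_pos
  | 4 => four_pos
  | n + 5 => by rw [maxProd]; exact Nat.mul_pos three_pos (maxProd_pos _)

theorem le_maxProd : ∀ n, n ≤ maxProd n
  | 0 => Nat.zero_le _
  | 1 => le_rfl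
  | 2 => le_rfl
  | 3 => le_rfl
  | 4 => le_rfl
  | n + 5 => by
    have := le_maxProd (n + 2)
    rw [maxProd]; omega

theorem maxProd_mul_le : ∀ a b, maxProd a * maxProd b ≤ maxProd (a + b) := by
  intro a
  induction a using Nat.strong_induction_on with
  | _ a ih =>
    intro b
    by_cases ha : 5 ≤ a
    · obtain ⟨a, rfl⟩ : ∃ a', a = a' + 5 := ⟨a - 5, by omega⟩
      rw [maxProd, show a + 5 + b = (a + b) + 5 by ring, maxProd, mul_assoc,
        show a + b + 2 = a + 2 + b by ring]
      exact Nat.mul_le_mul_left 3 (ih (a + 2) (by omega) b)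
    induction b using Nat.strong_induction_on with
    | _ b ihb =>
      by_cases hb : 5 ≤ b
      · obtain ⟨b, rfl⟩ : ∃ b', b = b' + 5 := ⟨b - 5, by omega⟩
        rw [maxProd, show a + (b + 5) = (a + b) + 5 by ring, maxProd,
          show a + b + 2 = a + (b + 2) by ring, Nat.mul_left_comm]
        exact Nat.mul_le_mul_left 3 (ihb (b + 2) (by omega))
      interval_cases a <;> interval_cases b <;> simp [maxProd]

theorem prod_le_maxProd {ι : Type*} (s : Finset ι) (f : ι → ℕ) :
    ∏ i ∈ s, f i ≤ maxProd (∑ i ∈ s, f i) := by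
  classical
  induction s using Finset.induction with
  | empty => simp [maxProd]
  | insert a s ha ih =>
    rw [Finset.prod_insert ha, Finset.sum_insert ha]
    exact (Nat.mul_le_mul (le_maxProd _) ih).trans (maxProd_mul_le _ _)

theorem maxProd_three_mul : ∀ k, maxProd (3 * k) = 3 ^ k
  | 0 => rfl
  | 1 => rfl
  | k + 2 => by
    rw [show 3 * (k + 2) = (3 * k + 1) + 5 by ring, maxProd, show 3 * k + 1 + 2 = 3 * (k + 1) by ring,
      maxProd_three_mul (k + 1), ← pow_succ']

theorem maxProd_three_mul_add_one : ∀ k, 1 ≤ k → maxProd (3 * k + 1) = 4 * 3 ^ (k - 1)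
  | 0, h => absurd h (by omega)
  | 1, _ => rfl
  | k + 2, _ => by
    rw [show 3 * (k + 2) + 1 = (3 * k + 2) + 5 by ring, maxProd,
      show 3 * k + 2 + 2 = 3 * (k + 1) + 1 by ring, maxProd_three_mul_add_one (k + 1) (by omega)]
    simp [pow_succ]; ring

theorem maxProd_three_mul_add_two : ∀ k, maxProd (3 * k + 2) = 2 * 3 ^ k
  | 0 => rfl
  | k + 1 => by
    rw [show 3 * (k + 1) + 2 = (3 * k) + 5 by ring, maxProd, maxProd_three_mul_add_two k, pow_succ]
    ring

section Orbits

variable {α : Type*} [Fintype α]

open MulAction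

/-- An abelian permutation group is no larger than the product of its orbit lengths. -/
theorem card_le_prod_orbits (A : Subgroup (Equiv.Perm α)) (hA : IsMulCommutative A)
    [Fintype (orbitRel.Quotient A α)] :
    Nat.card A ≤ ∏ ω : orbitRel.Quotient A α, Nat.card ω.orbit := by
  rw [← Nat.card_pi]
  refine Nat.card_le_card_of_injective
    (fun a ω => ⟨a • ω.out, by
      rw [orbitRel.Quotient.mem_orbit]
      exact (Quotient.sound' (⟨a, rfl⟩ : a • ω.out ∈ orbit A ω.out)).trans (Quotient.out_eq' ω)⟩)
    fun a b h => ?_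
  refine Subtype.ext (Equiv.ext fun x => ?_)
  set ω : orbitRel.Quotient A α := Quotient.mk'' x
  have hω : a • ω.out = b • ω.out := congrArg Subtype.val (congrFun h ω)
  obtain ⟨c, hc⟩ : ω.out ∈ orbit A x := Quotient.exact (Quotient.out_eq ω)
  change c • x = ω.out at hc
  have h1 : a • x = b • x := by
    rw [← hc, ← mul_smul, ← mul_smul, hA.is_comm.comm a c, hA.is_comm.comm b c, mul_smul, mul_smul] at hω
    exact smul_left_cancel c hω
  exact h1

theorem sum_orbits (A : Subgroup (Equiv.Perm α)) [Fintype (orbitRel.Quotient A α)] :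
    ∑ ω : orbitRel.Quotient A α, Nat.card ω.orbit = Fintype.card α := by
  rw [← Nat.card_sigma, ← Nat.card_eq_fintype_card]
  exact Nat.card_congr (selfEquivSigmaOrbits' A α).symm

/-- An abelian permutation group of degree `n` has order at most `maxProd n`. -/
theorem card_le_maxProd (A : Subgroup (Equiv.Perm α)) (hA : IsMulCommutative A) :
    Nat.card A ≤ maxProd (Fintype.card α) := by
  classical
  haveI := Fintype.ofFinite (orbitRel.Quotient A α)
  refine (card_le_prod_orbits A hA).trans ?_
  rw [← sum_orbits A]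
  exact prod_le_maxProd _ _

end Orbits

/-- Products of regular cyclic groups. -/
theorem exists_abelian {ι : Type*} [Fintype ι] (l : ι → ℕ) [∀ i, NeZero (l i)] {n : ℕ}
    (hn : ∑ i, l i = n) :
    ∃ (A : Subgroup (Equiv.Perm (Fin n))), IsMulCommutative A ∧ Nat.card A = ∏ i, l i ∧
      ((∀ i, Odd (l i)) → ∀ a ∈ A, Equiv.Perm.sign a = 1) := by
  classical
  let e : (Σ i, ZMod (l i)) ≃ Fin n := (Fintype.equivFin _).trans (finCongr (by simp [← hn, ZMod.card]))
  let T : ∀ i, Multiplicative (ZMod (l i)) →* Equiv.Perm (ZMod (l i)) := fun i =>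
    { toFun := fun x => Equiv.addLeft x.toAdd
      map_one' := Equiv.ext fun y => zero_add y
      map_mul' := fun x y => Equiv.ext fun z => add_assoc x.toAdd y.toAdd z }
  let φ : (∀ i, Multiplicative (ZMod (l i))) →* Equiv.Perm (Fin n) := e.permCongrHom.toMonoidHom.comp
    ((Equiv.Perm.sigmaCongrRightHom fun i => ZMod (l i)).comp
      { toFun := fun x i => T i (x i)
        map_one' := funext fun i => map_one (T i)
        map_mul' := fun x y => funext fun i => map_mul (T i) _ _ })
  have hφ : Function.Injective φ := fun x y h => by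
    have h' := Equiv.Perm.sigmaCongrRightHom_injective (e.permCongrHom.injective h)
    funext i
    have h'' := Equiv.ext_iff.1 (congrFun h' i) 0
    change (x i).toAdd + 0 = (y i).toAdd + 0 at h''
    simpa using h''
  refine ⟨φ.range, ⟨⟨fun a b => ?_⟩⟩, ?_, fun hodd a ha => ?_⟩
  · obtain ⟨x, hx⟩ := a.2
    obtain ⟨y, hy⟩ := b.2
    refine Subtype.ext ?_
    rw [Subgroup.coe_mul, Subgroup.coe_mul, ← hx, ← hy, ← map_mul, ← map_mul, mul_comm]
  · rw [← Nat.card_congr (MonoidHom.ofInjective hφ).toEquiv, Nat.card_pi]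
    exact Finset.prod_congr rfl fun i _ => Nat.card_zmod (l i)
  · obtain ⟨x, rfl⟩ := ha
    -- an element of odd order is even
    have ho : φ x ^ (∏ i, l i) = 1 := by
      rw [← map_pow]
      have : x ^ (∏ i, l i) = 1 := funext fun i => by
        rw [Pi.pow_apply, Pi.one_apply]
        obtain ⟨c, hc⟩ : l i ∣ ∏ j, l j := Finset.dvd_prod_of_mem l (Finset.mem_univ i)
        have h1 : x i ^ l i = 1 := by
          have := pow_card_eq_one' (x := x i)
          rwa [show Nat.card (Multiplicative (ZMod (l i))) = l i from Nat.card_zmod (l i)] at this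
        rw [hc, pow_mul, h1, one_pow]
      rw [this, map_one]
    obtain ⟨m, hm⟩ : Odd (∏ i, l i) := Finset.prod_induction l Odd (fun _ _ => Odd.mul) odd_one fun i _ => hodd i
    have := congrArg Equiv.Perm.sign ho
    rw [map_one, map_pow, hm, pow_succ, pow_mul, pow_two, Int.units_mul_self, one_pow, one_mul] at this
    exact this

end Cfsg.Lib.AbelianPerm
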