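import Cfsg.Agent.Lib.Perm.AbelianBound
import Mathlib.GroupTheory.SpecificGroups.Alternating

/-!
# Abelian subgroups of alternating groups
-/

set_option autoImplicit false

namespace Cfsg.Lib.AbelianPerm

/-- The largest product of positive integers different from 2 with sum `n`. -/
def maxProdNoTwo : ℕ → ℕ
  | 0 => 1
  | 1 => 1
  | 2 => 1
  | 3 => 3
  | 4 => 4
  | 5 => 5
  | 6 => 9
  | 7 => 12
  | 8 => 16
  | n + 9 => 3 * maxProdNoTwo (n + 6)

theorem le_maxProdNoTwo : ∀ n, n ≠ 2 → n ≤ maxProdNoTwo n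
  | 0, _ => Nat.zero_le _
  | 1, _ => le_rfl
  | 2, h => absurd rfl h
  | 3, _ => le_rfl
  | 4, _ => le_rfl
  | 5, _ => le_rfl
  | 6, _ => by simp [maxProdNoTwo]
  | 7, _ => by simp [maxProdNoTwo]
  | 8, _ => by simp [maxProdNoTwo]
  | n + 9, _ => by
    have := le_maxProdNoTwo (n + 6) (by omega)
    rw [maxProdNoTwo]; omega

theorem maxProdNoTwo_mul_le : ∀ a b, maxProdNoTwo a * maxProdNoTwo b ≤ maxProdNoTwo (a + b) := by
  intro a
  induction a using Nat.strong_induction_on with
  | _ a ih =>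
    intro b
    by_cases ha : 9 ≤ a
    · obtain ⟨a, rfl⟩ : ∃ a', a = a' + 9 := ⟨a - 9, by omega⟩
      rw [maxProdNoTwo, show a + 9 + b = (a + b) + 9 by ring, maxProdNoTwo, mul_assoc,
        show a + b + 6 = a + 6 + b by ring]
      exact Nat.mul_le_mul_left 3 (ih (a + 6) (by omega) b)
    induction b using Nat.strong_induction_on with
    | _ b ihb =>
      by_cases hb : 9 ≤ b
      · obtain ⟨b, rfl⟩ : ∃ b', b = b' + 9 := ⟨b - 9, by omega⟩
        rw [maxProdNoTwo, show a + (b + 9) = (a + b) + 9 by ring, maxProdNoTwo,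
          show a + b + 6 = a + (b + 6) by ring, Nat.mul_left_comm]
        exact Nat.mul_le_mul_left 3 (ihb (b + 6) (by omega))
      interval_cases a <;> interval_cases b <;> simp [maxProdNoTwo]

theorem prod_le_maxProdNoTwo {ι : Type*} (s : Finset ι) (f : ι → ℕ) (hf : ∀ i ∈ s, f i ≠ 2) :
    ∏ i ∈ s, f i ≤ maxProdNoTwo (∑ i ∈ s, f i) := by
  classical
  induction s using Finset.induction with
  | empty => simp [maxProdNoTwo]
  | insert a s ha ih =>
    rw [Finset.prod_insert ha, Finset.sum_insert ha]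
    exact (Nat.mul_le_mul (le_maxProdNoTwo _ (hf a (Finset.mem_insert_self a s)))
      (ih fun i hi => hf i (Finset.mem_insert_of_mem hi))).trans (maxProdNoTwo_mul_le _ _)

theorem maxProdNoTwo_three_mul_add_two : ∀ k, 2 ≤ k → maxProdNoTwo (3 * k + 2) = 16 * 3 ^ (k - 2)
  | 0, h => absurd h (by omega)
  | 1, h => absurd h (by omega)
  | 2, _ => rfl
  | k + 3, _ => by
    rw [show 3 * (k + 3) + 2 = (3 * k + 2) + 9 by ring, maxProdNoTwo,
      show 3 * k + 2 + 6 = 3 * (k + 2) + 2 by ring, maxProdNoTwo_three_mul_add_two (k + 2) (by omega)]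
    simp [pow_succ]; ring

open MulAction

variable {α : Type*} [Fintype α] [DecidableEq α]

theorem eq_one_of_even_of_eq_two {σ : Equiv.Perm α} (hσ : Equiv.Perm.sign σ = 1) {s : Finset α}
    (hs : s.card = 2) (h : ∀ x, x ∉ s → σ x = x) : σ = 1 := by
  have hsub : σ.support ⊆ s := fun x hx => by
    by_contra hxs
    exact Equiv.Perm.mem_support.1 hx (h x hxs)
  have hle := Finset.card_le_card hsub
  rcases Nat.eq_or_lt_of_le (hs ▸ hle : σ.support.card ≤ 2) with h2 | h2
  · have := (Equiv.Perm.card_support_eq_two.1 h2).sign_eq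
    rw [hσ] at this
    exact absurd this (by decide)
  · rcases Nat.eq_zero_or_pos σ.support.card with h0 | h0
    · exact Equiv.Perm.card_support_eq_zero.1 h0
    · exact absurd (Equiv.Perm.card_support_ne_one σ) (by omega)

/-- An abelian group of even permutations of degree `3k+2`. -/
theorem card_le_even {k : ℕ} (hk : 2 ≤ k) (hα : Fintype.card α = 3 * k + 2) (A : Subgroup (Equiv.Perm α))
    (hA : IsMulCommutative A) (hev : ∀ a ∈ A, Equiv.Perm.sign a = 1) :
    Nat.card A ≤ 16 * 3 ^ (k - 2) := by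
  classical
  haveI := Fintype.ofFinite (orbitRel.Quotient A α)
  by_cases htwo : ∃ ω : orbitRel.Quotient A α, Nat.card ω.orbit = 2
  · obtain ⟨ω, hω⟩ := htwo
    set S : Finset α := ω.orbit.toFinset with hS
    have hSc : S.card = 2 := by rw [hS, Set.toFinset_card, ← Nat.card_eq_fintype_card, hω]
    have hinv : ∀ a : A, ∀ x, (a : Equiv.Perm α) x ∈ S ↔ x ∈ S := fun a x => by
      simp only [hS, Set.mem_toFinset, orbitRel.Quotient.mem_orbit]
      rw [show (Quotient.mk'' ((a : Equiv.Perm α) x) : orbitRel.Quotient A α) = Quotient.mk'' x from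
        Quotient.sound' (⟨a, rfl⟩ : a • x ∈ orbit A x)]
    let r : A →* Equiv.Perm {x // x ∉ S} :=
      { toFun := fun a => (a : Equiv.Perm α).subtypePerm fun x => not_congr (hinv a x)
        map_one' := Equiv.ext fun x => rfl
        map_mul' := fun a b => Equiv.ext fun x => rfl }
    have hr : Function.Injective r := by
      rw [injective_iff_map_eq_one]
      intro a ha
      refine Subtype.ext (eq_one_of_even_of_eq_two (hev a a.2) hSc fun x hx => ?_)
      exact congrArg Subtype.val (Equiv.ext_iff.1 ha ⟨x, hx⟩)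
    rw [Nat.card_congr (MonoidHom.ofInjective hr).toEquiv]
    refine (card_le_maxProd r.range ⟨⟨fun a b => ?_⟩⟩).trans ?_
    · obtain ⟨x, hx⟩ := a.2
      obtain ⟨y, hy⟩ := b.2
      refine Subtype.ext ?_
      rw [Subgroup.coe_mul, Subgroup.coe_mul, ← hx, ← hy, ← map_mul, ← map_mul, hA.is_comm.comm]
    · rw [Fintype.card_subtype_compl, Fintype.card_coe, hSc, hα, Nat.add_sub_cancel, maxProd_three_mul]
      obtain ⟨j, rfl⟩ : ∃ j, k = j + 2 := ⟨k - 2, by omega⟩
      rw [pow_add, Nat.add_sub_cancel, mul_comm]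
      exact Nat.mul_le_mul_right _ (by norm_num)
  · push Not at htwo
    refine (card_le_prod_orbits A hA).trans ((prod_le_maxProdNoTwo _ _ fun ω _ => htwo ω).trans ?_)
    rw [sum_orbits, hα, maxProdNoTwo_three_mul_add_two k hk]

/-- Products of regular abelian groups all whose translations are even. -/
theorem exists_abelian_even {ι : Type*} [Fintype ι] [DecidableEq ι] (M : ι → Type*) [∀ i, AddCommGroup (M i)]
    [∀ i, Fintype (M i)] [∀ i, DecidableEq (M i)]
    (heven : ∀ i (x : M i), Equiv.Perm.sign (Equiv.addLeft x) = 1) {n : ℕ}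
    (hn : ∑ i, Fintype.card (M i) = n) :
    ∃ A : Subgroup (alternatingGroup (Fin n)), IsMulCommutative A ∧ Nat.card A = ∏ i, Fintype.card (M i) := by
  let e : (Σ i, M i) ≃ Fin n := (Fintype.equivFin _).trans (finCongr (by simp [← hn]))
  let T : (∀ i, Multiplicative (M i)) →* Equiv.Perm (Σ i, M i) :=
    { toFun := fun x => Equiv.Perm.sigmaCongrRight fun i => Equiv.addLeft (x i).toAdd
      map_one' := Equiv.ext fun ⟨i, z⟩ => Sigma.ext rfl (heq_of_eq (zero_add z))
      map_mul' := fun x y => Equiv.ext fun ⟨i, z⟩ =>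
        Sigma.ext rfl (heq_of_eq (add_assoc (x i).toAdd (y i).toAdd z)) }
  have hsingle : ∀ i (m : Multiplicative (M i)), Equiv.Perm.sign (T (Pi.mulSingle (M := fun i => Multiplicative (M i)) i m)) = 1 := by
    intro i m
    let f : M i ≃ {p : Σ j, M j // p.1 = i} :=
      { toFun := fun z => ⟨⟨i, z⟩, rfl⟩
        invFun := fun p => p.2 ▸ p.1.2
        left_inv := fun z => rfl
        right_inv := by rintro ⟨⟨j, z⟩, rfl⟩; rfl }
    have : T (Pi.mulSingle (M := fun i => Multiplicative (M i)) i m) = (Equiv.addLeft m.toAdd).extendDomain f := by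
      refine Equiv.ext fun ⟨j, z⟩ => ?_
      by_cases hj : j = i
      · subst hj
        rw [show (⟨j, z⟩ : Σ j, M j) = ((f z : {p : Σ j', M j' // p.1 = j}) : Σ j', M j') from rfl,
          Equiv.Perm.extendDomain_apply_image]
        show (⟨j, (Pi.mulSingle (M := fun i => Multiplicative (M i)) j m j : Multiplicative (M j)).toAdd + z⟩ : Σ j, M j) = ⟨j, m.toAdd + z⟩
        rw [Pi.mulSingle_eq_same]
      · rw [Equiv.Perm.extendDomain_apply_not_subtype _ f hj]
        show (⟨j, (Pi.mulSingle (M := fun i => Multiplicative (M i)) i m j : Multiplicative (M j)).toAdd + z⟩ : Σ j, M j) = ⟨j, z⟩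
        rw [Pi.mulSingle_eq_of_ne hj, toAdd_one, zero_add]
    rw [this, Equiv.Perm.sign_extendDomain]
    exact heven i _
  have hT : ∀ x, Equiv.Perm.sign (T x) = 1 := fun x => by
    rw [show Equiv.Perm.sign (T x) = (Equiv.Perm.sign.comp T) x from rfl, ← Finset.univ_prod_mulSingle x,
      map_prod]
    exact Finset.prod_eq_one fun i _ => hsingle i _
  let φ : (∀ i, Multiplicative (M i)) →* Equiv.Perm (Fin n) := e.permCongrHom.toMonoidHom.comp T
  have hs : ∀ x, φ x ∈ alternatingGroup (Fin n) := fun x => by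
    rw [Equiv.Perm.mem_alternatingGroup]
    show Equiv.Perm.sign (e.permCongr (T x)) = 1
    rw [Equiv.Perm.sign_permCongr]
    exact hT x
  have hφ : Function.Injective φ := fun x y h => by
    funext i
    have h2 := Equiv.ext_iff.1 (e.permCongrHom.injective h) ⟨i, 0⟩
    change (⟨i, (x i).toAdd + 0⟩ : Σ i, M i) = ⟨i, (y i).toAdd + 0⟩ at h2
    simpa using h2
  let ψ := φ.codRestrict _ hs
  have hψ : Function.Injective ψ := fun x y h => hφ (congrArg Subtype.val h)
  refine ⟨ψ.range, ⟨⟨fun a b => ?_⟩⟩, ?_⟩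
  · obtain ⟨x, hx⟩ := a.2
    obtain ⟨y, hy⟩ := b.2
    refine Subtype.ext ?_
    rw [Subgroup.coe_mul, Subgroup.coe_mul, ← hx, ← hy, ← map_mul, ← map_mul, mul_comm]
  · rw [← Nat.card_congr (MonoidHom.ofInjective hψ).toEquiv, Nat.card_pi]
    exact Finset.prod_congr rfl fun i _ => (Nat.card_eq_fintype_card (α := M i))

end Cfsg.Lib.AbelianPerm
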