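import Cfsg.Prelude.Def_Perm
import Cfsg.Agent.Lib.Char.Orthogonality
import Cfsg.Agent.Lib.Char.Central

/-!
The commutant of a complex representation: it consists of the averaged operators of conjugates of
irreducible characters exactly when the character is multiplicity free.
-/

set_option autoImplicit false
set_option linter.unusedSectionVars false
set_option linter.style.haveILetI false

namespace Cfsg.Agent.CentralizerRing

open Cfsg Cfsg.Lib.Char Module
open scoped ComplexConjugate

universe u v

variable {G : Type u} [Group G] [Fintype G]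
variable {V : Type v} [AddCommGroup V] [Module ℂ V] [FiniteDimensional ℂ V]

/-- The linear map commutes with the representation. -/
def Commutes (ρ : Representation ℂ G V) (T : V →ₗ[ℂ] V) : Prop :=
  ∀ g, T ∘ₗ ρ g = ρ g ∘ₗ T

/-- The operator of the conjugate of `χ`. -/
noncomputable def avg (ρ : Representation ℂ G V) (χ : G → ℂ) : V →ₗ[ℂ] V :=
  averageOp ρ (fun g => conj (χ g))

theorem commutes_averageOp (ρ : Representation ℂ G V) {f : G → ℂ} (hf : IsClassFunction G f) :
    Commutes ρ (averageOp ρ f) :=
  fun g => LinearMap.ext fun x => averageOp_comm ρ hf g x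

theorem averageOp_commutes (ρ : Representation ℂ G V) (f : G → ℂ) {T : V →ₗ[ℂ] V}
    (hT : Commutes ρ T) : T ∘ₗ averageOp ρ f = averageOp ρ f ∘ₗ T := by
  refine LinearMap.ext fun x => ?_
  simp only [LinearMap.comp_apply, averageOp_apply, map_sum, map_smul]
  refine Finset.sum_congr rfl fun g _ => ?_
  rw [show T (ρ g x) = ρ g (T x) from LinearMap.congr_fun (hT g) x]

theorem averageOp_mem {ρ : Representation ℂ G V} (p : Subrepresentation ρ) (f : G → ℂ)
    (x : p.toSubmodule) :
    averageOp ρ f (x : V) = (averageOp p.toRepresentation f x : V) := by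
  rw [averageOp_apply, averageOp_apply, Submodule.coe_sum]
  rfl

theorem commutes_projection {ρ : Representation ℂ G V} (p q : Subrepresentation ρ)
    (h : IsCompl p.toSubmodule q.toSubmodule) (g : G) (x : V) :
    p.toSubmodule.projectionOnto q.toSubmodule h (ρ g x) =
      p.toRepresentation g (p.toSubmodule.projectionOnto q.toSubmodule h x) := by
  have hx : x ∈ p.toSubmodule ⊔ q.toSubmodule := by rw [h.sup_eq_top]; trivial
  obtain ⟨a, ha, b, hb, rfl⟩ := Submodule.mem_sup.mp hx
  rw [map_add (ρ g), map_add, map_add,
    Submodule.projectionOnto_apply_of_mem_left h (p.apply_mem_toSubmodule g ha),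
    Submodule.projectionOnto_apply_of_mem_left h ha,
    (Submodule.projectionOnto_apply_eq_zero_iff h).mpr (q.apply_mem_toSubmodule g hb),
    (Submodule.projectionOnto_apply_eq_zero_iff h).mpr hb, add_zero, add_zero]
  rfl

theorem inner_add {ρ : Representation ℂ G V} (p q : Subrepresentation ρ)
    (h : IsCompl p.toSubmodule q.toSubmodule) {χ : G → ℂ} (hχ : IsIrrCharacter G χ) :
    ∃ a b : ℕ, classInner p.toRepresentation.character χ = a ∧
      classInner q.toRepresentation.character χ = b ∧
      classInner ρ.character χ = ((a + b : ℕ) : ℂ) := by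
  obtain ⟨a, ha⟩ := (isCharacter_character p.toRepresentation).exists_nat_classInner hχ.isCharacter
  obtain ⟨b, hb⟩ := (isCharacter_character q.toRepresentation).exists_nat_classInner hχ.isCharacter
  refine ⟨a, b, ha, hb, ?_⟩
  rw [character_eq_add_of_isCompl p q h, classInner_add_left, ha, hb, Nat.cast_add]

theorem averageOp_irr (σ : Representation ℂ G V) [σ.IsIrreducible] {χ : G → ℂ}
    (hχ : IsIrrCharacter G χ) :
    avg σ χ = ((Nat.card G : ℂ) * classInner σ.character χ / (finrank ℂ V : ℂ)) •
      LinearMap.id := by
  have hf : IsClassFunction G fun g => conj (χ g) := fun g k => congrArg conj (hχ.isClassFunction g k)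
  rw [avg, averageOp_irreducible σ hf, classInner, ← mul_assoc,
    mul_inv_cancel₀ card_cast_ne_zero, one_mul]
  simp only [mul_comm]

theorem trace_avg (ρ : Representation ℂ G V) (χ : G → ℂ) :
    LinearMap.trace ℂ V (avg ρ χ) = (Nat.card G : ℂ) * classInner ρ.character χ := by
  rw [classInner, ← mul_assoc, mul_inv_cancel₀ card_cast_ne_zero, one_mul]
  simp only [avg, averageOp, map_sum, map_smul, smul_eq_mul]
  exact Finset.sum_congr rfl fun g _ => mul_comm _ _

theorem avg_eq_zero (ρ : Representation ℂ G V) {χ : G → ℂ} (hχ : IsIrrCharacter G χ)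
    (h : classInner ρ.character χ = 0) : avg ρ χ = 0 := by
  revert h
  suffices H : ∀ [FiniteDimensional ℂ V],
      classInner ρ.character χ = 0 → avg ρ χ = 0 from H
  refine rep_induction (P := fun W _ _ σ => ∀ [FiniteDimensional ℂ W],
    classInner σ.character χ = 0 → avg σ χ = 0) ?_ ?_ ?_ ρ
  · intro W _ _ _ σ _ _
    exact Subsingleton.elim _ _
  · intro W _ _ _ σ hσ _ h
    rw [averageOp_irr σ hχ, h, mul_zero, zero_div, zero_smul]
  · intro W _ _ _ σ p q hpq hp hq _ h
    obtain ⟨a, b, ha, hb, hab⟩ := inner_add p q hpq hχ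
    rw [h, eq_comm, Nat.cast_eq_zero] at hab
    have ha' : classInner p.toRepresentation.character χ = 0 := by
      rw [ha, Nat.cast_eq_zero]; omega
    have hb' : classInner q.toRepresentation.character χ = 0 := by
      rw [hb, Nat.cast_eq_zero]; omega
    refine LinearMap.ext fun x => ?_
    have hx : x ∈ p.toSubmodule ⊔ q.toSubmodule := by rw [hpq.sup_eq_top]; trivial
    obtain ⟨y, hy, z, hz, rfl⟩ := Submodule.mem_sup.mp hx
    have e1 : avg σ χ y = 0 := by
      rw [avg, averageOp_mem p _ ⟨y, hy⟩]
      have := hp ha'
      rw [avg] at this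
      rw [this]
      rfl
    have e2 : avg σ χ z = 0 := by
      rw [avg, averageOp_mem q _ ⟨z, hz⟩]
      have := hq hb'
      rw [avg] at this
      rw [this]
      rfl
    rw [map_add, e1, e2, add_zero]
    rfl

/-- If the operator of `f` vanishes, so does the pairing of `f` with every constituent. -/
theorem sum_eq_zero_of_averageOp_eq_zero (ρ : Representation ℂ G V) {f χ : G → ℂ}
    (hχ : IsIrrCharacter G χ) (hf : averageOp ρ f = 0) (h : classInner ρ.character χ ≠ 0) :
    ∑ g, f g * χ g = 0 := by
  revert hf h
  suffices H : ∀ [FiniteDimensional ℂ V],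
      averageOp ρ f = 0 → classInner ρ.character χ ≠ 0 → ∑ g, f g * χ g = 0 from H
  refine rep_induction (P := fun W _ _ σ => ∀ [FiniteDimensional ℂ W],
    averageOp σ f = 0 → classInner σ.character χ ≠ 0 → ∑ g, f g * χ g = 0) ?_ ?_ ?_ ρ
  · intro W _ _ _ σ _ _ h
    refine absurd ?_ h
    have : σ.character = 0 := by
      funext g
      show LinearMap.trace ℂ W (σ g) = 0
      rw [show σ g = 0 from Subsingleton.elim _ _, map_zero]
    rw [this, classInner_zero_left]
  · intro W _ _ _ σ hσ _ hf h
    have hirr := (haveI := hσ; isIrrCharacter_character σ)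
    have he : σ.character = χ := by
      by_contra hne
      exact h (classInner_irr_ne hirr hχ hne)
    have := congrArg (LinearMap.trace ℂ W) hf
    simp only [averageOp, map_sum, map_smul, map_zero, smul_eq_mul] at this
    rw [← he]
    exact this
  · intro W _ _ _ σ p q hpq hp hq _ hf h
    have hres : ∀ r : Subrepresentation σ, averageOp r.toRepresentation f = 0 := fun r =>
      LinearMap.ext fun x => Subtype.ext (by rw [← averageOp_mem r f x, hf]; rfl)
    obtain ⟨a, b, ha, hb, hab⟩ := inner_add p q hpq hχ
    by_cases h0 : a = 0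
    · refine hq (hres q) ?_
      rw [hb, Nat.cast_ne_zero]
      rintro rfl
      exact h (by rw [hab, h0]; simp)
    · exact hp (hres p) (by rw [ha]; exact Nat.cast_ne_zero.mpr h0)

theorem hom_eq_zero {ρ : Representation ℂ G V} (p q : Subrepresentation ρ)
    (h : classInner q.toRepresentation.character p.toRepresentation.character = 0)
    (f : p.toSubmodule →ₗ[ℂ] q.toSubmodule)
    (hf : ∀ g, f ∘ₗ p.toRepresentation g = q.toRepresentation g ∘ₗ f) : f = 0 := by
  rw [classInner_character, Nat.cast_eq_zero] at h
  haveI : Subsingleton (Representation.IntertwiningMap p.toRepresentation q.toRepresentation) :=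
    finrank_zero_iff.mp h
  exact congrArg Representation.IntertwiningMap.toLinearMap
    (Subsingleton.elim (⟨f, hf⟩ : Representation.IntertwiningMap p.toRepresentation
      q.toRepresentation) 0)

/-- A multiplicity free representation has as commutant the operators of its constituents. -/
theorem exists_sum_avg (ρ : Representation ℂ G V)
    (hm : ∀ χ : G → ℂ, IsIrrCharacter G χ →
      classInner ρ.character χ = 0 ∨ classInner ρ.character χ = 1)
    {T : V →ₗ[ℂ] V} (hT : Commutes ρ T) :
    ∃ c : IrrCharacter G → ℂ, T = ∑ χ : IrrCharacter G, c χ • avg ρ (χ : G → ℂ) := by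
  revert hm hT T
  suffices H : ∀ [FiniteDimensional ℂ V], (∀ χ : G → ℂ, IsIrrCharacter G χ →
      classInner ρ.character χ = 0 ∨ classInner ρ.character χ = 1) →
      ∀ T : V →ₗ[ℂ] V, Commutes ρ T →
      ∃ c : IrrCharacter G → ℂ, T = ∑ χ : IrrCharacter G, c χ • avg ρ (χ : G → ℂ) from
    fun h {T} hT => H h T hT
  refine rep_induction (P := fun W _ _ σ => ∀ [FiniteDimensional ℂ W],
    (∀ χ : G → ℂ, IsIrrCharacter G χ →
      classInner σ.character χ = 0 ∨ classInner σ.character χ = 1) →
      ∀ T : W →ₗ[ℂ] W, Commutes σ T →
      ∃ c : IrrCharacter G → ℂ, T = ∑ χ : IrrCharacter G, c χ • avg σ (χ : G → ℂ)) ?_ ?_ ?_ ρ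
  · intro W _ _ _ σ _ _ T _
    exact ⟨0, Subsingleton.elim _ _⟩
  · intro W _ _ _ σ hσ _ _ T hT
    classical
    have hirr := (haveI := hσ; isIrrCharacter_character σ)
    obtain ⟨a, ha⟩ := (Representation.IsIrreducible.algebraMap_intertwiningMap_bijective_of_isAlgClosed
      (ρ := σ)).2 ⟨T, hT⟩
    have hTa : T = a • LinearMap.id :=
      (congrArg Representation.IntertwiningMap.toLinearMap ha).symm
    refine ⟨fun χ => if (χ : G → ℂ) = σ.character then
      a * (finrank ℂ W : ℂ) / (Nat.card G : ℂ) else 0, ?_⟩
    rw [Finset.sum_eq_single (⟨σ.character, hirr⟩ : IrrCharacter G)]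
    · dsimp only
      rw [if_pos rfl, averageOp_irr σ hirr, classInner_irreducible_self, smul_smul, hTa]
      congr 1
      have h1 : (finrank ℂ W : ℂ) ≠ 0 := Nat.cast_ne_zero.mpr (irreducible_finrank_pos σ).ne'
      have h2 : (Nat.card G : ℂ) ≠ 0 := card_cast_ne_zero
      field_simp
    · intro χ _ hne
      dsimp only
      rw [if_neg (fun h => hne (Subtype.ext h)), zero_smul]
    · simp
  · intro W _ _ _ σ p q hpq hp hq _ hm T hT
    classical
    have hmp : ∀ χ : G → ℂ, IsIrrCharacter G χ →
        classInner p.toRepresentation.character χ = 0 ∨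
          classInner p.toRepresentation.character χ = 1 := by
      intro χ hχ
      obtain ⟨a, b, ha, hb, hab⟩ := inner_add p q hpq hχ
      rcases hm χ hχ with h | h <;> rw [hab] at h <;> norm_cast at h <;> rw [ha] <;> norm_cast <;> omega
    have hmq : ∀ χ : G → ℂ, IsIrrCharacter G χ →
        classInner q.toRepresentation.character χ = 0 ∨
          classInner q.toRepresentation.character χ = 1 := by
      intro χ hχ
      obtain ⟨a, b, ha, hb, hab⟩ := inner_add p q hpq hχ
      rcases hm χ hχ with h | h <;> rw [hab] at h <;> norm_cast at h <;> rw [hb] <;> norm_cast <;> omega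
    have hexcl : ∀ χ : G → ℂ, IsIrrCharacter G χ →
        classInner p.toRepresentation.character χ = 0 ∨
          classInner q.toRepresentation.character χ = 0 := by
      intro χ hχ
      obtain ⟨a, b, ha, hb, hab⟩ := inner_add p q hpq hχ
      rcases hm χ hχ with h | h <;> rw [hab] at h <;> norm_cast at h <;> rw [ha, hb] <;> norm_cast <;> omega
    have horth : ∀ r s : Subrepresentation σ,
        (∀ χ : G → ℂ, IsIrrCharacter G χ → classInner r.toRepresentation.character χ = 0 ∨
          classInner s.toRepresentation.character χ = 0) →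
        classInner r.toRepresentation.character s.toRepresentation.character = 0 := by
      intro r s h
      rw [classInner_eq_sum (isCharacter_character r.toRepresentation).isClassFunction]
      refine Finset.sum_eq_zero fun χ _ => ?_
      rcases h χ χ.2 with h | h <;> simp [h]
    have key : ∀ r s : Subrepresentation σ, IsCompl r.toSubmodule s.toSubmodule →
        classInner s.toRepresentation.character r.toRepresentation.character = 0 →
        ∀ x ∈ r.toSubmodule, T x ∈ r.toSubmodule := by
      intro r s hrs h0 x hx
      have hf := hom_eq_zero r s h0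
        (s.toSubmodule.projectionOnto r.toSubmodule hrs.symm ∘ₗ T ∘ₗ r.toSubmodule.subtype)
        (fun g => LinearMap.ext fun y => by
          simp only [LinearMap.comp_apply, Submodule.subtype_apply]
          rw [show (r.toRepresentation g y : W) = σ g y from rfl,
            show T (σ g y) = σ g (T y) from LinearMap.congr_fun (hT g) y,
            commutes_projection s r hrs.symm g])
      exact (Submodule.projectionOnto_apply_eq_zero_iff hrs.symm).mp
        (LinearMap.congr_fun hf ⟨x, hx⟩)
    have hTp := key p q hpq (horth q p fun χ hχ => (hexcl χ hχ).symm)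
    have hTq := key q p hpq.symm (horth p q hexcl)
    obtain ⟨cp, hcp⟩ := hp hmp (T.restrict hTp) (fun g => LinearMap.ext fun y => Subtype.ext
      (LinearMap.congr_fun (hT g) (y : W)))
    obtain ⟨cq, hcq⟩ := hq hmq (T.restrict hTq) (fun g => LinearMap.ext fun y => Subtype.ext
      (LinearMap.congr_fun (hT g) (y : W)))
    refine ⟨fun χ => if classInner p.toRepresentation.character (χ : G → ℂ) = 0 then cq χ else cp χ,
      ?_⟩
    refine LinearMap.ext fun x => ?_
    have hx : x ∈ p.toSubmodule ⊔ q.toSubmodule := by rw [hpq.sup_eq_top]; trivial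
    obtain ⟨y, hy, z, hz, rfl⟩ := Submodule.mem_sup.mp hx
    rw [map_add, map_add]
    congr 1
    · have h1 : T y = ((T.restrict hTp) ⟨y, hy⟩ : W) := rfl
      rw [h1, hcp, LinearMap.sum_apply, LinearMap.sum_apply, Submodule.coe_sum]
      refine Finset.sum_congr rfl fun χ _ => ?_
      rw [LinearMap.smul_apply, LinearMap.smul_apply, Submodule.coe_smul,
        show avg σ (χ : G → ℂ) y = (avg p.toRepresentation (χ : G → ℂ) ⟨y, hy⟩ : W) from
          averageOp_mem p _ ⟨y, hy⟩]
      dsimp only
      split_ifs with h
      · rw [avg_eq_zero p.toRepresentation χ.2 h]; simp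
      · rfl
    · have h1 : T z = ((T.restrict hTq) ⟨z, hz⟩ : W) := rfl
      rw [h1, hcq, LinearMap.sum_apply, LinearMap.sum_apply, Submodule.coe_sum]
      refine Finset.sum_congr rfl fun χ _ => ?_
      rw [LinearMap.smul_apply, LinearMap.smul_apply, Submodule.coe_smul,
        show avg σ (χ : G → ℂ) z = (avg q.toRepresentation (χ : G → ℂ) ⟨z, hz⟩ : W) from
          averageOp_mem q _ ⟨z, hz⟩]
      dsimp only
      split_ifs with h
      · rfl
      · rw [avg_eq_zero q.toRepresentation χ.2 ((hexcl χ χ.2).resolve_left h)]; simp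

theorem comm_of_multiplicityFree (ρ : Representation ℂ G V)
    (hm : ∀ χ : G → ℂ, IsIrrCharacter G χ →
      classInner ρ.character χ = 0 ∨ classInner ρ.character χ = 1)
    {S T : V →ₗ[ℂ] V} (hS : Commutes ρ S) (hT : Commutes ρ T) : S ∘ₗ T = T ∘ₗ S := by
  obtain ⟨c, rfl⟩ := exists_sum_avg ρ hm hT
  refine LinearMap.ext fun x => ?_
  simp only [LinearMap.comp_apply, LinearMap.sum_apply, LinearMap.smul_apply, map_sum, map_smul]
  refine Finset.sum_congr rfl fun χ _ => ?_
  rw [show S (avg ρ (χ : G → ℂ) x) = avg ρ (χ : G → ℂ) (S x) from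
    LinearMap.congr_fun (averageOp_commutes ρ _ hS) x]

theorem multiplicityFree_of_comm (ρ : Representation ℂ G V)
    (hc : ∀ S T : V →ₗ[ℂ] V, Commutes ρ S → Commutes ρ T → S ∘ₗ T = T ∘ₗ S)
    {χ : G → ℂ} (hχ : IsIrrCharacter G χ) :
    classInner ρ.character χ = 0 ∨ classInner ρ.character χ = 1 := by
  revert hc
  suffices H : ∀ [FiniteDimensional ℂ V], (∀ S T : V →ₗ[ℂ] V, Commutes ρ S → Commutes ρ T →
      S ∘ₗ T = T ∘ₗ S) → classInner ρ.character χ = 0 ∨ classInner ρ.character χ = 1 from H
  refine rep_induction (P := fun W _ _ σ => ∀ [FiniteDimensional ℂ W],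
    (∀ S T : W →ₗ[ℂ] W, Commutes σ S → Commutes σ T → S ∘ₗ T = T ∘ₗ S) →
      classInner σ.character χ = 0 ∨ classInner σ.character χ = 1) ?_ ?_ ?_ ρ
  · intro W _ _ _ σ _ _
    left
    have : σ.character = 0 := by
      funext g
      show LinearMap.trace ℂ W (σ g) = 0
      rw [show σ g = 0 from Subsingleton.elim _ _, map_zero]
    rw [this, classInner_zero_left]
  · intro W _ _ _ σ hσ _ _
    rw [classInner_irr ((haveI := hσ; isIrrCharacter_character σ)) hχ]
    split_ifs <;> simp
  · intro W _ _ _ σ p q hpq hp hq _ hc
    have ext : ∀ (r s : Subrepresentation σ) (hrs : IsCompl r.toSubmodule s.toSubmodule)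
        (A : r.toSubmodule →ₗ[ℂ] r.toSubmodule), Commutes r.toRepresentation A →
        Commutes σ (r.toSubmodule.subtype ∘ₗ A ∘ₗ r.toSubmodule.projectionOnto s.toSubmodule hrs) := by
      intro r s hrs A hA g
      refine LinearMap.ext fun x => ?_
      simp only [LinearMap.comp_apply]
      rw [commutes_projection r s hrs g x,
        show A (r.toRepresentation g (r.toSubmodule.projectionOnto s.toSubmodule hrs x)) =
          r.toRepresentation g (A (r.toSubmodule.projectionOnto s.toSubmodule hrs x)) from
          LinearMap.congr_fun (hA g) _]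
      rfl
    have sub : ∀ (r s : Subrepresentation σ) (hrs : IsCompl r.toSubmodule s.toSubmodule)
        (A B : r.toSubmodule →ₗ[ℂ] r.toSubmodule), Commutes r.toRepresentation A →
        Commutes r.toRepresentation B → A ∘ₗ B = B ∘ₗ A := by
      intro r s hrs A B hA hB
      have h := hc _ _ (ext r s hrs A hA) (ext r s hrs B hB)
      refine LinearMap.ext fun y => Subtype.ext ?_
      have h' := LinearMap.congr_fun h (y : W)
      simpa [Submodule.projectionOnto_apply_left] using h'
    have hzero : classInner q.toRepresentation.character p.toRepresentation.character = 0 := by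
      rw [classInner_character, Nat.cast_eq_zero]
      haveI : Subsingleton
          (Representation.IntertwiningMap p.toRepresentation q.toRepresentation) := by
        refine subsingleton_of_forall_eq 0 fun f => ?_
        have hS : Commutes σ (q.toSubmodule.subtype ∘ₗ f.toLinearMap ∘ₗ
            p.toSubmodule.projectionOnto q.toSubmodule hpq) := by
          intro g
          refine LinearMap.ext fun x => ?_
          simp only [LinearMap.comp_apply]
          rw [commutes_projection p q hpq g x,
            show f.toLinearMap (p.toRepresentation g _) = q.toRepresentation g (f.toLinearMap _)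
              from LinearMap.congr_fun (f.isIntertwining' g) _]
          rfl
        have hP : Commutes σ (p.toSubmodule.subtype ∘ₗ LinearMap.id ∘ₗ
            p.toSubmodule.projectionOnto q.toSubmodule hpq) :=
          ext p q hpq LinearMap.id fun g => rfl
        have h := hc _ _ hP hS
        refine Representation.IntertwiningMap.ext (LinearMap.ext fun y => Subtype.ext ?_)
        have h' := LinearMap.congr_fun h (y : W)
        simp only [LinearMap.comp_apply, LinearMap.id_apply, Submodule.subtype_apply,
          Submodule.projectionOnto_apply_left] at h'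
        rw [(Submodule.projectionOnto_apply_eq_zero_iff hpq).mpr (f.toLinearMap y).2] at h'
        exact h'.symm
      exact finrank_zero_of_subsingleton
    obtain ⟨a, b, ha, hb, hab⟩ := inner_add p q hpq hχ
    have h1 := hp (sub p q hpq)
    have h2 := hq (sub q p hpq.symm)
    have h3 : a * b = 0 := by
      choose n hn using fun ψ : IrrCharacter G =>
        (isCharacter_character p.toRepresentation).exists_nat_classInner ψ.2.isCharacter
      choose m hm using fun ψ : IrrCharacter G =>
        (isCharacter_character q.toRepresentation).exists_nat_classInner ψ.2.isCharacter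
      rw [classInner_eq_sum (isCharacter_character q.toRepresentation).isClassFunction] at hzero
      simp only [hn, hm, Complex.conj_natCast] at hzero
      have hz : ∑ ψ, m ψ * n ψ = 0 := by exact_mod_cast hzero
      have := Finset.sum_eq_zero_iff.mp hz ⟨χ, hχ⟩ (Finset.mem_univ _)
      have e1 : a = n ⟨χ, hχ⟩ := Nat.cast_injective (R := ℂ) (ha.symm.trans (hn ⟨χ, hχ⟩))
      have e2 : b = m ⟨χ, hχ⟩ := Nat.cast_injective (R := ℂ) (hb.symm.trans (hm ⟨χ, hχ⟩))
      rw [e1, e2, mul_comm]; exact this
    rw [ha] at h1
    rw [hb] at h2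
    rw [hab]
    norm_cast at h1 h2 ⊢
    rcases mul_eq_zero.mp h3 with h | h <;> omega

end Cfsg.Agent.CentralizerRing
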