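import Cfsg.Agent.Lib.Perm.RankFourScalars
import Cfsg.Agent.S0719
import Cfsg.Agent.S4503
import Mathlib.Data.Rat.Lemmas

/-! Wielandt's theorem on primitive groups of degree twice a prime: the character theory. -/

set_option autoImplicit false
set_option linter.unusedSectionVars false
set_option maxHeartbeats 1000000

namespace Cfsg.Agent.DegreeTwoP

open Cfsg Cfsg.Lib.Char Cfsg.Agent.CentralizerRing Cfsg.Agent.PermCharacter
  Cfsg.Agent.OrbitalScalars
open scoped ComplexConjugate

universe u v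

variable {G : Type u} [Group G] [Fintype G]

/-- The twist of an irreducible character by a power map. -/
noncomputable def tw (k : ℕ) (hk : k.Coprime (Nat.card G)) (χ : IrrCharacter G) : IrrCharacter G :=
  ⟨fun g => (χ : G → ℂ) (g ^ k), isIrrCharacter_comp_pow hk χ.2⟩

theorem tw_apply (k : ℕ) (hk : k.Coprime (Nat.card G)) (χ : IrrCharacter G) (g : G) :
    (tw k hk χ : G → ℂ) g = (χ : G → ℂ) (g ^ k) := rfl

theorem tw_injective (k : ℕ) (hk : k.Coprime (Nat.card G)) :
    Function.Injective (tw (G := G) k hk) := by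
  intro χ ψ h
  refine Subtype.ext (funext fun g => ?_)
  obtain ⟨g', rfl⟩ := (powBij_of_coprime hk).2 g
  exact congrFun (congrArg Subtype.val h) g'

variable {Ω : Type v} [Fintype Ω] [MulAction G Ω]

theorem fixed_pow {k : ℕ} (hk : k.Coprime (Nat.card G)) (g : G) :
    Nat.card (MulAction.fixedBy Ω (g ^ k)) = Nat.card (MulAction.fixedBy Ω g) := by
  obtain ⟨l, hl⟩ := exists_pow_eq_self_of_coprime
    (hk.coprime_dvd_right (orderOf_dvd_natCard g))
  refine Nat.card_congr (Equiv.subtypeEquivRight fun a => ⟨fun h => ?_, fun h => ?_⟩)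
  · have : g ^ k ∈ MulAction.stabilizer G a := h
    have h2 := Subgroup.pow_mem _ this l
    rw [hl] at h2
    exact h2
  · exact Subgroup.pow_mem _ (show g ∈ MulAction.stabilizer G a from h) k

theorem classInner_tw {k : ℕ} (hk : k.Coprime (Nat.card G)) (χ : IrrCharacter G) :
    classInner (permRep ℂ G Ω).character (tw k hk χ : G → ℂ) =
      classInner (permRep ℂ G Ω).character (χ : G → ℂ) := by
  simp only [classInner, character_permRep]
  congr 1
  rw [← (powBij_of_coprime hk).sum_comp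
    (fun g => (Nat.card (MulAction.fixedBy Ω g) : ℂ) * conj ((χ : G → ℂ) g))]
  exact Finset.sum_congr rfl fun g _ => by rw [fixed_pow hk, tw_apply]

/-- A constituent other than the principal one is faithful. -/
theorem faithful [MulAction.IsPreprimitive G Ω] [FaithfulSMul G Ω] (a₀ : Ω) {χ : G → ℂ}
    (hχ : IsIrrCharacter G χ) (h1 : χ ≠ fun _ => 1)
    (hc : classInner (permRep ℂ G Ω).character χ ≠ 0) (g : G) (hg : χ g = χ 1) : g = 1 := by
  classical
  obtain ⟨n, ρ, hρ, rfl⟩ := hχ
  have hρg : ρ g = LinearMap.id := (character_eq_finrank_iff ρ g).1 (by rw [hg, ρ.char_one])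
  by_contra hne
  have hN : (ρ.ker : Subgroup G).Normal := inferInstance
  have hgN : g ∈ (ρ.ker : Subgroup G) := hρg
  have hfix : MulAction.fixedPoints (ρ.ker : Subgroup G) Ω ≠ Set.univ := by
    intro h
    refine hne (eq_of_smul_eq_smul (α := Ω) fun x => ?_)
    rw [one_smul]
    exact (Set.eq_univ_iff_forall.1 h x) ⟨g, hgN⟩
  haveI : MulAction.IsPretransitive (ρ.ker : Subgroup G) Ω :=
    MulAction.IsQuasiPreprimitive.isPretransitive_of_normal hfix
  set N : Subgroup G := ρ.ker
  have hinv : ∀ (u : G) (k : N), ρ.character (u * k) = ρ.character u := by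
    intro u k
    show LinearMap.trace ℂ _ (ρ (u * k)) = LinearMap.trace ℂ _ (ρ u)
    rw [map_mul, show ρ (k : G) = 1 from k.2, mul_one]
  have hcount : ∀ u : G, ∑ k : N, (Nat.card (MulAction.fixedBy Ω (u * k)) : ℂ) = Nat.card N := by
    intro u
    have h' : ∀ k : N, (Nat.card (MulAction.fixedBy Ω (u * k)) : ℂ) =
        ∑ x : Ω, if (u * (k : G)) • x = x then (1 : ℂ) else 0 := fun k => by
      rw [Finset.sum_boole, Nat.card_eq_fintype_card, ← Set.toFinset_card]
      congr 2
      ext x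
      simp
    simp only [h']
    rw [Finset.sum_comm]
    have hone : ∀ x : Ω, (∑ k : N, if (u * (k : G)) • x = x then (1 : ℂ) else 0) =
        (Nat.card (MulAction.stabilizer N x) : ℂ) := fun x => by
      obtain ⟨k₀, hk₀⟩ := MulAction.exists_smul_eq N x (u⁻¹ • x)
      rw [Finset.sum_boole, Nat.card_eq_fintype_card, ← Fintype.card_subtype]
      congr 1
      refine Fintype.card_congr (Equiv.subtypeEquiv (Equiv.mulLeft k₀⁻¹) fun k => ?_)
      rw [MulAction.mem_stabilizer_iff]
      simp only [Equiv.coe_mulLeft, mul_smul, inv_smul_eq_iff]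
      constructor
      · intro h
        rw [hk₀, eq_inv_smul_iff]
        exact h
      · intro h
        rw [hk₀, eq_inv_smul_iff] at h
        exact h
    simp only [hone]
    have h5 : ∀ x : Ω, Nat.card (MulAction.stabilizer N x) * Fintype.card Ω = Nat.card N :=
      fun x => stabilizer_card_mul (G := N) Ω x
    have h6 : ∀ x : Ω, Nat.card (MulAction.stabilizer N x) =
        Nat.card (MulAction.stabilizer N a₀) := fun x =>
      Nat.eq_of_mul_eq_mul_right (Fintype.card_pos_iff.2 ⟨a₀⟩) ((h5 x).trans (h5 a₀).symm)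
    simp only [h6, Finset.sum_const, Finset.card_univ, nsmul_eq_mul]
    rw [mul_comm, ← Nat.cast_mul, h5 a₀]
  have hS : (Nat.card N : ℂ) * ∑ u : G, (Nat.card (MulAction.fixedBy Ω u) : ℂ) * conj (ρ.character u) =
      (Nat.card N : ℂ) * ∑ u : G, conj (ρ.character u) := by
    rw [Finset.mul_sum (a := (Nat.card N : ℂ)) (f := fun u => conj (ρ.character u))]
    calc (Nat.card N : ℂ) * ∑ u : G, (Nat.card (MulAction.fixedBy Ω u) : ℂ) * conj (ρ.character u)
        = ∑ k : N, ∑ u : G, (Nat.card (MulAction.fixedBy Ω (u * k)) : ℂ) * conj (ρ.character u) := by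
          rw [Nat.card_eq_fintype_card (α := N), ← nsmul_eq_mul, ← Finset.card_univ (α := N),
            ← Finset.sum_const]
          refine Finset.sum_congr rfl fun k _ => ?_
          refine (Fintype.sum_equiv (Equiv.mulRight (k : G)) _ _ fun u => ?_).symm
          simp [hinv u k]
      _ = ∑ u : G, (Nat.card N : ℂ) * conj (ρ.character u) := by
          rw [Finset.sum_comm]
          refine Finset.sum_congr rfl fun u _ => ?_
          rw [← Finset.sum_mul, hcount u]
  have hNz : (Nat.card N : ℂ) ≠ 0 := card_cast_ne_zero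
  have h0 : classInner (fun _ : G => (1 : ℂ)) ρ.character = 0 :=
    classInner_irr_ne isIrrCharacter_one ⟨n, ρ, hρ, rfl⟩ h1.symm
  apply hc
  rw [classInner, character_permRep]
  simp only [classInner, one_mul] at h0
  rw [mul_left_cancel₀ hNz hS, h0]

/-- Galois action on the scalars of an orbital. -/
theorem eig_galois [NeZero (Nat.card G)] (a b : Ω) (ψ : IrrCharacter G) :
    ∃ z : cycField (Nat.card G), (z : ℂ) = eig Ω a b (ψ : G → ℂ) ∧
      ∀ (σ : cycField (Nat.card G) →ₐ[ℚ] ℂ) (k : ℕ) (hk : k.Coprime (Nat.card G)), ActsAsPow σ k →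
        σ z = eig Ω a b (tw k hk ψ : G → ℂ) := by
  have hconj : ∀ χ : IrrCharacter G, ∀ g : G, conj ((χ : G → ℂ) g) = (χ : G → ℂ) g⁻¹ := by
    rintro ⟨χ, hχ⟩ g
    obtain ⟨n, ρ, -, rfl⟩ := hχ
    exact (character_inv ρ g).symm
  refine ⟨(Nat.card G : cycField (Nat.card G))⁻¹ * ∑ g : G, (orbCount Ω a b g : cycField (Nat.card G)) *
    charVal dvd_rfl ψ.2.isCharacter g⁻¹, ?_, fun σ k hk hσ => ?_⟩
  · simp [eig, classInner, charVal, hconj]
  · simp [eig, classInner, map_sum, galois_charVal dvd_rfl hσ, hconj, tw_apply]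

theorem normSq_add_add (a b : ℂ) :
    Complex.normSq (a + b) + Complex.normSq (a - b) =
      2 * (Complex.normSq a + Complex.normSq b) := by
  simp [Complex.normSq_apply]
  ring

theorem no_orbital_aux {p m : ℕ} (hp : p.Prime) (hpm : p = 2 * m + 1) (hm : 1 ≤ m)
    {k j V q : ℤ} {N : ℤ} (hk : 2 ≤ k) (hq : V = q ^ 2) (hN : (p : ℤ) * V + (2 * k + p * j) ^ 2 = 2 * N)
    (hE : (2 * k + 2 * (m : ℤ) * j) ^ 2 + m * j ^ 2 + m * V = 4 * k) : j ≤ -2 := by
  have hV : 0 ≤ V := hq ▸ sq_nonneg q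
  by_contra hj
  push Not at hj
  have hmz : (1 : ℤ) ≤ m := by exact_mod_cast hm
  have hpz : (p : ℤ) = 2 * m + 1 := by exact_mod_cast hpm
  rcases lt_trichotomy j 0 with hneg | rfl | hpos
  · have : j = -1 := by omega
    subst this
    obtain ⟨x, rfl⟩ : ∃ x, k = x + m := ⟨k - m, by ring⟩
    have hx : 0 ≤ x ^ 2 - x := by
      rcases le_or_gt x 0 with h | h
      · nlinarith
      · nlinarith
    have heq : 4 * (x ^ 2 - x) = (m : ℤ) * (3 - V) := by linarith
    have hV3 : V ≤ 3 := by
      by_contra h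
      push Not at h
      nlinarith
    have hodd : V % 2 = 1 := by
      have h1 : ((p : ℤ) * V + (2 * (x + m) + p * -1) ^ 2) % 2 = 0 := by rw [hN]; simp
      rw [hpz] at h1
      have h2 : ((2 * (m : ℤ) + 1) * V + (2 * (x + m) + (2 * m + 1) * -1) ^ 2) =
          (V + 1) + 2 * ((m : ℤ) * V + 2 * x ^ 2 - 2 * x) := by ring
      rw [h2] at h1
      omega
    rcases (show V = 1 ∨ V = 3 by omega) with rfl | rfl
    · have hsq : (p : ℤ) = (2 * x - 1) ^ 2 := by linarith
      have : p = (2 * x - 1).natAbs ^ 2 := by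
        zify
        rw [sq_abs]
        exact hsq
      exact Nat.Prime.not_prime_pow le_rfl (this ▸ hp)
    · exfalso
      have hq1 : q < 2 := by nlinarith
      have hq2 : -2 < q := by nlinarith
      interval_cases q <;> norm_num at hq
  · nlinarith
  · nlinarith [mul_pos (show (0 : ℤ) < k by omega) (mul_pos (show (0 : ℤ) < m by omega) hpos),
      sq_nonneg ((m : ℤ) * j), mul_nonneg (show (0 : ℤ) ≤ m by omega) hV]

theorem main [MulAction.IsPreprimitive G Ω] [FaithfulSMul G Ω] {p : ℕ} (hp : p.Prime)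
    (hp2 : p ≠ 2) (hΩ : Fintype.card Ω = 2 * p) (hfree : ∀ x : G, orderOf x = p → ∀ a : Ω, x • a ≠ a)
    (a₀ : Ω) :
    Nat.card (MulAction.orbitRel.Quotient (MulAction.stabilizer G a₀) Ω) = 2 ∨
      (Nat.card (MulAction.orbitRel.Quotient (MulAction.stabilizer G a₀) Ω) = 3 ∧
        ∃ χ₁ χ₂ : G → ℂ, IsIrrCharacter G χ₁ ∧ IsIrrCharacter G χ₂ ∧
          (fun g : G => (Nat.card (MulAction.fixedBy Ω g) : ℂ)) = (fun g => 1 + χ₁ g + χ₂ g) ∧
          χ₁ 1 = (p : ℂ) - 1 ∧ χ₂ 1 = p) := by
  classical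
  haveI := Fact.mk hp
  have hp3 : 3 ≤ p := by have := hp.two_le; omega
  haveI : NeZero (Nat.card G) := ⟨Nat.card_pos.ne'⟩
  set R := Nat.card (MulAction.orbitRel.Quotient (MulAction.stabilizer G a₀) Ω) with hR
  -- arithmetic of the group order
  have hstab := stabilizer_card_mul (G := G) Ω a₀
  rw [hΩ] at hstab
  have hpG : p ∣ Nat.card G := ⟨Nat.card (MulAction.stabilizer G a₀) * 2, by rw [← hstab]; ring⟩
  have hsq : ¬ p ^ 2 ∣ Nat.card G := by
    intro h
    obtain ⟨Q, hQ⟩ := Sylow.exists_subgroup_card_pow_prime p h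
    have horb : Nat.card (MulAction.orbit Q a₀) * Nat.card (MulAction.stabilizer Q a₀) = p ^ 2 := by
      rw [← hQ, Nat.card_congr (MulAction.orbitEquivQuotientStabilizer Q a₀),
        ← Subgroup.index_eq_card, Subgroup.index_mul_card]
    have hle : Nat.card (MulAction.orbit Q a₀) ≤ 2 * p := by
      rw [← hΩ, ← Nat.card_eq_fintype_card]
      exact Nat.card_le_card_of_injective _ Subtype.val_injective
    have hne : Nat.card (MulAction.stabilizer Q a₀) ≠ 1 := by
      intro h1
      rw [h1, mul_one] at horb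
      have : 3 * p ≤ p * p := Nat.mul_le_mul_right p hp3
      nlinarith
    obtain ⟨k, -, hk⟩ := (Nat.dvd_prime_pow hp).1
      (hQ ▸ Subgroup.card_subgroup_dvd_card (MulAction.stabilizer Q a₀))
    have hk0 : k ≠ 0 := fun h0 => hne (by rw [hk, h0, pow_zero])
    obtain ⟨⟨⟨x, hxQ⟩, hxa⟩, hx⟩ := exists_prime_orderOf_dvd_card' p (hk ▸ dvd_pow_self p hk0)
    simp only [Subgroup.orderOf_mk] at hx
    exact hfree x hx a₀ hxa
  obtain ⟨x, hx⟩ := exists_prime_orderOf_dvd_card' p hpG
  set Z := Subgroup.zpowers x with hZdef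
  have hZ : Nat.card Z = p := by rw [hZdef, Nat.card_zpowers, hx]
  -- the permutation character
  set π := (permRep ℂ G Ω).character with hπdef
  have hπfun : π = fun g : G => (Nat.card (MulAction.fixedBy Ω g) : ℂ) := character_permRep Ω
  have hπchar : IsCharacter G π := isCharacter_character _
  have hπ1 : π 1 = 2 * (p : ℂ) := by
    rw [hπfun]
    have : MulAction.fixedBy Ω (1 : G) = Set.univ := by ext; simp
    simp [this, Nat.card_eq_fintype_card, hΩ]
  have hπx : ∀ z : Z, z ≠ 1 → π z = 0 := by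
    intro z hz
    have ho : orderOf (z : G) = p := by
      rw [Subgroup.orderOf_coe]
      exact orderOf_eq_prime (by rw [← hZ]; exact pow_card_eq_one') hz
    rw [hπfun]
    simp only [Nat.cast_eq_zero, Nat.card_eq_zero]
    exact Or.inl ⟨fun a => hfree _ ho a.1 a.2⟩
  -- multiplicities and restrictions
  choose c hc using fun χ : IrrCharacter G => hπchar.exists_nat_classInner χ.2.isCharacter
  choose a ha using fun χ : IrrCharacter G =>
    (χ.2.isCharacter.comp Z.subtype).exists_nat_classInner (isCharacter_one (G := Z))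
  choose d hd0 hd using fun χ : IrrCharacter G => χ.2.exists_degree
  have haZ : ∀ χ : IrrCharacter G, ∑ z : Z, (χ : G → ℂ) z = (p : ℂ) * a χ := by
    intro χ
    have h := ha χ
    rw [classInner_one_right, hZ, inv_mul_eq_iff_eq_mul₀ (by exact_mod_cast hp.ne_zero)] at h
    exact h
  have hexp : π = ∑ χ : IrrCharacter G, (c χ : ℂ) • (χ : G → ℂ) := by
    conv_lhs => rw [eq_sum_classInner hπchar.isClassFunction]
    exact Finset.sum_congr rfl fun χ _ => by rw [hc]
  have hsumd : ∑ χ : IrrCharacter G, c χ * d χ = 2 * p := by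
    have h := congrFun hexp 1
    simp only [Finset.sum_apply, Pi.smul_apply, smul_eq_mul, hd, hπ1] at h
    exact_mod_cast h.symm
  have hsuma : ∑ χ : IrrCharacter G, c χ * a χ = 2 := by
    have h : ∑ z : Z, π z = ∑ χ : IrrCharacter G, (c χ : ℂ) * ∑ z : Z, (χ : G → ℂ) z := by
      rw [hexp]
      simp only [Finset.sum_apply, Pi.smul_apply, smul_eq_mul, Finset.mul_sum]
      exact Finset.sum_comm
    simp only [haZ] at h
    rw [Finset.sum_eq_single (1 : Z) (fun z _ hz => hπx z hz) (by simp), OneMemClass.coe_one,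
      hπ1] at h
    have h' : p * 2 = p * ∑ χ : IrrCharacter G, c χ * a χ := by
      have h'' : ((p * 2 : ℕ) : ℂ) = ((p * ∑ χ : IrrCharacter G, c χ * a χ : ℕ) : ℂ) := by
        push_cast
        rw [mul_comm (p : ℂ) 2, h, Finset.mul_sum]
        exact Finset.sum_congr rfl fun χ _ => by ring
      exact_mod_cast h''
    exact (Nat.eq_of_mul_eq_mul_left hp.pos h').symm
  set one : IrrCharacter G := ⟨fun _ => 1, isIrrCharacter_one⟩ with hone
  haveI : Nonempty Ω := ⟨a₀⟩
  have hc1 : c one = 1 := by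
    have h := hc one
    rw [show ((one : IrrCharacter G) : G → ℂ) = fun _ => (1 : ℂ) from rfl,
      classInner_one (G := G) Ω] at h
    exact_mod_cast h.symm
  have ha1 : a one = 1 := by
    have h := haZ one
    simp only [hone, Finset.sum_const, Finset.card_univ, nsmul_eq_mul, mul_one,
      ← Nat.card_eq_fintype_card, hZ] at h
    have h' : p * 1 = p * a one := by rw [mul_one]; exact_mod_cast h
    exact (Nat.eq_of_mul_eq_mul_left hp.pos h').symm
  have hd1 : d one = 1 := by
    have h : (1 : ℂ) = (d one : ℂ) := hd one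
    exact_mod_cast h.symm
  have hrest : ∑ χ ∈ Finset.univ.erase one, c χ * a χ = 1 := by
    rw [← Finset.add_sum_erase _ _ (Finset.mem_univ one), hc1, ha1] at hsuma
    omega
  have hrestd : ∑ χ ∈ Finset.univ.erase one, c χ * d χ = 2 * p - 1 := by
    rw [← Finset.add_sum_erase _ _ (Finset.mem_univ one), hc1, hd1] at hsumd
    omega
  -- constituents are faithful and not linear
  have hfaith : ∀ χ : IrrCharacter G, χ ≠ one → c χ ≠ 0 →
      ∀ g : G, (χ : G → ℂ) g = (χ : G → ℂ) 1 → g = 1 := fun χ h1 h0 g hg =>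
    faithful a₀ χ.2 (fun h => h1 (Subtype.ext h))
      (by show classInner π _ ≠ 0; rw [hc]; exact_mod_cast h0) g hg
  have hnotlin : ∀ χ : IrrCharacter G, χ ≠ one → c χ ≠ 0 → 2 ≤ d χ := by
    intro χ h1 h0
    by_contra hlt
    have hd' : (χ : G → ℂ) 1 = 1 := by
      rw [hd, show d χ = 1 by have := hd0 χ; omega, Nat.cast_one]
    obtain ⟨φ, hφ⟩ := exists_hom_of_degree_one χ.2.isCharacter hd'
    have hcomm : ∀ g h : G, g * h = h * g := by
      intro g h
      have h2 : (g * h) * (h * g)⁻¹ = 1 := by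
        refine hfaith χ h1 h0 _ ?_
        rw [hφ]
        simp only [map_mul, map_inv, map_one, mul_inv_rev]
        congr 1
        rw [show φ g * φ h * ((φ g)⁻¹ * (φ h)⁻¹) = (φ g * (φ g)⁻¹) * (φ h * (φ h)⁻¹) by
          rw [mul_mul_mul_comm]]
        simp
      exact mul_inv_eq_one.1 h2
    haveI : Nontrivial Ω := Fintype.one_lt_card_iff_nontrivial.1 (by omega)
    have hbot : MulAction.stabilizer G a₀ = ⊥ := by
      rw [Subgroup.eq_bot_iff_forall]
      intro g hg
      refine eq_of_smul_eq_smul (α := Ω) fun y => ?_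
      obtain ⟨h, rfl⟩ := MulAction.exists_smul_eq G a₀ y
      rw [one_smul, ← mul_smul, hcomm, mul_smul, show g • a₀ = a₀ from hg]
    have hco := MulAction.IsPreprimitive.isCoatom_stabilizer_of_isPreprimitive (G := G) a₀
    rw [hbot] at hco
    rcases hco.le_iff.1 (bot_le (a := Z)) with h | h
    · rw [hbot, Subgroup.card_bot, one_mul] at hstab
      have : Nat.card (⊤ : Subgroup G) = p := h ▸ hZ
      rw [Subgroup.card_top] at this
      omega
    · rw [h, Subgroup.card_bot] at hZ
      omega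
  -- twists
  have hctw : ∀ k (hk : k.Coprime (Nat.card G)) χ, c (tw k hk χ) = c χ := by
    intro k hk χ
    have h := classInner_tw (Ω := Ω) hk χ
    rw [← hπdef, hc, hc] at h
    exact_mod_cast h
  have hatw : ∀ k (hk : k.Coprime (Nat.card G)) χ, a (tw k hk χ) = a χ := by
    intro k hk χ
    have hb : Function.Bijective fun z : Z => z ^ k :=
      powBij_of_coprime (hk.coprime_dvd_right (Subgroup.card_subgroup_dvd_card Z))
    have h := haZ (tw k hk χ)
    rw [show ∑ z : Z, (tw k hk χ : G → ℂ) z = ∑ z : Z, (χ : G → ℂ) z from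
      (Finset.sum_congr rfl fun z _ => by rw [tw_apply, ← SubgroupClass.coe_pow]).trans
        (hb.sum_comp (fun z : Z => (χ : G → ℂ) z)), haZ] at h
    have h' : p * a χ = p * a (tw k hk χ) := by exact_mod_cast h
    exact (Nat.eq_of_mul_eq_mul_left hp.pos h').symm
  have hdtw : ∀ k (hk : k.Coprime (Nat.card G)) χ, d (tw k hk χ) = d χ := by
    intro k hk χ
    have h := hd (tw k hk χ)
    rw [tw_apply, one_pow, hd] at h
    exact_mod_cast h.symm
  have htwone : ∀ k (hk : k.Coprime (Nat.card G)) χ, χ ≠ one → tw k hk χ ≠ one := by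
    intro k hk χ h1 h
    exact h1 (tw_injective k hk (h.trans (show one = tw k hk one from rfl)))
  -- every non-trivial power of `x` is a power prime to the order
  have hpow : ∀ z : Z, z ≠ 1 → ∃ k : ℕ, k.Coprime (Nat.card G) ∧ (z : G) = x ^ k := by
    rintro ⟨z, hz⟩ hz1
    obtain ⟨i, hi⟩ := (isOfFinOrder_of_finite x).mem_powers_iff_mem_zpowers.2 hz
    have hip : ¬ p ∣ i := by
      intro h
      apply hz1
      ext
      show z = 1
      have hi' : x ^ i = z := hi
      rw [← hi', ← orderOf_dvd_iff_pow_eq_one, hx]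
      exact h
    obtain ⟨n, hn⟩ := hpG
    have hpn : ¬ p ∣ n := by
      intro h
      exact hsq (hn ▸ by rw [pow_two]; exact Nat.mul_dvd_mul_left p h)
    have hcop : p.Coprime n := hp.coprime_iff_not_dvd.2 hpn
    obtain ⟨k, hk1, hk2⟩ := Nat.chineseRemainder hcop i 1
    refine ⟨k, ?_, ?_⟩
    · rw [hn]
      refine Nat.Coprime.mul_right ?_ ?_
      · rw [Nat.coprime_comm, hp.coprime_iff_not_dvd]
        exact fun h => hip ((Nat.ModEq.dvd_iff hk1 dvd_rfl).1 h)
      · exact (Nat.ModEq.gcd_eq hk2).trans (Nat.gcd_one_left n)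
    · have hi' : x ^ i = z := hi
      show z = x ^ k
      rw [← hi']
      exact (pow_eq_pow_iff_modEq.2 (by rw [hx]; exact hk1)).symm
  have hfixed : ∀ χ : IrrCharacter G, (∀ k (hk : k.Coprime (Nat.card G)), tw k hk χ = χ) →
      ∃ r : ℤ, (χ : G → ℂ) x = r ∧ (d χ : ℤ) + ((p : ℤ) - 1) * r = p * a χ := by
    intro χ hfx
    have hinv : ∀ k, k.Coprime (Nat.card G) → ∀ g, (χ : G → ℂ) (g ^ k) = (χ : G → ℂ) g :=
      fun k hk g => by rw [← tw_apply k hk χ, hfx k hk]
    obtain ⟨r, hr⟩ := exists_int_of_pow_invariant χ.2.isCharacter x fun k hk => hinv k hk x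
    refine ⟨r, hr, ?_⟩
    have h := haZ χ
    have h2 : ∀ z ∈ (Finset.univ : Finset Z).erase 1, (χ : G → ℂ) z = r := fun z hz => by
      obtain ⟨k, hk, hzk⟩ := hpow z (Finset.ne_of_mem_erase hz)
      rw [hzk, hinv k hk, hr]
    rw [← Finset.add_sum_erase _ _ (Finset.mem_univ (1 : Z)), OneMemClass.coe_one, hd,
      Finset.sum_congr rfl h2,
      Finset.sum_const, Finset.card_erase_of_mem (Finset.mem_univ _), Finset.card_univ,
      ← Nat.card_eq_fintype_card, hZ, nsmul_eq_mul, Nat.cast_sub hp.one_le, Nat.cast_one] at h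
    have h' : (((d χ : ℤ) + ((p : ℤ) - 1) * r : ℤ) : ℂ) = (((p : ℤ) * a χ : ℤ) : ℂ) := by
      push_cast
      exact h
    exact_mod_cast h'
  -- the constituent with trivial restriction
  obtain ⟨φ, hφmem, hφne⟩ := Finset.exists_ne_zero_of_sum_ne_zero (hrest ▸ one_ne_zero)
  have hφ1 : φ ≠ one := Finset.ne_of_mem_erase hφmem
  have hφc : c φ ≠ 0 := left_ne_zero_of_mul hφne
  have hφa : a φ ≠ 0 := right_ne_zero_of_mul hφne
  rw [← Finset.add_sum_erase _ _ hφmem] at hrest
  have hca : c φ * a φ = 1 := by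
    have : 0 < c φ * a φ := Nat.pos_of_ne_zero hφne
    omega
  have hcφ : c φ = 1 := Nat.eq_one_of_mul_eq_one_right hca
  have haφ : a φ = 1 := Nat.eq_one_of_mul_eq_one_left hca
  have hothers : ∀ χ, χ ≠ one → χ ≠ φ → c χ ≠ 0 → a χ = 0 := by
    intro χ h1 h2 h0
    have h3 : ∑ ψ ∈ (Finset.univ.erase one).erase φ, c ψ * a ψ = 0 := by omega
    have := Finset.sum_eq_zero_iff.1 h3 χ (by simp [h1, h2])
    exact (Nat.mul_eq_zero.1 this).resolve_left h0
  have hφfix : ∀ k (hk : k.Coprime (Nat.card G)), tw k hk φ = φ := by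
    intro k hk
    by_contra hne
    have := hothers _ (htwone k hk φ hφ1) hne (by rw [hctw]; exact hφc)
    rw [hatw, haφ] at this
    exact one_ne_zero this
  obtain ⟨r, hrx, hr⟩ := hfixed φ hφfix
  rw [haφ] at hr
  have hdφ2 := hnotlin φ hφ1 hφc
  rw [← Finset.add_sum_erase _ _ hφmem, hcφ, one_mul] at hrestd
  have hdφ : (d φ = p ∧ r = 0) ∨ d φ = 2 * p - 1 := by
    have hle : d φ ≤ 2 * p - 1 := by omega
    have hle' : (d φ : ℤ) ≤ 2 * p - 1 := by omega
    have h2' : (2 : ℤ) ≤ d φ := by exact_mod_cast hdφ2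
    have hp3' : (3 : ℤ) ≤ p := by exact_mod_cast hp3
    rcases lt_trichotomy r (-1) with h | h | h
    · exfalso; push_cast at hr; nlinarith
    · right; subst h; push_cast at hr; omega
    · rcases eq_or_lt_of_le (show 0 ≤ r by omega) with h0 | h0
      · left; subst h0; push_cast at hr; constructor <;> omega
      · exfalso; push_cast at hr; nlinarith
  have hnorm : (R : ℂ) = ∑ χ : IrrCharacter G, ((c χ * c χ : ℕ) : ℂ) := by
    rw [hR, ← classInner_perm_self Ω a₀, ← hπdef, classInner_eq_sum hπchar.isClassFunction]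
    refine Finset.sum_congr rfl fun χ _ => ?_
    rw [hc, Complex.conj_natCast]
    push_cast
    ring
  set rest := (Finset.univ.erase one).erase φ with hrestdef
  have hsplit : ∀ f : IrrCharacter G → ℕ,
      ∑ χ : IrrCharacter G, f χ = f one + f φ + ∑ χ ∈ rest, f χ := by
    intro f
    rw [← Finset.add_sum_erase _ _ (Finset.mem_univ one), ← Finset.add_sum_erase _ _ hφmem, add_assoc]
  have hRnat : R = 1 + 1 + ∑ χ ∈ rest, c χ * c χ := by
    rw [← Nat.cast_sum, Nat.cast_inj, hsplit, hc1, hcφ] at hnorm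
    simpa using hnorm
  rcases hdφ with ⟨hdp, hr0⟩ | hdmax
  swap
  · -- two constituents
    left
    have h0 : ∑ χ ∈ rest, c χ * d χ = 0 := by omega
    have hz : ∀ χ ∈ rest, c χ * c χ = 0 := fun χ hχ => by
      rw [(Nat.mul_eq_zero.1 (Finset.sum_eq_zero_iff.1 h0 χ hχ)).resolve_right (hd0 χ).ne', zero_mul]
    rw [hRnat, Finset.sum_eq_zero hz]
    all_goals norm_num
  have hrest2 : ∑ χ ∈ rest, c χ * d χ = p - 1 := by omega
  have hmem : ∀ χ, χ ≠ one → χ ≠ φ → χ ∈ rest := fun χ h1 h2 => by simp [hrestdef, h1, h2]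
  obtain ⟨χ, hχmem, hχne⟩ := Finset.exists_ne_zero_of_sum_ne_zero
    (show ∑ χ ∈ rest, c χ * d χ ≠ 0 by omega)
  obtain ⟨hχφ, hχ1⟩ : χ ≠ φ ∧ χ ≠ one := by simpa [hrestdef] using hχmem
  have hχc : c χ ≠ 0 := left_ne_zero_of_mul hχne
  -- the bound on degrees of faithful characters
  have hbound : p ≤ 2 * d χ + 1 := by
    have h := Cfsg.Agent.S4503.result p hp hpG hsq ?_ (χ : G → ℂ) χ.2.isCharacter (hfaith χ hχ1 hχc)
    · rwa [Cfsg.Lib.Block.charDegree_eq_of_apply_one (hd χ)] at h
    intro H hH hHc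
    have hfix : MulAction.fixedPoints H Ω ≠ Set.univ := by
      intro h
      obtain ⟨⟨y, hy⟩, hyo⟩ := exists_prime_orderOf_dvd_card' (G := H) p (dvd_of_eq hHc.symm)
      simp only [Subgroup.orderOf_mk] at hyo
      exact hfree y hyo a₀ ((Set.eq_univ_iff_forall.1 h a₀) ⟨y, hy⟩)
    haveI := MulAction.IsQuasiPreprimitive.isPretransitive_of_normal hfix
    have := stabilizer_card_mul (G := H) Ω a₀
    rw [hHc, hΩ] at this
    rcases Nat.eq_zero_or_pos (Nat.card (MulAction.stabilizer H a₀)) with h0 | h0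
    · rw [h0, zero_mul] at this; exact hp.ne_zero this.symm
    · nlinarith
  by_cases hmove : ∃ k, ∃ hk : k.Coprime (Nat.card G), tw k hk χ ≠ χ
  swap
  · -- rank three
    push Not at hmove
    obtain ⟨r', -, hr'⟩ := hfixed χ hmove
    rw [hothers χ hχ1 hχφ hχc] at hr'
    push_cast at hr'
    rw [← Finset.add_sum_erase _ _ hχmem] at hrest2
    have hpos : 1 ≤ c χ := Nat.pos_of_ne_zero hχc
    have hdge : p - 1 ≤ d χ := by
      have hdz : (0 : ℤ) < d χ := by exact_mod_cast hd0 χ
      have hp3' : (3 : ℤ) ≤ p := by exact_mod_cast hp3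
      have : r' ≤ -1 := by
        by_contra h
        push Not at h
        nlinarith
      have : (p : ℤ) - 1 ≤ d χ := by nlinarith
      omega
    have hcd : d χ ≤ c χ * d χ := Nat.le_mul_of_pos_left _ hpos
    have hdeq : d χ = p - 1 := by omega
    have hceq : c χ = 1 := by
      have : c χ * d χ = 1 * d χ := by omega
      exact Nat.eq_of_mul_eq_mul_right (hd0 χ) this
    have hzero : ∀ ψ ∈ rest.erase χ, c ψ = 0 := fun ψ hψ =>
      (Nat.mul_eq_zero.1 (Finset.sum_eq_zero_iff.1
        (show ∑ ψ ∈ rest.erase χ, c ψ * d ψ = 0 by omega) ψ hψ)).resolve_right (hd0 ψ).ne'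
    refine Or.inr ⟨?_, χ, φ, χ.2, φ.2, ?_, ?_, ?_⟩
    · rw [hRnat, ← Finset.add_sum_erase _ _ hχmem, hceq,
        Finset.sum_eq_zero fun ψ hψ => by rw [hzero ψ hψ, zero_mul]]
      norm_num
    · rw [← hπfun, hexp]
      funext g
      simp only [Finset.sum_apply, Pi.smul_apply, smul_eq_mul]
      rw [← Finset.add_sum_erase _ _ (Finset.mem_univ one), ← Finset.add_sum_erase _ _ hφmem,
        ← Finset.add_sum_erase _ _ hχmem, Finset.sum_eq_zero fun ψ hψ => by
          rw [hzero ψ hψ, Nat.cast_zero, zero_mul], hc1, hcφ, hceq]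
      simp [hone]
      ring
    · rw [hd, hdeq, Nat.cast_sub hp.one_le, Nat.cast_one]
    · rw [hd, hdp]
  -- the impossible case: two conjugate constituents of degree `(p - 1) / 2`
  exfalso
  obtain ⟨k₁, hk₁, hne₁⟩ := hmove
  set χ' := tw k₁ hk₁ χ with hχ'def
  have hχ'1 : χ' ≠ one := htwone k₁ hk₁ χ hχ1
  have hχ'φ : χ' ≠ φ := fun h => hχφ (tw_injective k₁ hk₁ (h.trans (hφfix k₁ hk₁).symm))
  have hχ'c : c χ' = c χ := hctw _ _ _
  have hχ'd : d χ' = d χ := hdtw _ _ _
  have hχ'mem : χ' ∈ rest.erase χ := Finset.mem_erase.2 ⟨hne₁, hmem _ hχ'1 hχ'φ⟩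
  rw [← Finset.add_sum_erase _ _ hχmem, ← Finset.add_sum_erase _ _ hχ'mem, hχ'c, hχ'd] at hrest2
  set m := d χ with hmdef
  have hodd : p % 2 = 1 := Nat.odd_iff.1 (hp.odd_of_ne_two hp2)
  have hcd : m ≤ c χ * m := Nat.le_mul_of_pos_left _ (Nat.pos_of_ne_zero hχc)
  have hpm : p = 2 * m + 1 := by omega
  have hceq : c χ = 1 := by
    have : c χ * m = 1 * m := by omega
    exact Nat.eq_of_mul_eq_mul_right (hd0 χ) this
  have hm1 : 1 ≤ m := hd0 χ
  have hzero : ∀ ψ ∈ (rest.erase χ).erase χ', c ψ = 0 := fun ψ hψ =>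
    (Nat.mul_eq_zero.1 (Finset.sum_eq_zero_iff.1
      (show ∑ ψ ∈ (rest.erase χ).erase χ', c ψ * d ψ = 0 by omega) ψ hψ)).resolve_right (hd0 ψ).ne'
  have hR4 : R = 4 := by
    rw [hRnat, ← Finset.add_sum_erase _ _ hχmem, ← Finset.add_sum_erase _ _ hχ'mem, hχ'c, hceq,
      Finset.sum_eq_zero fun ψ hψ => by rw [hzero ψ hψ, zero_mul]]
    all_goals norm_num
  have hcases : ∀ ψ, c ψ ≠ 0 → ψ = one ∨ ψ = φ ∨ ψ = χ ∨ ψ = χ' := by
    intro ψ h0
    by_contra hcon
    push Not at hcon
    exact h0 (hzero ψ (by simp [hcon.1, hcon.2.1, hcon.2.2.1, hcon.2.2.2, hrestdef]))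
  have hmf : ∀ ψ : G → ℂ, IsIrrCharacter G ψ → classInner π ψ = 0 ∨ classInner π ψ = 1 := by
    intro ψ hψ
    rw [hc ⟨ψ, hψ⟩]
    by_cases h0 : c ⟨ψ, hψ⟩ = 0
    · left; rw [h0, Nat.cast_zero]
    · right
      rcases hcases _ h0 with h | h | h | h
      · rw [h, hc1, Nat.cast_one]
      · rw [h, hcφ, Nat.cast_one]
      · rw [h, hceq, Nat.cast_one]
      · rw [h, hχ'c, hceq, Nat.cast_one]
  have hfour : ∀ f : IrrCharacter G → ℂ, (∀ ψ, c ψ = 0 → f ψ = 0) →
      ∑ ψ : IrrCharacter G, f ψ = f one + f φ + f χ + f χ' := by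
    intro f hf
    rw [← Finset.add_sum_erase _ _ (Finset.mem_univ one), ← Finset.add_sum_erase _ _ hφmem,
      ← Finset.add_sum_erase _ _ hχmem, ← Finset.add_sum_erase _ _ hχ'mem,
      Finset.sum_eq_zero fun ψ hψ => hf ψ (hzero ψ hψ)]
    ring
  -- twists permute the pair
  have hperm : ∀ k (hk : k.Coprime (Nat.card G)),
      (tw k hk χ = χ ∧ tw k hk χ' = χ') ∨ (tw k hk χ = χ' ∧ tw k hk χ' = χ) := by
    intro k hk
    have h1 : ∀ ψ, ψ ≠ one → ψ ≠ φ → c ψ ≠ 0 → tw k hk ψ = χ ∨ tw k hk ψ = χ' := by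
      intro ψ e1 e2 e3
      rcases hcases (tw k hk ψ) (by rw [hctw]; exact e3) with h | h | h | h
      · exact absurd h (htwone k hk ψ e1)
      · exact absurd (tw_injective k hk (h.trans (hφfix k hk).symm)) e2
      · exact Or.inl h
      · exact Or.inr h
    have hd' : tw k hk χ' ≠ tw k hk χ := fun h => hne₁ (tw_injective k hk h)
    rcases h1 χ hχ1 hχφ hχc with h | h <;>
      rcases h1 χ' hχ'1 hχ'φ (by rw [hχ'c]; exact hχc) with h' | h'
    · exact absurd (h'.trans h.symm) hd'
    · exact Or.inl ⟨h, h'⟩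
    · exact Or.inr ⟨h, h'⟩
    · exact absurd (h'.trans h.symm) hd'
  -- values at `x`
  set β := (χ : G → ℂ) x with hβ
  set β' := (χ' : G → ℂ) x with hβ'
  have hsumval : ∀ g : G, π g = 1 + (φ : G → ℂ) g + (χ : G → ℂ) g + (χ' : G → ℂ) g := by
    intro g
    rw [hexp]
    simp only [Finset.sum_apply, Pi.smul_apply, smul_eq_mul]
    rw [hfour (fun ψ => (c ψ : ℂ) * (ψ : G → ℂ) g) fun ψ h => by simp [h], hc1, hcφ, hceq, hχ'c,
      hceq]
    simp [hone]
  have hval : ∀ z : Z, z ≠ 1 → (φ : G → ℂ) z = 0 ∧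
      (((χ : G → ℂ) z = β ∧ (χ' : G → ℂ) z = β') ∨ ((χ : G → ℂ) z = β' ∧ (χ' : G → ℂ) z = β)) := by
    intro z hz
    obtain ⟨k, hk, hzk⟩ := hpow z hz
    rw [hzk, ← tw_apply k hk φ, ← tw_apply k hk χ, ← tw_apply k hk χ', hφfix k hk]
    refine ⟨by rw [hrx, hr0, Int.cast_zero], ?_⟩
    rcases hperm k hk with ⟨h, h'⟩ | ⟨h, h'⟩ <;> rw [h, h']
    · exact Or.inl ⟨rfl, rfl⟩
    · exact Or.inr ⟨rfl, rfl⟩
  have hx1 : (⟨x, Subgroup.mem_zpowers x⟩ : Z) ≠ 1 := fun h => by
    have : x = 1 := congrArg Subtype.val h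
    rw [this, orderOf_one] at hx
    omega
  have hββ : β + β' = -1 := by
    have h := hsumval x
    have h' := hπx _ hx1
    simp only at h'
    rw [h', hrx, hr0, Int.cast_zero] at h
    linear_combination -h
  have hpm' : (p : ℂ) = 2 * (m : ℂ) + 1 := by exact_mod_cast hpm
  -- the difference of the two values has squared length `p`
  have hδ : Complex.normSq (β - β') = p := by
    have hres : ∀ μ : IrrCharacter Z, classInner (fun z : Z => (χ : G → ℂ) z) (μ : Z → ℂ) +
        classInner (fun z : Z => (χ' : G → ℂ) z) (μ : Z → ℂ) =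
        if (μ : Z → ℂ) = (fun _ => 1) then 0 else 1 := by
      intro μ
      have hcommZ : ∀ u v : Z, u * v = v * u := fun u v => mul_comm' u v
      have hμ1 : (μ : Z → ℂ) 1 = 1 := degree_eq_one_of_comm hcommZ μ.2
      have hsum : ∀ z : Z, (χ : G → ℂ) z + (χ' : G → ℂ) z =
          (if z = 1 then (p : ℂ) else 0) - 1 := by
        intro z
        by_cases hz : z = 1
        · subst hz
          rw [if_pos rfl, OneMemClass.coe_one, hd, hd, hχ'd, ← hmdef, hpm']
          ring
        · rw [if_neg hz]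
          have h := hsumval (z : G)
          rw [hπx z hz, (hval z hz).1] at h
          linear_combination -h
      rw [← classInner_add_left]
      simp only [classInner, Pi.add_apply, hsum, sub_mul, one_mul, Finset.sum_sub_distrib,
        ite_mul, zero_mul, Finset.sum_ite_eq', Finset.mem_univ, if_true, hμ1, map_one, mul_one,
        hZ]
      have h2 := classInner_irr isIrrCharacter_one μ.2
      simp only [classInner, one_mul, hZ, eq_comm (a := fun _ : Z => (1 : ℂ))] at h2
      rw [mul_sub, inv_mul_cancel₀ (by exact_mod_cast hp.ne_zero), h2]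
      split_ifs <;> norm_num
    have hone' : ∀ ψ ψ' : IrrCharacter G, (∀ μ : IrrCharacter Z,
        classInner (fun z : Z => (ψ : G → ℂ) z) (μ : Z → ℂ) +
        classInner (fun z : Z => (ψ' : G → ℂ) z) (μ : Z → ℂ) =
        if (μ : Z → ℂ) = (fun _ => 1) then 0 else 1) →
        ∑ z : Z, (Complex.normSq ((ψ : G → ℂ) z) : ℂ) = (p : ℂ) * (d ψ : ℂ) := by
      intro ψ ψ' hh
      have hψc : IsCharacter Z (fun z : Z => (ψ : G → ℂ) z) := ψ.2.isCharacter.comp Z.subtype
      have hψ'c : IsCharacter Z (fun z : Z => (ψ' : G → ℂ) z) := ψ'.2.isCharacter.comp Z.subtype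
      have h01 : ∀ μ : IrrCharacter Z, classInner (fun z : Z => (ψ : G → ℂ) z) (μ : Z → ℂ) *
          conj (classInner (fun z : Z => (ψ : G → ℂ) z) (μ : Z → ℂ)) =
          classInner (fun z : Z => (ψ : G → ℂ) z) (μ : Z → ℂ) := by
        intro μ
        obtain ⟨n, hn⟩ := hψc.exists_nat_classInner μ.2.isCharacter
        obtain ⟨n', hn'⟩ := hψ'c.exists_nat_classInner μ.2.isCharacter
        have h := hh μ
        rw [hn, hn'] at h
        have hle : n ≤ 1 := by
          split_ifs at h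
          · have : n + n' = 0 := by exact_mod_cast h
            omega
          · have : n + n' = 1 := by exact_mod_cast h
            omega
        rw [hn, Complex.conj_natCast]
        interval_cases n <;> norm_num
      have h1 := classInner_eq_sum (f' := fun z : Z => (ψ : G → ℂ) z) hψc.isClassFunction
      rw [Finset.sum_congr rfl fun μ _ => h01 μ] at h1
      have h2 := congrFun (eq_sum_classInner hψc.isClassFunction) 1
      simp only [Finset.sum_apply, Pi.smul_apply, smul_eq_mul, OneMemClass.coe_one, hd,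
        fun μ : IrrCharacter Z => degree_eq_one_of_comm (fun u v : Z => mul_comm' u v) μ.2,
        mul_one] at h2
      rw [← h2, classInner, hZ, inv_mul_eq_iff_eq_mul₀ (by exact_mod_cast hp.ne_zero)] at h1
      simp only [Complex.mul_conj] at h1
      exact h1
    have h1 := hone' χ χ' hres
    have h2 := hone' χ' χ fun μ => by rw [add_comm]; exact hres μ
    have h3 : ∑ z : Z, (Complex.normSq ((χ : G → ℂ) z) + Complex.normSq ((χ' : G → ℂ) z)) =
        2 * (p : ℝ) * m := by
      apply Complex.ofReal_injective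
      push_cast
      rw [Finset.sum_add_distrib, h1, h2, hχ'd, ← hmdef]
      ring
    have h6 : ∀ z ∈ (Finset.univ : Finset Z).erase 1, Complex.normSq ((χ : G → ℂ) z) +
        Complex.normSq ((χ' : G → ℂ) z) = Complex.normSq β + Complex.normSq β' := fun z hz => by
      rcases (hval z (Finset.ne_of_mem_erase hz)).2 with ⟨e, e'⟩ | ⟨e, e'⟩ <;> rw [e, e']
      ring
    rw [← Finset.add_sum_erase _ _ (Finset.mem_univ (1 : Z)), Finset.sum_congr rfl h6,
      Finset.sum_const, Finset.card_erase_of_mem (Finset.mem_univ _), Finset.card_univ,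
      ← Nat.card_eq_fintype_card, hZ, OneMemClass.coe_one, hd, hd, hχ'd, ← hmdef,
      Complex.normSq_natCast, nsmul_eq_mul, hpm, Nat.add_sub_cancel] at h3
    push_cast at h3
    have h4 := normSq_add_add β β'
    rw [hββ, Complex.normSq_neg, map_one] at h4
    have hmr : (1 : ℝ) ≤ m := by exact_mod_cast hm1
    have h5 : Complex.normSq β + Complex.normSq β' = (m : ℝ) + 1 :=
      mul_left_cancel₀ (show (2 * (m : ℝ)) ≠ 0 by positivity) (by linarith)
    have : (p : ℝ) = 2 * (m : ℝ) + 1 := by exact_mod_cast hpm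
    linarith
  have hδ0 : β - β' ≠ 0 := fun h => by
    rw [h, map_zero] at hδ
    have : (p : ℝ) ≠ 0 := by exact_mod_cast hp.ne_zero
    exact this hδ.symm
  -- eigenvalues of one orbital
  have horb : ∀ b : Ω, b ≠ a₀ →
      2 ≤ Nat.card (MulAction.orbit (MulAction.stabilizer G a₀) b) := fun b hb =>
    Cfsg.Agent.S0719.two_le_orbit a₀ b hb (by rw [← hR, hR4, Nat.card_eq_fintype_card, hΩ]; omega)
  have horbital : ∀ b : Ω, b ≠ a₀ → ∃ j : ℤ, j ≤ -2 ∧ eig (G := G) Ω a₀ b (φ : G → ℂ) =
      -((Nat.card (MulAction.orbit (MulAction.stabilizer G a₀) b) : ℂ)) - (m : ℂ) * j := by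
    intro b hb
    set k := Nat.card (MulAction.orbit (MulAction.stabilizer G a₀) b) with hk
    set e := fun ψ : IrrCharacter G => eig Ω a₀ b (ψ : G → ℂ) with he
    have he0 : ∀ ψ, c ψ = 0 → e ψ = 0 := fun ψ h => eig_eq_zero Ω a₀ b ψ.2 (by
      show classInner π _ = 0
      rw [hc, h, Nat.cast_zero])
    have hint : ∀ ψ, IsIntegral ℤ (e ψ) := fun ψ => eig_isIntegral Ω hmf a₀ b ψ.2
    have he1 : e one = (k : ℂ) := eig_one Ω a₀ b
    have hlin := sum_eig (G := G) Ω a₀ b hb
    rw [hfour (fun ψ => (ψ : G → ℂ) 1 * e ψ) fun ψ h => by simp [he0 ψ h]] at hlin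
    have hquad := sum_eig_sq (G := G) Ω hmf a₀ b
    rw [hfour (fun ψ => (ψ : G → ℂ) 1 * ((Complex.normSq (e ψ) : ℝ) : ℂ))
      fun ψ h => by simp [he0 ψ h]] at hquad
    simp only [hd, hd1, hdp, hχ'd, ← hmdef, he1, Nat.cast_one, one_mul] at hlin hquad
    -- the value on `φ` is an integer
    obtain ⟨zφ, hzφ, hσφ⟩ := eig_galois a₀ b φ
    obtain ⟨qs, hqs⟩ := exists_rat_of_fixed zφ fun σ => by
      obtain ⟨k', hk', hσ⟩ := exists_actsAsPow σ
      rw [hσφ σ k' hk' hσ, hφfix k' hk', hzφ]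
    rw [hzφ] at hqs
    obtain ⟨s, rfl⟩ := exists_int_of_isIntegral_rat (q := qs) (hqs ▸ hint φ)
    have hs : e φ = (s : ℂ) := by rw [he]; simp only; rw [hqs, Rat.cast_intCast]
    have hmC : (m : ℂ) ≠ 0 := by exact_mod_cast (show m ≠ 0 by omega)
    -- the sum of the conjugate values is an integer
    have hu0 : e χ + e χ' = (((-(k : ℚ) - (p : ℚ) * s) / m : ℚ) : ℂ) := by
      push_cast
      rw [eq_div_iff hmC]
      rw [hs] at hlin
      linear_combination hlin
    obtain ⟨u, hu'⟩ := exists_int_of_isIntegral_rat (hu0 ▸ (hint χ).add (hint χ'))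
    have hu : e χ + e χ' = (u : ℂ) := by rw [hu0, hu', Rat.cast_intCast]
    have hlinZ : (k : ℤ) + p * s + m * u = 0 := by
      rw [hs] at hlin
      have : (((k : ℤ) + p * s + m * u : ℤ) : ℂ) = ((0 : ℤ) : ℂ) := by
        push_cast
        rw [← hu]
        linear_combination hlin
      exact_mod_cast this
    have hpmz : (p : ℤ) = 2 * m + 1 := by exact_mod_cast hpm
    obtain ⟨j, hj⟩ : ∃ j : ℤ, j = u + 2 * s := ⟨_, rfl⟩
    have hu2 : u = 2 * k + p * j := by rw [hj, hpmz]; rw [hpmz] at hlinZ; linarith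
    have hs2 : s = -(k : ℤ) - m * j := by rw [hj]; rw [hpmz] at hlinZ; linarith
    -- the ratio of differences is rational
    obtain ⟨zc, hzc, hσc⟩ := eig_galois a₀ b χ
    obtain ⟨zc', hzc', hσc'⟩ := eig_galois a₀ b χ'
    obtain ⟨q, hq⟩ := exists_rat_of_fixed ((zc - zc') / (charVal dvd_rfl χ.2.isCharacter x -
        charVal dvd_rfl χ'.2.isCharacter x)) fun σ => by
      obtain ⟨k', hk', hσ⟩ := exists_actsAsPow σ
      rw [map_div₀, map_sub, map_sub, hσc σ k' hk' hσ, hσc' σ k' hk' hσ, galois_charVal dvd_rfl hσ,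
        galois_charVal dvd_rfl hσ, ← tw_apply k' hk' χ, ← tw_apply k' hk' χ']
      push_cast [charVal]
      rw [hzc, hzc']
      rcases hperm k' hk' with ⟨h, h'⟩ | ⟨h, h'⟩ <;> rw [h, h']
      rw [← neg_sub, ← neg_sub ((χ : G → ℂ) x), neg_div_neg_eq]
    have hdiff : e χ - e χ' = (q : ℂ) * (β - β') := by
      push_cast [charVal] at hq
      rw [hzc, hzc', div_eq_iff hδ0] at hq
      exact hq
    have hNr : Complex.normSq (e χ) + Complex.normSq (e χ') =
        ((((2 * p * k : ℤ) : ℚ) - k ^ 2 - p * s ^ 2) / m : ℚ) := by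
      rw [hs, hΩ] at hquad
      have : (((k : ℝ) * k + p * ((s : ℝ) * s) + m * Complex.normSq (e χ) +
          m * Complex.normSq (e χ') : ℝ) : ℂ) = ((2 * p * k : ℝ) : ℂ) := by
        push_cast
        rw [show ((Complex.normSq ((k : ℂ))) : ℝ) = (k : ℝ) * k from Complex.normSq_natCast k,
          show ((Complex.normSq ((s : ℂ))) : ℝ) = (s : ℝ) * s from Complex.normSq_intCast s] at hquad
        push_cast at hquad
        linear_combination hquad
      have h' := Complex.ofReal_injective this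
      push_cast
      rw [eq_div_iff (by exact_mod_cast (show m ≠ 0 by omega))]
      linarith
    have hNint : IsIntegral ℤ (((Complex.normSq (e χ) + Complex.normSq (e χ') : ℝ)) : ℂ) := by
      have hcj : ∀ z : ℂ, IsIntegral ℤ z → IsIntegral ℤ (conj z) := fun z hz =>
        hz.map (starRingEnd ℂ).toIntAlgHom
      push_cast
      rw [← Complex.mul_conj, ← Complex.mul_conj]
      exact ((hint χ).mul (hcj _ (hint χ))).add ((hint χ').mul (hcj _ (hint χ')))
    obtain ⟨N, hN⟩ := exists_int_of_isIntegral_rat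
      (q := (((2 * p * k : ℤ) : ℚ) - k ^ 2 - p * s ^ 2) / m) (by rw [hNr] at hNint; exact_mod_cast hNint)
    rw [hN] at hNr
    have hpar := normSq_add_add (e χ) (e χ')
    rw [hu, hdiff, map_mul, hδ, Complex.normSq_intCast, hNr,
      show Complex.normSq ((q : ℂ)) = (q : ℝ) * q by
        rw [← Complex.ofReal_ratCast, Complex.normSq_ofReal]] at hpar
    push_cast at hpar
    have hparQ : (u : ℚ) * u + q * q * p = 2 * N := by
      have : (((u : ℚ) * u + q * q * p : ℚ) : ℝ) = ((2 * N : ℚ) : ℝ) := by push_cast; exact hpar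
      exact_mod_cast this
    have hNm : (N : ℚ) * m = 2 * p * k - (k : ℚ) ^ 2 - p * s ^ 2 := by
      rw [← hN, div_mul_cancel₀ _ (by exact_mod_cast (show m ≠ 0 by omega))]
      push_cast
      ring
    have hu2q : (u : ℚ) = 2 * k + p * j := by exact_mod_cast hu2
    have hs2q : (s : ℚ) = -(k : ℚ) - m * j := by exact_mod_cast hs2
    have hpq : (p : ℚ) = 2 * m + 1 := by exact_mod_cast hpm
    rw [hu2q] at hparQ
    rw [hs2q] at hNm
    have hEq : (m : ℚ) * (q * q) = 4 * k - (2 * k + 2 * m * j) ^ 2 - m * j ^ 2 := by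
      refine mul_left_cancel₀ (show (p : ℚ) ≠ 0 by exact_mod_cast hp.ne_zero) ?_
      rw [hpq] at hparQ hNm ⊢
      linear_combination (m : ℚ) * hparQ + 2 * hNm
    have hV : q * q = (((2 * N - (2 * (k : ℤ) + p * j) ^ 2) -
        2 * (4 * (k : ℤ) - (2 * k + 2 * m * j) ^ 2 - m * j ^ 2) : ℤ) : ℚ) := by
      push_cast
      linear_combination hparQ - 2 * hEq - (q * q) * hpq
    obtain ⟨q', hq'⟩ := Rat.isSquare_intCast_iff.1 ⟨q, hV.symm⟩
    rw [hq'] at hV
    push_cast at hV
    refine ⟨j, no_orbital_aux hp hpm hm1 (k := k) (q := q') (V := q' * q') (N := N)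
      (by exact_mod_cast horb b hb) (pow_two q').symm ?_ ?_, ?_⟩
    · have : ((p : ℚ) * ((q' : ℚ) * q') + (2 * k + p * j) ^ 2 : ℚ) = 2 * N := by
        rw [← hV]; linear_combination hparQ
      exact_mod_cast this
    · have : ((2 * (k : ℚ) + 2 * m * j) ^ 2 + m * j ^ 2 + m * ((q' : ℚ) * q') : ℚ) = 4 * k := by
        rw [← hV]; linear_combination hEq
      exact_mod_cast this
    · show e φ = _
      rw [hs, hs2]
      push_cast
      ring
  -- the three orbitals
  haveI : Fintype (MulAction.orbitRel.Quotient (MulAction.stabilizer G a₀) Ω) := Fintype.ofFinite _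
  set qm : Ω → MulAction.orbitRel.Quotient (MulAction.stabilizer G a₀) Ω := Quotient.mk'' with hqm
  set T := (Finset.univ : Finset (MulAction.orbitRel.Quotient (MulAction.stabilizer G a₀) Ω)).erase
    (qm a₀) with hT
  have hTcard : T.card = 3 := by
    rw [hT, Finset.card_erase_of_mem (Finset.mem_univ _), Finset.card_univ,
      ← Nat.card_eq_fintype_card, ← hR, hR4]
  have hout : ∀ q ∈ T, q.out ≠ a₀ := by
    intro q hq h
    apply Finset.ne_of_mem_erase hq
    exact (Quotient.out_eq' q).symm.trans (congrArg qm h)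
  choose! j hj hjs using fun (q : MulAction.orbitRel.Quotient (MulAction.stabilizer G a₀) Ω) (hq : q ∈ T) => horbital q.out (hout q hq)
  have hmk : ∀ y, y ≠ a₀ → qm y ∈ T := by
    intro y hy
    refine Finset.mem_erase.2 ⟨fun h => hy ?_, Finset.mem_univ _⟩
    obtain ⟨g, hg⟩ := Quotient.eq''.1 h
    exact hg.symm.trans g.2
  have hcount : ∀ g : G, ∑ q ∈ T, (orbCount Ω a₀ q.out g : ℂ) = 2 * (p : ℂ) - π g := by
    intro g
    have hN : ∀ q : MulAction.orbitRel.Quotient (MulAction.stabilizer G a₀) Ω, (orbCount Ω a₀ q.out g : ℂ) =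
        ∑ y : Ω, if ∃ h : G, h • a₀ = y ∧ h • q.out = g • y then (1 : ℂ) else 0 := fun q => by
      rw [orbCount, Nat.card_eq_fintype_card, Fintype.card_subtype, ← Finset.sum_boole]
    simp only [hN]
    rw [Finset.sum_comm]
    have hy : ∀ y : Ω, (∑ q ∈ T, if ∃ h : G, h • a₀ = y ∧ h • q.out = g • y then (1 : ℂ) else 0) =
        1 - if g • y = y then 1 else 0 := by
      intro y
      obtain ⟨h, rfl⟩ := MulAction.exists_smul_eq G a₀ y
      by_cases hfix : g • h • a₀ = h • a₀
      · rw [if_pos hfix, sub_self]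
        refine Finset.sum_eq_zero fun q hq => if_neg ?_
        rintro ⟨u, u1, u2⟩
        rw [hfix, ← u1] at u2
        exact hout q hq (MulAction.injective u u2)
      · rw [if_neg hfix, sub_zero]
        set z := h⁻¹ • g • h • a₀ with hz
        have hz0 : z ≠ a₀ := fun e => hfix (inv_smul_eq_iff.1 e)
        rw [Finset.sum_eq_single (qm z)]
        · rw [if_pos]
          obtain ⟨t, ht⟩ : (qm z).out ∈ MulAction.orbit (MulAction.stabilizer G a₀) z :=
            Quotient.mk_out (s := MulAction.orbitRel (MulAction.stabilizer G a₀) Ω) z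
          refine ⟨h * (t : G)⁻¹, ?_, ?_⟩
          · rw [mul_smul, inv_smul_eq_iff.2 t.2.symm]
          · rw [← ht]
            show (h * (t : G)⁻¹) • ((t : G) • z) = _
            rw [mul_smul, inv_smul_smul, hz, smul_inv_smul]
        · intro q _ hne
          rw [if_neg]
          rintro ⟨u, u1, u2⟩
          apply hne
          rw [← Quotient.out_eq' q]
          refine Quotient.eq''.2 ⟨⟨u⁻¹ * h, ?_⟩, ?_⟩
          · show (u⁻¹ * h) • a₀ = a₀
            rw [mul_smul, inv_smul_eq_iff, u1]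
          · show (u⁻¹ * h) • z = q.out
            rw [mul_smul, hz, smul_inv_smul, inv_smul_eq_iff, u2]
        · intro h'
          exact absurd (hmk z hz0) h'
    simp only [hy, Finset.sum_sub_distrib, Finset.sum_const, Finset.card_univ, hΩ, nsmul_eq_mul,
      mul_one, Nat.cast_mul, Nat.cast_ofNat]
    congr 1
    rw [hπfun, Finset.sum_boole]
    simp only [Nat.card_eq_fintype_card, ← Set.toFinset_card]
    congr 2
    ext
    simp
  have hsumeig : ∀ ψ : IrrCharacter G, ∑ q ∈ T, eig Ω a₀ q.out (ψ : G → ℂ) =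
      2 * (p : ℂ) * classInner (fun _ => (1 : ℂ)) (ψ : G → ℂ) - (c ψ : ℂ) := by
    intro ψ
    simp only [eig]
    rw [← classInner_sum_left, ← hc, ← classInner_smul_left, ← classInner_sub_left]
    congr 1
    funext g
    simp [Finset.sum_apply, hcount g]
  have hsk := hsumeig one
  simp only [hone, eig_one] at hsk
  rw [classInner_irr_self isIrrCharacter_one, ← hone, hc1] at hsk
  have hss := hsumeig φ
  rw [classInner_irr_ne isIrrCharacter_one φ.2 (fun h => hφ1 (Subtype.ext h.symm)), hcφ,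
    Finset.sum_congr rfl hjs] at hss
  rw [Finset.sum_sub_distrib, ← Finset.mul_sum, Finset.sum_neg_distrib, hsk] at hss
  have hjsum : ∑ q ∈ T, j q = -4 := by
    have h' : (((m : ℤ) * ∑ q ∈ T, j q : ℤ) : ℂ) = (((m : ℤ) * -4 : ℤ) : ℂ) := by
      push_cast
      rw [hpm] at hss
      push_cast at hss
      linear_combination -hss
    exact mul_left_cancel₀ (by exact_mod_cast (show m ≠ 0 by omega)) (Int.cast_inj.1 h')
  have := Finset.sum_le_card_nsmul T j (-2) hj
  rw [hjsum, hTcard] at this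
  norm_num at this

end Cfsg.Agent.DegreeTwoP
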