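import Mathlib.GroupTheory.GroupAction.Quotient
import Mathlib.GroupTheory.GroupAction.MultipleTransitivity
import Mathlib.Algebra.Order.BigOperators.Ring.Finset
import Mathlib.Tactic.LinearCombination
import Mathlib.Tactic.Linarith
import Mathlib.Tactic.Ring

/-!
# Counting derangements in transitive groups

For a transitive group, `n · #derangements = (r - 1)|G| + T` where `r` is the rank and
`T = ∑ (f - 1)(n - f)` over the elements with `f ≥ 1` fixed points. For a doubly transitive group
with nontrivial two-point stabilizer `A` and `n ≥ 7` we show `|G| ≤ T`: either the orbits of `A`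
are few enough for a convexity bound, or some ordered pair of points is carried to each other by
enough elements with fixed points.
-/

set_option autoImplicit false

namespace Cfsg.Lib.Derange

open Finset MulAction
open scoped Classical

variable (G Ω : Type*) [Group G] [Fintype G] [MulAction G Ω] [Fintype Ω]

/-- The fixed points of `g`, as a finset. -/
noncomputable def fixSet {G : Type*} (Ω : Type*) [Group G] [MulAction G Ω] [Fintype Ω] (g : G) :
    Finset Ω := univ.filter fun x => g • x = x

/-- The number of fixed points of `g`. -/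
noncomputable def fx {G : Type*} (Ω : Type*) [Group G] [MulAction G Ω] [Fintype Ω] (g : G) : ℕ :=
  (fixSet Ω g).card

/-- `T = ∑ (f - 1)(n - f)`. -/
noncomputable def excess : ℕ := ∑ g : G, (fx Ω g - 1) * (Fintype.card Ω - fx Ω g)

variable {G Ω}

theorem mem_fixSet {g : G} {x : Ω} : x ∈ fixSet Ω g ↔ g • x = x := by simp [fixSet]

theorem fx_le (g : G) : fx Ω g ≤ Fintype.card Ω := card_le_univ _

theorem fx_conj (u g : G) : fx Ω (u * g * u⁻¹) = fx Ω g := by
  refine card_bij' (fun x _ => u⁻¹ • x) (fun x _ => u • x) ?_ ?_ ?_ ?_ <;>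
    intro x hx <;> simp [mem_fixSet, mul_smul, ← inv_smul_eq_iff] at hx ⊢ <;> simp [hx]

theorem sum_fx (htr : IsPretransitive G Ω) [Nonempty Ω] : ∑ g : G, fx Ω g = Fintype.card G := by
  haveI := htr
  haveI : Unique (Quotient (orbitRel G Ω)) :=
    { default := Quotient.mk _ (Classical.arbitrary Ω)
      uniq := fun q => Quotient.inductionOn q fun x => Quotient.sound
        (MulAction.exists_smul_eq G _ x) }
  have h := sum_card_fixedBy_eq_card_orbits_mul_card_group G Ω
  rw [Fintype.card_unique, one_mul] at h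
  rw [← h]
  refine Finset.sum_congr rfl fun g _ => ?_
  rw [fx, fixSet, ← Fintype.card_subtype]
  exact Fintype.card_congr (Equiv.refl _)

theorem sum_fx_sq : ∑ g : G, fx Ω g * fx Ω g =
    Fintype.card (Quotient (orbitRel G (Ω × Ω))) * Fintype.card G := by
  rw [← sum_card_fixedBy_eq_card_orbits_mul_card_group G (Ω × Ω)]
  refine Finset.sum_congr rfl fun g _ => ?_
  rw [fx, fixSet, ← Fintype.card_subtype, ← Fintype.card_prod]
  exact Fintype.card_congr
    { toFun := fun p => ⟨(p.1.1, p.2.1), Prod.ext p.1.2 p.2.2⟩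
      invFun := fun p => (⟨p.1.1, congrArg Prod.fst p.2⟩, ⟨p.1.2, congrArg Prod.snd p.2⟩)
      left_inv := fun _ => rfl
      right_inv := fun _ => rfl }

/-- The basic identity. -/
theorem derangements_eq (htr : IsPretransitive G Ω) [Nonempty Ω] :
    (Fintype.card Ω : ℤ) * (univ.filter fun g : G => fx Ω g = 0).card =
      ((Fintype.card (Quotient (orbitRel G (Ω × Ω))) : ℤ) - 1) * Fintype.card G + excess G Ω := by
  have h1 : (∑ g : G, (fx Ω g : ℤ)) = Fintype.card G := by exact_mod_cast sum_fx htr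
  have h2 : (∑ g : G, (fx Ω g : ℤ) * fx Ω g) =
      (Fintype.card (Quotient (orbitRel G (Ω × Ω))) : ℤ) * Fintype.card G := by
    exact_mod_cast sum_fx_sq (G := G) (Ω := Ω)
  have key : ∀ g : G, ((fx Ω g : ℤ) - 1) * (fx Ω g - Fintype.card Ω) =
      (if fx Ω g = 0 then (Fintype.card Ω : ℤ) else 0) -
        ((fx Ω g - 1) * (Fintype.card Ω - fx Ω g) : ℕ) := by
    intro g
    rcases Nat.eq_zero_or_pos (fx Ω g) with h | h
    · simp [h]
    · rw [if_neg h.ne', Nat.cast_mul, Nat.cast_sub h, Nat.cast_sub (fx_le g)]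
      push_cast
      ring
  have h3 := Finset.sum_congr (s₂ := (univ : Finset G)) rfl fun g _ => key g
  rw [Finset.sum_sub_distrib, ← Finset.sum_filter, Finset.sum_const, nsmul_eq_mul,
    ← Nat.cast_sum] at h3
  rw [excess]
  have h4 : ∑ g : G, ((fx Ω g : ℤ) - 1) * (fx Ω g - Fintype.card Ω) =
      ((Fintype.card (Quotient (orbitRel G (Ω × Ω))) : ℤ) - 1) * Fintype.card G := by
    have : ∀ g : G, ((fx Ω g : ℤ) - 1) * (fx Ω g - Fintype.card Ω) =
        (fx Ω g : ℤ) * fx Ω g - ((Fintype.card Ω : ℤ) + 1) * fx Ω g + Fintype.card Ω := fun g => by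
      ring
    rw [Finset.sum_congr rfl fun g _ => this g, Finset.sum_add_distrib, Finset.sum_sub_distrib,
      ← Finset.mul_sum, h1, h2, Finset.sum_const, card_univ, nsmul_eq_mul]
    ring
  rw [h4] at h3
  linear_combination -h3

/-- With at most two orbits on ordered pairs the group is doubly transitive. -/
theorem two_trans_of_card_orbits (hr : Fintype.card (Quotient (orbitRel G (Ω × Ω))) ≤ 2) :
    ∀ a b c d : Ω, a ≠ b → c ≠ d → ∃ g : G, g • a = c ∧ g • b = d := by
  intro a b c d hab hcd
  by_contra! hne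
  have h3 : ({Quotient.mk (orbitRel G (Ω × Ω)) (a, b), Quotient.mk _ (c, d), Quotient.mk _ (a, a)} :
      Finset (Quotient (orbitRel G (Ω × Ω)))).card = 3 := by
    rw [card_eq_three]
    refine ⟨_, _, _, ?_, ?_, ?_, rfl⟩
    · intro h
      obtain ⟨g, hg⟩ := Quotient.exact h.symm
      exact hne g (congrArg Prod.fst hg) (congrArg Prod.snd hg)
    · intro h
      obtain ⟨g, hg⟩ := Quotient.exact h
      exact hab ((congrArg Prod.fst hg).symm.trans (congrArg Prod.snd hg))
    · intro h
      obtain ⟨g, hg⟩ := Quotient.exact h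
      exact hcd ((congrArg Prod.fst hg).symm.trans (congrArg Prod.snd hg))
  have := Finset.card_le_univ ({Quotient.mk (orbitRel G (Ω × Ω)) (a, b), Quotient.mk _ (c, d),
    Quotient.mk _ (a, a)} : Finset (Quotient (orbitRel G (Ω × Ω))))
  omega

section TwoTrans

/-- Elements fixing two given points. -/
noncomputable def stab2 (G : Type*) {Ω : Type*} [Group G] [Fintype G] [MulAction G Ω] (a b : Ω) :
    Finset G := univ.filter fun g => g • a = a ∧ g • b = b

theorem mem_stab2 {g : G} {a b : Ω} : g ∈ stab2 G a b ↔ g • a = a ∧ g • b = b := by simp [stab2]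

/-- Elements fixing two given points and a third one. -/
noncomputable def stab3 (G : Type*) {Ω : Type*} [Group G] [Fintype G] [MulAction G Ω] (a b x : Ω) :
    Finset G := (stab2 G a b).filter fun g => g • x = x

/-- The orbit of the two-point stabilizer. -/
noncomputable def orb (G : Type*) {Ω : Type*} [Group G] [Fintype G] [MulAction G Ω] (a b x : Ω) :
    Finset Ω := (stab2 G a b).image fun g => g • x

/-- The line through two points: the points fixed by everything fixing both. -/
noncomputable def line (G : Type*) {Ω : Type*} [Group G] [Fintype G] [MulAction G Ω] [Fintype Ω]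
    (a b : Ω) : Finset Ω := univ.filter fun z => ∀ g ∈ stab2 G a b, g • z = z

theorem mem_line {a b z : Ω} : z ∈ line G a b ↔ ∀ g ∈ stab2 G a b, g • z = z := by simp [line]

theorem left_mem_line (a b : Ω) : a ∈ line G a b := mem_line.mpr fun _ hg => (mem_stab2.mp hg).1
theorem right_mem_line (a b : Ω) : b ∈ line G a b := mem_line.mpr fun _ hg => (mem_stab2.mp hg).2

theorem one_mem_stab2 (a b : Ω) : (1 : G) ∈ stab2 G a b := mem_stab2.mpr ⟨one_smul _ _, one_smul _ _⟩

theorem mul_mem_stab2 {a b : Ω} {g g' : G} (h : g ∈ stab2 G a b) (h' : g' ∈ stab2 G a b) :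
    g * g' ∈ stab2 G a b := by
  simp only [mem_stab2, mul_smul] at *
  simp [h.1, h.2, h'.1, h'.2]

theorem inv_mem_stab2 {a b : Ω} {g : G} (h : g ∈ stab2 G a b) : g⁻¹ ∈ stab2 G a b := by
  simp only [mem_stab2, inv_smul_eq_iff] at *
  exact ⟨h.1.symm, h.2.symm⟩

theorem mem_orb_self (a b x : Ω) : x ∈ orb G a b x :=
  mem_image.mpr ⟨1, one_mem_stab2 a b, one_smul _ _⟩

theorem smul_mem_orb {a b x : Ω} {g : G} (hg : g ∈ stab2 G a b) : g • x ∈ orb G a b x :=
  mem_image_of_mem _ hg

theorem orb_eq {a b x y : Ω} (h : y ∈ orb G a b x) : orb G a b y = orb G a b x := by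
  obtain ⟨g, hg, rfl⟩ := mem_image.mp h
  ext z
  simp only [orb, mem_image]
  constructor
  · rintro ⟨u, hu, rfl⟩
    exact ⟨u * g, mul_mem_stab2 hu hg, mul_smul _ _ _⟩
  · rintro ⟨u, hu, rfl⟩
    exact ⟨u * g⁻¹, mul_mem_stab2 hu (inv_mem_stab2 hg), by rw [mul_smul, inv_smul_smul]⟩

theorem card_fiber {a b x y : Ω} (h : y ∈ orb G a b x) :
    ((stab2 G a b).filter fun g => g • x = y).card = (stab3 G a b x).card := by
  obtain ⟨u, hu, rfl⟩ := mem_image.mp h
  refine card_bij' (fun g _ => u⁻¹ * g) (fun g _ => u * g) ?_ ?_ ?_ ?_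
  · intro g hg
    simp only [mem_filter, stab3] at hg ⊢
    exact ⟨mul_mem_stab2 (inv_mem_stab2 hu) hg.1, by rw [mul_smul, hg.2, inv_smul_smul]⟩
  · intro g hg
    simp only [mem_filter, stab3] at hg ⊢
    exact ⟨mul_mem_stab2 hu hg.1, by rw [mul_smul, hg.2]⟩
  all_goals intro g _; group

theorem card_orb_mul (a b x : Ω) :
    (orb G a b x).card * (stab3 G a b x).card = (stab2 G a b).card := by
  rw [card_eq_sum_card_fiberwise (s := stab2 G a b) (t := orb G a b x) (f := fun g => g • x)
    fun g hg => smul_mem_orb hg]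
  rw [Finset.sum_congr rfl fun y hy => card_fiber hy, Finset.sum_const, smul_eq_mul]

theorem card_stab3_eq_of_mem_orb {a b x y : Ω} (h : y ∈ orb G a b x) :
    (stab3 G a b y).card = (stab3 G a b x).card := by
  have h1 := card_orb_mul (G := G) a b y
  rw [orb_eq h, ← card_orb_mul (G := G) a b x] at h1
  exact Nat.eq_of_mul_eq_mul_left (card_pos.mpr ⟨x, mem_orb_self a b x⟩) h1

variable (h2 : ∀ a b c d : Ω, a ≠ b → c ≠ d → ∃ g : G, g • a = c ∧ g • b = d)
include h2

theorem card_line_eq {a b c d : Ω} (hab : a ≠ b) (hcd : c ≠ d) :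
    (line G c d).card = (line G a b).card := by
  obtain ⟨u, rfl, rfl⟩ := h2 a b c d hab hcd
  refine card_bij' (fun z _ => u⁻¹ • z) (fun z _ => u • z) ?_ ?_ ?_ ?_
  · intro z hz
    refine mem_line.mpr fun g hg => ?_
    have := mem_line.mp hz (u * g * u⁻¹) (by
      simp only [mem_stab2, mul_smul, inv_smul_smul] at hg ⊢
      simp [hg.1, hg.2])
    rw [mul_smul, mul_smul] at this
    exact (eq_inv_smul_iff.mpr this)
  · intro z hz
    refine mem_line.mpr fun g hg => ?_
    have := mem_line.mp hz (u⁻¹ * g * u) (by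
      simp only [mem_stab2, mul_smul] at hg ⊢
      simp [hg.1, hg.2])
    rw [mul_smul, mul_smul] at this
    exact inv_smul_eq_iff.mp this
  all_goals intro z _; simp

theorem card_stab2_eq {a b c d : Ω} (hab : a ≠ b) (hcd : c ≠ d) :
    (stab2 G c d).card = (stab2 G a b).card := by
  obtain ⟨u, rfl, rfl⟩ := h2 a b c d hab hcd
  refine card_bij' (fun g _ => u⁻¹ * g * u) (fun g _ => u * g * u⁻¹) ?_ ?_ ?_ ?_
  · intro g hg
    simp only [mem_stab2, mul_smul, inv_smul_eq_iff] at hg ⊢
    exact hg
  · intro g hg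
    simp only [mem_stab2, mul_smul, inv_smul_smul] at hg ⊢
    simp [hg.1, hg.2]
  all_goals intro g _; group

/-- Two points of a line determine it. -/
theorem line_eq {a b c d : Ω} (hab : a ≠ b) (hcd : c ≠ d) (hc : c ∈ line G a b)
    (hd : d ∈ line G a b) : line G c d = line G a b := by
  have hsub : stab2 G a b = stab2 G c d := eq_of_subset_of_card_le
    (fun g hg => mem_stab2.mpr ⟨mem_line.mp hc g hg, mem_line.mp hd g hg⟩)
    (card_stab2_eq h2 hab hcd).le
  simp [line, hsub]

theorem card_group {a b : Ω} (hab : a ≠ b) :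
    Fintype.card G =
      Fintype.card Ω * (Fintype.card Ω - 1) * (stab2 G a b).card := by
  rw [← card_univ, card_eq_sum_card_fiberwise (t := (univ : Finset Ω).offDiag)
    (f := fun g : G => (g • a, g • b)) (fun g _ => by simpa using hab)]
  rw [Finset.sum_congr rfl (g := fun _ => (stab2 G a b).card), Finset.sum_const, offDiag_card,
    card_univ, smul_eq_mul, Nat.mul_sub_one]
  rintro ⟨c, d⟩ hcd
  simp only [mem_offDiag, mem_univ, true_and] at hcd
  obtain ⟨u, rfl, rfl⟩ := h2 a b c d hab hcd
  refine card_bij' (fun g _ => u⁻¹ * g) (fun g _ => u * g) ?_ ?_ ?_ ?_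
  · intro g hg
    simp only [mem_filter, mem_univ, true_and, Prod.mk.injEq] at hg
    simp only [mem_stab2, mul_smul, inv_smul_eq_iff]
    exact hg
  · intro g hg
    simp only [mem_stab2] at hg
    simp [mul_smul, hg.1, hg.2]
  all_goals intro g _; group

/-- Summing a class function times `f(f-1)` reduces to the two-point stabilizer. -/
theorem sum_pairs_fixed (φ : G → ℕ) (hφ : ∀ u g : G, φ (u * g * u⁻¹) = φ g) {a b : Ω}
    (hab : a ≠ b) :
    ∑ g : G, φ g * (fx Ω g * fx Ω g - fx Ω g) =
      Fintype.card Ω * (Fintype.card Ω - 1) * ∑ g ∈ stab2 G a b, φ g := by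
  have h0 : ∀ g : G, φ g * (fx Ω g * fx Ω g - fx Ω g) =
      ∑ p ∈ (univ : Finset Ω).offDiag, if g • p.1 = p.1 ∧ g • p.2 = p.2 then φ g else 0 := by
    intro g
    rw [← Finset.sum_filter, Finset.sum_const, smul_eq_mul, mul_comm, fx, ← offDiag_card]
    congr 2
    ext p
    simp [mem_fixSet]
    tauto
  rw [Finset.sum_congr rfl fun g _ => h0 g, Finset.sum_comm,
    Finset.sum_congr rfl (g := fun _ => ∑ g ∈ stab2 G a b, φ g), Finset.sum_const, offDiag_card,
    card_univ, smul_eq_mul, Nat.mul_sub_one]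
  rintro ⟨c, d⟩ hcd
  simp only [mem_offDiag, mem_univ, true_and] at hcd
  obtain ⟨u, rfl, rfl⟩ := h2 a b c d hab hcd
  rw [← Finset.sum_filter]
  refine sum_bij' (fun g _ => u⁻¹ * g * u) (fun g _ => u * g * u⁻¹) ?_ ?_ ?_ ?_ ?_
  · intro g hg
    simp only [mem_filter, mem_univ, true_and] at hg
    simp only [mem_stab2, mul_smul, inv_smul_eq_iff]
    exact hg
  · intro g hg
    simp only [mem_stab2] at hg
    simp [mul_smul, hg.1, hg.2]
  · intro g _; group
  · intro g _; group
  · intro g _
    have := hφ u⁻¹ g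
    rw [inv_inv] at this
    exact this.symm

/-- The excess seen from one moved pair. -/
theorem excess_eq {c d : Ω} (hcd : c ≠ d) :
    excess G Ω = Fintype.card Ω * (Fintype.card Ω - 1) *
      ∑ g ∈ univ.filter (fun g : G => g • c = d), (fx Ω g - 1) := by
  have h0 : ∀ g : G, (fx Ω g - 1) * (Fintype.card Ω - fx Ω g) =
      ∑ p ∈ (univ : Finset Ω).offDiag, if g • p.1 = p.2 then fx Ω g - 1 else 0 := by
    intro g
    rw [← Finset.sum_filter, Finset.sum_const, smul_eq_mul, mul_comm]
    congr 1
    rw [fx, fixSet, ← card_univ, ← card_sdiff_of_subset (subset_univ _)]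
    refine card_bij' (fun x _ => (x, g • x)) (fun p _ => p.1) ?_ ?_ ?_ ?_
    · intro x hx
      simp only [mem_sdiff, mem_filter, mem_univ, true_and] at hx
      simp [Ne.symm hx]
    · intro p hp
      simp only [mem_filter, mem_offDiag, mem_univ, true_and] at hp
      simp only [mem_sdiff, mem_filter, mem_univ, true_and]
      intro h
      exact hp.1 (h ▸ hp.2)
    · intros; rfl
    · intro p hp
      simp only [mem_filter] at hp
      exact Prod.ext rfl hp.2
  rw [excess, Finset.sum_congr rfl fun g _ => h0 g, Finset.sum_comm,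
    Finset.sum_congr rfl (g := fun _ => ∑ g ∈ univ.filter (fun g : G => g • c = d), (fx Ω g - 1)),
    Finset.sum_const, offDiag_card, card_univ, smul_eq_mul, Nat.mul_sub_one]
  rintro ⟨x, y⟩ hxy
  simp only [mem_offDiag, mem_univ, true_and] at hxy
  obtain ⟨u, rfl, rfl⟩ := h2 c d x y hcd hxy
  rw [← Finset.sum_filter]
  refine sum_bij' (fun g _ => u⁻¹ * g * u) (fun g _ => u * g * u⁻¹) ?_ ?_ ?_ ?_ ?_
  · intro g hg
    simp only [mem_filter, mem_univ, true_and] at hg
    simp [mul_smul, hg]
  · intro g hg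
    simp only [mem_filter, mem_univ, true_and] at hg
    simp [mul_smul, hg]
  · intro g _; group
  · intro g _; group
  · intro g _
    have := fx_conj (Ω := Ω) u⁻¹ g
    rw [inv_inv] at this
    rw [this]

theorem excess_ge_of_pair {a b : Ω} (hab : a ≠ b) {c d : Ω} (hcd : c ≠ d) (E : Finset G)
    (hE : ∀ g ∈ E, g • c = d) (hsum : (stab2 G a b).card ≤ ∑ g ∈ E, (fx Ω g - 1)) :
    Fintype.card G ≤ excess G Ω := by
  rw [card_group h2 hab, excess_eq h2 hcd]
  refine Nat.mul_le_mul_left _ (hsum.trans (sum_le_sum_of_subset ?_))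
  intro g hg
  simp [hE g hg]

omit h2 in
theorem sum_stab3 (a b : Ω) : ∑ g ∈ stab2 G a b, fx Ω g = ∑ x : Ω, (stab3 G a b x).card := by
  simp only [fx, fixSet, stab3, card_filter]
  exact Finset.sum_comm

/-- The convexity bound. -/
theorem excess_ge_of_orbits (hn : 2 ≤ Fintype.card Ω) [FaithfulSMul G Ω] {a b : Ω} (hab : a ≠ b)
    (hW : 4 * ∑ x : Ω, (stab3 G a b x).card ≤
      2 * Fintype.card Ω * (stab2 G a b).card + Fintype.card Ω) :
    Fintype.card G ≤ excess G Ω := by
  set n := Fintype.card Ω with hnn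
  set A := stab2 G a b with hA
  set h := A.card with hh
  have hh1 : 1 ≤ h := card_pos.mpr ⟨1, one_mem_stab2 a b⟩
  have hN : (0 : ℤ) < (n : ℤ) * ((n : ℤ) - 1) := by
    have : (2 : ℤ) ≤ n := by exact_mod_cast hn
    nlinarith
  -- all sums are taken off the identity
  let ψ : G → ℕ := fun g => if g = 1 then 0 else 1
  have hψ : ∀ u g : G, ψ (u * g * u⁻¹) = ψ g := fun u g => by simp [ψ, conj_eq_one_iff]
  have hb1 := sum_pairs_fixed h2 ψ hψ hab
  have hb2 := sum_pairs_fixed h2 (fun g => ψ g * fx Ω g)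
    (fun u g => by rw [hψ, fx_conj]) hab
  have hA0 : ∑ g ∈ A, ψ g = h - 1 := by
    rw [Finset.sum_ite, sum_const_zero, zero_add, Finset.sum_const, smul_eq_mul, mul_one, hh,
      ← card_erase_of_mem (one_mem_stab2 (G := G) a b)]
    congr 1
    ext g
    simp [hA, and_comm]
  have hA1 : (∑ g ∈ A, ψ g * fx Ω g) + n = ∑ x : Ω, (stab3 G a b x).card := by
    rw [← sum_stab3]
    have h1n : fx Ω (1 : G) = n := by simp [fx, fixSet, hnn]
    rw [← h1n, ← Finset.sum_erase_add _ _ (one_mem_stab2 (G := G) a b),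
      ← Finset.sum_erase_add A (fun g => fx Ω g) (one_mem_stab2 (G := G) a b)]
    simp only [ψ, if_pos, zero_mul, add_zero, Nat.add_right_cancel_iff]
    exact Finset.sum_congr rfl fun g hg => by simp [(mem_erase.mp hg).1]
  rw [hA0] at hb1
  have key : ∀ g : G, (3 * (n : ℤ) * (ψ g * (fx Ω g * fx Ω g - fx Ω g) : ℕ)
      - 4 * ((ψ g * fx Ω g) * (fx Ω g * fx Ω g - fx Ω g) : ℕ)) ≤
      (n : ℤ) * (((fx Ω g - 1) * (n - fx Ω g) : ℕ) : ℤ) := by
    intro g
    by_cases hg : g = 1
    · simp only [ψ, if_pos hg, zero_mul, Nat.cast_zero, mul_zero, sub_zero]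
      positivity
    · simp only [ψ, if_neg hg, one_mul]
      rcases Nat.eq_zero_or_pos (fx Ω g) with h0 | h0
      · simp [h0]
      · rw [Nat.cast_mul, Nat.cast_mul, Nat.cast_sub h0, Nat.cast_sub (fx_le g),
          Nat.cast_sub (Nat.le_mul_self _)]
        push_cast
        have h1 : (1 : ℤ) ≤ fx Ω g := by exact_mod_cast h0
        nlinarith [mul_nonneg (sub_nonneg.mpr h1) (mul_self_nonneg ((n : ℤ) - 2 * fx Ω g))]
  have hsum := Finset.sum_le_sum fun g (_ : g ∈ (univ : Finset G)) => key g
  rw [Finset.sum_sub_distrib, ← Finset.mul_sum, ← Finset.mul_sum, ← Finset.mul_sum,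
    ← Nat.cast_sum, ← Nat.cast_sum, ← Nat.cast_sum, hb1, hb2, ← excess.eq_1] at hsum
  have hG := card_group h2 hab
  rw [← hnn, ← hA, ← hh] at hG
  rw [← hA, ← hnn] at hsum
  zify [(by omega : 1 ≤ n), hh1] at hG hW hA1 hsum ⊢
  refine le_of_mul_le_mul_left ?_ (by omega : (0 : ℤ) < n)
  refine le_trans ?_ hsum
  rw [hG]
  have h4 := mul_le_mul_of_nonneg_left hW hN.le
  rw [← hA1] at h4
  linarith

variable [FaithfulSMul G Ω]

/-- Lines through a point off a closed set are disjoint away from it. -/
theorem card_mul_le {U X : Finset Ω} {e : Ω} {s : ℕ} (heX : e ∉ X) (heU : e ∈ U)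
    (hU : ∀ x ∈ X, line G e x ⊆ U) (hs : ∀ x ∈ X, (line G e x).card = s)
    (hcl : ∀ x ∈ X, ∀ y ∈ X, x ≠ y → e ∉ line G x y) :
    X.card * (s - 1) + 1 ≤ U.card := by
  have hdis : (X : Set Ω).PairwiseDisjoint fun x => (line G e x).erase e := by
    intro x hx y hy hxy
    rw [Function.onFun, disjoint_left]
    intro z hzx hzy
    rw [mem_erase] at hzx hzy
    have hex : e ≠ x := fun h => heX (h ▸ hx)
    have hey : e ≠ y := fun h => heX (h ▸ hy)
    have h1 := line_eq h2 hex (Ne.symm hzx.1) (left_mem_line e x) hzx.2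
    have h3 := line_eq h2 hey (Ne.symm hzx.1) (left_mem_line e y) hzy.2
    have hy' : y ∈ line G e x := by rw [← h1, h3]; exact right_mem_line e y
    exact hcl x hx y hy hxy (line_eq h2 hex hxy (right_mem_line e x) hy' ▸ left_mem_line e x)
  have hle : X.biUnion (fun x => (line G e x).erase e) ⊆ U.erase e := by
    intro z hz
    obtain ⟨x, hx, hz⟩ := mem_biUnion.mp hz
    exact mem_erase.mpr ⟨(mem_erase.mp hz).1, hU x hx (mem_erase.mp hz).2⟩
  have h := card_le_card hle
  rw [card_biUnion hdis, Finset.sum_congr rfl (g := fun _ => s - 1)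
    (fun x hx => by rw [card_erase_of_mem (left_mem_line e x), hs x hx]), Finset.sum_const,
    smul_eq_mul, card_erase_of_mem heU] at h
  have := card_pos.mpr ⟨e, heU⟩
  omega

omit h2 [FaithfulSMul G Ω] in
theorem mem_line_iff_stab3 {a b x : Ω} : x ∈ line G a b ↔ stab3 G a b x = stab2 G a b := by
  simp [mem_line, stab3, filter_eq_self]

omit h2 [FaithfulSMul G Ω] in
theorem three_mul_stab3_le {a b x : Ω} (hx : 3 ≤ (orb G a b x).card) :
    3 * (stab3 G a b x).card ≤ (stab2 G a b).card :=
  card_orb_mul (G := G) a b x ▸ Nat.mul_le_mul_right _ hx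

omit h2 [FaithfulSMul G Ω] in
theorem two_le_card_orb {a b x : Ω} (hx : x ∉ line G a b) : 2 ≤ (orb G a b x).card := by
  rw [mem_line] at hx
  push Not at hx
  obtain ⟨g, hg, hgx⟩ := hx
  exact one_lt_card.mpr ⟨_, smul_mem_orb hg, _, mem_orb_self a b x, hgx⟩

omit h2 [FaithfulSMul G Ω] in
theorem orb_subset_compl_line {a b x : Ω} (hx : x ∉ line G a b) :
    orb G a b x ⊆ univ \ line G a b := by
  intro y hy
  refine mem_sdiff.mpr ⟨mem_univ _, fun h => hx (mem_line_iff_stab3.mpr
    (eq_of_subset_of_card_le (filter_subset _ _) ?_))⟩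
  rw [← card_stab3_eq_of_mem_orb hy, mem_line_iff_stab3.mp h]

omit h2 [FaithfulSMul G Ω] in
theorem card_dvd_of_orb {a b : Ω} (Y : Finset Ω) (k : ℕ) (hcl : ∀ x ∈ Y, orb G a b x ⊆ Y)
    (hk : ∀ x ∈ Y, (orb G a b x).card = k) : k ∣ Y.card := by
  rw [card_eq_sum_card_image (fun x => orb G a b x) Y]
  refine Finset.dvd_sum fun O hO => ?_
  obtain ⟨x, hx, rfl⟩ := mem_image.mp hO
  rw [show (Y.filter fun y => orb G a b y = orb G a b x) = orb G a b x from ?_, hk x hx]
  ext y
  simp only [mem_filter]
  exact ⟨fun h => h.2 ▸ mem_orb_self a b y, fun h => ⟨hcl x hx h, orb_eq h⟩⟩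

/-- Two-point stabilizer fixing at least three points. -/
theorem excess_ge_line (hn : 7 ≤ Fintype.card Ω) {a b : Ω} (hab : a ≠ b)
    (hh : 2 ≤ (stab2 G a b).card) (hs : 3 ≤ (line G a b).card) :
    Fintype.card G ≤ excess G Ω := by
  set n := Fintype.card Ω with hnn
  set A := stab2 G a b with hA
  set h := A.card with hhh
  set s := (line G a b).card with hss
  by_cases hO : ∃ c, (orb G a b c).card = 2
  · obtain ⟨c, hc⟩ := hO
    obtain ⟨d, hd, hdc⟩ := exists_mem_ne (by omega : 1 < (orb G a b c).card) c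
    refine excess_ge_of_pair h2 hab hdc.symm (A.filter fun g => g • c = d)
      (fun g hg => (mem_filter.mp hg).2) ?_
    have h1 : (A.filter fun g => g • c = d).card * 2 = h := by
      rw [card_fiber hd, mul_comm, ← hc, card_orb_mul]
    refine le_trans h1.ge ?_
    rw [← smul_eq_mul]
    refine card_nsmul_le_sum _ _ _ fun g hg => ?_
    have : s ≤ fx Ω g := card_le_card fun z hz =>
      mem_fixSet.mpr (mem_line.mp hz g (mem_filter.mp hg).1)
    omega
  push Not at hO
  have hL : ∀ x ∉ line G a b, 3 ≤ (orb G a b x).card := fun x hx => by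
    have := two_le_card_orb hx
    have := hO x
    omega
  have hW : 3 * ∑ x : Ω, (stab3 G a b x).card ≤ 3 * s * h + (n - s) * h := by
    rw [← sum_sdiff (subset_univ (line G a b)), mul_add, add_comm, Finset.mul_sum, Finset.mul_sum]
    refine Nat.add_le_add ?_ ?_
    · rw [Finset.sum_congr rfl (g := fun _ => 3 * h) fun x hx => by
        rw [mem_line_iff_stab3.mp hx], Finset.sum_const, smul_eq_mul, ← hss]
      ring_nf
      exact le_rfl
    · refine (sum_le_card_nsmul _ _ h fun x hx => three_mul_stab3_le (hL x (mem_sdiff.mp hx).2)).trans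
        ?_
      rw [card_sdiff_of_subset (subset_univ _), card_univ, smul_eq_mul]
  have hsn : s ≤ n := card_le_univ _
  by_cases h4 : 4 * s ≤ n
  · refine excess_ge_of_orbits h2 (by omega) hab ?_
    rw [← hnn, ← hA, ← hhh]
    obtain ⟨k, hk⟩ := Nat.exists_eq_add_of_le hsn
    rw [hk, Nat.add_sub_cancel_left] at hW
    have h5 : 8 * s + 4 * (n - s) ≤ 6 * n - 4 * s := by omega
    nlinarith [Nat.mul_le_mul_right h h4]
  push Not at h4
  -- the fixed line is small
  have hout : ∃ e, e ∉ line G a b := by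
    by_contra! hall
    have hA1 : A ⊆ {1} := fun g hg => mem_singleton.mpr
      (FaithfulSMul.eq_of_smul_eq_smul fun x : Ω => by rw [one_smul]; exact mem_line.mp (hall x) g hg)
    have := card_le_card hA1
    simp at this
    omega
  have hclose : ∀ e ∉ line G a b, ∀ x ∈ line G a b, ∀ y ∈ line G a b, x ≠ y → e ∉ line G x y := by
    intro e he x hx y hy hxy
    rwa [line_eq h2 hab hxy hx hy]
  have hlc : ∀ x y : Ω, x ≠ y → (line G x y).card = s := fun x y hxy => card_line_eq h2 hab hxy
  obtain ⟨e, he⟩ := hout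
  have hF : s * (s - 1) + 1 ≤ n := card_mul_le h2 (U := univ) he (mem_univ _)
    (fun _ _ => subset_univ _) (fun x hx => hlc e x fun h => he (h ▸ hx)) (hclose e he)
  have hs4 : s ≤ 4 := by
    obtain ⟨k, hk⟩ : ∃ k, s = k + 1 := ⟨s - 1, by omega⟩
    rw [hk, Nat.add_sub_cancel] at hF
    by_contra hh5
    nlinarith
  have hsemi : ∀ g : G, g ≠ 1 → 2 ≤ fx Ω g → fx Ω g = s := by
    intro g hg hf
    obtain ⟨c, hc, d, hd, hcd⟩ := one_lt_card.mp (hf : 1 < (fixSet Ω g).card)
    rw [mem_fixSet] at hc hd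
    have hsub : line G c d ⊆ fixSet Ω g := fun z hz =>
      mem_fixSet.mpr (mem_line.mp hz g (mem_stab2.mpr ⟨hc, hd⟩))
    refine le_antisymm ?_ (hlc c d hcd ▸ card_le_card hsub)
    by_contra hlt
    push Not at hlt
    obtain ⟨z, hz, hzl⟩ := exists_mem_notMem_of_card_lt_card (hlc c d hcd ▸ hlt :
      (line G c d).card < (fixSet Ω g).card)
    have hX : s * (s - 1) + 1 ≤ fx Ω g := by
      have := card_mul_le h2 (U := fixSet Ω g) hzl hz ?_
        (fun x hx => hlc z x fun h => hzl (h ▸ hx))
        (fun x hx y hy hxy h => hzl (line_eq h2 hcd hxy hx hy ▸ h))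
      · rwa [hlc c d hcd] at this
      · intro x hx y hy
        exact mem_fixSet.mpr (mem_line.mp hy g
          (mem_stab2.mpr ⟨mem_fixSet.mp hz, mem_fixSet.mp (hsub hx)⟩))
    have hne : ∃ e', e' ∉ fixSet Ω g := by
      by_contra! hall
      exact hg (FaithfulSMul.eq_of_smul_eq_smul fun x : Ω => by
        rw [one_smul]; exact mem_fixSet.mp (hall x))
    obtain ⟨e', he'⟩ := hne
    have hY : fx Ω g * (s - 1) + 1 ≤ n := card_mul_le h2 (U := univ) he' (mem_univ _)
      (fun _ _ => subset_univ _) (fun x hx => hlc e' x fun h => he' (h ▸ hx))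
      (fun x hx y hy hxy h => he' (mem_fixSet.mpr (mem_line.mp h g
        (mem_stab2.mpr ⟨mem_fixSet.mp hx, mem_fixSet.mp hy⟩))))
    interval_cases s <;> omega
  -- exact value of the excess
  have hT : s * excess G Ω = Fintype.card Ω * (n - 1) * ((h - 1) * (n - s)) := by
    have h1 := sum_pairs_fixed h2 (fun g : G => if g = 1 then 0 else n - s)
      (fun u g => by simp [conj_eq_one_iff]) hab
    rw [Finset.sum_ite, sum_const_zero, zero_add, Finset.sum_const, smul_eq_mul, ← hA] at h1
    have hc : (A.filter fun g => ¬ g = 1).card = h - 1 := by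
      rw [hhh, ← card_erase_of_mem (one_mem_stab2 (G := G) a b), ← hA]
      congr 1
      ext g
      simp [and_comm]
    rw [hc, ← hnn] at h1
    rw [← h1, excess, Finset.mul_sum]
    refine Finset.sum_congr rfl fun g _ => ?_
    by_cases hg1 : g = 1
    · rw [if_pos hg1, hg1, show fx Ω (1 : G) = n by simp [fx, fixSet, hnn]]
      simp [← hnn]
    rw [if_neg hg1]
    rcases Nat.lt_or_ge (fx Ω g) 2 with hl | hl
    · interval_cases (fx Ω g) <;> simp
    · rw [hsemi g hg1 hl, ← Nat.mul_sub_one]
      ring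
  rw [card_group h2 hab, ← hA, ← hhh]
  refine Nat.le_of_mul_le_mul_left ?_ (by omega : 0 < s)
  rw [hT, ← hnn, mul_left_comm]
  refine Nat.mul_le_mul_left _ ?_
  -- arithmetic
  have hh3 : 3 ≤ h := by
    have h3 := hL e he
    have := card_orb_mul (G := G) a b e
    rw [← hA, ← hhh] at this
    have : 0 < (stab3 G a b e).card := card_pos.mpr ⟨1, by simp [stab3, one_mem_stab2]⟩
    nlinarith
  rcases (by omega : s = 3 ∨ s = 4) with hs3 | hs3
  · rcases (by omega : 4 ≤ h ∨ h = 3) with h' | h'
    · rw [hs3] at hF ⊢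
      obtain ⟨k, hk⟩ : ∃ k, n = k + 7 := ⟨n - 7, by omega⟩
      obtain ⟨j, hj⟩ : ∃ j, h = j + 4 := ⟨h - 4, by omega⟩
      rw [hk, hj, show j + 4 - 1 = j + 3 by omega, show k + 7 - 3 = k + 4 by omega]
      nlinarith
    · have h7 : n ≠ 7 := by
        intro h7
        have hd := card_dvd_of_orb (G := G) (a := a) (b := b) (univ \ line G a b) 3
          (fun x hx => orb_subset_compl_line (mem_sdiff.mp hx).2) fun x hx => by
            have h3 := hL x (mem_sdiff.mp hx).2
            have h4' := card_orb_mul (G := G) a b x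
            rw [← hA, ← hhh, h'] at h4'
            have : 0 < (stab3 G a b x).card := card_pos.mpr ⟨1, by simp [stab3, one_mem_stab2]⟩
            nlinarith
        rw [card_sdiff_of_subset (subset_univ _), card_univ, ← hnn, ← hss, h7, hs3] at hd
        omega
      rw [hs3, h']
      omega
  · rw [hs3] at hF ⊢
    obtain ⟨k, hk⟩ : ∃ k, n = k + 13 := ⟨n - 13, by omega⟩
    obtain ⟨j, hj⟩ : ∃ j, h = j + 3 := ⟨h - 3, by omega⟩
    rw [hk, hj, show j + 3 - 1 = j + 2 by omega, show k + 13 - 4 = k + 9 by omega]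
    nlinarith

/-- Two-point stabilizer fixing only two points. -/
theorem excess_ge_two (hn : 7 ≤ Fintype.card Ω) {a b : Ω} (hab : a ≠ b)
    (hh : 2 ≤ (stab2 G a b).card) (hs : line G a b = {a, b}) :
    Fintype.card G ≤ excess G Ω := by
  set n := Fintype.card Ω with hnn
  set A := stab2 G a b with hA
  set h := A.card with hhh
  have hs2 : (line G a b).card = 2 := by rw [hs]; exact card_pair hab
  have hcompl : (univ \ line G a b).card = n - 2 := by
    rw [card_sdiff_of_subset (subset_univ _), card_univ, hs2]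
  have hfa : ∀ g ∈ A, fixSet Ω g ⊇ line G a b := fun g hg z hz =>
    mem_fixSet.mpr (mem_line.mp hz g hg)
  have hWsplit : ∑ x : Ω, (stab3 G a b x).card =
      ∑ x ∈ univ \ line G a b, (stab3 G a b x).card + 2 * h := by
    rw [← sum_sdiff (subset_univ (line G a b)), Finset.sum_congr rfl (g := fun _ => h)
      (s₂ := line G a b) fun x hx => by rw [mem_line_iff_stab3.mp hx], Finset.sum_const,
      smul_eq_mul, hs2]
  by_cases hO : ∃ c, (orb G a b c).card = 2
  swap
  · push Not at hO
    have hL : ∀ x ∉ line G a b, 3 ≤ (orb G a b x).card := fun x hx => by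
      have := two_le_card_orb hx
      have := hO x
      omega
    refine excess_ge_of_orbits h2 (by omega) hab ?_
    rw [← hnn, ← hA, ← hhh, hWsplit]
    rcases (by omega : 8 ≤ n ∨ n = 7) with h8 | h7
    · have h3 := sum_le_card_nsmul (univ \ line G a b) (fun x => 3 * (stab3 G a b x).card) h
        fun x hx => three_mul_stab3_le (hL x (mem_sdiff.mp hx).2)
      rw [← Finset.mul_sum, hcompl, smul_eq_mul] at h3
      obtain ⟨k, hk⟩ : ∃ k, n = k + 8 := ⟨n - 8, by omega⟩
      rw [hk, show k + 8 - 2 = k + 6 by omega] at h3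
      rw [hk]
      nlinarith
    · have h5 : ∀ x ∈ univ \ line G a b, (orb G a b x).card = 5 := by
        intro x hx
        have h3 := hL x (mem_sdiff.mp hx).2
        have hsub := orb_subset_compl_line (G := G) (mem_sdiff.mp hx).2
        have hle := card_le_card hsub
        by_contra hne
        obtain ⟨y, hy, hyn⟩ := exists_mem_notMem_of_card_lt_card
          (by omega : (orb G a b x).card < (univ \ line G a b).card)
        have hd : Disjoint (orb G a b x) (orb G a b y) := disjoint_left.mpr fun z hz hz' =>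
          hyn (orb_eq hz ▸ (orb_eq hz').symm ▸ mem_orb_self a b y)
        have := card_le_card (union_subset hsub (orb_subset_compl_line (G := G) (mem_sdiff.mp hy).2))
        rw [card_union_of_disjoint hd] at this
        have := hL y (mem_sdiff.mp hy).2
        omega
      have h6 : ∀ x ∈ univ \ line G a b, 5 * (stab3 G a b x).card = h := fun x hx => by
        rw [← h5 x hx, card_orb_mul]
      have h8 := Finset.sum_congr rfl h6
      rw [← Finset.mul_sum, Finset.sum_const, hcompl, smul_eq_mul] at h8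
      rw [h7] at h8 ⊢
      omega
  obtain ⟨c, hc⟩ := hO
  obtain ⟨d, hd, hdc⟩ := exists_mem_ne (by omega : 1 < (orb G a b c).card) c
  have hcd2 : ∀ g ∈ A, g • c = c ∨ g • c = d := by
    intro g hg
    have hsub : ({c, d} : Finset Ω) ⊆ orb G a b c :=
      insert_subset (mem_orb_self a b c) (singleton_subset_iff.mpr hd)
    have := eq_of_subset_of_card_le hsub (by rw [hc, card_pair hdc.symm])
    have hm := smul_mem_orb (x := c) hg
    rw [← this] at hm
    simpa using hm
  set E := A.filter fun g => g • c = d with hE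
  set B := stab3 G a b c with hB
  have hEc : E.card * 2 = h := by rw [hE, card_fiber hd, mul_comm, ← hc, card_orb_mul]
  have hBc : B.card * 2 = h := by rw [mul_comm, ← hc, card_orb_mul]
  have hf1 : ∀ g ∈ A, 2 ≤ fx Ω g := fun g hg => hs2 ▸ card_le_card (hfa g hg)
  by_cases hesc : ∃ e ∉ line G a b, ∃ g ∈ stab3 G a b e, g • c = d
  · obtain ⟨e, he, g₀, hg₀, hg₀c⟩ := hesc
    refine excess_ge_of_pair h2 hab hdc.symm E (fun g hg => (mem_filter.mp hg).2) ?_
    rw [← hhh]
    set O := orb G a b e with hOdef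
    have hper : ∀ g ∈ E, 1 + (O.filter fun x => g • x = x).card ≤ fx Ω g - 1 := by
      intro g hg
      have hd' : Disjoint (line G a b) (O.filter fun x => g • x = x) := disjoint_left.mpr
        fun z hz hz' => (mem_sdiff.mp (orb_subset_compl_line he (mem_filter.mp hz').1)).2 hz
      have := card_le_card (union_subset (hfa g (mem_filter.mp hg).1)
        (show (O.filter fun x => g • x = x) ⊆ fixSet Ω g from
          fun z hz => mem_fixSet.mpr (mem_filter.mp hz).2))
      rw [card_union_of_disjoint hd', hs2] at this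
      have : 2 + (O.filter fun x => g • x = x).card ≤ fx Ω g := this
      omega
    refine le_trans ?_ (Finset.sum_le_sum hper)
    rw [Finset.sum_add_distrib, Finset.sum_const, smul_eq_mul, mul_one]
    have hswap : ∑ g ∈ E, (O.filter fun x => g • x = x).card =
        ∑ x ∈ O, (E.filter fun g => g • x = x).card := by
      simp only [card_filter]
      exact Finset.sum_comm
    have hhalf : ∀ x ∈ O, (stab3 G a b e).card ≤ 2 * (E.filter fun g => g • x = x).card := by
      intro x hx
      rw [← card_stab3_eq_of_mem_orb hx]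
      obtain ⟨u, hu, rfl⟩ := mem_image.mp hx
      set g₁ := u * g₀ * u⁻¹ with hg₁
      have hg₀' : g₀ ∈ A ∧ g₀ • e = e := mem_filter.mp hg₀
      have hg₁A : g₁ ∈ A := mul_mem_stab2 (mul_mem_stab2 hu hg₀'.1) (inv_mem_stab2 hu)
      have hg₁x : g₁ • (u • e) = u • e := by
        rw [hg₁, mul_smul, mul_smul, inv_smul_smul, hg₀'.2]
      have hg₁c : g₁ • c = d := by
        refine (hcd2 _ hg₁A).resolve_left fun h => ?_
        rw [hg₁, mul_smul, mul_smul, ← eq_inv_smul_iff] at h
        rcases hcd2 _ (inv_mem_stab2 hu) with h' | h'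
        · rw [h', hg₀c] at h
          exact hdc h
        · rw [h', ← hg₀c, smul_left_cancel_iff] at h
          exact hdc (hg₀c.symm.trans h)
      rw [← card_filter_add_card_filter_not (s := stab3 G a b (u • e)) (fun g => g • c = c),
        two_mul]
      refine Nat.add_le_add (card_le_card_of_injOn (fun g => g₁ * g) ?_
        (fun g _ g' _ h => mul_left_cancel h)) (card_le_card ?_)
      · intro g hg
        simp only [coe_filter, Set.mem_setOf_eq, stab3, mem_filter, hE] at hg ⊢
        exact ⟨⟨mul_mem_stab2 hg₁A hg.1.1, by rw [mul_smul, hg.2, hg₁c]⟩,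
          by rw [mul_smul, hg.1.2, hg₁x]⟩
      · intro g hg
        simp only [stab3, mem_filter, hE] at hg ⊢
        exact ⟨⟨hg.1.1, (hcd2 g hg.1.1).resolve_left hg.2⟩, hg.1.2⟩
    have := Finset.sum_le_sum hhalf
    rw [Finset.sum_const, smul_eq_mul, hOdef, card_orb_mul, ← hA, ← hhh, ← Finset.mul_sum,
      ← hOdef, ← hswap] at this
    omega
  push Not at hesc
  have hsubB : ∀ x ∉ line G a b, stab3 G a b x ⊆ B := by
    intro x hx g hg
    exact mem_filter.mpr ⟨(mem_filter.mp hg).1,
      (hcd2 g (mem_filter.mp hg).1).resolve_right (hesc x hx g hg)⟩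
  rcases (by omega : h = 2 ∨ 3 ≤ h) with h' | h'
  · have hone : ∀ x ∈ univ \ line G a b, (stab3 G a b x).card ≤ 1 := fun x hx => by
      have := card_le_card (hsubB x (mem_sdiff.mp hx).2)
      omega
    have hL2 : ∀ x ∈ univ \ line G a b, (orb G a b x).card = 2 := fun x hx => by
      have h1 := card_orb_mul (G := G) a b x
      have h2' : 0 < (stab3 G a b x).card := card_pos.mpr ⟨1, by simp [stab3, one_mem_stab2]⟩
      rw [← hA, ← hhh, h', (le_antisymm (hone x hx) h2' : (stab3 G a b x).card = 1)] at h1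
      omega
    have hdvd := card_dvd_of_orb (G := G) (a := a) (b := b) (univ \ line G a b) 2
      (fun x hx => orb_subset_compl_line (mem_sdiff.mp hx).2) hL2
    rw [hcompl] at hdvd
    refine excess_ge_of_orbits h2 (by omega) hab ?_
    rw [← hnn, ← hA, ← hhh, hWsplit, h']
    have h3 := sum_le_card_nsmul _ _ 1 hone
    rw [hcompl, smul_eq_mul, mul_one] at h3
    omega
  -- `Y` the points in orbits of length two
  set Y := (univ \ line G a b).filter fun x => (orb G a b x).card = 2 with hY
  have hYB : ∀ g ∈ B, ∀ x ∈ Y, g • x = x := by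
    intro g hg x hx
    simp only [hY, mem_filter, mem_sdiff] at hx
    have h1 := card_orb_mul (G := G) a b x
    rw [hx.2, ← hA, ← hhh] at h1
    have := eq_of_subset_of_card_le (hsubB x hx.1.2) (by omega)
    rw [← this] at hg
    exact (mem_filter.mp hg).2
  have hBf : ∀ g ∈ B, 1 + Y.card ≤ fx Ω g - 1 := by
    intro g hg
    have hd' : Disjoint (line G a b) Y := disjoint_left.mpr fun z hz hz' =>
      (mem_sdiff.mp (mem_filter.mp hz').1).2 hz
    have := card_le_card (union_subset (hfa g (mem_filter.mp hg).1)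
      (show Y ⊆ fixSet Ω g from fun z hz => mem_fixSet.mpr (hYB g hg z hz)))
    rw [card_union_of_disjoint hd', hs2] at this
    have : 2 + Y.card ≤ fx Ω g := this
    omega
  by_cases hsmall : ∃ p ∉ line G a b, 3 ≤ (orb G a b p).card ∧ (orb G a b p).card ≤ 1 + Y.card
  · obtain ⟨p, hp, hp3, hpY⟩ := hsmall
    have hlt : (stab3 G a b p).card < B.card := by
      have h1 := three_mul_stab3_le (G := G) hp3
      rw [← hA, ← hhh] at h1
      have : 0 < (stab3 G a b p).card := card_pos.mpr ⟨1, by simp [stab3, one_mem_stab2]⟩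
      omega
    obtain ⟨g, hg, hgn⟩ := exists_mem_notMem_of_card_lt_card hlt
    have hgA : g ∈ A := (mem_filter.mp hg).1
    have hgp : g • p ≠ p := fun h => hgn (mem_filter.mpr ⟨hgA, h⟩)
    refine excess_ge_of_pair h2 hab (c := p) (d := g • p) hgp.symm
      (A.filter fun x => x • p = g • p) (fun x hx => (mem_filter.mp hx).2) ?_
    have hB' : ∀ x ∈ A.filter (fun x => x • p = g • p), x ∈ B := by
      intro x hx
      obtain ⟨hxA, hxp⟩ := mem_filter.mp hx
      have hm : g⁻¹ * x ∈ stab3 G a b p := mem_filter.mpr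
        ⟨mul_mem_stab2 (inv_mem_stab2 hgA) hxA, by rw [mul_smul, hxp, inv_smul_smul]⟩
      have hmB := hsubB p hp hm
      refine mem_filter.mpr ⟨hxA, ?_⟩
      have h1 : (g⁻¹ * x) • c = c := (mem_filter.mp hmB).2
      rw [mul_smul, inv_smul_eq_iff] at h1
      rw [h1, (mem_filter.mp hg).2]
    refine le_trans ?_ (card_nsmul_le_sum _ _ _ fun x hx => hBf x (hB' x hx))
    rw [smul_eq_mul, card_fiber (smul_mem_orb hgA), ← hhh]
    calc h = (orb G a b p).card * (stab3 G a b p).card := (card_orb_mul a b p).symm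
      _ ≤ (1 + Y.card) * (stab3 G a b p).card := Nat.mul_le_mul_right _ hpY
      _ = _ := mul_comm _ _
  push Not at hsmall
  -- all other orbits are long
  refine excess_ge_of_orbits h2 (by omega) hab ?_
  rw [← hnn, ← hA, ← hhh, hWsplit]
  set X := Y.card + 2 with hX
  set Z := (univ \ line G a b) \ Y with hZ
  have hYsub : Y ⊆ univ \ line G a b := filter_subset _ _
  have hlong : ∀ x ∈ Z, X ≤ (orb G a b x).card := by
    intro x hx
    simp only [hZ, hY, mem_sdiff, mem_filter, mem_univ, true_and] at hx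
    have h2' := two_le_card_orb hx.1
    have : (orb G a b x).card ≠ 2 := fun h => hx.2 ⟨hx.1, h⟩
    have := hsmall x hx.1 (by omega)
    omega
  have hY0 : 2 ≤ Y.card := by
    have hsub : orb G a b c ⊆ Y := by
      have hcl : c ∉ line G a b := fun hcl => by
        rw [hB, mem_line_iff_stab3.mp hcl, ← hA, ← hhh] at hBc
        omega
      intro z hz
      exact mem_filter.mpr ⟨orb_subset_compl_line hcl hz, by rw [orb_eq hz, hc]⟩
    exact hc ▸ card_le_card hsub
  have hZc : Z.card + X = n := by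
    rw [hZ, card_sdiff_of_subset hYsub, hcompl, hX]
    have := card_le_card hYsub
    rw [hcompl] at this
    omega
  have hZX : X ≤ Z.card := by
    obtain ⟨p, hp⟩ : Z.Nonempty := by
      by_contra hem
      rw [not_nonempty_iff_eq_empty] at hem
      have hB1 : B ⊆ {1} := fun g hg => mem_singleton.mpr
        (FaithfulSMul.eq_of_smul_eq_smul fun x : Ω => by
          rw [one_smul]
          by_cases hx : x ∈ line G a b
          · exact mem_line.mp hx g (mem_filter.mp hg).1
          · refine hYB g hg x ?_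
            by_contra hxY
            exact (hem ▸ (mem_sdiff.mpr ⟨mem_sdiff.mpr ⟨mem_univ _, hx⟩, hxY⟩ : x ∈ Z) :
              x ∈ (∅ : Finset Ω)) |> notMem_empty x)
      have := card_le_card hB1
      simp at this
      omega
    refine le_trans (hlong p hp) (card_le_card fun z hz => ?_)
    simp only [hZ, hY, mem_sdiff, mem_filter, mem_univ, true_and] at hp ⊢
    have h1 := (mem_sdiff.mp (orb_subset_compl_line hp.1 hz)).2
    exact ⟨h1, fun h => hp.2 ⟨hp.1, by rw [← orb_eq hz]; exact h.2⟩⟩
  have hYW : 2 * ∑ x ∈ Y, (stab3 G a b x).card = Y.card * h := by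
    rw [Finset.mul_sum, Finset.sum_congr rfl (g := fun _ => h) fun x hx => by
      rw [← (mem_filter.mp hx).2, card_orb_mul], Finset.sum_const, smul_eq_mul]
  have hZW : X * ∑ x ∈ Z, (stab3 G a b x).card ≤ Z.card * h := by
    rw [Finset.mul_sum, ← smul_eq_mul (a := Z.card)]
    exact sum_le_card_nsmul _ _ _ fun x hx =>
      (Nat.mul_le_mul_right _ (hlong x hx)).trans (card_orb_mul a b x).le
  rw [← sum_sdiff hYsub]
  set S1 := ∑ x ∈ Y, (stab3 G a b x).card
  set S2 := ∑ x ∈ Z, (stab3 G a b x).card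
  have hh0 : 0 ≤ h := Nat.zero_le _
  rw [← hZc]
  have key : X * (4 * (S2 + S1 + 2 * h)) ≤ X * (2 * (Z.card + X) * h) := by
    have h4X : 4 ≤ X := by omega
    have e1 := Nat.mul_le_mul_right (Z.card * h) h4X
    have e2 := Nat.mul_le_mul_right h hZX
    have e3 := congrArg (X * ·) hYW
    have e4 : X * (Y.card * h) + 2 * (X * h) = X * (X * h) := by rw [hX]; ring
    linarith
  have := Nat.le_of_mul_le_mul_left key (by omega)
  omega

theorem excess_ge (hn : 7 ≤ Fintype.card Ω) {a b : Ω} (hab : a ≠ b)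
    (hh : 2 ≤ (stab2 G a b).card) : Fintype.card G ≤ excess G Ω := by
  have hsub : ({a, b} : Finset Ω) ⊆ line G a b :=
    insert_subset (left_mem_line a b) (singleton_subset_iff.mpr (right_mem_line a b))
  by_cases h : (line G a b).card ≤ 2
  · exact excess_ge_two h2 hn hab hh
      (eq_of_subset_of_card_le hsub (by rw [card_pair hab]; exact h)).symm
  · exact excess_ge_line h2 hn hab hh (by omega)

end TwoTrans

end Cfsg.Lib.Derange
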