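import Mathlib.GroupTheory.SpecificGroups.Cyclic
import Mathlib.RingTheory.RootsOfUnity.Complex
import Mathlib.RingTheory.Polynomial.Cyclotomic.Basic
import Mathlib.RingTheory.Polynomial.Cyclotomic.Roots
import Mathlib.Algebra.MonoidAlgebra.Basic
import Mathlib.Algebra.CharP.Lemmas
import Mathlib.Data.Matrix.Mul
import Mathlib.LinearAlgebra.Matrix.Notation
import Mathlib.Data.Complex.Basic
import Mathlib.Algebra.Order.Chebyshev
import Mathlib.Tactic

/-!
# No primitive strongly regular Cayley graph on a dihedral group of twice odd order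

The neighbours of the identity are `X` in the cyclic part and `Y` outside it.
-/

set_option autoImplicit false
set_option linter.style.haveILetI false
set_option linter.unusedSectionVars false

open Finset

namespace Cfsg.Lib.Perm.DihGraph

variable {C : Type*} [CommGroup C] [Fintype C] [DecidableEq C]

/-- The two equations of a strongly regular graph with parameters `l`, `μ`. -/
structure Srg (X Y : Finset C) (l μ : ℕ) : Prop where
  one_not : (1 : C) ∉ X
  symm : ∀ a ∈ X, a⁻¹ ∈ X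
  e1 : ∀ g, (X.filter (fun a => a⁻¹ * g ∈ X)).card + (Y.filter (fun a => g⁻¹ * a ∈ Y)).card =
    if g = 1 then X.card + Y.card else if g ∈ X then l else μ
  e2 : ∀ g, 2 * (X.filter (fun a => a⁻¹ * g ∈ Y)).card = if g ∈ Y then l else μ

theorem conv {K : Type*} [CommRing K] (φ : C →* K) (X Y : Finset C) :
    ∑ g, φ g * ((X.filter (fun a => a⁻¹ * g ∈ Y)).card : K) = (∑ a ∈ X, φ a) * ∑ b ∈ Y, φ b := by
  calc ∑ g, φ g * ((X.filter (fun a => a⁻¹ * g ∈ Y)).card : K)
      = ∑ g, ∑ a ∈ X, (if a⁻¹ * g ∈ Y then φ g else 0) := by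
        refine sum_congr rfl fun g _ => ?_
        rw [card_filter, Nat.cast_sum, mul_sum]
        refine sum_congr rfl fun a _ => ?_
        split_ifs <;> simp
    _ = ∑ a ∈ X, ∑ g, (if a⁻¹ * g ∈ Y then φ g else 0) := sum_comm
    _ = _ := by
      rw [sum_mul]
      refine sum_congr rfl fun a _ => ?_
      rw [← Equiv.sum_comp (Equiv.mulLeft a)]
      simp only [Equiv.coe_mulLeft, inv_mul_cancel_left, map_mul]
      rw [sum_ite_mem, univ_inter, mul_sum]

variable {X Y : Finset C} {l μ : ℕ}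

/-- The two equations under a homomorphism. -/
theorem Srg.eval (h : Srg X Y l μ) {K : Type*} [CommRing K] (φ : C →* K) :
    (∑ a ∈ X, φ a) * (∑ a ∈ X, φ a) + (∑ a ∈ Y, φ a) * (∑ a ∈ Y, φ a⁻¹) =
      ((X.card : K) + Y.card - μ) + ((l : K) - μ) * (∑ a ∈ X, φ a) + μ * ∑ g, φ g ∧
    2 * (∑ a ∈ X, φ a) * (∑ a ∈ Y, φ a) = ((l : K) - μ) * (∑ a ∈ Y, φ a) + μ * ∑ g, φ g := by
  constructor
  · have h1 := conv φ X X
    have h2 := conv φ Y (Y.image (·⁻¹))
    rw [sum_image (fun a _ b _ e => inv_injective e)] at h2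
    have hc : ∀ g, (Y.filter (fun a => a⁻¹ * g ∈ Y.image (·⁻¹))).card = (Y.filter (fun a => g⁻¹ * a ∈ Y)).card := by
      intro g
      congr 1
      refine filter_congr fun a _ => ?_
      rw [mem_image]
      constructor
      · rintro ⟨b, hb, e⟩
        rwa [show g⁻¹ * a = b by rw [← inv_inv b, e]; simp]
      · exact fun hb => ⟨_, hb, by simp⟩
    simp only [hc] at h2
    rw [← h1, ← h2, ← sum_add_distrib]
    calc ∑ g, (φ g * ((X.filter (fun a => a⁻¹ * g ∈ X)).card : K) + φ g * ((Y.filter (fun a => g⁻¹ * a ∈ Y)).card : K))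
        = ∑ g, ((if g = 1 then φ g * ((X.card : K) + Y.card - μ) else 0) +
            ((if g ∈ X then ((l : K) - μ) * φ g else 0) + (μ : K) * φ g)) := by
          refine sum_congr rfl fun g _ => ?_
          rw [← mul_add, ← Nat.cast_add, h.e1]
          by_cases hg : g = 1
          · subst hg; simp [h.one_not]
          · by_cases hgX : g ∈ X <;> simp [hg, hgX] <;> ring
      _ = _ := by
          rw [sum_add_distrib, sum_add_distrib, sum_ite_eq', if_pos (mem_univ _), map_one, one_mul,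
            sum_ite_mem, univ_inter, ← mul_sum, ← mul_sum, add_assoc]
  · have h1 := conv φ X Y
    rw [mul_assoc, ← h1, mul_sum]
    calc ∑ g, 2 * (φ g * ((X.filter (fun a => a⁻¹ * g ∈ Y)).card : K))
        = ∑ g, ((if g ∈ Y then ((l : K) - μ) * φ g else 0) + (μ : K) * φ g) := by
          refine sum_congr rfl fun g _ => ?_
          rw [mul_left_comm, show (2 : K) * ((X.filter (fun a => a⁻¹ * g ∈ Y)).card : K) =
            ((2 * (X.filter (fun a => a⁻¹ * g ∈ Y)).card : ℕ) : K) by push_cast; ring, h.e2]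
          by_cases hgY : g ∈ Y <;> simp [hgY] <;> ring
      _ = _ := by rw [sum_add_distrib, sum_ite_mem, univ_inter, ← mul_sum, ← mul_sum]

theorem Srg.totals (h : Srg X Y l μ) :
    ((X.card : ℤ) * X.card + Y.card * Y.card = ((X.card : ℤ) + Y.card - μ) + ((l : ℤ) - μ) * X.card + μ * Fintype.card C) ∧
    (2 * (X.card : ℤ) * Y.card = ((l : ℤ) - μ) * Y.card + μ * Fintype.card C) := by
  have := h.eval (1 : C →* ℤ)
  simpa using this

/-- A rational sum of `p`-th roots of unity is taken over none or all of the nontrivial exponents. -/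
theorem roots_all_or_none {p : ℕ} (hp : p.Prime) {ζ : ℂ} (hζ : IsPrimitiveRoot ζ p) (q : ℚ)
    (S : Finset ℕ) (hS : S ⊆ Finset.Ico 1 p) (he : ∑ i ∈ S, ζ ^ i = (q : ℂ)) :
    S = ∅ ∨ S = Finset.Ico 1 p := by
  classical
  let f : Polynomial ℚ := (∑ i ∈ S, Polynomial.X ^ i) - Polynomial.C q
  have hf : Polynomial.aeval ζ f = 0 := by simp [f, map_sum, he]
  have hcoef : ∀ j, 1 ≤ j → f.coeff j = if j ∈ S then 1 else 0 := fun j hj => by
    simp only [f, Polynomial.coeff_sub, Polynomial.finsetSum_coeff, Polynomial.coeff_X_pow,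
      Polynomial.coeff_C, if_neg (show j ≠ 0 by omega), sub_zero]
    rw [Finset.sum_ite_eq]
  have hdvd : Polynomial.cyclotomic p ℚ ∣ f := by
    rw [Polynomial.cyclotomic_eq_minpoly_rat hζ hp.pos]
    exact minpoly.dvd ℚ ζ hf
  haveI := Fact.mk hp
  obtain ⟨g, hg⟩ := hdvd
  have hdeg : f.natDegree ≤ p - 1 := by
    refine (Polynomial.natDegree_sub_le _ _).trans (max_le ?_ (by simp))
    refine Polynomial.natDegree_sum_le_of_forall_le _ _ fun i hi => ?_
    have := Finset.mem_Ico.1 (hS hi)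
    simp only [Polynomial.natDegree_pow, Polynomial.natDegree_X, mul_one]; omega
  have hg0 : g.natDegree = 0 := by
    by_cases hg00 : g = 0
    · simp [hg00]
    rw [hg, Polynomial.natDegree_mul (Polynomial.cyclotomic_ne_zero p ℚ) hg00,
      Polynomial.natDegree_cyclotomic, Nat.totient_prime hp] at hdeg
    omega
  obtain ⟨c, rfl⟩ := Polynomial.natDegree_eq_zero.1 hg0
  have hconst : ∀ j, 1 ≤ j → j < p → (if j ∈ S then (1 : ℚ) else 0) = c := by
    intro j hj hjp
    rw [← hcoef j hj, hg, Polynomial.cyclotomic_prime, Polynomial.coeff_mul_C, Polynomial.finsetSum_coeff]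
    simp [Polynomial.coeff_X_pow, Finset.mem_range.2 hjp]
  rcases S.eq_empty_or_nonempty with h | ⟨i, hi⟩
  · exact Or.inl h
  · refine Or.inr (Finset.Subset.antisymm hS fun j hj => ?_)
    have hi' := Finset.mem_Ico.1 (hS hi)
    have hj' := Finset.mem_Ico.1 hj
    have h1 := hconst i hi'.1 hi'.2
    have h2 := hconst j hj'.1 hj'.2
    by_contra hjS
    rw [if_pos hi] at h1
    rw [if_neg hjS, ← h1] at h2
    exact zero_ne_one h2

/-- A homomorphism into `ℂ` sending a generator to a primitive root. -/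
theorem exists_char [IsCyclic C] : ∃ (c : C) (φ : C →* ℂ), (∀ g : C, g ∈ Subgroup.zpowers c) ∧
    IsPrimitiveRoot (φ c) (Fintype.card C) ∧ Function.Injective φ := by
  obtain ⟨c, hc⟩ := IsCyclic.exists_generator (α := C)
  have hm : Fintype.card C ≠ 0 := Fintype.card_ne_zero
  have hζ := Complex.isPrimitiveRoot_exp (Fintype.card C) hm
  set ζu := (hζ.isUnit hm).unit
  have hζu : IsPrimitiveRoot ζu (Fintype.card C) :=
    IsPrimitiveRoot.coe_units_iff.1 (by simpa [ζu] using hζ)
  have hdvd : orderOf ζu ∣ orderOf c := by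
    rw [orderOf_eq_card_of_forall_mem_zpowers hc, Nat.card_eq_fintype_card, ← hζu.eq_orderOf]
  let φu : C →* ℂˣ := monoidHomOfForallMemZpowers hc hdvd
  refine ⟨c, (Units.coeHom ℂ).comp φu, hc, ?_, ?_⟩
  · rw [MonoidHom.comp_apply, monoidHomOfForallMemZpowers_apply_gen]
    exact IsPrimitiveRoot.coe_units_iff.2 hζu
  · refine (Units.val_injective.comp ?_)
    rw [← MonoidHom.ker_eq_bot_iff, Subgroup.eq_bot_iff_forall]
    intro g hg
    obtain ⟨i, rfl⟩ := Subgroup.mem_zpowers_iff.1 (hc g)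
    rw [MonoidHom.mem_ker, map_zpow, monoidHomOfForallMemZpowers_apply_gen] at hg
    rw [← orderOf_dvd_iff_zpow_eq_one] at hg ⊢
    rwa [orderOf_eq_card_of_forall_mem_zpowers hc, Nat.card_eq_fintype_card, hζu.eq_orderOf]

/-- The cyclic part does not lie in the subgroup of `p`-th powers. -/
theorem not_subset_powers [IsCyclic C] (hodd : Odd (Fintype.card C)) (h : Srg X Y l μ)
    (hμ : 0 < μ) (hx : 0 < X.card) (hy : 0 < Y.card) (hym : Y.card < Fintype.card C)
    {p : ℕ} (hp : p.Prime) (hpm : p ∣ Fintype.card C) : ∃ g ∈ X, ∀ a, a ^ p ≠ g := by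
  by_contra hcon
  push Not at hcon
  obtain ⟨c, φ, hc, hζ, hinj⟩ := exists_char (C := C)
  obtain ⟨m', hm'⟩ := hpm
  -- the character of order p
  let φ0 : C →* ℂ := φ.comp (powMonoidHom m')
  have hone : ∀ g ∈ X, φ0 g = 1 := by
    intro g hg
    obtain ⟨a, rfl⟩ := hcon g hg
    show φ ((a ^ p) ^ m') = 1
    rw [← pow_mul, ← hm', pow_card_eq_one, map_one]
  have hne : φ0 c ≠ 1 := by
    show φ (c ^ m') ≠ 1
    rw [map_pow]
    have hm0 : 0 < m' := Nat.pos_of_ne_zero fun e => by
      rw [e, mul_zero] at hm'; exact Fintype.card_ne_zero hm'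
    exact hζ.pow_ne_one_of_pos_of_lt hm0.ne' (by rw [hm']; exact lt_mul_of_one_lt_left hm0 hp.one_lt)
  have hsum : ∑ g, φ0 g = 0 := by
    have hmul : φ0 c * ∑ g, φ0 g = ∑ g, φ0 g := by
      rw [mul_sum]
      exact Fintype.sum_equiv (Equiv.mulLeft c) _ _ fun g => by simp
    have : (φ0 c - 1) * ∑ g, φ0 g = 0 := by rw [sub_mul, hmul, one_mul, sub_self]
    exact (mul_eq_zero.1 this).resolve_left (sub_ne_zero.2 hne)
  obtain ⟨q1, q2⟩ := h.eval φ0
  obtain ⟨t1, t2⟩ := h.totals
  have hX : ∑ a ∈ X, φ0 a = (X.card : ℂ) := by rw [sum_congr rfl hone]; simp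
  rw [hX, hsum, mul_zero, add_zero] at q1 q2
  have hY : ∑ a ∈ Y, φ0 a = 0 := by
    by_contra hY0
    have h2 : (2 * (X.card : ℂ)) = (l : ℂ) - μ := mul_right_cancel₀ hY0 q2
    have h2' : (2 * (X.card : ℤ)) = (l : ℤ) - μ := by exact_mod_cast h2
    have : (μ : ℤ) * Fintype.card C = 0 := by rw [h2'] at t2; linarith
    rcases mul_eq_zero.1 this with e | e
    · omega
    · exact Fintype.card_ne_zero (α := C) (by exact_mod_cast e)
  rw [hY, zero_mul, add_zero] at q1
  have q1' : (X.card : ℤ) * X.card = ((X.card : ℤ) + Y.card - μ) + ((l : ℤ) - μ) * X.card := by exact_mod_cast q1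
  have heven : Even μ := by
    obtain ⟨g, hg⟩ : ∃ g, g ∉ Y := by
      by_contra hall; push Not at hall
      rw [Finset.eq_univ_of_forall hall, Finset.card_univ] at hym; omega
    have := h.e2 g
    rw [if_neg hg] at this
    exact ⟨_, by rw [← this]; ring⟩
  set x := (X.card : ℤ) with hxd
  set y := (Y.card : ℤ) with hyd
  set m := (Fintype.card C : ℤ) with hmd
  have hym' : y < m := by simp only [hyd, hmd]; exact_mod_cast hym
  have hx' : 1 ≤ x := by simp only [hxd]; exact_mod_cast hx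
  have hy' : 1 ≤ y := by simp only [hyd]; exact_mod_cast hy
  have hyy : y * y = μ * m := by linear_combination t1 - q1'
  have ht : (l : ℤ) - μ = 2 * x - y := by
    have : y * ((l : ℤ) - μ) = y * (2 * x - y) := by linear_combination hyy - t2
    exact mul_left_cancel₀ (by omega) this
  have hμeq : (μ : ℤ) = 2 - (x - 1) * (y - x - 2) := by
    rw [ht] at q1'; linear_combination q1'
  have hμy : (μ : ℤ) < y := by
    by_contra hle
    push Not at hle
    have : y * y < μ * m := by
      calc y * y ≤ μ * y := mul_le_mul_of_nonneg_right hle (by omega)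
        _ < μ * m := mul_lt_mul_of_pos_left hym' (by omega)
    omega
  have hm2 : ¬ (2 : ℤ) ∣ m := by
    obtain ⟨j, hj⟩ := hodd
    simp only [hmd, hj]; push_cast; omega
  have hμ2 : (μ : ℤ) ≠ 2 := by
    intro e
    rw [e] at hyy
    have h2y : (2 : ℤ) ∣ y := by
      have : (2 : ℤ) ∣ y * y := ⟨m, hyy⟩
      exact (Int.prime_two.dvd_or_dvd this).elim id id
    obtain ⟨w, hw⟩ := h2y
    exact hm2 ⟨w * w, by rw [hw] at hyy; linarith⟩
  rcases lt_trichotomy (y - x) 2 with hz | hz | hz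
  · have : x = 1 ∨ 1 < x := by omega
    rcases this with e | e
    · exact hμ2 (by rw [hμeq, e]; ring)
    · have : 0 ≤ (x - 1) * (1 - (y - x)) := mul_nonneg (by omega) (by omega)
      have e2 : (x - 1) * (1 - (y - x)) = (μ : ℤ) - x - 1 := by rw [hμeq]; ring
      omega
  · exact hμ2 (by rw [hμeq, hz]; ring)
  · have : x = 1 ∨ x = 2 ∨ 3 ≤ x := by omega
    rcases this with e | e | e
    · exact hμ2 (by rw [hμeq, e]; ring)
    · obtain ⟨j, hj⟩ := heven
      have : (μ : ℤ) = 4 - (y - x) := by rw [hμeq, e]; ring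
      have : (μ : ℤ) = 2 * j := by rw [hj]; push_cast; ring
      omega
    · have : 1 * (x - 1) ≤ (y - x - 2) * (x - 1) := mul_le_mul_of_nonneg_right (by omega) (by omega)
      have e2 : (μ : ℤ) = 2 - (y - x - 2) * (x - 1) := by rw [hμeq]; ring
      omega

set_option maxHeartbeats 1000000 in
/-- The power map is periodic on the cyclic part. -/
theorem periodic (h : Srg X Y l μ) {p : ℕ} [Fact p.Prime] (hpodd : Odd p)
    (hP : ((univ : Finset C).filter (fun a => a ^ p = 1)).card = p)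
    (h1 : ∃ g ∈ X, ∀ a, a ^ p ≠ g) (h2 : ∃ g, g ≠ 1 ∧ g ∉ X ∧ ∀ a, a ^ p ≠ g) :
    ∀ a ∈ X, a ^ p ≠ 1 → ∀ b, b ^ p = a ^ p → b ∈ X := by
  classical
  have hp : p.Prime := Fact.out
  let ι : Finset C → MonoidAlgebra (ZMod p) C := fun S => ∑ a ∈ S, MonoidAlgebra.single a 1
  have hι : ∀ S g, (ι S).coeff g = if g ∈ S then 1 else 0 := by
    intro S g
    simp [ι, MonoidAlgebra.coeff_sum, Finsupp.single_apply, Finset.sum_ite_eq']
  have hmulι : ∀ S S' g, (ι S * ι S').coeff g = ((S.filter (fun a => a⁻¹ * g ∈ S')).card : ZMod p) := by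
    intro S S' g
    simp only [ι]
    rw [Finset.sum_mul_sum]
    simp only [MonoidAlgebra.single_mul_single, one_mul]
    simp only [MonoidAlgebra.coeff_sum, MonoidAlgebra.coeff_single, Finsupp.coe_finset_sum, Finset.sum_apply,
      Finsupp.single_apply]
    rw [card_filter, Nat.cast_sum]
    refine Finset.sum_congr rfl fun a _ => ?_
    have : ∀ b, a * b = g ↔ b = a⁻¹ * g := fun b =>
      ⟨fun e => by rw [← e, inv_mul_cancel_left], fun e => by rw [e, mul_inv_cancel_left]⟩
    simp only [this, Finset.sum_ite_eq']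
    split_ifs <;> simp
  let A := ι X
  let B := ι Y
  let B' := ι (Y.image (·⁻¹))
  let U := ι univ
  let T : Matrix (Fin 2) (Fin 2) (MonoidAlgebra (ZMod p) C) := !![A, B; B', A]
  let J : Matrix (Fin 2) (Fin 2) (MonoidAlgebra (ZMod p) C) := !![U, U; U, U]
  have hUmul : ∀ S, U * ι S = (S.card : ZMod p) • U := by
    intro S
    ext g
    rw [hmulι, MonoidAlgebra.coeff_smul, Finsupp.smul_apply, hι, if_pos (mem_univ g), smul_eq_mul, mul_one]
    congr 1
    refine Finset.card_bij (fun a _ => a⁻¹ * g) (fun a ha => (mem_filter.1 ha).2)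
      (fun a _ b _ e => inv_injective (mul_right_cancel e)) (fun b hb => ⟨g * b⁻¹, ?_, by simp⟩)
    simp [hb]
  have hJT : J * T = ((X.card : ZMod p) + Y.card) • J := by
    have hY' : (Y.image (·⁻¹)).card = Y.card := card_image_of_injective _ inv_injective
    have e1 : U * A + U * B' = ((X.card : ZMod p) + Y.card) • U := by rw [hUmul, hUmul, hY', ← add_smul]
    have e2 : U * B + U * A = ((X.card : ZMod p) + Y.card) • U := by rw [hUmul, hUmul, ← add_smul, add_comm]
    refine Matrix.ext fun i j => ?_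
    fin_cases i <;> fin_cases j <;> simp [J, T, Matrix.mul_apply, Fin.sum_univ_two] <;> first | exact e1 | exact e2
  obtain ⟨cT, cJ, cI, hT2⟩ : ∃ cT cJ cI : ZMod p, T * T =
      cI • (1 : Matrix (Fin 2) (Fin 2) (MonoidAlgebra (ZMod p) C)) + cT • T + cJ • J := by
    refine ⟨(l : ZMod p) - μ, μ, (X.card : ZMod p) + Y.card - μ, ?_⟩
    have e00 : A * A + B * B' = ((X.card : ZMod p) + Y.card - μ) • 1 + ((l : ZMod p) - μ) • A + (μ : ZMod p) • U := by
      ext g
      simp only [MonoidAlgebra.coeff_add, Finsupp.add_apply, MonoidAlgebra.coeff_smul, Finsupp.smul_apply,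
        smul_eq_mul, A, B, B', U, hmulι]
      rw [hι, hι, if_pos (mem_univ g), ← Nat.cast_add,
        show (Y.filter (fun a => a⁻¹ * g ∈ Y.image (·⁻¹))) = Y.filter (fun a => g⁻¹ * a ∈ Y) from
        filter_congr fun a _ => by
          rw [mem_image]
          exact ⟨fun ⟨b, hb, e⟩ => by rwa [show g⁻¹ * a = b by rw [← inv_inv b, e]; simp],
            fun hb => ⟨_, hb, by simp⟩⟩, h.e1, MonoidAlgebra.one_def, MonoidAlgebra.coeff_single]
      by_cases hg : g = 1
      · subst hg; simp [h.one_not]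
      · by_cases hgX : g ∈ X <;> simp [hg, hgX, Finsupp.single_apply, Ne.symm hg]
    have e01 : A * B + B * A = ((l : ZMod p) - μ) • B + (μ : ZMod p) • U := by
      ext g
      simp only [MonoidAlgebra.coeff_add, Finsupp.add_apply, MonoidAlgebra.coeff_smul, Finsupp.smul_apply,
        smul_eq_mul]
      rw [mul_comm B A, hmulι, hι, hι, if_pos (mem_univ g), ← Nat.cast_add, ← two_mul, h.e2]
      by_cases hgY : g ∈ Y <;> simp [hgY]
    have e10 : B' * A + A * B' = ((l : ZMod p) - μ) • B' + (μ : ZMod p) • U := by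
      ext g
      simp only [MonoidAlgebra.coeff_add, Finsupp.add_apply, MonoidAlgebra.coeff_smul, Finsupp.smul_apply,
        smul_eq_mul]
      rw [mul_comm B' A, hmulι, hι, hι, if_pos (mem_univ g), ← Nat.cast_add, ← two_mul]
      have hcard : (X.filter (fun a => a⁻¹ * g ∈ Y.image (·⁻¹))).card = (X.filter (fun a => a⁻¹ * g⁻¹ ∈ Y)).card := by
        refine Finset.card_bij (fun a _ => a⁻¹) (fun a ha => ?_) (fun a _ b _ e => inv_injective e) (fun b hb => ⟨b⁻¹, ?_, inv_inv b⟩)
        · rw [mem_filter] at ha ⊢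
          obtain ⟨c, hc, e⟩ := mem_image.1 ha.2
          refine ⟨h.symm a ha.1, ?_⟩
          rwa [show a⁻¹⁻¹ * g⁻¹ = c by rw [← inv_inv c, e]; simp [mul_comm]]
        · rw [mem_filter] at hb ⊢
          exact ⟨h.symm b hb.1, mem_image.2 ⟨_, hb.2, by simp [mul_comm]⟩⟩
      rw [hcard, h.e2]
      have : g⁻¹ ∈ Y ↔ g ∈ Y.image (·⁻¹) :=
        ⟨fun e => mem_image.2 ⟨_, e, inv_inv g⟩, fun e => by obtain ⟨b, hb, rfl⟩ := mem_image.1 e; rwa [inv_inv]⟩
      by_cases hgY : g ∈ Y.image (·⁻¹) <;> simp [this, hgY]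
    have e11 : B' * B + A * A = ((X.card : ZMod p) + Y.card - μ) • 1 + ((l : ZMod p) - μ) • A + (μ : ZMod p) • U := by
      rw [← e00, mul_comm B' B, add_comm]
    refine Matrix.ext fun i j => ?_
    fin_cases i <;> fin_cases j <;> simp [T, J, Matrix.mul_apply, Fin.sum_univ_two] <;>
      first | exact e00 | exact e01 | exact e10 | exact e11
  -- every power is a combination
  have hpow : ∀ j : ℕ, ∃ a b c : ZMod p, T ^ j =
      a • (1 : Matrix (Fin 2) (Fin 2) (MonoidAlgebra (ZMod p) C)) + b • T + c • J := by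
    intro j
    induction j with
    | zero => exact ⟨1, 0, 0, by simp⟩
    | succ j ih =>
      obtain ⟨a, b, c, hj⟩ := ih
      refine ⟨b * cI, a + b * cT, b * cJ + c * ((X.card : ZMod p) + Y.card), ?_⟩
      rw [pow_succ, hj, add_mul, add_mul, smul_mul_assoc, smul_mul_assoc, smul_mul_assoc, one_mul, hT2, hJT]
      module
  -- the diagonal of the p-th power
  have hdiag : (T ^ p) 0 0 = ∑ a ∈ X, MonoidAlgebra.single (a ^ p) (1 : ZMod p) := by
    let N : Matrix (Fin 2) (Fin 2) (MonoidAlgebra (ZMod p) C) := !![0, B; B', 0]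
    have hT : T = A • 1 + N := by
      ext i j : 2
      fin_cases i <;> fin_cases j <;> simp [T, N]
    have hN2 : N * N = (B * B') • 1 := by
      ext i j : 2
      fin_cases i <;> fin_cases j <;> simp [N, Matrix.mul_apply, Fin.sum_univ_two, mul_comm]
    obtain ⟨e, he⟩ := hpodd
    have hNp : N ^ p = ((B * B') ^ e) • N := by
      refine (congrArg (N ^ ·) he).trans ?_
      show N ^ (2 * e + 1) = _
      rw [pow_succ, pow_mul, pow_two, hN2, smul_pow, one_pow, smul_mul_assoc, one_mul]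
    haveI : CharP (MonoidAlgebra (ZMod p) C) p :=
      charP_of_injective_algebraMap (algebraMap (ZMod p) (MonoidAlgebra (ZMod p) C)).injective p
    haveI : CharP (Matrix (Fin 2) (Fin 2) (MonoidAlgebra (ZMod p) C)) p :=
      charP_of_injective_algebraMap (algebraMap (ZMod p) (Matrix (Fin 2) (Fin 2) (MonoidAlgebra (ZMod p) C))).injective p
    rw [hT, add_pow_char_of_commute (p := p) ((Commute.one_left N).smul_left A), hNp, smul_pow, one_pow]
    simp [N, A, ι, sum_pow_char, MonoidAlgebra.single_pow]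
  obtain ⟨a0, b0, c0, hTp⟩ := hpow p
  have hcoeff : ∀ g : C, ((X.filter (fun a => a ^ p = g)).card : ZMod p) =
      a0 * (if g = 1 then 1 else 0) + b0 * (if g ∈ X then 1 else 0) + c0 := by
    intro g
    have e1 := congrArg (fun w : MonoidAlgebra (ZMod p) C => w.coeff g) hdiag
    simp only [hTp] at e1
    simp [T, J, U, A, hι, MonoidAlgebra.coeff_sum, MonoidAlgebra.one_def, Finsupp.single_apply, eq_comm,
      Finset.sum_boole] at e1
    simp only [eq_comm (a := g)] at *
    rw [← e1]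
    split_ifs <;> simp_all
  obtain ⟨g1, hg1X, hg1⟩ := h1
  obtain ⟨g2, hg2one, hg2X, hg2⟩ := h2
  have hg1one : g1 ≠ 1 := fun e => hg1 1 (by rw [one_pow, e])
  have z2 := hcoeff g2
  rw [filter_false_of_mem (fun a _ => hg2 a), card_empty, if_neg hg2one, if_neg hg2X] at z2
  simp at z2
  have z1 := hcoeff g1
  rw [filter_false_of_mem (fun a _ => hg1 a), card_empty, if_neg hg1one, if_pos hg1X, ← z2] at z1
  simp at z1
  intro a ha ha1 b hb
  have h0 := hcoeff (a ^ p)
  rw [if_neg ha1, ← z2, ← z1] at h0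
  simp only [mul_zero, zero_mul, add_zero, ZMod.natCast_eq_zero_iff] at h0
  have hsub : X.filter (fun c => c ^ p = a ^ p) ⊆ (univ : Finset C).filter (fun c => c ^ p = a ^ p) := by
    intro c hc; rw [mem_filter] at hc ⊢; exact ⟨mem_univ _, hc.2⟩
  have hcardfib : ((univ : Finset C).filter (fun c => c ^ p = a ^ p)).card = p := by
    refine Eq.trans ?_ hP
    refine Finset.card_bij (fun c _ => a⁻¹ * c) (fun c hc => ?_) (fun c _ d _ e => mul_left_cancel e) (fun d hd => ⟨a * d, ?_, by simp⟩)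
    · rw [mem_filter] at hc ⊢; exact ⟨mem_univ _, by rw [mul_pow, hc.2, ← mul_pow, inv_mul_cancel, one_pow]⟩
    · rw [mem_filter] at hd ⊢; exact ⟨mem_univ _, by rw [mul_pow, hd.2, mul_one]⟩
  have hpos : 0 < (X.filter (fun c => c ^ p = a ^ p)).card := card_pos.2 ⟨a, mem_filter.2 ⟨ha, rfl⟩⟩
  have heq := Finset.eq_of_subset_of_card_le hsub (by rw [hcardfib]; exact Nat.le_of_dvd hpos h0)
  have : b ∈ X.filter (fun c => c ^ p = a ^ p) := by rw [heq]; simp [hb]
  exact (mem_filter.1 this).1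

set_option maxHeartbeats 1000000 in
/-- The periodic alternative. -/
theorem not_periodic [IsCyclic C] (hodd : Odd (Fintype.card C)) (h : Srg X Y l μ)
    (hμ : 0 < μ) (hμ' : 2 * (X.card + Y.card) < 2 * Fintype.card C + l)
    (hx : 0 < X.card) (hxm : X.card + 1 < Fintype.card C) (hy : 0 < Y.card) (hym : Y.card < Fintype.card C)
    {p : ℕ} (hp : p.Prime) (hp3 : 3 ≤ p) (hpm : p ∣ Fintype.card C)
    (hP : ((univ : Finset C).filter (fun a => a ^ p = 1)).card = p)
    (hper : ∀ a ∈ X, ∀ b, b ^ p = a ^ p → b ∈ X) : False := by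
  classical
  set P := (univ : Finset C).filter (fun a => a ^ p = 1) with hPdef
  have hXP : ∀ g ∈ P, g ∉ X := fun g hg hgX =>
    h.one_not (hper g hgX 1 (by rw [one_pow, (mem_filter.1 hg).2]))
  have hXg : ∀ g ∈ P, (X.filter (fun a => a⁻¹ * g ∈ X)).card = X.card := by
    intro g hg
    rw [filter_true_of_mem]
    intro a ha
    exact hper a⁻¹ (h.symm a ha) _ (by rw [mul_pow, (mem_filter.1 hg).2, mul_one])
  have hsumP : p * X.card + ∑ g ∈ P, (Y.filter (fun a => g⁻¹ * a ∈ Y)).card = X.card + Y.card + (p - 1) * μ := by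
    have h1 : ∑ g ∈ P, ((X.filter (fun a => a⁻¹ * g ∈ X)).card + (Y.filter (fun a => g⁻¹ * a ∈ Y)).card) =
        ∑ g ∈ P, (if g = 1 then X.card + Y.card else μ) := by
      refine sum_congr rfl fun g hg => ?_
      rw [h.e1, if_neg (hXP g hg)]
    rw [sum_add_distrib, sum_congr rfl hXg, sum_const, hP, smul_eq_mul] at h1
    rw [h1, ← Finset.add_sum_erase P _ (show (1 : C) ∈ P by simp [hPdef]), if_pos rfl,
      sum_congr rfl (fun g hg => if_neg (mem_erase.1 hg).1), sum_const, card_erase_of_mem (by simp [hPdef]), hP,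
      smul_eq_mul]
  -- Cauchy inequality on the cosets
  have hcauchy : p * (Y.card * Y.card) ≤ Fintype.card C * ∑ g ∈ P, (Y.filter (fun a => g⁻¹ * a ∈ Y)).card := by
    let I : Finset C := univ.image (fun a : C => a ^ p)
    have hI : I.card * p = Fintype.card C := by
      rw [← Finset.card_univ, card_eq_sum_card_image (fun a : C => a ^ p) univ, sum_const_nat (m := p)]
      intro g hg
      obtain ⟨a, -, rfl⟩ := mem_image.1 hg
      refine Eq.trans ?_ hP
      refine Finset.card_bij (fun c _ => a⁻¹ * c) (fun c hc => ?_) (fun c _ d _ e => mul_left_cancel e) (fun d hd => ⟨a * d, ?_, by simp⟩)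
      · rw [mem_filter] at hc
        rw [hPdef, mem_filter]; exact ⟨mem_univ _, by rw [mul_pow, hc.2, ← mul_pow, inv_mul_cancel, one_pow]⟩
      · rw [hPdef, mem_filter] at hd
        rw [mem_filter]; exact ⟨mem_univ _, by rw [mul_pow, hd.2, mul_one]⟩
    let n : C → ℕ := fun i => (Y.filter (fun a => a ^ p = i)).card
    have hY : Y.card = ∑ i ∈ I, n i := card_eq_sum_card_fiberwise fun a _ => mem_image_of_mem _ (mem_univ a)
    have hsq : ∑ g ∈ P, (Y.filter (fun a => g⁻¹ * a ∈ Y)).card = ∑ i ∈ I, n i ^ 2 := by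
      calc ∑ g ∈ P, (Y.filter (fun a => g⁻¹ * a ∈ Y)).card
          = ∑ a ∈ Y, (P.filter (fun g => g⁻¹ * a ∈ Y)).card := by
            simp only [card_filter]; rw [sum_comm]
        _ = ∑ a ∈ Y, n (a ^ p) := by
            refine sum_congr rfl fun a _ => ?_
            refine Finset.card_bij (fun g _ => g⁻¹ * a) (fun g hg => ?_) (fun g _ g' _ e => inv_injective (mul_right_cancel e)) (fun b hb => ⟨a * b⁻¹, ?_, by simp⟩)
            · rw [mem_filter, hPdef, mem_filter] at hg
              rw [mem_filter]; exact ⟨hg.2, by rw [mul_pow, inv_pow, hg.1.2, inv_one, one_mul]⟩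
            · rw [mem_filter] at hb
              rw [mem_filter, hPdef, mem_filter]
              exact ⟨⟨mem_univ _, by rw [mul_pow, inv_pow, hb.2, mul_inv_cancel]⟩, by simpa using hb.1⟩
        _ = ∑ i ∈ I, ∑ a ∈ Y.filter (fun a => a ^ p = i), n (a ^ p) :=
            (sum_fiberwise_of_maps_to (fun a _ => mem_image_of_mem _ (mem_univ a)) _).symm
        _ = ∑ i ∈ I, n i ^ 2 := by
            refine sum_congr rfl fun i _ => ?_
            rw [sum_congr rfl (fun a ha => congrArg n (mem_filter.1 ha).2), sum_const, smul_eq_mul, pow_two]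
    have hcs := sq_sum_le_card_mul_sum_sq (s := I) (f := n)
    rw [← hY] at hcs
    rw [hsq, ← hI, ← pow_two, mul_comm I.card p, mul_assoc]
    exact Nat.mul_le_mul_left p hcs
  -- the difference of the eigenvalues vanishes
  obtain ⟨t1, t2⟩ := h.totals
  set x := (X.card : ℤ) with hxd
  set y := (Y.card : ℤ) with hyd
  set m := (Fintype.card C : ℤ) with hmd
  obtain ⟨c, φ, hc, hζ, hinj⟩ := exists_char (C := C)
  have hm1 : 1 < Fintype.card C := by omega
  have hsum : ∑ g, φ g = 0 := by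
    have hmul : φ c * ∑ g, φ g = ∑ g, φ g := by
      rw [mul_sum]
      exact Fintype.sum_equiv (Equiv.mulLeft c) _ _ fun g => by simp
    have : (φ c - 1) * ∑ g, φ g = 0 := by rw [sub_mul, hmul, one_mul, sub_self]
    exact (mul_eq_zero.1 this).resolve_left (sub_ne_zero.2 (hζ.ne_one hm1))
  obtain ⟨g0, hg0, hg01⟩ := Finset.exists_mem_ne (s := P) (by rw [hP]; omega) 1
  have hφg0 : φ g0 ≠ 1 := fun e => hg01 (hinj (e.trans (map_one φ).symm))
  have hX : ∑ a ∈ X, φ a = 0 := by
    have hmul : φ g0 * ∑ a ∈ X, φ a = ∑ a ∈ X, φ a := by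
      rw [mul_sum]
      refine Finset.sum_bij (fun a _ => g0 * a) (fun a ha => ?_) (fun a _ b _ e => mul_left_cancel e)
        (fun b hb => ⟨g0⁻¹ * b, ?_, by simp⟩) (fun a _ => (map_mul φ g0 a).symm)
      · exact hper a ha _ (by rw [mul_pow, (mem_filter.1 hg0).2, one_mul])
      · exact hper b hb _ (by rw [mul_pow, inv_pow, (mem_filter.1 hg0).2, inv_one, one_mul])
    have : (φ g0 - 1) * ∑ a ∈ X, φ a = 0 := by rw [sub_mul, hmul, one_mul, sub_self]
    exact (mul_eq_zero.1 this).resolve_left (sub_ne_zero.2 hφg0)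
  obtain ⟨q1, q2⟩ := h.eval φ
  rw [hX, hsum] at q1 q2
  simp only [mul_zero, zero_mul, add_zero, zero_add] at q1 q2
  have hx' : 1 ≤ x := by simp only [hxd]; exact_mod_cast hx
  have hy' : 1 ≤ y := by simp only [hyd]; exact_mod_cast hy
  have hym' : y < m := by simp only [hyd, hmd]; exact_mod_cast hym
  have hxm' : x + 1 < m := by simp only [hxd, hmd]; exact_mod_cast hxm
  have hμ0 : (0 : ℤ) < μ := by exact_mod_cast hμ
  have hd : (x - y) * (x - y) = (x + y - μ) + ((l : ℤ) - μ) * (x - y) := by linear_combination t1 - t2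
  have ht : (l : ℤ) - μ = 0 := by
    rcases mul_eq_zero.1 q2.symm with e | e
    · exact_mod_cast e
    exfalso
    rw [e, zero_mul] at q1
    have hα : x + y - μ = 0 := by
      have : ((x + y - μ : ℤ) : ℂ) = 0 := by simp only [hxd, hyd]; push_cast; exact q1.symm
      exact_mod_cast this
    rw [hα, zero_add] at hd
    rcases eq_or_ne (x - y) 0 with hxy | hxy
    · have hμ'' : 2 * (x + y) < 2 * m + l := by simp only [hxd, hyd, hmd]; exact_mod_cast hμ'
      have hmul : 0 = (2 * m + (l : ℤ) - 2 * (x + y)) * y := by linear_combination t2 + (m - y) * hxy - (m - y) * hα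
      rcases mul_eq_zero.1 hmul.symm with e1 | e1 <;> omega
    · have e1 : (l : ℤ) - μ = x - y := mul_right_cancel₀ hxy hd.symm
      have : (x + y) * (m - y) = 0 := by linear_combination -t2 - y * e1 + m * hα
      rcases mul_eq_zero.1 this with e2 | e2 <;> omega
  rw [ht] at hd t2
  -- arithmetic
  have hsP : (∑ g ∈ P, ((Y.filter (fun a => g⁻¹ * a ∈ Y)).card : ℤ)) = x + y + ((p : ℤ) - 1) * μ - p * x := by
    have := congrArg (fun n : ℕ => (n : ℤ)) hsumP
    push_cast [Nat.cast_sub (show 1 ≤ p by omega)] at this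
    simp only [hxd, hyd]
    linarith
  have hc' : (p : ℤ) * (y * y) ≤ m * ∑ g ∈ P, ((Y.filter (fun a => g⁻¹ * a ∈ Y)).card : ℤ) := by
    simp only [hyd, hmd]; exact_mod_cast hcauchy
  rw [hsP] at hc'
  have hp3' : (3 : ℤ) ≤ p := by exact_mod_cast hp3
  set δ := x - y with hδ
  have hρ : δ * δ = x + y - μ := by linarith [hd]
  have hsum2 : x * (m - x) + y * (m - y) = δ * δ * (m - 1) := by
    linear_combination (-m) * hd - t2
  have hlow : 2 * (δ * δ) * m ≤ 3 * (y * (m - y)) := by
    have h1 : ((p : ℤ) - 1) * (δ * δ) * m ≤ p * (y * (m - y)) := by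
      rw [hρ]; nlinarith [hc']
    by_contra hlt
    push Not at hlt
    have h2 : (p : ℤ) * (3 * (y * (m - y))) < p * (2 * (δ * δ) * m) := mul_lt_mul_of_pos_left hlt (by omega)
    have h3 : 0 ≤ ((p : ℤ) - 3) * (δ * δ * m) := mul_nonneg (by omega) (mul_nonneg (mul_self_nonneg _) (by omega))
    nlinarith
  have hδ2 : δ * δ ≤ 4 := by
    by_contra hgt
    push Not at hgt
    have hd1 : 3 * (y * (m - y)) - 3 * (x * (m - x)) = 3 * δ * (x + y - m) := by rw [hδ]; ring
    have hd2 : δ * δ * m < 3 * δ * (x + y - m) := by linarith [hsum2, hlow, hd1]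
    rcases le_or_gt δ 0 with hneg | hpos
    · have h1 : δ ≤ -3 := by
        by_contra hh
        have : -2 ≤ δ := by omega
        interval_cases δ <;> omega
      have h2 : 0 ≤ (x + y) * (-δ) := mul_nonneg (by omega) (by omega)
      have h3 : 0 ≤ ((-δ) - 3) * ((-δ) * m) := mul_nonneg (by omega) (mul_nonneg (by omega) (by omega))
      linarith
    · have h1 : 3 ≤ δ := by
        by_contra hh
        interval_cases δ <;> omega
      have h2 : 0 ≤ (2 * m - x - y) * δ := mul_nonneg (by omega) (by omega)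
      have h3 : 0 ≤ (δ - 3) * (δ * m) := mul_nonneg (by omega) (mul_nonneg (by omega) (by omega))
      linarith
  have hup : 3 * (x * (m - x)) < 4 * m := by nlinarith [hsum2, hlow, mul_self_nonneg δ]
  have hmodd : ∀ i : ℤ, m ≠ 2 * i := fun i e => by
    obtain ⟨j, hj⟩ := hodd
    simp only [hmd, hj] at e; push_cast at e; omega
  have hμm : 2 * x * y = μ * m := by linarith [t2]
  have hy2 : y ≤ x + 2 ∧ x ≤ y + 2 := by
    have : -2 ≤ δ ∧ δ ≤ 2 := by
      constructor
      · by_contra hh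
        have : 0 ≤ (-δ - 3) * (-δ + 3) := mul_nonneg (by omega) (by omega)
        linarith
      · by_contra hh
        have : 0 ≤ (δ - 3) * (δ + 3) := mul_nonneg (by omega) (by omega)
        linarith
    omega
  rcases (show x = 1 ∨ 2 ≤ x by omega) with e | e
  · have hy3 : y ≤ 3 := by omega
    have hμle : (μ : ℤ) ≤ 1 + y := by have := mul_self_nonneg δ; omega
    rw [e] at hμm hρ hδ
    interval_cases y
    all_goals (rw [hδ] at hρ; norm_num at hρ; have := hmodd 1; have := hmodd 2; first | omega | nlinarith [hμm, hym'])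
  · have hm6 : m < 6 := by nlinarith [mul_nonneg (show (0:ℤ) ≤ x - 2 by omega) (show (0:ℤ) ≤ m - x - 2 by omega)]
    have hx5 : x ≤ 3 := by omega
    have hy5 : y ≤ 4 := by omega
    have hμ8 : (μ : ℤ) ≤ 7 := by have := mul_self_nonneg δ; omega
    have := hmodd 2
    have hm4 : 4 ≤ m := by omega
    interval_cases m <;> interval_cases x <;> interval_cases y <;> omega

set_option maxHeartbeats 1000000 in
/-- There is no such pair of complementary graphs. -/
theorem no_dihedral_srg [IsCyclic C] (hodd : Odd (Fintype.card C)) {X' Y' : Finset C} {l' μ' : ℕ}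
    (h : Srg X Y l μ) (h' : Srg X' Y' l' μ') (hμ : 0 < μ) (hμ' : 0 < μ')
    (hX' : ∀ g, g ∈ X' ↔ g ≠ 1 ∧ g ∉ X) (hY' : ∀ g, g ∈ Y' ↔ g ∉ Y) : False := by
  classical
  have hm1 : 0 < Fintype.card C := Fintype.card_pos
  have hcX : X'.card + X.card + 1 = Fintype.card C := by
    have hd : Disjoint X' X := disjoint_left.2 fun g hg hg' => ((hX' g).1 hg).2 hg'
    have h1 : (1 : C) ∉ X' ∪ X := by simp [h.one_not, h'.one_not]
    rw [← card_union_of_disjoint hd, ← card_insert_of_notMem h1, ← Finset.card_univ]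
    congr 1
    ext g
    simp only [mem_insert, mem_union, hX', mem_univ, iff_true]
    tauto
  have hcY : Y'.card + Y.card = Fintype.card C := by
    rw [← card_union_of_disjoint (disjoint_left.2 fun g hg hg' => (hY' g).1 hg hg'), ← Finset.card_univ]
    congr 1
    ext g
    simp only [mem_union, hY', mem_univ, iff_true]
    tauto
  have hbasic : ∀ {X Y X' Y' : Finset C} {l μ l' μ' : ℕ}, Srg X Y l μ → Srg X' Y' l' μ' → 0 < μ → 0 < μ' →
      X'.card + X.card + 1 = Fintype.card C → Y'.card + Y.card = Fintype.card C → 0 < X.card ∧ 0 < Y.card := by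
    intro X Y X' Y' l μ l' μ' h h' hμ hμ' hcX hcY
    obtain ⟨-, t2⟩ := h.totals
    have hy : 0 < Y.card := by
      by_contra hy0
      rw [Nat.eq_zero_of_not_pos hy0] at t2
      simp at t2
      omega
    refine ⟨?_, hy⟩
    by_contra hx0
    have hx : X.card = 0 := Nat.eq_zero_of_not_pos hx0
    rw [hx] at t2
    push_cast at t2
    have hyeq : Y.card = Fintype.card C := by
      by_contra hne
      have hlt : (Y.card : ℤ) < Fintype.card C := by
        exact_mod_cast lt_of_le_of_ne (card_le_univ Y) hne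
      have : 0 < (μ : ℤ) * ((Fintype.card C : ℤ) - Y.card) := mul_pos (by exact_mod_cast hμ) (by linarith)
      have : 0 ≤ (l : ℤ) * Y.card := mul_nonneg (by positivity) (by positivity)
      linarith
    have hy' : Y'.card = 0 := by omega
    obtain ⟨-, t2'⟩ := h'.totals
    rw [hy'] at t2'
    simp at t2'
    omega
  obtain ⟨hx, hy⟩ := hbasic h h' hμ hμ' hcX hcY
  obtain ⟨hx', hy'⟩ := hbasic h' h hμ' hμ (by omega) (by omega)
  -- parameters of the complement
  have hcomp : ∀ {X Y X' Y' : Finset C} {l μ l' μ' : ℕ}, Srg X Y l μ → Srg X' Y' l' μ' →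
      (∀ g, g ∈ X' ↔ g ≠ 1 ∧ g ∉ X) → (∀ g, g ∈ Y' ↔ g ∉ Y) → 0 < Y.card → 0 < μ' →
      2 * (X.card + Y.card) < 2 * Fintype.card C + l := by
    intro X Y X' Y' l μ l' μ' h h' hX' hY' hy hμ'
    obtain ⟨g, hg⟩ := card_pos.1 hy
    have e := h.e2 g
    have e' := h'.e2 g
    rw [if_pos hg] at e
    rw [if_neg (fun hh => (hY' g).1 hh hg)] at e'
    -- all a with a⁻¹ g in the complement of Y
    have hall : (univ.filter (fun a : C => a⁻¹ * g ∉ Y)).card = Fintype.card C - Y.card := by
      rw [← Finset.card_compl]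
      refine card_bij (fun a _ => a⁻¹ * g) (fun a ha => ?_) (fun a _ b _ e => inv_injective (mul_right_cancel e)) (fun b hb => ⟨g * b⁻¹, ?_, by simp⟩)
      · simpa using ha
      · simpa using hb
    have hdis : Disjoint (X'.filter (fun a => a⁻¹ * g ∈ Y')) (X.filter (fun a => a⁻¹ * g ∉ Y)) :=
      disjoint_left.2 fun a ha ha' => ((hX' a).1 (mem_filter.1 ha).1).2 (mem_filter.1 ha').1
    have hun : X'.filter (fun a => a⁻¹ * g ∈ Y') ∪ X.filter (fun a => a⁻¹ * g ∉ Y) = univ.filter (fun a : C => a⁻¹ * g ∉ Y) := by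
      ext a
      simp only [mem_union, mem_filter, hX', hY', mem_univ, true_and]
      constructor
      · rintro (⟨-, h'⟩ | ⟨-, h'⟩) <;> exact h'
      · intro hh
        by_cases haX : a ∈ X
        · exact Or.inr ⟨haX, hh⟩
        · exact Or.inl ⟨⟨fun e1 => hh (by rw [e1]; simpa using hg), haX⟩, hh⟩
    have hc := card_union_of_disjoint hdis
    rw [hun, hall] at hc
    have hsplit := card_filter_add_card_filter_not (s := X) (fun a => a⁻¹ * g ∈ Y)
    have := card_le_univ Y
    omega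
  have hμ1 := hcomp h h' hX' hY' hy hμ'
  have hX : ∀ g, g ∈ X ↔ g ≠ 1 ∧ g ∉ X' := fun g => by
    rw [hX']
    constructor
    · exact fun hg => ⟨fun e => h.one_not (e ▸ hg), fun hh => hh.2 hg⟩
    · rintro ⟨h1, h2⟩; by_contra hg; exact h2 ⟨h1, hg⟩
  have hY : ∀ g, g ∈ Y ↔ g ∉ Y' := fun g => by rw [hY']; tauto
  have hμ2 := hcomp h' h hX hY hy' hμ
  obtain ⟨p, hp, hpm⟩ := Nat.exists_prime_and_dvd (n := Fintype.card C) (by omega)
  haveI := Fact.mk hp
  have hpodd : Odd p := hodd.of_dvd_nat hpm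
  have hp3 : 3 ≤ p := by
    obtain ⟨j, hj⟩ := hpodd
    have := hp.two_le
    omega
  have hP : ((univ : Finset C).filter (fun a => a ^ p = 1)).card = p := by
    obtain ⟨m', hm'⟩ := hpm
    have h1 := IsCyclic.card_powMonoidHom_ker (G := C) p
    rw [Nat.gcd_eq_right (show p ∣ Nat.card C by rw [Nat.card_eq_fintype_card, hm']; exact dvd_mul_right _ _)] at h1
    refine Eq.trans ?_ h1
    rw [Nat.card_eq_fintype_card]
    exact (Fintype.card_of_subtype _ fun a => by simp).symm
  have a1 := not_subset_powers hodd h hμ hx hy (by omega) hp hpm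
  have a2 := not_subset_powers hodd h' hμ' hx' hy' (by omega) hp hpm
  have b1 : ∃ g, g ≠ 1 ∧ g ∉ X ∧ ∀ a, a ^ p ≠ g := by
    obtain ⟨g, hg, hg'⟩ := a2
    exact ⟨g, ((hX' g).1 hg).1, ((hX' g).1 hg).2, hg'⟩
  have b2 : ∃ g, g ≠ 1 ∧ g ∉ X' ∧ ∀ a, a ^ p ≠ g := by
    obtain ⟨g, hg, hg'⟩ := a1
    exact ⟨g, ((hX g).1 hg).1, ((hX g).1 hg).2, hg'⟩
  have per1 := periodic h hpodd hP a1 b1
  have per2 := periodic h' hpodd hP a2 b2
  -- one of the two sets avoids the elements of order p
  obtain ⟨c, φ, hc, hζ, hinj⟩ := exists_char (C := C)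
  obtain ⟨m', hm'⟩ := hpm
  have hζp : IsPrimitiveRoot (φ c ^ m') p := hζ.pow Fintype.card_pos (by rw [hm', mul_comm])
  have hm'0 : 0 < m' := Nat.pos_of_ne_zero fun e => by rw [e, mul_zero] at hm'; exact hm1.ne' hm'
  have hcm : IsPrimitiveRoot (c ^ m') p := IsPrimitiveRoot.of_map_of_injective (by rwa [map_pow]) hinj
  have hPimg : (univ : Finset C).filter (fun a => a ^ p = 1) = (range p).image (fun i => (c ^ m') ^ i) := by
    refine (eq_of_subset_of_card_le (fun a ha => ?_) (by
      rw [hP, card_image_of_injOn (fun i hi j hj e => hcm.pow_inj (mem_range.1 hi) (mem_range.1 hj) e), card_range])).symm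
    obtain ⟨i, -, rfl⟩ := mem_image.1 ha
    rw [mem_filter]
    exact ⟨mem_univ _, by rw [← pow_mul, mul_comm, pow_mul, hcm.pow_eq_one, one_pow]⟩
  let S := (Ico 1 p).filter (fun i => (c ^ m') ^ i ∈ X)
  obtain ⟨t1, t2⟩ := h.totals
  obtain ⟨q1, q2⟩ := h.eval φ
  have hm2 : 1 < Fintype.card C := by omega
  have hsum : ∑ g, φ g = 0 := by
    have hmul : φ c * ∑ g, φ g = ∑ g, φ g := by
      rw [mul_sum]
      exact Fintype.sum_equiv (Equiv.mulLeft c) _ _ fun g => by simp
    have : (φ c - 1) * ∑ g, φ g = 0 := by rw [sub_mul, hmul, one_mul, sub_self]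
    exact (mul_eq_zero.1 this).resolve_left (sub_ne_zero.2 (hζ.ne_one hm2))
  have hXval : ∑ a ∈ X, φ a = ∑ i ∈ S, (φ c ^ m') ^ i := by
    rw [← sum_filter_add_sum_filter_not X (fun a => a ^ p = 1)]
    have hz : ∑ a ∈ X.filter (fun a => ¬ a ^ p = 1), φ a = 0 := by
      set Z := X.filter (fun a => ¬ a ^ p = 1) with hZ
      have hmul : φ (c ^ m') * ∑ a ∈ Z, φ a = ∑ a ∈ Z, φ a := by
        rw [mul_sum]
        refine Finset.sum_bij (fun a _ => c ^ m' * a) (fun a ha => ?_) (fun a _ b _ e => mul_left_cancel e)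
          (fun b hb => ⟨(c ^ m')⁻¹ * b, ?_, by simp⟩) (fun a _ => (map_mul φ _ a).symm)
        · rw [hZ, mem_filter] at ha ⊢
          have e1 : (c ^ m' * a) ^ p = a ^ p := by rw [mul_pow, hcm.pow_eq_one, one_mul]
          exact ⟨per1 a ha.1 ha.2 _ e1, e1 ▸ ha.2⟩
        · rw [hZ, mem_filter] at hb ⊢
          have e1 : ((c ^ m')⁻¹ * b) ^ p = b ^ p := by rw [mul_pow, inv_pow, hcm.pow_eq_one, inv_one, one_mul]
          exact ⟨per1 b hb.1 hb.2 _ e1, e1 ▸ hb.2⟩
      have : (φ (c ^ m') - 1) * ∑ a ∈ Z, φ a = 0 := by rw [sub_mul, hmul, one_mul, sub_self]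
      refine (mul_eq_zero.1 this).resolve_left (sub_ne_zero.2 ?_)
      rw [map_pow]; exact hζp.ne_one hp.one_lt
    rw [hz, add_zero]
    have himg : X.filter (fun a => a ^ p = 1) = S.image (fun i => (c ^ m') ^ i) := by
      ext a
      simp only [mem_filter, mem_image, S, mem_Ico]
      constructor
      · rintro ⟨ha, hap⟩
        have : a ∈ (range p).image (fun i => (c ^ m') ^ i) := hPimg ▸ mem_filter.2 ⟨mem_univ _, hap⟩
        obtain ⟨i, hi, rfl⟩ := mem_image.1 this
        refine ⟨i, ⟨⟨?_, mem_range.1 hi⟩, ha⟩, rfl⟩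
        by_contra h0
        rw [show i = 0 by omega, pow_zero] at ha
        exact h.one_not ha
      · rintro ⟨i, ⟨-, hi⟩, rfl⟩
        exact ⟨hi, by rw [← pow_mul, mul_comm, pow_mul, hcm.pow_eq_one, one_pow]⟩
    rw [himg, sum_image (fun i hi j hj e => hcm.pow_inj (mem_Ico.1 (mem_filter.1 hi).1).2 (mem_Ico.1 (mem_filter.1 hj).1).2 e)]
    simp [S, map_pow]
  rw [hsum, mul_zero, add_zero] at q1 q2
  set u := ∑ a ∈ X, φ a with hu
  set x := (X.card : ℤ)
  set y := (Y.card : ℤ)
  set t : ℤ := (l : ℤ) - μ with ht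
  have hd : (x - y) * (x - y) = (x + y - μ) + t * (x - y) := by linear_combination t1 - t2
  have hroot : ∃ q : ℚ, u = (q : ℂ) := by
    have hcast : ((x : ℂ) - y) * (x - y) = ((x : ℂ) + y - μ) + ((l : ℂ) - μ) * (x - y) := by
      have := congrArg (fun z : ℤ => (z : ℂ)) hd
      simpa [ht] using this
    have hx0 : (x : ℂ) = (X.card : ℂ) := by simp [x]
    have hy0 : (y : ℂ) = (Y.card : ℂ) := by simp [y]
    rw [hx0, hy0] at hcast
    have hprod : (2 * u - ((l : ℂ) - μ)) * (u - ((X.card : ℂ) - Y.card)) * (u - (((l : ℂ) - μ) - ((X.card : ℂ) - Y.card))) = 0 := by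
      linear_combination (2 * u - ((l : ℂ) - μ)) * q1 - (∑ a ∈ Y, φ a⁻¹) * q2 + (2 * u - ((l : ℂ) - μ)) * (-hcast)
    rcases mul_eq_zero.1 hprod with hh | hh
    · rcases mul_eq_zero.1 hh with hh | hh
      · exact ⟨((l : ℚ) - μ) / 2, by push_cast; linear_combination hh / 2⟩
      · exact ⟨(X.card : ℚ) - Y.card, by push_cast; linear_combination hh⟩
    · exact ⟨((l : ℚ) - μ) - ((X.card : ℚ) - Y.card), by push_cast; linear_combination hh⟩
  obtain ⟨q, hq⟩ := hroot
  rcases roots_all_or_none hp hζp q S (filter_subset _ _) (hXval.symm.trans hq) with hS | hS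
  · refine not_periodic hodd h hμ hμ1 hx (by omega) hy (by omega) hp hp3 ⟨m', hm'⟩ hP ?_
    intro a ha b hb
    refine per1 a ha (fun hap => ?_) b hb
    have : a ∈ (range p).image (fun i => (c ^ m') ^ i) := hPimg ▸ mem_filter.2 ⟨mem_univ _, hap⟩
    obtain ⟨i, hi, rfl⟩ := mem_image.1 this
    have hiS : i ∈ S := mem_filter.2 ⟨mem_Ico.2 ⟨by
      by_contra h0
      rw [show i = 0 by omega, pow_zero] at ha
      exact h.one_not ha, mem_range.1 hi⟩, ha⟩
    rw [hS] at hiS; simp at hiS
  · refine not_periodic hodd h' hμ' hμ2 hx' (by omega) hy' (by omega) hp hp3 ⟨m', hm'⟩ hP ?_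
    intro a ha b hb
    refine per2 a ha (fun hap => ?_) b hb
    have : a ∈ (range p).image (fun i => (c ^ m') ^ i) := hPimg ▸ mem_filter.2 ⟨mem_univ _, hap⟩
    obtain ⟨i, hi, rfl⟩ := mem_image.1 this
    have hiS : i ∈ S := hS.symm ▸ mem_Ico.2 ⟨by
      by_contra h0
      rw [show i = 0 by omega, pow_zero] at ha
      exact h'.one_not ha, mem_range.1 hi⟩
    exact ((hX' _).1 ha).2 (mem_filter.1 hiS).2

end Cfsg.Lib.Perm.DihGraph
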