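import Cfsg.Agent.Lib.Perm.DihedralNormalizer
import Cfsg.Agent.Lib.Perm.DegreeTwoP
import Cfsg.Agent.Lib.Fusion.Jordan
import Cfsg.Agent.S0720

/-!
# Primitive groups of degree `2p` with a dihedral Sylow normalizer
-/

set_option autoImplicit false
set_option linter.unusedSectionVars false
set_option linter.style.haveILetI false
set_option maxHeartbeats 1000000

namespace Cfsg.Agent.DihedralNormalizer

open Cfsg Cfsg.Lib.Char Cfsg.Agent.PermCharacter
open scoped ComplexConjugate

universe u

/-- An element of order `p` with a fixed point in a primitive group of degree `2p` forces double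
transitivity. -/
theorem two_transitive_of_fixed {α : Type u} [Fintype α] [DecidableEq α] {p : ℕ} (hp : p.Prime)
    (hp3 : 3 ≤ p) (hα : Fintype.card α = 2 * p) (G : Subgroup (Equiv.Perm α))
    (hG : MulAction.IsPreprimitive G α)
    (hfree : ∃ x : G, orderOf x = p ∧ ∃ a : α, x • a = a) :
    MulAction.IsMultiplyPretransitive G α 2 := by
  classical
  obtain ⟨x, hx, a, hxa⟩ := hfree
  set σ : Equiv.Perm α := (x : Equiv.Perm α) with hσdef
  have hσ : orderOf σ = p := by rw [hσdef, Subgroup.orderOf_coe, hx]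
  obtain ⟨n, hn⟩ := Equiv.Perm.cycleType_prime_order (σ := σ) (by rw [hσ]; exact hp)
  rw [hσ] at hn
  have hsum := Equiv.Perm.sum_cycleType σ
  rw [hn, Multiset.sum_replicate, smul_eq_mul] at hsum
  have hlt : σ.support.card < 2 * p := by
    rw [← hα]
    refine Finset.card_lt_univ_of_notMem (x := a) ?_
    rw [Equiv.Perm.notMem_support]
    exact hxa
  have hn0 : n = 0 := by
    by_contra h
    have : 2 * p ≤ (n + 1) * p := Nat.mul_le_mul_right p (by omega)
    omega
  subst hn0
  have hcyc : σ.IsCycle := Equiv.Perm.card_cycleType_eq_one.1 (by rw [hn]; simp)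
  have hsupp : σ.support.card = p := by omega
  have hA := Cfsg.Lib.Fusion.alternatingGroup_le_of_prime_cycle hG hp (by omega) hcyc hsupp x.2
  have h6 : 4 ≤ Nat.card α := by rw [Nat.card_eq_fintype_card, hα]; omega
  haveI h2 : MulAction.IsMultiplyPretransitive (alternatingGroup α) α 2 :=
    have := alternatingGroup.isMultiplyPretransitive α
    MulAction.isMultiplyPretransitive_of_le (n := Nat.card α - 2) (G := alternatingGroup α) (α := α)
      (by omega) (Nat.sub_le _ _)
  rw [MulAction.is_two_pretransitive_iff] at h2 ⊢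
  intro u v w z huv hwz
  obtain ⟨g, hg1, hg2⟩ := h2 huv hwz
  exact ⟨⟨g, hA g.2⟩, hg1, hg2⟩


section CharPart

variable {G : Type u} [Group G] [Fintype G] {p : ℕ} [Fact p.Prime]

/-- An exponent coprime to `n` in a given residue class modulo a divisor of `n`. -/
theorem exists_coprime_modEq {n d c : ℕ} (hn : n ≠ 0) (hd : d ∣ n) (hc : c.Coprime d) :
    ∃ k : ℕ, k.Coprime n ∧ k ≡ c [MOD d] := by
  haveI : NeZero n := ⟨hn⟩
  obtain ⟨u, hu⟩ := ZMod.unitsMap_surjective hd (ZMod.unitOfCoprime c hc)
  refine ⟨(u : ZMod n).val, ZMod.val_coe_unit_coprime u, ?_⟩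
  haveI : NeZero d := ⟨fun h => hn (by simpa [h] using hd)⟩
  have h := congrArg (fun v : (ZMod d)ˣ => (v : ZMod d)) hu
  simp only [ZMod.unitsMap_def, Units.coe_map, MonoidHom.coe_coe, ZMod.castHom_apply,
    ZMod.coe_unitOfCoprime] at h
  rw [← ZMod.natCast_eq_natCast_iff, ← h, ← ZMod.natCast_val]

/-- A power-invariant character takes equal values at `g` and `g ^ c`, `c` prime to the order. -/
theorem apply_pow_eq {χ : G → ℂ}
    (hinv : ∀ k : ℕ, k.Coprime (Nat.card G) → ∀ g : G, χ (g ^ k) = χ g) (g : G) {c : ℕ}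
    (hc : c.Coprime (orderOf g)) : χ (g ^ c) = χ g := by
  obtain ⟨k, hk, hkc⟩ := exists_coprime_modEq Nat.card_pos.ne' (orderOf_dvd_natCard g) hc
  rw [← pow_mod_orderOf, ← hkc, pow_mod_orderOf]
  exact hinv k hk g

end CharPart

/-- Feit's theorem on primitive groups of degree `2p` that are not doubly transitive and have
Sylow normalizer of order `2p`. -/
theorem degree_two_p {α : Type u} [Fintype α] [DecidableEq α] {p : ℕ} [Fact p.Prime] (hp : 3 < p)
    (hα : Fintype.card α = 2 * p) (G : Subgroup (Equiv.Perm α))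
    (hprim : MulAction.IsPreprimitive G α) (hnot2 : ¬ MulAction.IsMultiplyPretransitive G α 2)
    (P : Sylow p G)
    (hN : Nat.card (Subgroup.normalizer ((P : Subgroup G) : Set G)) = 2 * p) :
    p = 5 ∧ Nat.card G = 60 ∧ ∀ R : Sylow p G, ¬ (R : Subgroup G).Normal := by
  classical
  haveI := hprim
  haveI : MulAction.IsPretransitive G α := hprim.toIsPretransitive
  haveI := Fintype.ofFinite G
  have hpp : p.Prime := Fact.out
  obtain ⟨a₀⟩ : Nonempty α := Fintype.card_pos_iff.mp (by omega)
  have hfree : ∀ x : G, orderOf x = p → ∀ a : α, x • a ≠ a := fun x hx a ha =>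
    hnot2 (two_transitive_of_fixed hpp (by omega) hα G hprim ⟨x, hx, a, ha⟩)
  rcases DegreeTwoP.main hpp (by omega) hα hfree a₀ with h | ⟨hrank, χ, χ₂, h₁, h₂, hπ, hd₁, hd₂⟩
  · exact absurd (S0720.two_transitive_of_rank_two a₀ h) hnot2
  obtain ⟨a, ha0, hpa, hsub⟩ := S0719.result hprim hα a₀ hrank χ χ₂ h₁ h₂ hπ hd₁ hd₂
  -- the Sylow subgroup
  set Q : Subgroup G := (P : Subgroup G) with hQ
  have hdvd : p ∣ Nat.card G :=
    (Dvd.intro_left 2 hN.symm).trans (Subgroup.card_subgroup_dvd_card _)
  have hcardP : Nat.card Q = p := by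
    obtain ⟨n, hn⟩ := P.2.exists_card_eq
    have h1 : Nat.card Q ∣ 2 * p := hN ▸ Subgroup.card_dvd_of_le Subgroup.le_normalizer
    have h2 : p ∣ Nat.card Q := P.dvd_card_of_dvd_card hdvd
    rw [hn] at h1 h2 ⊢
    rcases n with _ | _ | n
    · rw [pow_zero] at h2; exact absurd (Nat.dvd_one.mp h2) hpp.ne_one
    · rw [zero_add, pow_one]
    · exfalso
      have h3 : p * p ∣ p * 2 := by
        rw [mul_comm p 2]; exact (Dvd.intro _ (by rw [pow_succ, pow_succ]; ring : p * p * p ^ n = p ^ (n + 1 + 1))).trans h1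
      have := Nat.le_of_dvd (by norm_num) (Nat.dvd_of_mul_dvd_mul_left hpp.pos h3)
      omega
  have hord : ∀ y : Q, y ≠ 1 → orderOf (y : G) = p := fun y hy => by
    rw [Subgroup.orderOf_coe]
    exact orderOf_eq_prime (by rw [← hcardP]; exact pow_card_eq_one') hy
  have horbstab : Nat.card G = 2 * p * Nat.card (MulAction.stabilizer G a₀) := by
    rw [← (MulAction.stabilizer G a₀).index_mul_card, MulAction.index_stabilizer_of_transitive,
      Nat.card_eq_fintype_card (α := α), hα]
  have hm5 : Nat.card (MulAction.stabilizer G a₀) ≡ 1 [MOD p] := by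
    have h := P.card_eq_index_normalizer
    have h' : Nat.card (Sylow p G) * (2 * p) = Nat.card G := by
      rw [h, ← hN]; exact Subgroup.index_mul_card _
    rw [horbstab, mul_comm] at h'
    exact Nat.eq_of_mul_eq_mul_left (by omega : 0 < 2 * p) h' ▸ card_sylow_modEq_one p G
  have hnotnormal : ∀ R : Sylow p G, ¬ (R : Subgroup G).Normal := by
    intro R hR
    haveI := Sylow.unique_of_normal R hR
    have h := P.card_eq_index_normalizer
    rw [Nat.card_unique] at h
    have := Subgroup.index_mul_card (Subgroup.normalizer (Q : Set G))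
    rw [show (Subgroup.normalizer (Q : Set G)).index = 1 from h.symm, hN, one_mul, horbstab] at this
    have h1 : Nat.card (MulAction.stabilizer G a₀) = 1 :=
      Nat.eq_of_mul_eq_mul_left (by omega : 0 < 2 * p) (this.symm.trans (mul_one _).symm)
    -- the suborbits are then singletons
    obtain ⟨b, hb⟩ := Fintype.exists_ne_of_one_lt_card (by omega : 1 < Fintype.card α) a₀
    have hle : Nat.card (MulAction.orbit (MulAction.stabilizer G a₀) b) ≤ 1 := by
      rw [← h1]
      exact Nat.card_le_card_of_surjective (fun s : MulAction.stabilizer G a₀ =>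
        (⟨s • b, MulAction.mem_orbit b s⟩ : MulAction.orbit (MulAction.stabilizer G a₀) b))
        fun ⟨z, s, hs⟩ => ⟨s, Subtype.ext hs⟩
    rcases hsub b hb with h' | h' <;> rw [h'] at hle <;> nlinarith
  have hC : ∀ y : Q, y ≠ 1 → Subgroup.centralizer {(y : G)} ≤ Q := by
    intro y hy
    set N := Subgroup.normalizer (Q : Set G) with hNdef
    set C := Subgroup.centralizer {(y : G)} with hCdef
    have hQy : ∀ u ∈ Q, ∃ n : ℕ, (y : G) ^ n = u := fun u hu => by
      obtain ⟨n, hn⟩ := mem_powers_of_prime_card hcardP (g' := (⟨u, hu⟩ : Q)) hy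
      exact ⟨n, by simpa using congrArg Subtype.val hn⟩
    have hcomm : ∀ c ∈ C, ∀ u ∈ Q, c * u = u * c := fun c hc u hu => by
      obtain ⟨n, rfl⟩ := hQy u hu
      exact (Commute.pow_right (Subgroup.mem_centralizer_singleton_iff.mp hc) n).eq
    have hQC : Q ≤ C := fun u hu => Subgroup.mem_centralizer_singleton_iff.mpr (by
      obtain ⟨n, rfl⟩ := hQy u hu
      exact (Commute.pow_self (y : G) n).eq)
    have hCN : C ≤ N := fun c hc => by
      rw [hNdef, Subgroup.mem_normalizer_iff]
      intro u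
      constructor
      · intro hu
        rwa [hcomm c hc u hu, mul_inv_cancel_right]
      · intro hu
        have e : c * (c * u * c⁻¹) = c * u * c⁻¹ * c := hcomm c hc _ hu
        rw [inv_mul_cancel_right] at e
        exact (mul_left_cancel e) ▸ hu
    have h1 : Nat.card C ∣ 2 * p := hN ▸ Subgroup.card_dvd_of_le hCN
    have h2 : p ∣ Nat.card C := hcardP ▸ Subgroup.card_dvd_of_le hQC
    obtain ⟨j, hj⟩ := h2
    rw [hj, mul_comm 2 p] at h1
    rcases (Nat.dvd_prime Nat.prime_two).mp (Nat.dvd_of_mul_dvd_mul_left hpp.pos h1) with hj1 | hj2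
    · rw [Subgroup.eq_of_le_of_card_ge hQC (by rw [hj, hj1, mul_one, hcardP])]
    exfalso
    have hCeq : C = N := Subgroup.eq_of_le_of_card_ge hCN (by rw [hj, hj2, hN, mul_comm])
    have hNC : N ≤ Subgroup.centralizer (Q : Set G) := fun c hc u hu =>
      (hcomm c (hCeq ▸ hc) u hu).symm
    set K := (MonoidHom.transferSylow P hNC).ker with hK
    have hcompl := MonoidHom.ker_transferSylow_isComplement' P hNC
    have hKcard : Nat.card K * p = Nat.card G := by
      rw [← hcardP]; exact hcompl.card_mul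
    haveI : K.Normal := MonoidHom.normal_ker _
    have hKne : K ≠ ⊥ := fun h => by
      rw [h, Subgroup.card_bot, one_mul, horbstab] at hKcard
      have := Nat.card_pos (α := MulAction.stabilizer G a₀)
      nlinarith
    haveI : MulAction.IsPretransitive K α :=
      MulAction.IsQuasiPreprimitive.isPretransitive_of_normal fun h => hKne (by
        rw [Subgroup.eq_bot_iff_forall]
        exact fun z hz => eq_of_smul_eq_smul (α := α) fun w => by
          rw [one_smul]; exact (Set.eq_univ_iff_forall.1 h w) ⟨z, hz⟩)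
    have hpK : p ∣ Nat.card K := by
      have h := MulAction.index_stabilizer_of_transitive K a₀
      rw [Nat.card_eq_fintype_card (α := α), hα] at h
      exact (Dvd.intro_left 2 h.symm).trans (Subgroup.index_dvd_card _)
    obtain ⟨z, hz⟩ := exists_prime_orderOf_dvd_card' p hpK
    obtain ⟨R, hR⟩ := IsPGroup.exists_le_sylow (p := p) (G := G)
      (IsPGroup.of_card (n := 1) (by rw [Nat.card_zpowers, Subgroup.orderOf_coe, hz, pow_one]) :
        IsPGroup p (Subgroup.zpowers (z : G)))
    have hRK : (R : Subgroup G) ≤ K := by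
      have hRcard : Nat.card (R : Subgroup G) = p := by
        rw [R.card_eq_multiplicity, ← P.card_eq_multiplicity]; exact hcardP
      rw [← Subgroup.eq_of_le_of_card_ge hR (by
        rw [hRcard, Nat.card_zpowers, Subgroup.orderOf_coe, hz])]
      exact Subgroup.zpowers_le.mpr z.2
    obtain ⟨c, hc⟩ := MulAction.exists_smul_eq G R P
    have hQK : Q ≤ K := by
      intro u hu
      rw [hQ, ← hc, Sylow.coe_subgroup_smul, Subgroup.mem_pointwise_smul_iff_inv_smul_mem] at hu
      have := (inferInstance : K.Normal).conj_mem _ (hRK hu) c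
      simpa [mul_assoc] using this
    have h := hcompl.disjoint.le_bot (Subgroup.mem_inf.mpr ⟨hQK y.2, y.2⟩)
    exact hy (Subtype.ext (Subgroup.mem_bot.mp h))
  -- the parametrisation of the Sylow subgroup
  obtain ⟨k, hk⟩ : ∃ k : Q ≃ ZMod p, ∀ y z : Q, k (y * z) = k y + k z := by
    haveI := isCyclic_of_prime_card hcardP
    let e := (zmodCyclicMulEquiv (G := Q) inferInstance).symm
    refine ⟨(e.toEquiv.trans Multiplicative.toAdd).trans (ZMod.ringEquivCongr hcardP).toEquiv,
      fun y z => ?_⟩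
    show ZMod.ringEquivCongr hcardP (Multiplicative.toAdd (e (y * z))) = _
    rw [map_mul, toAdd_mul, map_add]
    rfl
  -- constituents of the permutation character
  set π : G → ℂ := fun g => (Nat.card (MulAction.fixedBy α g) : ℂ) with hπdef
  have hπ' : (permRep ℂ G α).character = π := character_permRep α
  set one : G → ℂ := fun _ => 1 with hone
  have h1irr : IsIrrCharacter G one := isIrrCharacter_one
  have hne1 : χ ≠ one := fun h => by
    rw [h] at hd₁
    have h' : ((2 : ℕ) : ℂ) = p := by simp only [hone] at hd₁; push_cast; linear_combination hd₁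
    have := (Nat.cast_inj (R := ℂ)).mp h'
    omega
  have hne2 : χ₂ ≠ one := fun h => by
    rw [h] at hd₂
    have h' : ((1 : ℕ) : ℂ) = p := by simpa [hone] using hd₂
    have := (Nat.cast_inj (R := ℂ)).mp h'
    omega
  have hne12 : χ ≠ χ₂ := fun h => by
    rw [h, hd₂] at hd₁
    exact one_ne_zero (by linear_combination hd₁ : (1 : ℂ) = 0)
  have hπsum : π = one + χ + χ₂ := by
    rw [hπ]; rfl
  have hπinner : classInner π χ = 1 := by
    rw [hπsum, classInner_add_left, classInner_add_left, classInner_irr_ne h1irr h₁ (Ne.symm hne1),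
      classInner_irr_self h₁, classInner_irr_ne h₂ h₁ (Ne.symm hne12), zero_add, add_zero]
  have hfaith : ∀ g : G, χ g = χ 1 → g = 1 := DegreeTwoP.faithful a₀ h₁ hne1 (by
    rw [hπ', hπinner]; exact one_ne_zero)
  have hinv : ∀ c : ℕ, c.Coprime (Nat.card G) → ∀ g : G, χ (g ^ c) = χ g := by
    intro c hc g
    let ψ := DegreeTwoP.tw c hc ⟨χ, h₁⟩
    have h := DegreeTwoP.classInner_tw (Ω := α) hc ⟨χ, h₁⟩
    rw [hπ', hπinner] at h
    have hψ : (ψ : G → ℂ) = χ := by
      have h' : classInner π (ψ : G → ℂ) = 1 := h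
      rw [hπsum, classInner_add_left, classInner_add_left] at h'
      by_contra hne
      rw [classInner_irr_ne h₁ ψ.2 (Ne.symm hne), add_zero] at h'
      have hψ1 : (ψ : G → ℂ) 1 = (p : ℂ) - 1 := by
        rw [DegreeTwoP.tw_apply, one_pow]; exact hd₁
      rw [classInner_irr_ne h1irr ψ.2, classInner_irr_ne h₂ ψ.2] at h'
      · simp at h'
      · intro e; rw [← e, hd₂] at hψ1; exact one_ne_zero (by linear_combination hψ1 : (1 : ℂ) = 0)
      · intro e
        rw [← e] at hψ1
        have h'' : ((2 : ℕ) : ℂ) = p := by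
          simp only [hone] at hψ1; push_cast; linear_combination hψ1
        have := (Nat.cast_inj (R := ℂ)).mp h''
        omega
    exact (DegreeTwoP.tw_apply c hc ⟨χ, h₁⟩ g).symm.trans (congrFun hψ g)
  choose X hX using fun g : G => exists_int_of_pow_invariant h₁.isCharacter g (hinv · · g)
  -- values on the Sylow subgroup
  have hχP : ∀ y : Q, y ≠ 1 → χ y = -1 := by
    intro y hy
    haveI := Fintype.ofFinite Q
    have hconst : ∀ z : Q, z ≠ 1 → χ z = χ y := by
      intro z hz
      obtain ⟨n, hn⟩ := mem_powers_of_prime_card hcardP (g' := z) hy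
      have hn' : (y : G) ^ n = z := by simpa using congrArg Subtype.val hn
      rw [← hn']
      refine apply_pow_eq hinv _ ?_
      rw [hord y hy]
      refine ((hpp.coprime_iff_not_dvd).mpr fun h => hz ?_).symm
      refine Subtype.ext ?_
      rw [← hn', (orderOf_dvd_iff_pow_eq_one (x := (y : G)) (n := n)).mp (by rw [hord y hy]; exact h)]
      rfl
    have hzero : π y = 0 := by
      simp only [hπdef, Nat.cast_eq_zero, Nat.card_eq_zero]
      exact Or.inl ⟨fun ⟨b, hb⟩ => hfree _ (hord y hy) b hb⟩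
    have hsum2 : χ₂ y = -1 - χ y := by
      rw [hπsum] at hzero
      simp only [Pi.add_apply, hone] at hzero
      linear_combination hzero
    have hmult : ∀ (ξ : G → ℂ), IsCharacter G ξ → (∀ z : Q, z ≠ 1 → ξ z = ξ y) →
        ∃ n : ℕ, ξ 1 + ((p : ℂ) - 1) * ξ y = (p : ℂ) * n := by
      intro ξ hξ hc
      obtain ⟨n, hn⟩ := (hξ.comp Q.subtype).exists_nat_classInner (isCharacter_one (G := Q))
      refine ⟨n, ?_⟩
      rw [classInner_one_right, hcardP, inv_mul_eq_iff_eq_mul₀ (Nat.cast_ne_zero.2 hpp.ne_zero)] at hn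
      rw [← hn, ← Finset.add_sum_erase _ _ (Finset.mem_univ (1 : Q))]
      congr 1
      simp only [Subgroup.coe_subtype]
      rw [Finset.sum_congr (g := fun _ => ξ y) rfl (fun z hz => hc z (Finset.ne_of_mem_erase hz)), Finset.sum_const,
        Finset.card_erase_of_mem (Finset.mem_univ _), Finset.card_univ, nsmul_eq_mul,
        ← Nat.card_eq_fintype_card, hcardP, Nat.cast_sub hpp.pos, Nat.cast_one]
    have hc2 : ∀ z : Q, z ≠ 1 → χ₂ z = χ₂ y := by
      intro z hz
      have hz0 : π z = 0 := by
        simp only [hπdef, Nat.cast_eq_zero, Nat.card_eq_zero]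
        exact Or.inl ⟨fun ⟨b, hb⟩ => hfree _ (hord z hz) b hb⟩
      rw [hπsum] at hz0
      simp only [Pi.add_apply, hone, hconst z hz] at hz0
      rw [hsum2]
      linear_combination hz0
    obtain ⟨n₁, hn₁⟩ := hmult χ h₁.isCharacter hconst
    obtain ⟨n₂, hn₂⟩ := hmult χ₂ h₂.isCharacter hc2
    rw [hd₁, hX y] at hn₁
    rw [hd₂, hsum2, hX y] at hn₂
    have e1 : ((p : ℤ) - 1) + ((p : ℤ) - 1) * X y = p * n₁ := by exact_mod_cast hn₁
    have e2 : (p : ℤ) + ((p : ℤ) - 1) * (-1 - X y) = p * n₂ := by exact_mod_cast hn₂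
    rw [hX y]
    have hz : (p : ℤ) * ((n₁ : ℤ) + n₂) = p := by linear_combination -e1 - e2
    have hs : (n₁ : ℤ) + n₂ = 1 := by
      have hp0 : (p : ℤ) ≠ 0 := by exact_mod_cast hpp.ne_zero
      exact mul_left_cancel₀ hp0 (by rw [hz, mul_one])
    rcases Nat.eq_zero_or_pos n₁ with h0 | h0
    · rw [h0, Nat.cast_zero, mul_zero] at e1
      have : ((p : ℤ) - 1) * (1 + X y) = 0 := by linear_combination e1
      rcases mul_eq_zero.mp this with h | h
      · omega
      · rw [show X y = -1 by omega]; push_cast; rfl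
    · exfalso
      have h1 : (n₁ : ℤ) = 1 := by omega
      rw [h1] at e1
      have hdvd' : ((p : ℤ) - 1) ∣ 1 := ⟨1 + X y - 1, by linear_combination -e1⟩
      have := Int.le_of_dvd one_pos hdvd'
      omega
  -- the indicator
  have hmono : ∀ g : G, Nat.card (MulAction.fixedBy α g) ≤ Nat.card (MulAction.fixedBy α (g * g)) :=
    fun g => Nat.card_mono (Set.toFinite _) fun b hb => by
      rw [MulAction.mem_fixedBy] at hb ⊢
      rw [mul_smul, hb, hb]
  have hreal : ∀ s, (χ s).im = 0 := fun s => by rw [hX s, Complex.intCast_im]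
  have hreal2 : ∀ s, (χ₂ s).im = 0 := fun s => by
    have h := congrFun hπsum s
    simp only [Pi.add_apply, hone, hπdef, hX s] at h
    rw [show χ₂ s = ((Nat.card (MulAction.fixedBy α s) : ℤ) - 1 - X s : ℤ) by
      push_cast; linear_combination -h, Complex.intCast_im]
  have hp2 : p % 2 = 1 := hpp.eq_two_or_odd.resolve_left (by omega)
  have hsq : ∑ g : G, χ (g * g) = Nat.card G := by
    rcases indicator_cases h₁ with ⟨hnr, -⟩ | ⟨-, h | ⟨h, -⟩⟩
    · exact absurd hreal hnr
    · exact h
    exfalso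
    have hsq2 : ∑ g : G, χ₂ (g * g) = Nat.card G := by
      rcases indicator_cases h₂ with ⟨hnr, -⟩ | ⟨-, h | ⟨-, h⟩⟩
      · exact absurd hreal2 hnr
      · exact h
      · exact absurd (h p hd₂) (Nat.not_even_iff.mpr hp2)
    have hburn : (∑ g : G, Nat.card (MulAction.fixedBy α g) : ℕ) = Nat.card G := by
      haveI : Subsingleton (Quotient (MulAction.orbitRel G α)) :=
        (MulAction.pretransitive_iff_subsingleton_quotient G α).mp inferInstance
      have h := MulAction.sum_card_fixedBy_eq_card_orbits_mul_card_group G α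
      simp only [← Nat.card_eq_fintype_card] at h
      rw [h, Nat.card_eq_one_iff_unique.mpr ⟨inferInstance, ⟨Quotient.mk _ a₀⟩⟩, one_mul]
    obtain ⟨w, hw⟩ := exists_prime_orderOf_dvd_card' (G := G) 2 (by
      rw [horbstab, mul_assoc]; exact dvd_mul_right 2 _)
    have hw2 : w * w = 1 := by rw [← sq, ← hw, pow_orderOf_eq_one]
    have hlt : Nat.card G < ∑ g : G, Nat.card (MulAction.fixedBy α (g * g)) := by
      rw [← hburn]
      refine Finset.sum_lt_sum (fun g _ => hmono g) ⟨w, Finset.mem_univ _, ?_⟩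
      rw [hw2, MulAction.fixedBy_one_eq_univ, Nat.card_univ]
      have hne : MulAction.fixedBy α w ⊂ Set.univ := Set.ssubset_univ_iff.mpr fun h => by
        have : w = 1 := eq_of_smul_eq_smul (α := α) fun b => by
          rw [one_smul]; exact Set.eq_univ_iff_forall.1 h b
        rw [this, orderOf_one] at hw
        exact absurd hw (by norm_num)
      have := Set.ncard_lt_ncard hne
      rwa [Set.ncard_univ, ← Nat.card_coe_set_eq] at this
    have hlt' : ((∑ g : G, Nat.card (MulAction.fixedBy α (g * g)) : ℕ) : ℂ) = Nat.card G := by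
      have e : ∀ g : G, (Nat.card (MulAction.fixedBy α (g * g)) : ℂ) =
          1 + χ (g * g) + χ₂ (g * g) := fun g => congrFun hπsum (g * g)
      rw [Nat.cast_sum, Finset.sum_congr rfl fun g _ => e g]
      simp only [Finset.sum_add_distrib, Finset.sum_const, Finset.card_univ, h, hsq2,
        ← Nat.card_eq_fintype_card, nsmul_eq_mul, mul_one]
      ring
    rw [Nat.cast_inj] at hlt'
    omega
  -- the basic relation
  set t := (p - 1) / 2 with ht
  have hpt : p = 2 * t + 1 := by omega
  have hrel : ∀ g : G, g ≠ 1 → ¬ p ∣ orderOf g →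
      X g * X g - X (g * g) = ((p : ℤ) - 1) * (X g - 1) := by
    intro g hg1 hg
    have h := altSquare_identity (by omega) Q k hk hC hN h₁ hd₁ hχP hne1 hsq g hg1 (fun x hx => by
      have hx1 : (⟨x⁻¹ * g * x, hx⟩ : Q) ≠ 1 := fun h => hg1 (by
        have h' := congrArg Subtype.val h
        simp only [Subgroup.coe_one] at h'
        rw [show g = x * (x⁻¹ * g * x) * x⁻¹ by group, h']
        simp)
      apply hg
      have h' := hord _ hx1
      simp only at h'
      rw [show g = (MulAut.conj x) (x⁻¹ * g * x) by simp [mul_assoc], MulEquiv.orderOf_eq, h'])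
    rw [hX g, hX (g * g), div_eq_iff two_ne_zero] at h
    have hc : ((X g * X g - X (g * g) : ℤ) : ℂ) = (((2 * t : ℕ) : ℤ) * (X g - 1) : ℤ) := by
      push_cast; rw [h]; ring
    have := (Int.cast_inj (α := ℂ)).mp hc
    rw [this, hpt]; push_cast; ring
  have hX1 : X 1 = (p : ℤ) - 1 := by
    have : ((X 1 : ℤ) : ℂ) = (((p : ℤ) - 1 : ℤ) : ℂ) := by rw [← hX, hd₁]; push_cast; rfl
    exact_mod_cast this
  have hXne : ∀ g : G, g ≠ 1 → X g ≠ (p : ℤ) - 1 := fun g hg h =>
    hg (hfaith g (by rw [hX, hX, h, hX1]))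
  have hodd : ∀ g : G, g ≠ 1 → Odd (orderOf g) → ¬ p ∣ orderOf g → X g = 1 := by
    intro g hg1 ho hg
    have h2 : χ (g ^ 2) = χ g := apply_pow_eq hinv g (Nat.coprime_two_left.mpr ho)
    rw [sq, hX, hX, Int.cast_inj] at h2
    have h := hrel g hg1 hg
    rw [h2] at h
    have : (X g - 1) * (X g - ((p : ℤ) - 1)) = 0 := by linear_combination h
    rcases mul_eq_zero.mp this with h' | h'
    · omega
    · exact absurd (by omega) (hXne g hg1)
  have hXH : ∀ H : Subgroup G, Odd (Nat.card H) → ¬ p ∣ Nat.card H → Nat.card H ∣ p - 2 := by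
    intro H hHo hHp
    haveI := Fintype.ofFinite H
    obtain ⟨n, hn⟩ := (h₁.isCharacter.comp H.subtype).exists_nat_classInner (isCharacter_one (G := H))
    rw [classInner_one_right, inv_mul_eq_iff_eq_mul₀ card_cast_ne_zero,
      ← Finset.add_sum_erase _ _ (Finset.mem_univ (1 : H))] at hn
    rw [Finset.sum_congr rfl (g := fun _ => (1 : ℂ)) (fun z hz => by
        have hz1 : (z : G) ≠ 1 := fun h => Finset.ne_of_mem_erase hz (Subtype.ext h)
        have hdz : orderOf (z : G) ∣ Nat.card H := by
          rw [Subgroup.orderOf_coe]; exact orderOf_dvd_natCard z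
        show χ (z : G) = 1
        rw [hX, hodd _ hz1 (hHo.of_dvd_nat hdz) fun h => hHp (h.trans hdz)]
        norm_num), Finset.sum_const, Finset.card_erase_of_mem (Finset.mem_univ _),
      Finset.card_univ, nsmul_eq_mul, mul_one, ← Nat.card_eq_fintype_card] at hn
    simp only [Subgroup.coe_subtype, Subgroup.coe_one, hd₁] at hn
    have hpos := Nat.card_pos (α := H)
    have hn' : ((p - 2 + Nat.card H : ℕ) : ℂ) = ((Nat.card H * n : ℕ) : ℂ) := by
      rw [Nat.cast_mul, ← hn, Nat.cast_add, Nat.cast_sub (by omega), Nat.cast_sub hpos]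
      push_cast; ring
    rw [Nat.cast_inj] at hn'
    exact (Nat.dvd_add_left dvd_rfl).mp ⟨n, hn'⟩
  set m := Nat.card (MulAction.stabilizer G a₀) with hm
  have hpm : ¬ p ∣ m := fun h => by
    have : 1 ≡ 0 [MOD p] := hm5.symm.trans (Nat.modEq_zero_iff_dvd.mpr h)
    exact hpp.ne_one (Nat.dvd_one.mp (Nat.modEq_zero_iff_dvd.mp this))
  have hmdvd : ∀ d : ℕ, d ∣ m → Odd d → d ∣ p - 2 := by
    intro d hdm hd
    refine (Nat.dvd_iff_prime_pow_dvd_dvd (n := p - 2) (d := d)).mpr fun r j hr hrd => ?_
    haveI := Fact.mk hr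
    obtain ⟨H, hH⟩ := Sylow.exists_subgroup_card_pow_prime r
      (G := MulAction.stabilizer G a₀) (hrd.trans hdm)
    have hH' : Nat.card (H.map (MulAction.stabilizer G a₀).subtype) = r ^ j := by
      rw [← hH]
      exact Nat.card_congr
        (H.equivMapOfInjective _ (Subgroup.subtype_injective _)).symm.toEquiv
    have h := hXH (H.map (MulAction.stabilizer G a₀).subtype) (by rw [hH']; exact hd.of_dvd_nat hrd)
      (by rw [hH']; exact fun h => hpm ((h.trans hrd).trans hdm))
    rwa [hH'] at h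
  -- the first conclusion
  have ha1 : a = 1 := by
    have hex : ∃ b, b ≠ a₀ := Fintype.exists_ne_of_one_lt_card (by omega : 1 < Fintype.card α) a₀
    obtain ⟨b, hb⟩ := hex
    have horb : Nat.card (MulAction.orbit (MulAction.stabilizer G a₀) b) ∣ m := by
      rw [hm, Nat.card_congr (MulAction.orbitEquivQuotientStabilizer _ b), ← Subgroup.index_eq_card]
      exact Subgroup.index_dvd_card _
    have hd : 2 * a + 1 ∣ m := by
      rcases hsub b hb with h | h <;> rw [h] at horb <;>
        exact (Dvd.intro_left _ rfl).trans horb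
    have h2 := hmdvd _ hd ⟨a, rfl⟩
    have h3 : 2 * a + 1 ∣ (2 * a + 1) * (2 * a + 1) := dvd_mul_right _ _
    have h4 : (2 * a + 1) * (2 * a + 1) - 2 * (p - 2) = 3 := by
      have : (2 * a + 1) * (2 * a + 1) + 1 = 2 * p := by rw [hpa]; ring
      omega
    have h5 := Nat.le_of_dvd (by norm_num) (h4 ▸ Nat.dvd_sub h3 (h2.mul_left 2))
    omega
  have hp5 : p = 5 := by rw [hpa, ha1]; norm_num
  subst hp5
  refine ⟨rfl, ?_, hnotnormal⟩
  have hm0 : m ≠ 0 := Nat.card_pos.ne'
  obtain ⟨e, q, hq, hmq⟩ := Nat.exists_eq_two_pow_mul_odd hm0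
  have hq3 : q ∣ 3 := hmdvd q (Dvd.intro_left _ hmq.symm) hq
  have h3m : 3 ∣ m := by
    obtain ⟨b, hb⟩ := Fintype.exists_ne_of_one_lt_card (by omega : 1 < Fintype.card α) a₀
    have horb : Nat.card (MulAction.orbit (MulAction.stabilizer G a₀) b) ∣ m := by
      rw [hm, Nat.card_congr (MulAction.orbitEquivQuotientStabilizer _ b), ← Subgroup.index_eq_card]
      exact Subgroup.index_dvd_card _
    rcases hsub b hb with h | h <;> rw [h, ha1] at horb <;>
      exact (by norm_num : 3 ∣ _).trans horb
  haveI : Fact (Nat.Prime 2) := ⟨Nat.prime_two⟩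
  obtain ⟨S, hS⟩ := Sylow.exists_subgroup_card_pow_prime 2 (G := G) (n := e + 1) (by
    rw [horbstab, hmq, pow_succ]; exact ⟨5 * q, by ring⟩)
  have h2val : ∀ n : ℕ, ∀ g : G, g ≠ 1 → g ∈ S → orderOf g = n → X g = 0 ∨ X g = 2 := by
    intro n
    induction n using Nat.strong_induction_on with
    | _ n ih =>
      intro g hg1 hgS hgn
      have hdvd2 : orderOf g ∣ 2 ^ (e + 1) := by
        rw [← hS, ← Subgroup.orderOf_mk g hgS]; exact orderOf_dvd_natCard _
      have hg5 : ¬ 5 ∣ orderOf g := fun h =>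
        absurd (Nat.Prime.dvd_of_dvd_pow (by norm_num) (h.trans hdvd2)) (by norm_num)
      have h := hrel g hg1 hg5
      by_cases hgg : g * g = 1
      · rw [hgg, hX1] at h
        have : X g * (X g - 4) = 0 := by push_cast at h; linear_combination h
        rcases mul_eq_zero.mp this with h' | h'
        · exact Or.inl h'
        · exact absurd (by omega) (hXne g hg1)
      · have hlt : orderOf (g * g) < n := by
          rw [← sq, orderOf_pow' g two_ne_zero, ← hgn]
          obtain ⟨j, hj, hjo⟩ := (Nat.dvd_prime_pow Nat.prime_two).mp hdvd2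
          have hj0 : j ≠ 0 := fun h0 => hg1 (orderOf_eq_one_iff.mp (by rw [hjo, h0, pow_zero]))
          rw [hjo, Nat.gcd_eq_right (dvd_pow_self 2 hj0)]
          exact Nat.div_lt_self (by positivity) one_lt_two
        rcases ih _ hlt (g * g) hgg (mul_mem hgS hgS) rfl with h' | h' <;> rw [h'] at h
        · right
          have : (X g - 2) * (X g - 2) = 0 := by push_cast at h; linear_combination h
          rcases mul_eq_zero.mp this with h'' | h'' <;> omega
        · exfalso
          have hsqr : (X g - 2) * (X g - 2) = 2 := by push_cast at h; linear_combination h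
          have : |X g - 2| ≤ 1 ∨ 2 ≤ |X g - 2| := by omega
          rcases this with h'' | h''
          · nlinarith [abs_mul_abs_self (X g - 2), abs_nonneg (X g - 2)]
          · nlinarith [abs_mul_abs_self (X g - 2), abs_nonneg (X g - 2)]
  have hS8 : 2 ^ (e + 1) ∣ 8 := by
    haveI := Fintype.ofFinite S
    obtain ⟨n₁, hn₁⟩ := (h₁.isCharacter.comp S.subtype).exists_nat_classInner (isCharacter_one (G := S))
    obtain ⟨n₂, hn₂⟩ := (h₁.isCharacter.comp S.subtype).exists_nat_classInner
      (h₁.isCharacter.comp S.subtype)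
    simp only [classInner, map_one, mul_one, Subgroup.coe_subtype] at hn₁ hn₂
    rw [inv_mul_eq_iff_eq_mul₀ card_cast_ne_zero] at hn₁ hn₂
    have hz : ∑ z : S, ((X z : ℂ) * X z - 2 * X z) = 8 := by
      rw [Finset.sum_eq_single (1 : S) (fun z _ hz => ?_) (fun h => absurd (Finset.mem_univ _) h)]
      · rw [Subgroup.coe_one, hX1]; norm_num
      · rcases h2val _ (z : G) (fun h => hz (Subtype.ext h)) z.2 rfl with h | h <;> rw [h] <;>
          norm_num
    simp only [hX, map_intCast] at hn₁ hn₂
    rw [Finset.sum_sub_distrib, ← Finset.mul_sum, hn₁, hn₂, hS] at hz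
    have hz' : (2 ^ (e + 1) : ℤ) * ((n₂ : ℤ) - 2 * n₁) = 8 := by
      have : (((2 ^ (e + 1) : ℤ) * ((n₂ : ℤ) - 2 * n₁) : ℤ) : ℂ) = ((8 : ℤ) : ℂ) := by
        push_cast at hz ⊢; linear_combination hz
      exact_mod_cast this
    exact_mod_cast (Dvd.intro _ hz' : (2 ^ (e + 1) : ℤ) ∣ 8)
  have he : e ≤ 2 := by
    have := (Nat.pow_dvd_pow_iff_le_right (x := 2) one_lt_two).mp (hS8.trans (by norm_num : 8 ∣ 2 ^ 3))
    omega
  rcases (Nat.dvd_prime Nat.prime_three).mp hq3 with rfl | rfl
  · exfalso
    rw [hmq, mul_one] at h3m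
    exact absurd (Nat.prime_three.dvd_of_dvd_pow h3m) (by norm_num)
  · rw [horbstab]
    rw [hmq] at hm5
    interval_cases e
    · exact absurd hm5 (by decide)
    · rw [hmq]; norm_num
    · exact absurd hm5 (by decide)

end Cfsg.Agent.DihedralNormalizer
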