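import Mathlib

/-!
# Even permutations as products of two conjugates of an element with two transposition cycles

Every permutation `σ` is inverted by an involution `r` such that `r` and `r σ` move equally many points
when `σ` is even. Multiplying `r` and `r σ` by a suitable transposition `t` changes the parity, so every
even permutation of at least five points is a commutator `a b a⁻¹ b⁻¹` of even permutations in which `a`
has two cycles of length two.
-/

set_option autoImplicit false

namespace Cfsg.Lib.Perm.InvolutionPair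

open Equiv Equiv.Perm Finset

variable {α : Type*} [DecidableEq α]

/-- `a` has two cycles of length two. -/
def Flex (a : Perm α) : Prop :=
  ∃ u u' v v' : α, u ≠ u' ∧ u ≠ v ∧ u ≠ v' ∧ u' ≠ v ∧ u' ≠ v' ∧ v ≠ v' ∧
    a u = u' ∧ a u' = u ∧ a v = v' ∧ a v' = v

/-- `r` inverts `σ` and has a fixed point, or `r σ` has one, among the moved points. -/
def Witness (σ r : Perm α) : Prop := ∃ x, σ x ≠ x ∧ (r x = x ∨ r (σ x) = x)

variable [Fintype α]

/-- An inverting involution with balanced supports. -/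
def Balanced (σ r : Perm α) : Prop :=
  r * r = 1 ∧ (r * σ) * (r * σ) = 1 ∧ r.support ⊆ σ.support ∧
    ((sign σ = 1 ∧ #(r * σ).support = #r.support) ∨ (sign σ = -1 ∧ #(r * σ).support = #r.support + 2)) ∧
    (σ ≠ 1 → Witness σ r)

theorem flip {σ r : Perm α} (h1 : r * r = 1) (h2 : (r * σ) * (r * σ) = 1) (h3 : r.support ⊆ σ.support)
    (h5 : σ ≠ 1 → Witness σ r) :
    (σ * r) * (σ * r) = 1 ∧ σ * r * σ = r ∧ (σ * r).support ⊆ σ.support ∧
      #(σ * r).support = #(r * σ).support ∧ (σ ≠ 1 → Witness σ (σ * r)) := by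
  have hr : r⁻¹ = r := inv_eq_of_mul_eq_one_right h1
  have h6 : σ * r * σ = r := by
    rw [← mul_right_inj r, h1, ← h2]
    group
  refine ⟨?_, h6, (support_mul_le σ r).trans (Finset.union_subset subset_rfl h3), ?_, fun hσ => ?_⟩
  · rw [← mul_assoc, h6, h1]
  · rw [show σ * r = r * (r * σ) * r⁻¹ by rw [hr, ← mul_assoc r r σ, h1, one_mul], card_support_conj]
  · obtain ⟨x, hx, h | h⟩ := h5 hσ
    · refine ⟨x, hx, Or.inr ?_⟩
      rw [Perm.mul_apply, ← Perm.mul_apply σ r, ← Perm.mul_apply (σ * r) σ, h6, h]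
    · refine ⟨σ x, fun e => hx (σ.injective e), Or.inl ?_⟩
      rw [Perm.mul_apply, h]

theorem balanced_cycle {σ : Perm α} (hc : σ.IsCycle) : ∃ r, Balanced σ r := by
  classical
  obtain ⟨x, hx, -⟩ := id hc
  have hex : ∀ y, σ y ≠ y → ∃ i : ℤ, (σ ^ i) x = y := fun y hy => hc.exists_zpow_eq hx hy
  have hper : ∀ i j : ℤ, (σ ^ i) x = (σ ^ j) x ↔ ((#σ.support : ℕ) : ℤ) ∣ i - j := by
    intro i j
    rw [← hc.orderOf, orderOf_dvd_iff_zpow_eq_one, zpow_sub, mul_inv_eq_one]
    refine ⟨fun h => ?_, fun h => by rw [h]⟩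
    have h0 : (σ ^ (i - j)) x = x := by
      rw [show i - j = -j + i by ring, zpow_add, Perm.mul_apply, h, ← Perm.mul_apply, ← zpow_add]
      simp
    ext y
    by_cases hy : σ y = y
    · rw [zpow_apply_eq_self_of_apply_eq_self hy, zpow_apply_eq_self_of_apply_eq_self hy]
    · obtain ⟨k, rfl⟩ := hex y hy
      rw [← Perm.mul_apply, ← Perm.mul_apply, ← zpow_add, ← zpow_add,
        show i + k = j + (k + (i - j)) by ring, zpow_add, zpow_add σ k, Perm.mul_apply, Perm.mul_apply, h0,
        ← Perm.mul_apply, ← zpow_add]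
  set L := #σ.support with hL
  let f : α → α := fun y => if hy : σ y ≠ y then (σ ^ (-(hex y hy).choose)) x else y
  have hmv : ∀ i : ℤ, σ ((σ ^ i) x) ≠ (σ ^ i) x := fun i => by
    rw [← mem_support, zpow_apply_mem_support, mem_support]
    exact hx
  have hf : ∀ i : ℤ, f ((σ ^ i) x) = (σ ^ (-i)) x := by
    intro i
    simp only [f, dif_pos (hmv i)]
    rw [hper]
    have h1 := (hper _ _).1 (hex _ (hmv i)).choose_spec
    rw [show -(hex _ (hmv i)).choose - -i = -((hex _ (hmv i)).choose - i) by ring]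
    exact dvd_neg.2 h1
  have hff : Function.Involutive f := fun y => by
    by_cases hy : σ y = y
    · simp [f, hy]
    · obtain ⟨i, rfl⟩ := hex y hy
      rw [hf, hf, neg_neg]
  set r : Perm α := hff.toPerm f with hrdef
  have hr : ∀ i : ℤ, r ((σ ^ i) x) = (σ ^ (-i)) x := hf
  have hr' : ∀ y, σ y = y → r y = y := fun y hy => by simp [r, f, hy]
  have hσ1 : ∀ i : ℤ, σ ((σ ^ i) x) = (σ ^ (i + 1)) x := fun i => by
    rw [← Perm.mul_apply, ← zpow_one_add, add_comm]
  have hrr : r * r = 1 := Equiv.ext hff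
  have hrs : (r * σ) * (r * σ) = 1 := by
    refine Equiv.ext fun y => ?_
    by_cases hy : σ y = y
    · simp [Perm.mul_apply, hy, hr' y hy]
    · obtain ⟨i, rfl⟩ := hex y hy
      simp only [Perm.mul_apply, Perm.one_apply, hσ1, hr]
      rw [show -(-(i + 1) + 1) = i by ring]
  have hsub : r.support ⊆ σ.support := fun y hy => by
    rw [mem_support] at hy ⊢
    exact fun h => hy (hr' y h)
  have hmem : ∀ y, y ∈ σ.support → ∃ i : ℤ, (σ ^ i) x = y := fun y hy => hex y (mem_support.1 hy)
  have hin : ∀ i : ℤ, (σ ^ i) x ∈ σ.support := fun i => mem_support.2 (hmv i)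
  have hout : ∀ y, σ y = y → (r * σ) y = y := fun y hy => by simp [Perm.mul_apply, hy, hr' y hy]
  refine ⟨r, hrr, hrs, hsub, ?_, fun _ => ⟨x, hx, Or.inl (by simpa using hr 0)⟩⟩
  rw [hc.sign]
  have hL2 : 2 ≤ L := hc.two_le_card_support
  rcases Nat.even_or_odd' L with ⟨h, hh | hh⟩
  · right
    refine ⟨by rw [← hL, hh, pow_mul, neg_one_sq, one_pow], ?_⟩
    have e1 : r.support = σ.support \ {(σ ^ (0 : ℤ)) x, (σ ^ (h : ℤ)) x} := by
      ext y
      simp only [mem_sdiff, mem_insert, mem_singleton, not_or]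
      refine ⟨fun hy => ⟨hsub hy, ?_, ?_⟩, fun hy => ?_⟩
      · rintro rfl; exact mem_support.1 hy (by simpa using hr 0)
      · rintro rfl
        refine mem_support.1 hy ?_
        rw [hr, hper, hh]
        push_cast
        exact ⟨-1, by ring⟩
      · obtain ⟨hy1, hy2, hy3⟩ := hy
        obtain ⟨i, rfl⟩ := hmem y hy1
        rw [mem_support, hr]
        intro e
        rw [hper] at e
        obtain ⟨c, hc'⟩ := e
        rcases Int.even_or_odd' c with ⟨d, rfl | rfl⟩
        · apply hy2
          rw [hper]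
          exact ⟨-d, by rw [hh] at hc' ⊢; push_cast at hc' ⊢; linarith⟩
        · apply hy3
          rw [hper]
          exact ⟨-d - 1, by rw [hh] at hc' ⊢; push_cast at hc' ⊢; linarith⟩
    have e2 : (r * σ).support = σ.support := by
      ext y
      refine ⟨fun hy => ?_, fun hy => ?_⟩
      · rw [mem_support] at hy ⊢
        exact fun e => hy (hout y e)
      · obtain ⟨i, rfl⟩ := hmem y hy
        rw [mem_support, Perm.mul_apply, hσ1, hr]
        intro e
        rw [hper, hh] at e
        obtain ⟨c, hc'⟩ := e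
        push_cast at hc'
        have : (2 : ℤ) ∣ 1 := ⟨-i - h * c, by linarith⟩
        omega
    have hne : (σ ^ (0 : ℤ)) x ≠ (σ ^ (h : ℤ)) x := fun e => by
      rw [hper, hh] at e
      have := Int.eq_zero_of_abs_lt_dvd e (by push_cast; rw [zero_sub, abs_neg, Nat.abs_cast]; omega)
      omega
    have hss : ({(σ ^ (0 : ℤ)) x, (σ ^ (h : ℤ)) x} : Finset α) ⊆ σ.support :=
      Finset.insert_subset (hin _) (Finset.singleton_subset_iff.2 (hin _))
    rw [e1, e2, card_sdiff_of_subset hss, card_pair hne]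
    omega
  · left
    refine ⟨by rw [← hL, hh, pow_succ, pow_mul, neg_one_sq, one_pow, one_mul, neg_neg], ?_⟩
    have e1 : r.support = σ.support.erase ((σ ^ (0 : ℤ)) x) := by
      ext y
      rw [mem_erase]
      refine ⟨fun hy => ⟨?_, hsub hy⟩, fun hy => ?_⟩
      · rintro rfl; exact mem_support.1 hy (by simpa using hr 0)
      · obtain ⟨hy2, hy1⟩ := hy
        obtain ⟨i, rfl⟩ := hmem y hy1
        rw [mem_support, hr]
        intro e
        rw [hper, hh] at e
        apply hy2
        rw [hper, hh]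
        obtain ⟨c, hc'⟩ := e
        push_cast at hc' ⊢
        exact ⟨i + h * c, by linear_combination (h : ℤ) * hc'⟩
    have e2 : (r * σ).support = σ.support.erase ((σ ^ (h : ℤ)) x) := by
      ext y
      rw [mem_erase]
      refine ⟨fun hy => ⟨?_, ?_⟩, fun hy => ?_⟩
      · rintro rfl
        refine mem_support.1 hy ?_
        rw [Perm.mul_apply, hσ1, hr, hper, hh]
        push_cast
        exact ⟨-1, by ring⟩
      · rw [mem_support] at hy ⊢
        exact fun e => hy (hout y e)
      · obtain ⟨hy2, hy1⟩ := hy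
        obtain ⟨i, rfl⟩ := hmem y hy1
        rw [mem_support, Perm.mul_apply, hσ1, hr]
        intro e
        rw [hper, hh] at e
        apply hy2
        rw [hper, hh]
        obtain ⟨c, hc'⟩ := e
        push_cast at hc' ⊢
        exact ⟨i + h * c, by linear_combination (h : ℤ) * hc'⟩
    rw [e1, e2, card_erase_of_mem (hin _), card_erase_of_mem (hin _)]

theorem exists_balanced (σ : Perm α) : ∃ r, Balanced σ r := by
  induction σ using cycle_induction_on with
  | base_one => exact ⟨1, by simp [Balanced]⟩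
  | base_cycles σ hc => exact balanced_cycle hc
  | induction_disjoint σ τ hd hc ih₁ ih₂ =>
    obtain ⟨r₁, h1, h2, h3, h4, h5⟩ := ih₁
    obtain ⟨r₂, k1, k2, k3, k4, k5⟩ := ih₂
    have hdS : _root_.Disjoint σ.support τ.support := hd.disjoint_support
    have join : ∀ r : Perm α, r * r = 1 → (r * τ) * (r * τ) = 1 → r.support ⊆ τ.support →
        ((r₁ * r) * (r₁ * r) = 1 ∧ (r₁ * r * (σ * τ)) * (r₁ * r * (σ * τ)) = 1 ∧
          (r₁ * r).support ⊆ (σ * τ).support ∧ #(r₁ * r).support = #r₁.support + #r.support ∧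
          #(r₁ * r * (σ * τ)).support = #(r₁ * σ).support + #(r * τ).support ∧ Witness (σ * τ) (r₁ * r)) := by
      intro r m1 m2 m3
      have d1 : Perm.Disjoint r₁ r := disjoint_iff_disjoint_support.2 (hdS.mono h3 m3)
      have d2 : Perm.Disjoint σ r := disjoint_iff_disjoint_support.2 (hdS.mono_right m3)
      have hA : (r₁ * σ).support ⊆ σ.support := (support_mul_le _ _).trans (Finset.union_subset h3 subset_rfl)
      have hB : (r * τ).support ⊆ τ.support := (support_mul_le _ _).trans (Finset.union_subset m3 subset_rfl)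
      have d3 : Perm.Disjoint (r₁ * σ) (r * τ) := disjoint_iff_disjoint_support.2 (hdS.mono hA hB)
      have e : r₁ * r * (σ * τ) = (r₁ * σ) * (r * τ) := by
        rw [mul_assoc, ← mul_assoc r, ← d2.commute.eq, mul_assoc σ, ← mul_assoc]
      refine ⟨?_, ?_, ?_, d1.card_support_mul, by rw [e, d3.card_support_mul], ?_⟩
      · rw [d1.commute.symm.mul_mul_mul_comm, h1, m1, one_mul]
      · rw [e, d3.commute.symm.mul_mul_mul_comm, h2, m2, one_mul]
      · rw [d1.support_mul, hd.support_mul]
        exact Finset.union_subset_union h3 m3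
      · obtain ⟨x, hx, hw⟩ := h5 hc.ne_one
        have hσx : σ x ∈ σ.support := apply_mem_support.2 (mem_support.2 hx)
        have hτ : ∀ y ∈ σ.support, τ y = y ∧ r y = y := fun y hy =>
          have h0 : y ∉ τ.support := Finset.disjoint_left.1 hdS hy
          ⟨notMem_support.1 h0, notMem_support.1 fun h => h0 (m3 h)⟩
        refine ⟨x, ?_, ?_⟩
        · rw [Perm.mul_apply, (hτ x (mem_support.2 hx)).1]; exact hx
        · simp only [Perm.mul_apply, (hτ x (mem_support.2 hx)).1, (hτ x (mem_support.2 hx)).2, (hτ _ hσx).2]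
          exact hw
    obtain ⟨f1, f2, f3, f4, -⟩ := flip k1 k2 k3 k5
    obtain ⟨-, g2, g3, g4, g5, g6⟩ := join (τ * r₂) f1 (by rw [f2, k1]) f3
    obtain ⟨j1, j2, j3, j4, j5, j6⟩ := join r₂ k1 k2 k3
    rcases h4 with ⟨hs, ec⟩ | ⟨hs, ec⟩ <;> rcases k4 with ⟨kt, kc⟩ | ⟨kt, kc⟩
    · exact ⟨_, j1, j2, j3, Or.inl ⟨by rw [map_mul, hs, kt, one_mul], by omega⟩, fun _ => j6⟩
    · exact ⟨_, j1, j2, j3, Or.inr ⟨by rw [map_mul, hs, kt, one_mul], by omega⟩, fun _ => j6⟩
    · exact ⟨_, j1, j2, j3, Or.inr ⟨by rw [map_mul, hs, kt, mul_one], by omega⟩, fun _ => j6⟩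
    · refine ⟨r₁ * (τ * r₂), (join (τ * r₂) f1 (by rw [f2, k1]) f3).1, g2, g3,
        Or.inl ⟨by rw [map_mul, hs, kt, neg_mul_neg, one_mul], ?_⟩, fun _ => g6⟩
      rw [g4, g5, f2]
      omega

theorem card_support_inv {r : Perm α} (h : r * r = 1) : ∃ k, #r.support = 2 * k ∧ sign r = (-1) ^ k ∧
    r.cycleType = Multiset.replicate k 2 := by
  have h0 := cycleType_of_pow_prime_eq_one (p := 2) (by rw [pow_two]; exact h)
  refine ⟨Multiset.card r.cycleType, ?_, ?_, h0⟩
  · rw [← sum_cycleType]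
    conv_lhs => rw [h0]
    rw [Multiset.sum_replicate, smul_eq_mul, mul_comm]
  · rw [sign_of_cycleType]
    conv_lhs => rw [h0, Multiset.sum_replicate, Multiset.card_replicate, smul_eq_mul]
    rw [pow_add, mul_comm, mul_comm _ 2, pow_mul, neg_one_sq, one_pow, mul_one]

theorem involutive_apply {r : Perm α} (h : r * r = 1) (x : α) : r (r x) = x := by
  rw [← Perm.mul_apply, h, Perm.one_apply]

theorem swap_commute {a : Perm α} {u u' : α} (h : a u = u') (h' : a u' = u) :
    a * swap u u' = swap u u' * a := by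
  rw [← swap_comm u' u]
  conv_rhs => rw [show swap u' u = swap (a u) (a u') by rw [h, h'], Equiv.swap_apply_apply]
  rw [inv_mul_cancel_right, swap_comm]

/-- Flexible conjugate factorisations give commutators of even permutations. -/
theorem commutator_of_conj {σ a w : Perm α} (ha : sign a = 1) (hf : Flex a) (hw : a * (w * a⁻¹ * w⁻¹) = σ) :
    ∃ b : Perm α, sign b = 1 ∧ a * b * a⁻¹ * b⁻¹ = σ := by
  rcases Int.units_eq_one_or (sign w) with hs | hs
  · exact ⟨w, hs, by rw [← hw]; group⟩
  · obtain ⟨u, u', v, v', huu, -, -, -, -, -, hu, hu', -, -⟩ := hf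
    refine ⟨w * swap u u', by rw [map_mul, hs, sign_swap huu]; rfl, ?_⟩
    have e : swap u u' * a⁻¹ * (swap u u')⁻¹ = a⁻¹ := by
      rw [← (Commute.inv_left (swap_commute hu hu' : Commute a (swap u u'))).eq, mul_inv_cancel_right]
    rw [← hw]
    calc a * (w * swap u u') * a⁻¹ * (w * swap u u')⁻¹
        = a * (w * (swap u u' * a⁻¹ * (swap u u')⁻¹) * w⁻¹) := by group
      _ = _ := by rw [e]

theorem flex_swap_pair {a b c d : α} (hab : a ≠ b) (hac : a ≠ c) (had : a ≠ d) (hbc : b ≠ c) (hbd : b ≠ d)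
    (hcd : c ≠ d) : Flex (swap a b * swap c d) ∧ sign (swap a b * swap c d) = 1 :=
  ⟨⟨a, b, c, d, hab, hac, had, hbc, hbd, hcd,
    by simp [swap_apply_of_ne_of_ne hac had],
    by simp [swap_apply_of_ne_of_ne hbc hbd],
    by simp [swap_apply_of_ne_of_ne (Ne.symm had) (Ne.symm hbd)],
    by simp [swap_apply_of_ne_of_ne (Ne.symm hac) (Ne.symm hbc)]⟩,
    by rw [map_mul, sign_swap hab, sign_swap hcd]; rfl⟩

theorem cycleType_swap_pair {a b c d : α} (hab : a ≠ b) (hac : a ≠ c) (had : a ≠ d) (hbc : b ≠ c) (hbd : b ≠ d)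
    (hcd : c ≠ d) : (swap a b * swap c d).cycleType = Multiset.replicate 2 2 := by
  rw [Perm.Disjoint.cycleType_mul, (isSwap_iff_cycleType.1 ⟨a, b, hab, rfl⟩), (isSwap_iff_cycleType.1 ⟨c, d, hcd, rfl⟩)]
  · rfl
  · rw [disjoint_iff_disjoint_support, support_swap hab, support_swap hcd]
    simp [hac, had, hbc, hbd, Ne.symm hac, Ne.symm had, Ne.symm hbc, Ne.symm hbd]

/-- A centraliser element of an involution `y` moving `m` to `p`, both moved by `y`, and fixing `q`, fixed by `y`. -/
theorem exists_centralizer_map {y : Perm α} (hy : y * y = 1) {m p q : α} (hm : y m ≠ m) (hp : y p ≠ p)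
    (hq : y q = q) : ∃ z, z * y = y * z ∧ z m = p ∧ z q = q := by
  have hqm : ∀ {x}, y x ≠ x → q ≠ x := fun h e => h (e ▸ hq)
  have hyy := involutive_apply hy
  have hym : y (y m) ≠ y m := fun e => hm (y.injective e)
  have hyp : y (y p) ≠ y p := fun e => hp (y.injective e)
  by_cases h1 : p = m
  · exact ⟨1, by simp, h1.symm, rfl⟩
  by_cases h2 : p = y m
  · refine ⟨swap m (y m), (swap_commute rfl (hyy m)).symm, by rw [swap_apply_left, h2], ?_⟩
    exact swap_apply_of_ne_of_ne (hqm hm) (hqm hym)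
  have h3 : y p ≠ y m := fun e => h1 (y.injective e)
  have h4 : y p ≠ m := fun e => h2 (by rw [← e, hyy])
  refine ⟨swap m p * swap (y m) (y p), ?_, ?_, ?_⟩
  · have hcomm : swap m p * swap (y m) (y p) = swap (y m) (y p) * swap m p := by
      have hd : Perm.Disjoint (swap m p) (swap (y m) (y p)) := by
        rw [disjoint_iff_disjoint_support, support_swap (Ne.symm h1), support_swap (Ne.symm h3)]
        simp [Ne.symm h2, Ne.symm h4, Ne.symm hm, Ne.symm hp, h4, h2, hm, hp]
      exact hd.commute.eq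
    have e : y * (swap m p * swap (y m) (y p)) * y⁻¹ = swap (y m) (y p) * swap m p := by
      have e1 := Equiv.swap_apply_apply y m p
      have e2 := Equiv.swap_apply_apply y (y m) (y p)
      rw [hyy, hyy] at e2
      rw [← conj_mul, ← e1, ← e2]
    rw [← hcomm] at e
    conv_lhs => rw [← e]
    rw [inv_mul_cancel_right]
  · rw [Perm.mul_apply, swap_apply_of_ne_of_ne (Ne.symm hm) (Ne.symm h4), swap_apply_left]
  · rw [Perm.mul_apply, swap_apply_of_ne_of_ne (hqm hym) (hqm hyp), swap_apply_of_ne_of_ne (hqm hm) (hqm hp)]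

/-- Every even permutation of at least five points is a commutator with a flexible first entry. -/
theorem exists_commutator (hn : 5 ≤ Fintype.card α) {σ : Perm α} (hσ : sign σ = 1) :
    ∃ a b : Perm α, sign a = 1 ∧ sign b = 1 ∧ Flex a ∧ a * b * a⁻¹ * b⁻¹ = σ := by
  suffices h : ∃ a w : Perm α, sign a = 1 ∧ Flex a ∧ a * (w * a⁻¹ * w⁻¹) = σ by
    obtain ⟨a, w, ha, hf, hw⟩ := h
    obtain ⟨b, hb, hab⟩ := commutator_of_conj ha hf hw
    exact ⟨a, b, ha, hb, hf, hab⟩
  by_cases hσ1 : σ = 1
  · obtain ⟨s, hs, hsc⟩ := Finset.exists_subset_card_eq (s := (univ : Finset α)) (n := 4) (by simp; omega)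
    obtain ⟨a, b, c, d, hab, hac, had, hbc, hbd, hcd, -⟩ := Finset.card_eq_four.1 hsc
    obtain ⟨hf, hsg⟩ := flex_swap_pair hab hac had hbc hbd hcd
    exact ⟨_, 1, hsg, hf, by rw [hσ1]; group⟩
  obtain ⟨r, hrr, hys, -, hcard, hW⟩ := exists_balanced σ
  set y := r * σ with hy
  have hbal : #y.support = #r.support := hcard.elim (·.2) fun h => absurd (h.1.symm.trans hσ) (by decide)
  have hσy : σ = r * y := by rw [hy, ← mul_assoc, hrr, one_mul]
  have hrinv : r⁻¹ = r := inv_eq_of_mul_eq_one_right hrr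
  have hyinv : y⁻¹ = y := inv_eq_of_mul_eq_one_right hys
  obtain ⟨k, hk, hks, hkt⟩ := card_support_inv hrr
  obtain ⟨k', hk', -, hkt'⟩ := card_support_inv hys
  obtain rfl : k' = k := by omega
  obtain ⟨w₀, hw₀⟩ := isConj_iff.1 (isConj_iff_cycleType_eq.2 (hkt.trans hkt'.symm))
  have hw₀' : ∀ x, y (w₀ x) = w₀ (r x) := fun x => by rw [← hw₀]; simp [Perm.mul_apply]
  rcases Nat.even_or_odd k' with he | ho
  · -- `a = r`
    have hk0 : k' ≠ 0 := fun h0 => hσ1 (by
      have e1 : r = 1 := support_eq_empty_iff.1 (Finset.card_eq_zero.1 (by omega))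
      have e2 : y = 1 := support_eq_empty_iff.1 (Finset.card_eq_zero.1 (by omega))
      rw [hσy, e1, e2, one_mul])
    refine ⟨r, w₀, by rw [hks, he.neg_one_pow], ?_, by rw [hrinv, hw₀, hσy]⟩
    have h4 : 4 ≤ #r.support := by obtain ⟨i, rfl⟩ := he; omega
    obtain ⟨u, hu⟩ := Finset.card_pos.1 (show 0 < #r.support by omega)
    obtain ⟨v, hv, hv'⟩ := Finset.exists_mem_notMem_of_card_lt_card
      (s := ({u, r u} : Finset α)) (t := r.support) (by have := card_le_two (a := u) (b := r u); omega)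
    simp only [mem_insert, mem_singleton, not_or] at hv'
    have hu' := mem_support.1 hu
    have hv0 := mem_support.1 hv
    exact ⟨u, r u, v, r v, Ne.symm hu', Ne.symm hv'.1,
      fun e => hv'.2 (by rw [e, involutive_apply hrr]), Ne.symm hv'.2,
      fun e => hv'.1 (r.injective e).symm, Ne.symm hv0, rfl, involutive_apply hrr u, rfl, involutive_apply hrr v⟩
  have hsr : sign r = -1 := by rw [hks, ho.neg_one_pow]
  obtain ⟨x, hx, hx'⟩ := hW hσ1
  have hex : (∃ p, r p = p ∧ y p ≠ p) ∧ ∃ q, y q = q ∧ r q ≠ q := by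
    have hne : r.support ≠ y.support := by
      intro e
      rcases hx' with h | h
      · have : x ∉ y.support := fun hh => mem_support.1 (e.symm ▸ hh) h
        rw [notMem_support, hy, Perm.mul_apply] at this
        exact hx (r.injective (this.trans h.symm))
      · have : x ∉ r.support := fun hh => mem_support.1 (e ▸ hh) (by rw [hy, Perm.mul_apply, h])
        rw [notMem_support] at this
        exact hx (r.injective (h.trans this.symm))
    have h1 : ¬ y.support ⊆ r.support := fun h => hne (Finset.eq_of_subset_of_card_le h hbal.ge).symm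
    have h2 : ¬ r.support ⊆ y.support := fun h => hne (Finset.eq_of_subset_of_card_le h hbal.le)
    obtain ⟨p, hp, hp'⟩ := Finset.not_subset.1 h1
    obtain ⟨q, hq, hq'⟩ := Finset.not_subset.1 h2
    exact ⟨⟨p, notMem_support.1 hp', mem_support.1 hp⟩, q, notMem_support.1 hq', mem_support.1 hq⟩
  obtain ⟨⟨p, hp, hp'⟩, q, hq, hq'⟩ := hex
  have hpq : p ≠ q := fun e => hp' (by rw [e, hq])
  rcases lt_or_ge k' 3 with hk3 | hk3
  · -- two transpositions
    obtain rfl : k' = 1 := by obtain ⟨i, rfl⟩ := ho; omega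
    obtain ⟨a, b, hab, rfl⟩ := card_support_eq_two.1 hk
    obtain ⟨c, d, hcd, hyd⟩ := card_support_eq_two.1 hk'
    rw [hyd] at hσy
    have hlt : #(({a, b} : Finset α) ∪ {c, d}) ≤ 4 :=
      (Finset.card_union_le _ _).trans (Nat.add_le_add card_le_two card_le_two)
    by_cases hdis : a ≠ c ∧ a ≠ d ∧ b ≠ c ∧ b ≠ d
    · obtain ⟨hac, had, hbc, hbd⟩ := hdis
      obtain ⟨hf, hsg⟩ := flex_swap_pair hac hab had (Ne.symm hbc) hcd hbd
      refine ⟨_, swap c d, hsg, hf, ?_⟩
      have hd1 : Perm.Disjoint (swap a c) (swap b d) := by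
        rw [disjoint_iff_disjoint_support, support_swap hac, support_swap hbd]
        simp [hab, had, hbc, hcd, Ne.symm hab, Ne.symm had, Ne.symm hbc, Ne.symm hcd]
      rw [mul_inv_rev, swap_inv, swap_inv, swap_inv, ← hd1.commute.eq]
      have h1 : swap c d * (swap a c * swap b d) * swap c d = swap a d * swap b c := by
        have e : swap c d * swap a c * (swap c d)⁻¹ * (swap c d * swap b d * (swap c d)⁻¹) =
            swap c d * (swap a c * swap b d) * (swap c d)⁻¹ := conj_mul
        rw [← Equiv.swap_apply_apply, ← Equiv.swap_apply_apply, swap_apply_of_ne_of_ne hac had,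
          swap_apply_of_ne_of_ne hbc hbd, swap_apply_left, swap_apply_right, swap_inv] at e
        exact e.symm
      rw [h1, hσy]
      ext z
      simp only [Perm.mul_apply]
      rcases eq_or_ne z a with rfl | za
      · simp [swap_apply_def, hab, hac, had, hbc, hbd, hcd, Ne.symm hab, Ne.symm hac, Ne.symm had, Ne.symm hbc, Ne.symm hbd, Ne.symm hcd]
      rcases eq_or_ne z b with rfl | zb
      · simp [swap_apply_def, hab, hac, had, hbc, hbd, hcd, Ne.symm hab, Ne.symm hac, Ne.symm had, Ne.symm hbc, Ne.symm hbd, Ne.symm hcd]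
      rcases eq_or_ne z c with rfl | zc
      · simp [swap_apply_def, hab, hac, had, hbc, hbd, hcd, Ne.symm hab, Ne.symm hac, Ne.symm had, Ne.symm hbc, Ne.symm hbd, Ne.symm hcd]
      rcases eq_or_ne z d with rfl | zd
      · simp [swap_apply_def, hab, hac, had, hbc, hbd, hcd, Ne.symm hab, Ne.symm hac, Ne.symm had, Ne.symm hbc, Ne.symm hbd, Ne.symm hcd]
      simp [swap_apply_def, za, zb, zc, zd]
    · -- overlapping: adjoin a common transposition
      have hU : #(({a, b} : Finset α) ∪ {c, d}) ≤ 3 := by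
        by_contra h4
        apply hdis
        have e4 : #(({a, b} : Finset α) ∪ {c, d}) = #({a, b} : Finset α) + #({c, d} : Finset α) := by
          rw [card_pair hab, card_pair hcd]; omega
        have := Finset.disjoint_left.1 (Finset.card_union_eq_card_add_card.1 e4)
        have ha' := this (Finset.mem_insert_self a {b})
        have hb' := this (Finset.mem_insert_of_mem (Finset.mem_singleton_self b))
        simp only [mem_insert, mem_singleton, not_or] at ha' hb'
        exact ⟨ha'.1, ha'.2, hb'.1, hb'.2⟩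
      obtain ⟨s, hs, hs2⟩ := Finset.exists_subset_card_eq (s := univ \ (({a, b} : Finset α) ∪ {c, d})) (n := 2)
        (by rw [card_univ_diff]; omega)
      obtain ⟨u, v, huv, rfl⟩ := Finset.card_eq_two.1 hs2
      simp only [Finset.insert_subset_iff, Finset.singleton_subset_iff, mem_sdiff, mem_univ, true_and, mem_union,
        mem_insert, mem_singleton, not_or] at hs
      obtain ⟨⟨⟨hua, hub⟩, huc, hud⟩, ⟨hva, hvb⟩, hvc, hvd⟩ := hs
      obtain ⟨hf, hsg⟩ := flex_swap_pair hab (Ne.symm hua) (Ne.symm hva) (Ne.symm hub) (Ne.symm hvb) huv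
      obtain ⟨w, hw⟩ := isConj_iff.1 (isConj_iff_cycleType_eq.2
        ((cycleType_swap_pair hab (Ne.symm hua) (Ne.symm hva) (Ne.symm hub) (Ne.symm hvb) huv).trans
          (cycleType_swap_pair huv huc hud hvc hvd hcd).symm))
      refine ⟨_, w, hsg, hf, ?_⟩
      have hinv : (swap a b * swap u v)⁻¹ = swap a b * swap u v := by
        have hd1 : Perm.Disjoint (swap a b) (swap u v) := by
          rw [disjoint_iff_disjoint_support, support_swap hab, support_swap huv]
          simp [hua, hub, hva, hvb, Ne.symm hua, Ne.symm hub, Ne.symm hva, Ne.symm hvb]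
        rw [mul_inv_rev, swap_inv, swap_inv, hd1.commute.eq]
      rw [hinv, hw, mul_assoc, ← mul_assoc (swap u v), swap_mul_self, one_mul, hσy]
  -- `a = r t`
  set t := swap p q with ht
  have h1 : #({q, r q} : Finset α) ≤ 2 := card_le_two
  obtain ⟨u, hu, hu'⟩ := Finset.exists_mem_notMem_of_card_lt_card
    (s := ({q, r q} : Finset α)) (t := r.support) (by omega)
  obtain ⟨v, hv, hv'⟩ := Finset.exists_mem_notMem_of_card_lt_card
    (s := ({q, r q} ∪ {u, r u} : Finset α)) (t := r.support) (by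
      have := Finset.card_union_le ({q, r q} : Finset α) {u, r u}
      have : #({u, r u} : Finset α) ≤ 2 := card_le_two
      omega)
  simp only [mem_union, mem_insert, mem_singleton, not_or] at hu' hv'
  rw [mem_support] at hu hv
  have htfix : ∀ z, r z ≠ z → z ≠ q → t z = z := fun z h1 h2 =>
    swap_apply_of_ne_of_ne (fun e => h1 (by rw [e, hp])) h2
  have hrz : ∀ z, r z ≠ z → r (r z) ≠ r z := fun z h e => h (r.injective e)
  have hrq : ∀ z, z ≠ r q → r z ≠ q := fun z h e => h (by rw [← e, involutive_apply hrr])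
  refine ⟨r * t, ?_⟩
  obtain ⟨z₂, hz2, hz2m, hz2q⟩ := exists_centralizer_map hys (m := swap (w₀ p) q (w₀ q)) (p := p) (q := q)
    (by
      have hm1 : y (w₀ q) ≠ w₀ q := by rw [hw₀']; exact fun e => hq' (w₀.injective e)
      rw [swap_apply_of_ne_of_ne (fun e => hpq (w₀.injective e).symm) (fun e => hm1 (by rw [e, hq]))]
      exact hm1) hp' hq
  have hz1 : swap (w₀ p) q * y = y * swap (w₀ p) q := by
    have h1 : y (w₀ p) = w₀ p := by rw [hw₀', hp]
    have e := Equiv.swap_apply_apply y (w₀ p) q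
    rw [h1, hq] at e
    conv_lhs => rw [e]
    rw [inv_mul_cancel_right]
  set w := z₂ * (swap (w₀ p) q * w₀) with hw
  have hwp : w p = q := by rw [hw, Perm.mul_apply, Perm.mul_apply, swap_apply_left, hz2q]
  have hwq : w q = p := by rw [hw, Perm.mul_apply, Perm.mul_apply, hz2m]
  have hwr : w * r * w⁻¹ = y := by
    have hc : (z₂ * swap (w₀ p) q) * y = y * (z₂ * swap (w₀ p) q) :=
      (Commute.mul_left (hz2 : Commute z₂ y) (hz1 : Commute (swap (w₀ p) q) y)).eq
    calc w * r * w⁻¹ = (z₂ * swap (w₀ p) q) * (w₀ * r * w₀⁻¹) * (z₂ * swap (w₀ p) q)⁻¹ := by rw [hw]; group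
      _ = _ := by rw [hw₀, hc, mul_inv_cancel_right]
  have hwt : w * t * w⁻¹ = t := by
    rw [ht, ← Equiv.swap_apply_apply, hwp, hwq, swap_comm]
  refine ⟨w, by rw [map_mul, hsr, sign_swap hpq]; rfl, ?_, ?_⟩
  · refine ⟨u, r u, v, r v, Ne.symm hu, Ne.symm hv'.2.1,
      fun e => hv'.2.2 (by rw [e, involutive_apply hrr]), Ne.symm hv'.2.2,
      fun e => hv'.2.1 (r.injective e).symm, Ne.symm hv, ?_, ?_, ?_, ?_⟩
    · rw [Perm.mul_apply, htfix u hu hu'.1]
    · rw [Perm.mul_apply, htfix _ (hrz u hu) (hrq u hu'.2), involutive_apply hrr]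
    · rw [Perm.mul_apply, htfix v hv hv'.1.1]
    · rw [Perm.mul_apply, htfix _ (hrz v hv) (hrq v hv'.1.2), involutive_apply hrr]
  · rw [mul_inv_rev, hrinv, swap_inv, ← conj_mul, hwr, hwt, hσy, mul_assoc r t, ← mul_assoc t t, swap_mul_self,
      one_mul]

end Cfsg.Lib.Perm.InvolutionPair
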