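import Mathlib
import Cfsg.Agent.S0710

/-!
Jordan's theorem: a sharply four-transitive group has degree 4, 5, 6 or 11, also for actions on
possibly infinite sets.
-/

set_option autoImplicit false

namespace Cfsg.Agent.SharpFour

variable {G Ω : Type*} [Group G] [MulAction G Ω]

/-- four distinct points -/
def Dist4 (a b c d : Ω) : Prop := a ≠ b ∧ a ≠ c ∧ a ≠ d ∧ b ≠ c ∧ b ≠ d ∧ c ≠ d

def emb4 {a b c d : Ω} (h : Dist4 a b c d) : Fin 4 ↪ Ω := ⟨![a, b, c, d], by
  obtain ⟨h1, h2, h3, h4, h5, h6⟩ := h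
  intro i j hij
  fin_cases i <;> fin_cases j <;> simp_all [eq_comm]⟩

theorem no_index_six (K : Subgroup (Equiv.Perm (Fin 7))) : Nat.card K ≠ 840 := by
  intro hK
  have h5040 : Nat.card (Equiv.Perm (Fin 7)) = 5040 := by simp [Fintype.card_perm, Nat.factorial]
  have hidx : K.index = 6 := by
    have := K.card_mul_index
    rw [hK, h5040] at this
    omega
  haveI : Finite (Equiv.Perm (Fin 7) ⧸ K) := inferInstance
  let φ : ↥(alternatingGroup (Fin 7)) →* Equiv.Perm (Equiv.Perm (Fin 7) ⧸ K) :=
    (MulAction.toPermHom _ _).comp (alternatingGroup (Fin 7)).subtype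
  haveI : IsSimpleGroup ↥(alternatingGroup (Fin 7)) := alternatingGroup.isSimpleGroup (by simp)
  have hA : 2 * Nat.card ↥(alternatingGroup (Fin 7)) = 5040 := by
    rw [← h5040]; exact two_mul_nat_card_alternatingGroup
  rcases φ.normal_ker.eq_bot_or_eq_top with hb | ht
  · have h1 := Nat.card_le_card_of_injective φ ((MonoidHom.ker_eq_bot_iff φ).mp hb)
    have h2 : Nat.card (Equiv.Perm (Equiv.Perm (Fin 7) ⧸ K)) = 720 := by
      rw [Nat.card_perm]
      show (K.index).factorial = 720
      rw [hidx]; rfl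
    omega
  · have hle : alternatingGroup (Fin 7) ≤ K := by
      intro x hx
      have h1 : φ ⟨x, hx⟩ = 1 := (MonoidHom.mem_ker).mp (ht ▸ Subgroup.mem_top _)
      have h2 := congrArg (fun f : Equiv.Perm (Equiv.Perm (Fin 7) ⧸ K) => f ((1 : Equiv.Perm (Fin 7)) : Equiv.Perm (Fin 7) ⧸ K)) h1
      simp only [φ, MonoidHom.comp_apply, Subgroup.coe_subtype, MulAction.toPermHom_apply,
        MulAction.toPerm_apply, MulAction.Quotient.smul_mk, smul_eq_mul, mul_one,
        Equiv.Perm.one_apply] at h2
      have h3 := QuotientGroup.eq.mp h2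
      rw [mul_one] at h3
      exact K.inv_mem_iff.mp h3
    have := Subgroup.card_dvd_of_le hle
    rw [hK] at this
    have := Nat.le_of_dvd (by norm_num) this
    omega

variable (hsharp : ∀ x : Fin 4 ↪ Ω, MulAction.stabilizer G x = ⊥)
include hsharp

theorem eq_one_of_fix {a b c d : Ω} (h : Dist4 a b c d) {g : G} (ha : g • a = a) (hb : g • b = b)
    (hc : g • c = c) (hd : g • d = d) : g = 1 := by
  have : g ∈ MulAction.stabilizer G (emb4 h) := by
    rw [MulAction.mem_stabilizer_iff]
    apply Function.Embedding.ext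
    intro i
    rw [Function.Embedding.smul_apply]
    fin_cases i <;> simp [emb4, ha, hb, hc, hd]
  rw [hsharp] at this
  exact this

variable (htr : MulAction.IsMultiplyPretransitive G Ω 4)
include htr

omit hsharp in
theorem exists_map {a b c d a' b' c' d' : Ω} (h : Dist4 a b c d) (h' : Dist4 a' b' c' d') :
    ∃ g : G, g • a = a' ∧ g • b = b' ∧ g • c = c' ∧ g • d = d' := by
  obtain ⟨g, hg⟩ := htr.exists_smul_eq (emb4 h) (emb4 h')
  have key : ∀ i, g • emb4 h i = emb4 h' i := fun i => by
    rw [← Function.Embedding.smul_apply, hg]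
  exact ⟨g, key 0, key 1, key 2, key 3⟩

theorem main (x : Fin 4 ↪ Ω) :
    Finite Ω ∧ (Nat.card Ω = 4 ∨ Nat.card Ω = 5 ∨ Nat.card Ω = 6 ∨ Nat.card Ω = 11) := by
  classical
  have hd : Dist4 (x 0) (x 1) (x 2) (x 3) := by
    refine ⟨?_, ?_, ?_, ?_, ?_, ?_⟩ <;> exact x.injective.ne (by decide)
  set a := x 0
  set b := x 1
  set c := x 2
  set d := x 3
  obtain ⟨hab, hac, had, hbc, hbd, hcd⟩ := hd
  obtain ⟨g, ga, gb, gc, gd⟩ := exists_map htr
    (a := a) (b := b) (c := c) (d := d) (a' := b) (b' := a) (c' := c) (d' := d)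
    ⟨hab, hac, had, hbc, hbd, hcd⟩ ⟨hab.symm, hbc, hbd, hac, had, hcd⟩
  have hgg : g * g = 1 := eq_one_of_fix hsharp ⟨hab, hac, had, hbc, hbd, hcd⟩
    (by rw [mul_smul, ga, gb]) (by rw [mul_smul, gb, ga]) (by rw [mul_smul, gc, gc])
    (by rw [mul_smul, gd, gd])
  have hg2 : ∀ z : Ω, g • g • z = z := fun z => by rw [← mul_smul, hgg, one_smul]
  have hg1 : g ≠ 1 := fun h => hab (by rw [h, one_smul] at ga; exact ga)
  set F : Set Ω := {z | g • z = z} with hF
  -- at most three fixed points
  have hFsmall : ∀ T : Finset Ω, ↑T ⊆ F → T.card ≤ 3 := by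
    intro T hT
    by_contra hT3
    obtain ⟨e, -⟩ : ∃ e : Fin 4 ↪ T, True :=
      ⟨(Function.Embedding.nonempty_of_card_le (by simp; omega)).some, trivial⟩
    refine hg1 (eq_one_of_fix hsharp (a := (e 0).1) (b := (e 1).1) (c := (e 2).1) (d := (e 3).1) ?_
      (hT (e 0).2) (hT (e 1).2) (hT (e 2).2) (hT (e 3).2))
    refine ⟨?_, ?_, ?_, ?_, ?_, ?_⟩ <;> exact fun h => absurd (e.injective (Subtype.ext h)) (by decide)
  haveI hFfin : Finite F := by
    by_contra hinf
    rw [not_finite_iff_infinite, Set.infinite_coe_iff] at hinf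
    obtain ⟨T, hT, hTc⟩ := hinf.exists_subset_card_eq 4
    have := hFsmall T hT
    omega
  have hm3 : F.ncard ≤ 3 := by
    have hf : F.Finite := Set.toFinite F
    rw [Set.ncard_eq_toFinset_card F hf]
    exact hFsmall _ (by simp)
  have hcdF : ({c, d} : Set Ω) ⊆ F := by
    rintro z (rfl | rfl)
    · exact gc
    · exact gd
  have hm2 : 2 ≤ F.ncard := by
    rw [← Set.ncard_pair hcd]
    exact Set.ncard_le_ncard hcdF
  set S : Set Ω := {z | g • z ≠ z ∧ z ≠ a ∧ z ≠ b} with hS
  have hcover : (Set.univ : Set Ω) = F ∪ {a, b} ∪ S := by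
    ext z
    simp only [hF, hS, Set.mem_univ, Set.mem_union, Set.mem_insert_iff, Set.mem_singleton_iff,
      Set.mem_setOf_eq, true_iff]
    tauto
  have hSd : ∀ z ∈ S, Dist4 a b z (g • z) := by
    rintro z ⟨hz, hza, hzb⟩
    refine ⟨hab, hza.symm, ?_, hzb.symm, ?_, fun h => hz h.symm⟩
    · intro h
      exact hzb (by rw [← hg2 z, ← h, ga])
    · intro h
      exact hza (by rw [← hg2 z, ← h, gb])
  -- the group fixing `a` and `b` and commuting with `g`
  let C : Subgroup G := Subgroup.centralizer {g} ⊓ MulAction.stabilizer G a ⊓ MulAction.stabilizer G b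
  have hC : ∀ k : C, (k : G) * g = g * k ∧ (k : G) • a = a ∧ (k : G) • b = b := fun k => by
    obtain ⟨⟨h1, h2⟩, h3⟩ := k.2
    exact ⟨Subgroup.mem_centralizer_singleton_iff.mp h1, h2, h3⟩
  have hCg : ∀ (k : C) (z : Ω), (k : G) • g • z = g • (k : G) • z := fun k z => by
    rw [← mul_smul, (hC k).1, mul_smul]
  have hCF : ∀ (k : C) (z : Ω), z ∈ F → (k : G) • z ∈ F := fun k z hz => by
    show g • (k : G) • z = (k : G) • z
    rw [← hCg, (show g • z = z from hz)]
  let ρ : C →* Equiv.Perm F :=
    { toFun := fun k =>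
        { toFun := fun z => ⟨(k : G) • z.1, hCF k _ z.2⟩
          invFun := fun z => ⟨((k⁻¹ : C) : G) • z.1, hCF k⁻¹ _ z.2⟩
          left_inv := fun z => Subtype.ext (by simp)
          right_inv := fun z => Subtype.ext (by simp) }
      map_one' := by ext z; simp
      map_mul' := fun k l => by ext z; simp [mul_smul] }
  have hρ : Function.Injective ρ := by
    rw [injective_iff_map_eq_one]
    intro k hk
    have hfix : ∀ z, z ∈ F → (k : G) • z = z := fun z hz =>
      congrArg Subtype.val (congrArg (fun f : Equiv.Perm F => f ⟨z, hz⟩) hk)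
    exact Subtype.ext (eq_one_of_fix hsharp ⟨hab, hac, had, hbc, hbd, hcd⟩ (hC k).2.1 (hC k).2.2
      (hfix c gc) (hfix d gd))
  haveI : Finite C := Finite.of_injective ρ hρ
  by_cases hSe : S = ∅
  · have hfinu : (Set.univ : Set Ω).Finite := by
      rw [hcover, hSe, Set.union_empty]
      exact (Set.toFinite F).union (Set.toFinite _)
    haveI : Finite Ω := Set.finite_univ_iff.mp hfinu
    refine ⟨inferInstance, ?_⟩
    have hab2 : Disjoint F ({a, b} : Set Ω) := by
      rw [Set.disjoint_right]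
      rintro z (rfl | rfl) hz
      · exact hab (by rw [← (show g • a = a from hz), ga])
      · exact hab (by rw [← (show g • b = b from hz), gb])
    rw [← Set.ncard_univ, hcover, hSe, Set.union_empty, Set.ncard_union_eq hab2,
      Set.ncard_pair hab]
    omega
  obtain ⟨q, hq⟩ := Set.nonempty_iff_ne_empty.mpr hSe
  have hCS : ∀ (k : C) (z : Ω), z ∈ S → (k : G) • z ∈ S := by
    rintro k z ⟨hz, hza, hzb⟩
    refine ⟨fun h => hz (MulAction.injective (k : G) (by
      show (k : G) • g • z = (k : G) • z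
      rw [hCg]; exact h)), fun h => hza ?_, fun h => hzb ?_⟩
    · exact MulAction.injective (k : G) (h.trans (hC k).2.1.symm)
    · exact MulAction.injective (k : G) (h.trans (hC k).2.2.symm)
  have hev : Function.Bijective (fun k : C => (⟨(k : G) • q, hCS k q hq⟩ : S)) := by
    constructor
    · intro k l hkl
      have h1 : (k : G) • q = (l : G) • q := congrArg Subtype.val hkl
      have h2 : (((l⁻¹ * k : C)) : G) • q = q := by
        rw [Subgroup.coe_mul, mul_smul, h1, Subgroup.coe_inv, inv_smul_smul]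
      have h3 : (((l⁻¹ * k : C)) : G) = 1 := eq_one_of_fix hsharp (hSd q hq) (hC _).2.1 (hC _).2.2 h2
        (by rw [hCg, h2])
      have h4 : l⁻¹ * k = 1 := Subtype.ext h3
      exact (inv_mul_eq_one.mp h4).symm
    · rintro ⟨z, hz⟩
      obtain ⟨k, ka, kb, kq, kgq⟩ := exists_map htr (hSd q hq) (hSd z hz)
      have hcomm : k * g = g * k := by
        have h5 : (g⁻¹ * k⁻¹) * g * k = 1 := by
          have hki : ∀ {u v : Ω}, k • u = v → k⁻¹ • v = u := fun {u v} h => by rw [← h, inv_smul_smul]
          have hgi : g⁻¹ = g := inv_eq_of_mul_eq_one_right hgg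
          refine eq_one_of_fix hsharp (hSd q hq) ?_ ?_ ?_ ?_ <;>
            simp only [mul_smul, hgi]
          · rw [ka, ga, hki kb, gb]
          · rw [kb, gb, hki ka, ga]
          · rw [kq, hki kgq, hg2]
          · rw [kgq, hg2, hki kq]
        calc k * g = (k * g) * ((g⁻¹ * k⁻¹) * g * k) := by rw [h5, mul_one]
          _ = g * k := by group
      exact ⟨⟨k, ⟨⟨Subgroup.mem_centralizer_singleton_iff.mpr hcomm, ka⟩, kb⟩⟩, Subtype.ext kq⟩
  haveI : Finite S := Finite.of_surjective _ hev.2
  have hSC : S.ncard = Nat.card C := by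
    rw [← Nat.card_coe_set_eq]; exact (Nat.card_congr (Equiv.ofBijective _ hev)).symm
  have hdvd : S.ncard ∣ (F.ncard).factorial := by
    rw [hSC, ← Nat.card_coe_set_eq, ← Nat.card_perm]
    exact Subgroup.card_dvd_of_injective ρ hρ
  have hfinu : (Set.univ : Set Ω).Finite := by
    rw [hcover]
    exact ((Set.toFinite F).union (Set.toFinite _)).union (Set.toFinite S)
  haveI : Finite Ω := Set.finite_univ_iff.mp hfinu
  haveI := Fintype.ofFinite Ω
  refine ⟨inferInstance, ?_⟩
  have hn : Nat.card Ω = F.ncard + 2 + S.ncard := by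
    have hab2 : Disjoint F ({a, b} : Set Ω) := by
      rw [Set.disjoint_right]
      rintro z (rfl | rfl) hz
      · exact hab (by rw [← (show g • a = a from hz), ga])
      · exact hab (by rw [← (show g • b = b from hz), gb])
    have hS2 : Disjoint (F ∪ {a, b}) S := by
      rw [Set.disjoint_left]
      rintro z (hz | rfl | rfl) ⟨h1, h2, h3⟩
      · exact h1 hz
      · exact h2 rfl
      · exact h3 rfl
    rw [← Set.ncard_univ, hcover, Set.ncard_union_eq hS2, Set.ncard_union_eq hab2,
      Set.ncard_pair hab]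
  have hpar : Nat.card Ω % 2 = F.ncard % 2 := by
    haveI : Fact (Nat.Prime 2) := ⟨Nat.prime_two⟩
    have h := Equiv.Perm.card_fixedPoints_modEq (α := Ω) (f := (fun z => g • z : Function.End Ω))
      (p := 2) (n := 1) (by funext z; exact hg2 z)
    rw [Nat.card_eq_fintype_card, ← Nat.card_coe_set_eq]
    refine Eq.trans h (congrArg (· % 2) ?_)
    rw [← Nat.card_eq_fintype_card]
    rfl
  have hne7 : Nat.card Ω ≠ 7 := by
    intro h7
    haveI : FaithfulSMul G Ω := ⟨fun {k l} hkl => inv_mul_eq_one.mp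
      (eq_one_of_fix hsharp ⟨hab, hac, had, hbc, hbd, hcd⟩ (g := k⁻¹ * l)
        (by rw [mul_smul, ← hkl, inv_smul_smul]) (by rw [mul_smul, ← hkl, inv_smul_smul])
        (by rw [mul_smul, ← hkl, inv_smul_smul]) (by rw [mul_smul, ← hkl, inv_smul_smul]))⟩
    have horb : Function.Bijective (fun k : G => k • x) := by
      constructor
      · intro k l hkl
        have : l⁻¹ * k ∈ MulAction.stabilizer G x := by
          rw [MulAction.mem_stabilizer_iff, mul_smul]
          exact inv_smul_eq_iff.mpr hkl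
        rw [hsharp, Subgroup.mem_bot] at this
        exact (inv_mul_eq_one.mp this).symm
      · exact fun y => htr.exists_smul_eq x y
    have hcG : Nat.card G = 840 := by
      rw [Nat.card_congr (Equiv.ofBijective _ horb), Nat.card_eq_fintype_card,
        Fintype.card_embedding_eq, Fintype.card_fin, ← Nat.card_eq_fintype_card, h7]
      rfl
    let e : Ω ≃ Fin 7 := Finite.equivFinOfCardEq h7
    let ψ : G →* Equiv.Perm (Fin 7) :=
      (e.permCongrHom.toMonoidHom).comp (MulAction.toPermHom G Ω)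
    have hψ : Function.Injective ψ :=
      e.permCongrHom.injective.comp MulAction.toPerm_injective
    apply no_index_six ψ.range
    rw [← Nat.card_congr (MonoidHom.ofInjective hψ).toEquiv, hcG]
  rcases (show F.ncard = 2 ∨ F.ncard = 3 by omega) with h | h <;> rw [h] at hdvd hn hpar
  · have := Nat.le_of_dvd (by norm_num) hdvd
    norm_num at this
    omega
  · have h6 : S.ncard ∈ Nat.divisors 6 := Nat.mem_divisors.mpr
      ⟨by simpa [Nat.factorial] using hdvd, by norm_num⟩
    rw [show Nat.divisors 6 = {1, 2, 3, 6} by decide] at h6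
    simp only [Finset.mem_insert, Finset.mem_singleton] at h6
    omega

end Cfsg.Agent.SharpFour

namespace Cfsg.Agent.SharpFour

variable {G Ω : Type*} [Group G] [MulAction G Ω]

/-- sharp transitivity -/
def IsSharp (G Ω : Type*) [Group G] [MulAction G Ω] (k : ℕ) : Prop :=
  MulAction.IsMultiplyPretransitive G Ω k ∧ ∀ x : Fin k ↪ Ω, MulAction.stabilizer G x = ⊥

theorem isSharp_stabilizer [Finite Ω] {k : ℕ} (hk : k + 1 ≤ Nat.card Ω) (h : IsSharp G Ω (k + 1))
    (a : Ω) :
    IsSharp (MulAction.stabilizer G a) (SubMulAction.ofStabilizer G a) k ∧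
      Nat.card (SubMulAction.ofStabilizer G a) + 1 = Nat.card Ω := by
  classical
  obtain ⟨htr, hsharp⟩ := h
  haveI := htr
  haveI : MulAction.IsPretransitive G Ω := by
    rw [← MulAction.is_one_pretransitive_iff]
    exact MulAction.isMultiplyPretransitive_of_le (n := k + 1) (by omega)
      hk
  refine ⟨⟨SubMulAction.ofStabilizer.isMultiplyPretransitive.mp htr, fun x => ?_⟩, ?_⟩
  · rw [eq_bot_iff]
    intro g hg
    rw [MulAction.mem_stabilizer_iff] at hg
    let y : Fin (k + 1) ↪ Ω := ⟨Fin.cons a (fun i => (x i).1), by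
      rw [Fin.cons_injective_iff]
      refine ⟨?_, Subtype.val_injective.comp x.injective⟩
      rintro ⟨i, hi⟩
      exact (x i).2 hi⟩
    have hy : (g : G) ∈ MulAction.stabilizer G y := by
      rw [MulAction.mem_stabilizer_iff]
      apply Function.Embedding.ext
      intro i
      rw [Function.Embedding.smul_apply]
      refine Fin.cases ?_ (fun j => ?_) i
      · exact g.2
      · have h1 := congrArg (fun e : Fin k ↪ SubMulAction.ofStabilizer G a => (e j).1) hg
        show (g : G) • (x j).1 = (x j).1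
        exact h1
    rw [hsharp, Subgroup.mem_bot] at hy
    exact Subgroup.mem_bot.mpr (Subtype.ext hy)
  · have h1 : Nat.card (SubMulAction.ofStabilizer G a) = Nat.card ({a}ᶜ : Set Ω) :=
      Nat.card_congr (Equiv.setCongr (SubMulAction.ofStabilizer_carrier G a))
    rw [h1, Nat.card_coe_set_eq, Set.ncard_compl, Set.ncard_singleton]
    have : 0 < Nat.card Ω := Nat.card_pos_iff.mpr ⟨⟨a⟩, inferInstance⟩
    omega

theorem sharp_four [Finite Ω] (h4 : 4 ≤ Nat.card Ω) (h : IsSharp G Ω 4) :
    Nat.card Ω = 4 ∨ Nat.card Ω = 5 ∨ Nat.card Ω = 6 ∨ Nat.card Ω = 11 := by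
  haveI := Fintype.ofFinite Ω
  obtain ⟨x⟩ : Nonempty (Fin 4 ↪ Ω) := Function.Embedding.nonempty_of_card_le
    (by rwa [Fintype.card_fin, ← Nat.card_eq_fintype_card])
  exact (main h.2 h.1 x).2

theorem sharp_five [Finite Ω] (h5 : 5 ≤ Nat.card Ω) (h : IsSharp G Ω 5) :
    Nat.card Ω = 5 ∨ Nat.card Ω = 6 ∨ Nat.card Ω = 7 ∨ Nat.card Ω = 12 := by
  obtain ⟨a⟩ : Nonempty Ω := (Nat.card_pos_iff.mp (by omega)).1
  obtain ⟨h1, h2⟩ := isSharp_stabilizer h5 h a
  have := sharp_four (by omega) h1
  omega

theorem sharp_six [Finite Ω] (h6 : 6 ≤ Nat.card Ω) (h : IsSharp G Ω 6) :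
    Nat.card Ω = 6 ∨ Nat.card Ω = 7 ∨ Nat.card Ω = 8 := by
  classical
  haveI := Fintype.ofFinite Ω
  obtain ⟨a⟩ : Nonempty Ω := (Nat.card_pos_iff.mp (by omega)).1
  obtain ⟨h1, h2⟩ := isSharp_stabilizer h6 h a
  have h5 := sharp_five (by omega) h1
  by_contra hne
  have h13 : Nat.card Ω = 13 := by omega
  obtain ⟨x⟩ : Nonempty (Fin 6 ↪ Ω) := Function.Embedding.nonempty_of_card_le
    (by rwa [Fintype.card_fin, ← Nat.card_eq_fintype_card])
  have horb : Function.Bijective (fun k : G => k • x) := by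
    constructor
    · intro k l hkl
      have : l⁻¹ * k ∈ MulAction.stabilizer G x := by
        rw [MulAction.mem_stabilizer_iff, mul_smul]
        exact inv_smul_eq_iff.mpr hkl
      rw [h.2, Subgroup.mem_bot] at this
      exact (inv_mul_eq_one.mp this).symm
    · exact fun y => h.1.exists_smul_eq x y
  have hψ : Function.Injective (MulAction.toPermHom G Ω) := by
    intro k l hkl
    apply horb.1
    apply Function.Embedding.ext
    intro i
    show k • x i = l • x i
    exact congrFun (congrArg DFunLike.coe hkl) (x i)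
  haveI : MulAction.IsPretransitive (MulAction.toPermHom G Ω).range Ω := by
    haveI : MulAction.IsPretransitive G Ω := by
      haveI := h.1
      rw [← MulAction.is_one_pretransitive_iff]
      exact MulAction.isMultiplyPretransitive_of_le (n := 6) (by omega)
        h6
    exact ⟨fun p q => by
      obtain ⟨g, hg⟩ := MulAction.exists_smul_eq G p q
      exact ⟨⟨MulAction.toPermHom G Ω g, g, rfl⟩, hg⟩⟩
  refine Cfsg.Agent.S0710.result (by rw [← Nat.card_eq_fintype_card]; exact h13)
    (MulAction.toPermHom G Ω).range ?_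
  rw [← Nat.card_congr (MonoidHom.ofInjective hψ).toEquiv,
    Nat.card_congr (Equiv.ofBijective _ horb), Nat.card_eq_fintype_card,
    Fintype.card_embedding_eq, Fintype.card_fin, ← Nat.card_eq_fintype_card, h13]
  rfl

universe u v

theorem sharp_large (k : ℕ) (hk : 6 ≤ k) : ∀ (G : Type u) (Ω : Type v) [Group G] [MulAction G Ω]
    [Finite Ω], k ≤ Nat.card Ω → IsSharp G Ω k →
      Nat.card Ω = k ∨ Nat.card Ω = k + 1 ∨ Nat.card Ω = k + 2 := by
  induction k, hk using Nat.le_induction with
  | base =>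
      intro G Ω _ _ _ hn h
      exact sharp_six hn h
  | succ k hk ih =>
      intro G Ω _ _ _ hn h
      obtain ⟨a⟩ : Nonempty Ω := (Nat.card_pos_iff.mp (by omega)).1
      obtain ⟨h1, h2⟩ := isSharp_stabilizer hn h a
      have := ih _ _ (by omega) h1
      omega

end Cfsg.Agent.SharpFour
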