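import Mathlib

/-!
# Abelian normal subgroups of a linear group regular on the nonzero vectors
-/

set_option autoImplicit false
set_option linter.style.haveILetI false

namespace Cfsg.Lib.Perm.NearFieldAb

variable {p : ℕ} [Fact p.Prime] {V : Type*} [AddCommGroup V] [Module (ZMod p) V] [Finite V]
  {H : Subgroup (V ≃ₗ[ZMod p] V)}
  (hreg : ∀ v w : V, v ≠ 0 → w ≠ 0 → ∃! h : H, (h : V ≃ₗ[ZMod p] V) v = w)

include hreg

theorem semiregular {h : H} {v : V} (hv : v ≠ 0) (hh : (h : V ≃ₗ[ZMod p] V) v = v) : h = 1 := by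
  obtain ⟨w, -, hw⟩ := hreg v v hv hv
  exact (hw h hh).trans (hw 1 rfl).symm

/-- An abelian subgroup acts as a subgroup of the multiplicative group of a field on a minimal invariant
subspace. -/
theorem cyclic_of_minimal (A : Subgroup H) (hAc : IsMulCommutative A) (W : Submodule (ZMod p) V) (hW0 : W ≠ ⊥)
    (hinv : ∀ a ∈ A, ∀ v ∈ W, ((a : H) : V ≃ₗ[ZMod p] V) v ∈ W)
    (hmin : ∀ W' : Submodule (ZMod p) V, W' ≤ W →
      (∀ a ∈ A, ∀ v ∈ W', ((a : H) : V ≃ₗ[ZMod p] V) v ∈ W') → W' = ⊥ ∨ W' = W) :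
    IsCyclic A ∧ Nat.card A ∣ Nat.card W - 1 := by
  classical
  let r : A →* Module.End (ZMod p) W :=
    { toFun := fun a => ((((a : H) : V ≃ₗ[ZMod p] V) : V →ₗ[ZMod p] V).restrict (hinv a a.2))
      map_one' := LinearMap.ext fun w => Subtype.ext rfl
      map_mul' := fun a b => LinearMap.ext fun w => Subtype.ext rfl }
  have hcomm : ∀ x ∈ Set.range r, ∀ y ∈ Set.range r, x * y = y * x := by
    rintro _ ⟨a, rfl⟩ _ ⟨b, rfl⟩
    rw [← map_mul, ← map_mul, hAc.is_comm.comm a b]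
  let R := Subring.closure (Set.range r)
  letI : CommRing R := Subring.closureCommRingOfComm hcomm
  have hRc : ∀ φ ∈ R, ∀ a : A, φ * r a = r a * φ := by
    intro φ hφ a
    have h1 : R ≤ Subring.centralizer {r a} := Subring.closure_le.mpr fun ψ hψ =>
      Subring.mem_centralizer_iff.mpr fun χ hχ => by
        rw [Set.mem_singleton_iff.mp hχ]; exact hcomm _ ⟨a, rfl⟩ _ hψ
    exact (Subring.mem_centralizer_iff.mp (h1 hφ) _ rfl).symm
  obtain ⟨w₀, hw₀W, hw₀⟩ := Submodule.exists_mem_ne_zero_of_ne_bot hW0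
  have hinj : ∀ φ : R, φ ≠ 0 → Function.Injective (φ : Module.End (ZMod p) W) := by
    intro φ hφ
    have hker : ∀ a ∈ A, ∀ v ∈ (LinearMap.ker (φ : Module.End (ZMod p) W)).map W.subtype,
        ((a : H) : V ≃ₗ[ZMod p] V) v ∈ (LinearMap.ker (φ : Module.End (ZMod p) W)).map W.subtype := by
      rintro a ha _ ⟨w, hw, rfl⟩
      refine ⟨r ⟨a, ha⟩ w, ?_, rfl⟩
      show (φ : Module.End (ZMod p) W) (r ⟨a, ha⟩ w) = 0
      rw [← Module.End.mul_apply, hRc _ φ.2, Module.End.mul_apply,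
        show (φ : Module.End (ZMod p) W) w = 0 from hw, map_zero]
    rcases hmin _ (Submodule.map_subtype_le _ _) hker with h | h
    · rw [← LinearMap.ker_eq_bot]
      exact Submodule.map_injective_of_injective W.injective_subtype (h.trans (Submodule.map_bot _).symm)
    · refine absurd (Subtype.ext (LinearMap.ext fun w => ?_)) hφ
      have hw : (w : V) ∈ (LinearMap.ker (φ : Module.End (ZMod p) W)).map W.subtype := h.symm ▸ w.2
      obtain ⟨w', hw', he⟩ := hw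
      rw [← (Subtype.ext he : w' = w)]
      exact hw'
  haveI : Nontrivial R := ⟨⟨1, 0, fun e => hw₀ (congrArg Subtype.val
    (LinearMap.congr_fun (congrArg Subtype.val e) ⟨w₀, hw₀W⟩))⟩⟩
  haveI : NoZeroDivisors R := ⟨fun {φ ψ} h' => by
    by_contra hh
    push Not at hh
    refine hh.2 (Subtype.ext (LinearMap.ext fun v => hinj φ hh.1 ?_))
    show (φ : Module.End (ZMod p) W) ((ψ : Module.End (ZMod p) W) v) = (φ : Module.End (ZMod p) W) 0
    rw [map_zero]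
    exact LinearMap.congr_fun (congrArg Subtype.val h') v⟩
  haveI : IsDomain R := NoZeroDivisors.to_isDomain R
  haveI : Finite (Module.End (ZMod p) W) := Finite.of_injective _ DFunLike.coe_injective
  let f : A →* R :=
    { toFun := fun a => ⟨r a, Subring.subset_closure ⟨a, rfl⟩⟩
      map_one' := Subtype.ext r.map_one
      map_mul' := fun a b => Subtype.ext (r.map_mul a b) }
  have hf : Function.Injective f := by
    intro a b hab
    refine Subtype.ext ?_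
    have h1 : ((a : H) : V ≃ₗ[ZMod p] V) w₀ = ((b : H) : V ≃ₗ[ZMod p] V) w₀ :=
      congrArg Subtype.val (LinearMap.congr_fun (congrArg Subtype.val hab) ⟨w₀, hw₀W⟩)
    obtain ⟨x, -, hx⟩ := hreg w₀ (((b : H) : V ≃ₗ[ZMod p] V) w₀) hw₀ (by simpa using hw₀)
    exact (hx _ h1).trans (hx _ rfl).symm
  haveI := Fintype.ofFinite R
  haveI : Finite A := Finite.of_injective f hf
  refine ⟨isCyclic_of_subgroup_isDomain f hf, ?_⟩
  -- the field has as many elements as the subspace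
  have hev : Function.Bijective fun φ : R => (φ : Module.End (ZMod p) W) ⟨w₀, hw₀W⟩ := by
    constructor
    · intro φ ψ h'
      by_contra hne
      refine hw₀ (congrArg Subtype.val (hinj (φ - ψ) (sub_ne_zero.mpr hne) (a₁ := ⟨w₀, hw₀W⟩) (a₂ := 0) ?_))
      rw [map_zero]
      show (φ : Module.End (ZMod p) W) ⟨w₀, hw₀W⟩ - (ψ : Module.End (ZMod p) W) ⟨w₀, hw₀W⟩ = 0
      exact sub_eq_zero.mpr h'
    · intro w
      let S : Submodule (ZMod p) V :=
        { carrier := {v | ∃ φ : R, ((φ : Module.End (ZMod p) W) ⟨w₀, hw₀W⟩ : V) = v}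
          zero_mem' := ⟨0, rfl⟩
          add_mem' := by
            rintro _ _ ⟨φ, rfl⟩ ⟨ψ, rfl⟩
            exact ⟨φ + ψ, rfl⟩
          smul_mem' := by
            rintro c _ ⟨φ, rfl⟩
            refine ⟨(c.val : R) * φ, ?_⟩
            conv_rhs => rw [← ZMod.natCast_zmod_val c, Nat.cast_smul_eq_nsmul (R := ZMod p)]
            show ((((c.val : ℕ) : R) * φ : R).1 ⟨w₀, hw₀W⟩ : V) = _
            rw [show ((c.val : ℕ) : R) * φ = c.val • φ by rw [nsmul_eq_mul]]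
            rfl }
      have hS : S ≤ W := by rintro _ ⟨φ, rfl⟩; exact Subtype.prop _
      have hSinv : ∀ a ∈ A, ∀ v ∈ S, ((a : H) : V ≃ₗ[ZMod p] V) v ∈ S := by
        rintro a ha _ ⟨φ, rfl⟩
        exact ⟨f ⟨a, ha⟩ * φ, rfl⟩
      rcases hmin S hS hSinv with h | h
      · refine absurd ?_ hw₀
        have : w₀ ∈ S := ⟨1, rfl⟩
        rwa [h, Submodule.mem_bot] at this
      · have : (w : V) ∈ S := h.symm ▸ w.2
        obtain ⟨φ, hφ⟩ := this
        exact ⟨φ, Subtype.ext hφ⟩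
  letI : Field R := (Finite.isDomain_to_isField R).toField
  rw [← Nat.card_congr (Equiv.ofBijective _ hev), ← Nat.card_units]
  exact Subgroup.card_dvd_of_injective f.toHomUnits fun a b h => hf (congrArg Units.val h)

omit hreg in
/-- A minimal invariant subspace inside a given one. -/
theorem exists_min_inv (A : Subgroup H) (W₀ : Submodule (ZMod p) V) (h0 : W₀ ≠ ⊥)
    (hi : ∀ a ∈ A, ∀ v ∈ W₀, ((a : H) : V ≃ₗ[ZMod p] V) v ∈ W₀) :
    ∃ W ≤ W₀, W ≠ ⊥ ∧ (∀ a ∈ A, ∀ v ∈ W, ((a : H) : V ≃ₗ[ZMod p] V) v ∈ W) ∧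
      (∀ W' : Submodule (ZMod p) V, W' ≤ W → (∀ a ∈ A, ∀ v ∈ W', ((a : H) : V ≃ₗ[ZMod p] V) v ∈ W') →
        W' = ⊥ ∨ W' = W) := by
  haveI : Finite (Submodule (ZMod p) V) := Finite.of_injective _ SetLike.coe_injective
  obtain ⟨W, ⟨h1, h2, h3⟩, hm⟩ := Set.Finite.exists_minimal
    (Set.toFinite {W : Submodule (ZMod p) V | W ≤ W₀ ∧ W ≠ ⊥ ∧ ∀ a ∈ A, ∀ v ∈ W, ((a : H) : V ≃ₗ[ZMod p] V) v ∈ W})
    ⟨W₀, le_rfl, h0, hi⟩
  refine ⟨W, h1, h2, h3, fun W' hle hi' => or_iff_not_imp_left.mpr fun h0' => ?_⟩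
  exact le_antisymm hle (hm (y := W') ⟨hle.trans h1, h0', hi'⟩ hle)

/-- Abelian subgroups are cyclic. -/
theorem abelian_cyclic [Nontrivial V] (A : Subgroup H) (hAc : IsMulCommutative A) : IsCyclic A := by
  obtain ⟨W, -, h1, h2, h3⟩ := exists_min_inv A ⊤ top_ne_bot fun _ _ _ _ => Submodule.mem_top
  exact (cyclic_of_minimal hreg A hAc W h1 h2 h3).1

/-- With no irreducible cyclic normal subgroup, a maximal abelian normal subgroup is cyclic and reducible. -/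
theorem exists_minimal (hI : ∀ A : Subgroup H, A.Normal → IsCyclic A → ∃ W : Submodule (ZMod p) V,
      W ≠ ⊥ ∧ W ≠ ⊤ ∧ ∀ a ∈ A, ∀ v ∈ W, ((a : H) : V ≃ₗ[ZMod p] V) v ∈ W)
    (A : Subgroup H) (hAn : A.Normal) (hAc : IsMulCommutative A) :
    IsCyclic A ∧ ∃ W : Submodule (ZMod p) V, W ≠ ⊥ ∧ W ≠ ⊤ ∧
      (∀ a ∈ A, ∀ v ∈ W, ((a : H) : V ≃ₗ[ZMod p] V) v ∈ W) ∧
      (∀ W' : Submodule (ZMod p) V, W' ≤ W → (∀ a ∈ A, ∀ v ∈ W', ((a : H) : V ≃ₗ[ZMod p] V) v ∈ W') →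
        W' = ⊥ ∨ W' = W) ∧ Nat.card A ∣ Nat.card W - 1 := by
  classical
  by_cases hV : (⊥ : Submodule (ZMod p) V) = ⊤
  · exfalso
    haveI : Subsingleton V := ⟨fun u v => by
      have hu : u ∈ (⊥ : Submodule (ZMod p) V) := hV ▸ Submodule.mem_top
      have hv : v ∈ (⊥ : Submodule (ZMod p) V) := hV ▸ Submodule.mem_top
      rw [Submodule.mem_bot] at hu hv
      rw [hu, hv]⟩
    haveI : IsCyclic (⊥ : Subgroup H) := inferInstance
    obtain ⟨W, hW, -⟩ := hI ⊥ inferInstance inferInstance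
    exact hW (Subsingleton.elim _ _)
  have hex : ∀ W₀ : Submodule (ZMod p) V, W₀ ≠ ⊥ → (∀ a ∈ A, ∀ v ∈ W₀, ((a : H) : V ≃ₗ[ZMod p] V) v ∈ W₀) →
      ∃ W ≤ W₀, W ≠ ⊥ ∧ (∀ a ∈ A, ∀ v ∈ W, ((a : H) : V ≃ₗ[ZMod p] V) v ∈ W) ∧
        (∀ W' : Submodule (ZMod p) V, W' ≤ W → (∀ a ∈ A, ∀ v ∈ W', ((a : H) : V ≃ₗ[ZMod p] V) v ∈ W') →
          W' = ⊥ ∨ W' = W) := by
    intro W₀ h0 hi
    haveI : Finite (Submodule (ZMod p) V) := Finite.of_injective _ SetLike.coe_injective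
    obtain ⟨W, ⟨h1, h2, h3⟩, hm⟩ := Set.Finite.exists_minimal
      (Set.toFinite {W : Submodule (ZMod p) V | W ≤ W₀ ∧ W ≠ ⊥ ∧ ∀ a ∈ A, ∀ v ∈ W, ((a : H) : V ≃ₗ[ZMod p] V) v ∈ W})
      ⟨W₀, le_rfl, h0, hi⟩
    refine ⟨W, h1, h2, h3, fun W' hle hi' => or_iff_not_imp_left.mpr fun h0' => ?_⟩
    exact le_antisymm hle (hm (y := W') ⟨hle.trans h1, h0', hi'⟩ hle)
  obtain ⟨W₁, -, hW₁, hi₁, hm₁⟩ := hex ⊤ (Ne.symm hV) fun _ _ _ _ => Submodule.mem_top
  have hcyc := (cyclic_of_minimal hreg A hAc W₁ hW₁ hi₁ hm₁).1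
  obtain ⟨W₀, h0, htop, hi₀⟩ := hI A hAn hcyc
  obtain ⟨W, hle, hW, hi, hm⟩ := hex W₀ h0 hi₀
  exact ⟨hcyc, W, hW, fun e => htop (top_le_iff.mp (e ▸ hle)), hi, hm,
    (cyclic_of_minimal hreg A hAc W hW hi hm).2⟩

end Cfsg.Lib.Perm.NearFieldAb
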