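import Cfsg.Agent.Lib.Perm.NearFieldAbelian
import Cfsg.Agent.S0688
import Cfsg.Agent.S0689

/-!
# Linear groups regular on the nonzero vectors: subgroups of index two

A finite group of even order acting linearly and regularly on the nonzero vectors has a subgroup
of index two, provided that it has at most one subgroup of order three.
-/

set_option autoImplicit false
set_option linter.style.haveILetI false

namespace Cfsg.Lib.Perm.NearFieldAb

open scoped commutatorElement

/-- A nontrivial two-group quotient gives a subgroup of index two. -/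
theorem exists_index_two_of_normal {K : Type*} [Group K] [Finite K] (N : Subgroup K) [N.Normal] {k : ℕ}
    (hk : k ≠ 0) (hN : N.index = 2 ^ k) : ∃ M : Subgroup K, M.index = 2 := by
  haveI := Fact.mk Nat.prime_two
  obtain ⟨j, rfl⟩ := Nat.exists_eq_succ_of_ne_zero hk
  have hc : Nat.card (K ⧸ N) = 2 ^ (j + 1) := hN
  obtain ⟨L, hL⟩ := Sylow.exists_subgroup_card_pow_prime (G := K ⧸ N) 2 (n := j)
    (hc ▸ pow_dvd_pow 2 (Nat.le_succ j))
  refine ⟨L.comap (QuotientGroup.mk' N), ?_⟩
  rw [Subgroup.index_comap_of_surjective _ (QuotientGroup.mk'_surjective N)]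
  have := L.card_mul_index
  rw [hL, hc, pow_succ] at this
  exact Nat.eq_of_mul_eq_mul_left (pow_pos (by norm_num) j) this

/-- An abelian quotient of even order gives a subgroup of index two. -/
theorem exists_index_two_of_commutator {K : Type*} [Group K] [Finite K]
    (h : 2 ∣ (commutator K).index) : ∃ M : Subgroup K, M.index = 2 := by
  classical
  haveI := Fact.mk Nat.prime_two
  have hAb : Nat.card (Abelianization K) = (commutator K).index := rfl
  set n := Nat.card (Abelianization K) with hn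
  have hn0 : n ≠ 0 := Nat.card_pos.ne'
  set m := ordCompl[2] n with hm
  have hm_odd : Odd m := by
    rw [← Nat.not_even_iff_odd, even_iff_two_dvd]
    exact Nat.not_dvd_ordCompl Nat.prime_two hn0
  let f : K →* Abelianization K := (powMonoidHom m).comp Abelianization.of
  have hR : IsPGroup 2 f.range := by
    rintro ⟨_, y, rfl⟩
    refine ⟨n.factorization 2, Subtype.ext ?_⟩
    show (Abelianization.of y ^ m) ^ (2 ^ n.factorization 2) = 1
    rw [← pow_mul, mul_comm, hm, Nat.ordProj_mul_ordCompl_eq_self, hn, pow_card_eq_one']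
  obtain ⟨j, hj⟩ := IsPGroup.iff_card.1 hR
  refine exists_index_two_of_normal f.ker (k := j) ?_ (by rw [Subgroup.index_ker, hj])
  rintro rfl
  obtain ⟨z, hz⟩ := exists_prime_orderOf_dvd_card' (G := Abelianization K) 2 (by rw [← hn, hAb]; exact h)
  obtain ⟨y, rfl⟩ : ∃ y, Abelianization.of y = z := Quotient.exists_rep z
  have hz1 : Abelianization.of y ≠ 1 := fun e => by rw [e, orderOf_one] at hz; omega
  have hbot : f.range = ⊥ := Subgroup.card_eq_one.1 (by rw [hj, pow_zero])
  obtain ⟨l, hl⟩ := hm_odd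
  refine hz1 ?_
  have : f y = 1 := by rw [← Subgroup.mem_bot, ← hbot]; exact ⟨y, rfl⟩
  calc Abelianization.of y = Abelianization.of y ^ (2 * l + 1) := by
        rw [pow_succ, pow_mul, ← hz, pow_orderOf_eq_one, one_pow, one_mul]
    _ = 1 := by rw [← hl]; exact this

/-- The exceptional orders: a normal subgroup of order three and a normal Sylow subgroup above it. -/
theorem exists_index_two_of_three {K : Type*} [Group K] [Finite K] (T : Subgroup K) [T.Normal]
    (hT3 : Nat.card T = 3)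
    (h : Nat.card K = 24 ∨ Nat.card K = 48 ∨ Nat.card K = 120 ∨ Nat.card K = 528) :
    ∃ M : Subgroup K, M.index = 2 := by
  have hQ : 3 * T.index = Nat.card K := by rw [← hT3]; exact T.card_mul_index
  have two : ∀ k, k ≠ 0 → T.index = 2 ^ k → ∃ M : Subgroup K, M.index = 2 :=
    fun k hk hi => exists_index_two_of_normal T hk hi
  have sylow : ∀ k r, k ≠ 0 → r.Prime → r ≠ 2 → (∀ i, i ≤ k → i ≠ 0 → 2 ^ i % r ≠ 1) →
      T.index = 2 ^ k * r → ∃ M : Subgroup K, M.index = 2 := by
    intro k r hk hr hr2 hdiv hi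
    haveI := Fact.mk hr
    have hQc : Nat.card (K ⧸ T) = 2 ^ k * r := hi
    obtain ⟨P⟩ := (inferInstance : Nonempty (Sylow r (K ⧸ T)))
    have hPc : Nat.card (P : Subgroup (K ⧸ T)) = r := by
      rw [Sylow.card_eq_multiplicity, hQc, Nat.factorization_mul (pow_ne_zero _ (by norm_num)) hr.ne_zero,
        Nat.Prime.factorization_pow Nat.prime_two, hr.factorization]
      simp [Ne.symm hr2]
    have hPi : (P : Subgroup (K ⧸ T)).index = 2 ^ k := by
      have h1 := (P : Subgroup (K ⧸ T)).card_mul_index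
      rw [hPc, hQc, mul_comm (2 ^ k) r] at h1
      exact Nat.eq_of_mul_eq_mul_left hr.pos h1
    have hd : Nat.card (Sylow r (K ⧸ T)) ∣ 2 ^ k := hPi ▸ P.card_dvd_index
    obtain ⟨i, hik, hi2⟩ := (Nat.dvd_prime_pow Nat.prime_two).1 hd
    have hmod : Nat.card (Sylow r (K ⧸ T)) % r = 1 % r := card_sylow_modEq_one r (K ⧸ T)
    rw [Nat.one_mod_eq_one.2 hr.ne_one, hi2] at hmod
    have hi0 : i = 0 := by
      by_contra h0
      exact hdiv i hik h0 hmod
    haveI : Subsingleton (Sylow r (K ⧸ T)) :=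
      (Nat.card_eq_one_iff_unique.1 (by rw [hi2, hi0, pow_zero])).1
    haveI := P.normal_of_subsingleton
    refine exists_index_two_of_normal ((P : Subgroup (K ⧸ T)).comap (QuotientGroup.mk' T)) hk ?_
    rw [Subgroup.index_comap_of_surjective _ (QuotientGroup.mk'_surjective T), hPi]
  rcases h with h | h | h | h
  · exact two 3 (by norm_num) (by omega)
  · exact two 4 (by norm_num) (by omega)
  · refine sylow 3 5 (by norm_num) (by norm_num) (by norm_num) ?_ (by omega)
    intro i hi h0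
    interval_cases i <;> simp_all
  · refine sylow 4 11 (by norm_num) (by norm_num) (by norm_num) ?_ (by omega)
    intro i hi h0
    interval_cases i <;> simp_all

/-- `SL(2, 5)` has two subgroups of order three. -/
theorem sl_two_five_two_threes {K : Type*} [Group K]
    (f : Matrix.SpecialLinearGroup (Fin 2) (ZMod 5) →* K) (hf : Function.Injective f) :
    ∃ A B : Subgroup K, Nat.card A = 3 ∧ Nat.card B = 3 ∧ A ≠ B := by
  haveI := Fact.mk Nat.prime_three
  letI : DecidableEq (Matrix.SpecialLinearGroup (Fin 2) (ZMod 5)) := Subtype.instDecidableEq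
  let M₁ : Matrix.SpecialLinearGroup (Fin 2) (ZMod 5) := ⟨!![0, -1; 1, -1], by decide⟩
  let M₂ : Matrix.SpecialLinearGroup (Fin 2) (ZMod 5) := ⟨!![0, 1; -1, -1], by decide⟩
  have o1 : orderOf (f M₁) = 3 := by
    rw [orderOf_injective f hf]; exact orderOf_eq_prime (Subtype.ext (by decide)) (fun h => absurd (congrArg Subtype.val h) (by decide))
  have o2 : orderOf (f M₂) = 3 := by
    rw [orderOf_injective f hf]; exact orderOf_eq_prime (Subtype.ext (by decide)) (fun h => absurd (congrArg Subtype.val h) (by decide))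
  refine ⟨Subgroup.zpowers (f M₁), Subgroup.zpowers (f M₂), (Nat.card_zpowers _).trans o1,
    (Nat.card_zpowers _).trans o2, fun he => ?_⟩
  have hmem : f M₂ ∈ Subgroup.zpowers (f M₁) := he ▸ Subgroup.mem_zpowers _
  obtain ⟨j, hj⟩ := Subgroup.mem_zpowers_iff.1 hmem
  rw [← zpow_mod_orderOf, o1] at hj
  have h0 : (0 : ℤ) ≤ j % 3 := Int.emod_nonneg _ (by norm_num)
  have h3 : j % 3 < 3 := Int.emod_lt_of_pos _ (by norm_num)
  obtain ⟨i, hi⟩ : ∃ i : ℕ, j % 3 = i := ⟨(j % 3).toNat, (Int.toNat_of_nonneg h0).symm⟩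
  simp only [Nat.cast_ofNat] at hj
  rw [hi, zpow_natCast, ← map_pow] at hj
  have hi3 : i < 3 := by omega
  have := hf hj
  interval_cases i <;> exact absurd (congrArg Subtype.val this) (by decide)

variable {p : ℕ} [Fact p.Prime] {V : Type*} [AddCommGroup V] [Module (ZMod p) V] [Finite V]
  {H : Subgroup (V ≃ₗ[ZMod p] V)}
  (hreg : ∀ v w : V, v ≠ 0 → w ≠ 0 → ∃! h : H, (h : V ≃ₗ[ZMod p] V) v = w)

include hreg

theorem card_eq_card_sub_one [Nontrivial V] : Nat.card H = Nat.card V - 1 := by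
  classical
  haveI := Fintype.ofFinite V
  obtain ⟨v₀, hv₀⟩ := exists_ne (0 : V)
  have hb : Function.Bijective
      (fun h : H => (⟨(h : V ≃ₗ[ZMod p] V) v₀, by simpa using hv₀⟩ : {v : V // v ≠ 0})) := by
    refine ⟨fun h k e => ?_, fun w => ?_⟩
    · obtain ⟨x, -, hx⟩ := hreg v₀ ((h : V ≃ₗ[ZMod p] V) v₀) hv₀ (by simpa using hv₀)
      exact (hx h rfl).trans (hx k (congrArg Subtype.val e).symm).symm
    · obtain ⟨x, hx, -⟩ := hreg v₀ w.1 hv₀ w.2
      exact ⟨x, Subtype.ext hx⟩
  rw [Nat.card_eq_of_bijective _ hb, Nat.card_eq_fintype_card, Fintype.card_subtype_compl,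
    Fintype.card_subtype_eq, Nat.card_eq_fintype_card]

/-- Involutions of a semiregular linear group are central. -/
theorem involution_central {z : H} (hz : z * z = 1) (hz1 : z ≠ 1) (g : H) : g * z = z * g := by
  have hneg : ∀ v : V, (z : V ≃ₗ[ZMod p] V) v = -v := by
    intro v
    rw [eq_neg_iff_add_eq_zero]
    by_contra hne
    refine hz1 (semiregular hreg hne ?_)
    have h2 : (z : V ≃ₗ[ZMod p] V) ((z : V ≃ₗ[ZMod p] V) v) = v :=
      LinearEquiv.congr_fun (congrArg Subtype.val hz) v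
    rw [map_add, h2, add_comm]
  refine Subtype.ext (LinearEquiv.ext fun v => ?_)
  show (g : V ≃ₗ[ZMod p] V) ((z : V ≃ₗ[ZMod p] V) v) = (z : V ≃ₗ[ZMod p] V) ((g : V ≃ₗ[ZMod p] V) v)
  rw [hneg, hneg, map_neg]

/-- The centralizer of an irreducible abelian subgroup is commutative. -/
theorem centralizer_comm [Nontrivial V] (A : Subgroup H) (hAc : IsMulCommutative A)
    (hirr : ∀ W : Submodule (ZMod p) V, (∀ a ∈ A, ∀ v ∈ W, ((a : H) : V ≃ₗ[ZMod p] V) v ∈ W) →
      W = ⊥ ∨ W = ⊤) :
    ∀ c ∈ Subgroup.centralizer (A : Set H), ∀ d ∈ Subgroup.centralizer (A : Set H), c * d = d * c := by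
  classical
  intro c hc d hd
  obtain ⟨v₀, hv₀⟩ := exists_ne (0 : V)
  let L : H → Module.End (ZMod p) V := fun h => ((h : V ≃ₗ[ZMod p] V) : V →ₗ[ZMod p] V)
  have hLmul : ∀ g h : H, L (g * h) = L g * L h := fun g h => rfl
  let M : Submodule (ZMod p) (Module.End (ZMod p) V) := Submodule.span (ZMod p) (L '' (A : Set H))
  have hMc : ∀ φ ∈ M, ∀ e ∈ Subgroup.centralizer (A : Set H), φ * L e = L e * φ := by
    intro φ hφ e he
    induction hφ using Submodule.span_induction with
    | mem x hx =>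
      obtain ⟨a, ha, rfl⟩ := hx
      rw [← hLmul, ← hLmul, Subgroup.mem_centralizer_iff.1 he a ha]
    | zero => rw [zero_mul, mul_zero]
    | add x y _ _ hx hy => rw [add_mul, mul_add, hx, hy]
    | smul t x _ hx => rw [smul_mul_assoc, mul_smul_comm, hx]
  have hAC : ∀ a ∈ A, a ∈ Subgroup.centralizer (A : Set H) := fun a ha =>
    Subgroup.mem_centralizer_iff.2 fun b hb => congrArg Subtype.val (hAc.is_comm.comm ⟨b, hb⟩ ⟨a, ha⟩)
  have hMM : ∀ φ ∈ M, ∀ ψ ∈ M, φ * ψ = ψ * φ := by
    intro φ hφ ψ hψ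
    induction hψ using Submodule.span_induction with
    | mem x hx => obtain ⟨a, ha, rfl⟩ := hx; exact hMc φ hφ a (hAC a ha)
    | zero => rw [zero_mul, mul_zero]
    | add x y _ _ hx hy => rw [add_mul, mul_add, hx, hy]
    | smul t x _ hx => rw [smul_mul_assoc, mul_smul_comm, hx]
  have hMA : ∀ φ ∈ M, ∀ a ∈ A, L a * φ ∈ M := by
    intro φ hφ a ha
    induction hφ using Submodule.span_induction with
    | mem x hx =>
      obtain ⟨b, hb, rfl⟩ := hx
      exact Submodule.subset_span ⟨a * b, A.mul_mem ha hb, hLmul a b⟩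
    | zero => rw [mul_zero]; exact M.zero_mem
    | add x y _ _ hx hy => rw [mul_add]; exact M.add_mem hx hy
    | smul t x _ hx => rw [mul_smul_comm]; exact M.smul_mem t hx
  let ev : Module.End (ZMod p) V →ₗ[ZMod p] V :=
    { toFun := fun φ => φ v₀
      map_add' := fun _ _ => rfl
      map_smul' := fun _ _ => rfl }
  have htop : M.map ev = ⊤ := by
    refine (hirr (M.map ev) ?_).resolve_left fun h => hv₀ ?_
    · rintro a ha _ ⟨φ, hφ, rfl⟩
      exact ⟨L a * φ, hMA φ hφ a ha, rfl⟩
    · have hmem : v₀ ∈ M.map ev := ⟨L 1, Submodule.subset_span ⟨1, A.one_mem, rfl⟩, rfl⟩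
      rw [h, Submodule.mem_bot] at hmem
      exact hmem
  have key : ∀ e : H, ∃ φ ∈ M, φ v₀ = (e : V ≃ₗ[ZMod p] V) v₀ := by
    intro e
    have hmem : (e : V ≃ₗ[ZMod p] V) v₀ ∈ M.map ev := htop ▸ Submodule.mem_top
    obtain ⟨φ, hφ, h⟩ := hmem
    exact ⟨φ, hφ, h⟩
  obtain ⟨φ, hφ, hφc⟩ := key c
  obtain ⟨ψ, hψ, hψd⟩ := key d
  have hcd : L c (L d v₀) = L d (L c v₀) := by
    show L c ((d : V ≃ₗ[ZMod p] V) v₀) = L d ((c : V ≃ₗ[ZMod p] V) v₀)
    rw [← hψd, ← hφc]
    have e1 : L c (ψ v₀) = ψ (φ v₀) := by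
      rw [hφc]; exact (LinearMap.congr_fun (hMc ψ hψ c hc) v₀).symm
    have e2 : L d (φ v₀) = φ (ψ v₀) := by
      rw [hψd]; exact (LinearMap.congr_fun (hMc φ hφ d hd) v₀).symm
    rw [e1, e2]
    exact LinearMap.congr_fun (hMM ψ hψ φ hφ) v₀
  obtain ⟨x, -, hx⟩ := hreg v₀ (((d * c : H) : V ≃ₗ[ZMod p] V) v₀) hv₀ (by simpa using hv₀)
  exact (hx (c * d) hcd).trans (hx (d * c) rfl).symm

/-- The semilinear case. -/
theorem exists_index_two_of_irreducible [Nontrivial V] [Finite H] (heven : 2 ∣ Nat.card H) (A : Subgroup H)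
    [A.Normal] [IsCyclic A]
    (hA : ∀ W : Submodule (ZMod p) V, W ≠ ⊥ → W ≠ ⊤ →
      ∃ a ∈ A, ∃ v ∈ W, ((a : H) : V ≃ₗ[ZMod p] V) v ∉ W) :
    ∃ M : Subgroup H, M.index = 2 := by
  classical
  haveI := Fact.mk Nat.prime_two
  have hAc : IsMulCommutative A := ⟨⟨IsCyclic.commGroup.mul_comm⟩⟩
  have hirr : ∀ W : Submodule (ZMod p) V, (∀ a ∈ A, ∀ v ∈ W, ((a : H) : V ≃ₗ[ZMod p] V) v ∈ W) →
      W = ⊥ ∨ W = ⊤ := by
    intro W hW
    by_contra hne
    push Not at hne
    obtain ⟨a, ha, v, hv, hnv⟩ := hA W hne.1 hne.2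
    exact hnv (hW a ha v hv)
  have hCc := centralizer_comm hreg A hAc hirr
  by_cases h2 : 2 ∣ (commutator H).index
  · exact exists_index_two_of_commutator h2
  exfalso
  -- the commutator subgroup centralizes `A`
  let κ : H →* MulAut A := MulAut.conjNormal
  have hMA : ∀ x y : MulAut A, x * y = y * x := fun x y => by
    obtain ⟨u, rfl⟩ := (IsCyclic.mulAutMulEquiv A).symm.surjective x
    obtain ⟨v, rfl⟩ := (IsCyclic.mulAutMulEquiv A).symm.surjective y
    rw [← map_mul, ← map_mul, mul_comm]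
  have hle : commutator H ≤ Subgroup.centralizer (A : Set H) := by
    rw [commutator_eq_closure, Subgroup.closure_le]
    rintro _ ⟨x, y, rfl⟩
    have hk : κ ⁅x, y⁆ = 1 := by
      rw [map_commutatorElement, commutatorElement_eq_one_iff_mul_comm]
      exact hMA _ _
    rw [SetLike.mem_coe, Subgroup.mem_centralizer_iff]
    intro a ha
    have := congrArg Subtype.val (MulEquiv.congr_fun hk ⟨a, ha⟩)
    rw [MulAut.conjNormal_apply] at this
    exact (mul_inv_eq_iff_eq_mul.1 this).symm
  obtain ⟨S⟩ := (inferInstance : Nonempty (Sylow 2 H))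
  have hS : (S : Subgroup H) ≤ commutator H := by
    intro x hx
    obtain ⟨j, hj⟩ := S.2 ⟨x, hx⟩
    rw [← QuotientGroup.eq_one_iff, ← orderOf_eq_one_iff]
    refine Nat.eq_one_of_dvd_coprimes (Nat.Coprime.pow_left j (Nat.prime_two.coprime_iff_not_dvd.2 h2))
      (orderOf_dvd_of_pow_eq_one ?_) (orderOf_dvd_natCard _)
    have hj' : x ^ 2 ^ j = 1 := congrArg Subtype.val hj
    rw [← QuotientGroup.mk_pow, hj']
    rfl
  letI : CommGroup (S : Subgroup H) :=
    { (inferInstance : Group (S : Subgroup H)) with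
      mul_comm := fun x y => Subtype.ext (hCc _ (hle (hS x.2)) _ (hle (hS y.2))) }
  obtain ⟨z', hz'⟩ := exists_prime_orderOf_dvd_card' (G := (S : Subgroup H)) 2 (by
    rw [Sylow.card_eq_multiplicity]
    exact dvd_pow_self 2 (Nat.Prime.factorization_pos_of_dvd Nat.prime_two Nat.card_pos.ne' heven).ne')
  have hzo : orderOf (z' : H) = 2 := (Subgroup.orderOf_coe z').trans hz'
  have hzz : (z' : H) * z' = 1 := by
    have h := pow_orderOf_eq_one (z' : H)
    rwa [hzo, pow_two] at h
  have hzne : (z' : H) ≠ 1 := fun e => by rw [e, orderOf_one] at hzo; omega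
  have hzc := involution_central hreg hzz hzne
  have hV := MonoidHom.transfer_eq_pow (MonoidHom.id (S : Subgroup H)) (z' : H) (fun i g _ => by
    rw [mul_assoc, ← (Commute.pow_right (show Commute g (z' : H) from hzc g) i).eq, inv_mul_cancel_left])
  rw [MonoidHom.mem_ker.1 (Abelianization.commutator_subset_ker _ (hS z'.2))] at hV
  have h3 : (z' : H) ^ (S : Subgroup H).index = 1 := (congrArg Subtype.val hV).symm
  have hd := orderOf_dvd_of_pow_eq_one h3
  rw [hzo] at hd
  exact S.not_dvd_index hd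


/-- A linear group of even order, regular on the nonzero vectors and with at most one subgroup of order
three, has a subgroup of index two. -/
theorem exists_index_two (heven : 2 ∣ Nat.card H)
    (hT : ∀ A B : Subgroup H, Nat.card A = 3 → Nat.card B = 3 → A = B) :
    ∃ M : Subgroup H, M.index = 2 := by
  haveI : Finite (V ≃ₗ[ZMod p] V) := Finite.of_injective _ DFunLike.coe_injective
  haveI := Fact.mk Nat.prime_two
  obtain ⟨z, hz⟩ := exists_prime_orderOf_dvd_card' (G := H) 2 heven
  have hz1 : z ≠ 1 := fun e => by rw [e, orderOf_one] at hz; omega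
  haveI : Nontrivial V := by
    by_contra hne
    rw [not_nontrivial_iff_subsingleton] at hne
    exact hz1 (Subtype.ext (LinearEquiv.ext fun v => Subsingleton.elim _ _))
  by_cases hI : ∀ A : Subgroup H, A.Normal → IsCyclic A → ∃ W : Submodule (ZMod p) V, W ≠ ⊥ ∧ W ≠ ⊤ ∧
      ∀ a ∈ A, ∀ v ∈ W, ((a : H) : V ≃ₗ[ZMod p] V) v ∈ W
  · by_cases hsolv : Group.IsSolvable H
    · have hc := card_eq_card_sub_one hreg
      have hcase : Nat.card H = 24 ∨ Nat.card H = 48 ∨ Nat.card H = 120 ∨ Nat.card H = 528 := by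
        have := Cfsg.Agent.S0688.result H hreg hI hsolv
        omega
      haveI := Fact.mk Nat.prime_three
      obtain ⟨t, ht⟩ := exists_prime_orderOf_dvd_card' (G := H) 3 (by omega)
      have hT3 : Nat.card (Subgroup.zpowers t) = 3 := (Nat.card_zpowers t).trans ht
      haveI : (Subgroup.zpowers t).Normal := by
        refine ⟨fun y hy g => ?_⟩
        rw [← hT ((Subgroup.zpowers t).map (MulAut.conj g).toMonoidHom) (Subgroup.zpowers t)
          ((Subgroup.card_map_of_injective (MulAut.conj g).injective).trans hT3) hT3]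
        exact ⟨y, hy, rfl⟩
      exact exists_index_two_of_three _ hT3 hcase
    · exfalso
      rcases Cfsg.Agent.S0689.result H hreg hsolv with ⟨-, ⟨e⟩⟩ | ⟨-, ⟨e⟩⟩ | ⟨-, ⟨e⟩⟩
      · obtain ⟨A, B, hA, hB, hne⟩ := sl_two_five_two_threes e.symm.toMonoidHom e.symm.injective
        exact hne (hT A B hA hB)
      · obtain ⟨A, B, hA, hB, hne⟩ := sl_two_five_two_threes (e.symm.toMonoidHom.comp (MonoidHom.inl _ _))
          (e.symm.injective.comp fun x y h => congrArg Prod.fst h)
        exact hne (hT A B hA hB)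
      · obtain ⟨A, B, hA, hB, hne⟩ := sl_two_five_two_threes (e.symm.toMonoidHom.comp (MonoidHom.inl _ _))
          (e.symm.injective.comp fun x y h => congrArg Prod.fst h)
        exact hne (hT A B hA hB)
  · push Not at hI
    obtain ⟨A, hAn, hAcyc, hA⟩ := hI
    haveI := hAn
    haveI := hAcyc
    exact exists_index_two_of_irreducible hreg heven A hA

end Cfsg.Lib.Perm.NearFieldAb
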