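import Mathlib

/-! A criterion for a subgroup of `GL(2,p)`, given by generators and a table, to act regularly on
the non-zero vectors. -/

set_option autoImplicit false

namespace Cfsg.Agent.NearfieldMat

open Matrix

variable {p : ℕ} [Fact p.Prime] {k n : ℕ}

theorem regular_of_table
    (G : Fin k → Matrix.GeneralLinearGroup (Fin 2) (ZMod p))
    (g : Fin k → Matrix (Fin 2) (Fin 2) (ZMod p))
    (hG : ∀ j, (G j : Matrix (Fin 2) (Fin 2) (ZMod p)) = g j)
    (hn : n + 1 = p * p)
    (M : Fin n → Matrix (Fin 2) (Fin 2) (ZMod p))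
    (W : Fin n → List (Fin k)) (T : Fin k → Fin n → Fin n) (o : Fin n)
    (hW : ∀ i, ((W i).map g).prod = M i)
    (hT : ∀ j i, g j * M i = M (T j i))
    (ho : M o = 1)
    (hdet : ∀ i, i ≠ o → (M i 0 0 - 1) * (M i 1 1 - 1) - M i 0 1 * M i 1 0 ≠ 0)
    (henc : ∀ i : Fin n, (M i 0 0).val + p * (M i 1 0).val = i.val + 1) :
    Nat.card (Subgroup.closure (Set.range G)) = n ∧
      ∀ v w : Fin 2 → ZMod p, v ≠ 0 → w ≠ 0 → ∃! h : Subgroup.closure (Set.range G),
        Matrix.mulVec ((h : Matrix.GeneralLinearGroup (Fin 2) (ZMod p)) :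
          Matrix (Fin 2) (Fin 2) (ZMod p)) v = w := by
  classical
  set H := Subgroup.closure (Set.range G) with hH
  have hlist : ∀ l : List (Fin k), ∃ h : H,
      ((h : Matrix.GeneralLinearGroup (Fin 2) (ZMod p)) : Matrix (Fin 2) (Fin 2) (ZMod p))
        = (l.map g).prod := by
    intro l
    induction l with
    | nil => exact ⟨1, by simp⟩
    | cons a l ih =>
        obtain ⟨h, hh⟩ := ih
        refine ⟨⟨G a, Subgroup.subset_closure ⟨a, rfl⟩⟩ * h, ?_⟩
        simp [hG, hh]
  choose e he using fun i => hlist (W i)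
  have he' : ∀ i, ((e i : Matrix.GeneralLinearGroup (Fin 2) (ZMod p)) :
      Matrix (Fin 2) (Fin 2) (ZMod p)) = M i := fun i => (he i).trans (hW i)
  have einj : Function.Injective e := by
    intro i j hij
    have h1 : M i = M j := by rw [← he' i, ← he' j, hij]
    apply Fin.ext
    have h2 := henc i
    rw [h1, henc j] at h2
    omega
  let S : Set (Matrix.GeneralLinearGroup (Fin 2) (ZMod p)) := Set.range fun i => (e i).1
  have hstep : ∀ h ∈ H, ∀ x ∈ S, h * x ∈ S := by
    intro h hh
    refine Subgroup.closure_induction_left (p := fun h _ => ∀ x ∈ S, h * x ∈ S)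
      ?_ ?_ ?_ hh
    · intro x hx; simpa using hx
    · rintro _ ⟨j, rfl⟩ y _ ih x hx
      obtain ⟨i, hi⟩ := ih x hx
      refine ⟨T j i, ?_⟩
      apply Units.ext
      have hi' : (e i).1 = y * x := hi
      rw [mul_assoc, ← hi', Units.val_mul, hG, he', he', hT]
    · rintro _ ⟨j, rfl⟩ y _ ih x hx
      have hinj : Set.InjOn (fun z => G j * z) S := fun a _ b _ hab => mul_left_cancel hab
      have hmaps : Set.MapsTo (fun z => G j * z) S S := by
        rintro _ ⟨i, rfl⟩
        refine ⟨T j i, ?_⟩
        apply Units.ext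
        simp only [Units.val_mul]
        rw [hG, he', he', hT]
      have hsurj := ((Set.finite_range _).injOn_iff_bijOn_of_mapsTo hmaps).mp hinj
      obtain ⟨z, hz, hzx⟩ := hsurj.surjOn (ih x hx)
      have : (G j)⁻¹ * y * x = z := by
        rw [mul_assoc, ← hzx, ← mul_assoc, inv_mul_cancel, one_mul]
      rw [this]; exact hz
  have esurj : Function.Surjective e := by
    intro h
    have h1 : (e o).1 = 1 := Units.ext (by rw [he', ho]; rfl)
    obtain ⟨i, hi⟩ := hstep h h.2 (e o).1 ⟨o, rfl⟩
    refine ⟨i, Subtype.ext ?_⟩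
    rw [h1, mul_one] at hi
    exact hi
  let E : Fin n ≃ H := Equiv.ofBijective e ⟨einj, esurj⟩
  have hcard : Nat.card H = n := by rw [← Nat.card_congr E, Nat.card_fin]
  refine ⟨hcard, fun v w hv hw => ?_⟩
  let act : H → {u : Fin 2 → ZMod p // u ≠ 0} := fun h =>
    ⟨Matrix.mulVec ((h : Matrix.GeneralLinearGroup (Fin 2) (ZMod p)) :
        Matrix (Fin 2) (Fin 2) (ZMod p)) v, by
      intro h0
      apply hv
      have := congrArg (Matrix.mulVec (((h : Matrix.GeneralLinearGroup (Fin 2) (ZMod p))⁻¹ :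
        Matrix.GeneralLinearGroup (Fin 2) (ZMod p)) : Matrix (Fin 2) (Fin 2) (ZMod p))) h0
      rwa [Matrix.mulVec_mulVec, ← Units.val_mul, inv_mul_cancel, Units.val_one,
        Matrix.one_mulVec, Matrix.mulVec_zero] at this⟩
  have ainj : Function.Injective act := by
    intro a b hab
    have hab' := congrArg Subtype.val hab
    obtain ⟨i, hi⟩ := esurj (a⁻¹ * b)
    by_cases hio : i = o
    · subst hio
      have : ((a⁻¹ * b : H) : Matrix.GeneralLinearGroup (Fin 2) (ZMod p)) = 1 := by
        rw [← hi]; exact Units.ext (by rw [he', ho]; rfl)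
      exact (inv_mul_eq_one.mp (Subtype.ext this))
    · exfalso
      have hfix : Matrix.mulVec (M i) v = v := by
        rw [← he', hi]
        simp only [act] at hab'
        rw [Subgroup.coe_mul, Units.val_mul, ← Matrix.mulVec_mulVec, ← hab',
          Matrix.mulVec_mulVec, ← Units.val_mul, Subgroup.coe_inv, inv_mul_cancel,
          Units.val_one, Matrix.one_mulVec]
      apply hv
      apply Matrix.eq_zero_of_mulVec_eq_zero (M := M i - 1)
      · rw [Matrix.det_fin_two]
        simpa using hdet i hio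
      · rw [Matrix.sub_mulVec, hfix, Matrix.one_mulVec, sub_self]
  haveI : Finite H := Finite.of_equiv _ E
  haveI := Fintype.ofFinite H
  have hbij : Function.Bijective act := by
    rw [Fintype.bijective_iff_injective_and_card]
    refine ⟨ainj, ?_⟩
    have : Fintype.card {u : Fin 2 → ZMod p // u ≠ 0} = n := by
      rw [Fintype.card_subtype_compl, Fintype.card_subtype_eq]
      simp [ZMod.card, pow_two]
      omega
    rw [this, ← Nat.card_eq_fintype_card, hcard]
  obtain ⟨h, hh⟩ := hbij.2 ⟨w, hw⟩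
  refine ⟨h, congrArg Subtype.val hh, fun h' hh' => hbij.1 ?_⟩
  rw [hh]
  exact Subtype.ext hh'

end Cfsg.Agent.NearfieldMat
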