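import Mathlib.NumberTheory.Padics.PadicVal.Basic
import Mathlib.GroupTheory.Sylow
import Mathlib.GroupTheory.Nilpotent
import Mathlib.GroupTheory.GroupAction.Quotient
import Mathlib.GroupTheory.Perm.Basic
import Mathlib.Data.Fintype.Perm
import Mathlib.Data.Finite.Perm
import Mathlib.GroupTheory.Perm.Sign
import Mathlib.Tactic.Ring
import Mathlib.Tactic.IntervalCases
import Mathlib.Tactic.NormNum

/-!
# Nilpotent subgroups of symmetric groups

A transitive nilpotent group of degree `m` acts with every Sylow subgroup faithful on one of its orbits,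
whose lengths are prime powers dividing `m`. Hence a nilpotent permutation group of degree `n` has order at
most `nilBound n`, which is the 2-part of `n!` for `n ≢ 3 (mod 4)` and `3/2` times it otherwise.
-/

set_option autoImplicit false

namespace Cfsg.Lib.NilpotentPerm

open MulAction

/-- The exponent of 2 in `n!`. -/
abbrev twoExp (n : ℕ) : ℕ := padicValNat 2 n.factorial

theorem twoExp_rec (n : ℕ) : twoExp n = n / 2 + twoExp (n / 2) := by
  haveI : Fact (Nat.Prime 2) := ⟨Nat.prime_two⟩
  conv_lhs => rw [show n = 2 * (n / 2) + n % 2 from (Nat.div_add_mod n 2).symm]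
  unfold twoExp
  rw [padicValNat_factorial_mul_add (n / 2) (Nat.mod_lt _ two_pos), padicValNat_factorial_mul, add_comm]

theorem twoExp_zero : twoExp 0 = 0 := by simp [twoExp]

theorem twoExp_one : twoExp 1 = 0 := by simp [twoExp]

theorem twoExp_add_le (a b : ℕ) : twoExp a + twoExp b ≤ twoExp (a + b) := by
  induction h : a + b using Nat.strong_induction_on generalizing a b with
  | _ n ih =>
    subst h
    by_cases h0 : a + b ≤ 1
    · rcases Nat.eq_zero_or_pos a with rfl | ha
      · simp [twoExp_zero]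
      · obtain ⟨rfl, rfl⟩ : a = 1 ∧ b = 0 := by omega
        simp [twoExp_zero, twoExp_one]
    have h1 := ih (a / 2 + b / 2) (by omega) _ _ rfl
    have h2 : twoExp (a / 2 + b / 2) ≤ twoExp ((a + b) / 2) := by
      rcases (show (a + b) / 2 = a / 2 + b / 2 ∨ (a + b) / 2 = (a / 2 + b / 2) + 1 by omega) with e | e
      · rw [e]
      · rw [e]
        have := ih (a / 2 + b / 2 + 1) (by omega) (a / 2 + b / 2) 1 rfl
        omega
    rw [twoExp_rec a, twoExp_rec b, twoExp_rec (a + b)]
    omega

theorem twoExp_mono {a b : ℕ} (h : a ≤ b) : twoExp a ≤ twoExp b := by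
  obtain ⟨c, rfl⟩ := Nat.exists_eq_add_of_le h
  exact le_trans (Nat.le_add_right _ _) (twoExp_add_le a c)

theorem twoExp_rec_four (n : ℕ) : twoExp n = n / 2 + n / 4 + twoExp (n / 4) := by
  rw [twoExp_rec n, twoExp_rec (n / 2), Nat.div_div_eq_div_mul, add_assoc]

theorem twoExp_add_four (a b : ℕ) :
    twoExp a + twoExp b + ((a + b) / 2 + (a + b) / 4) ≤ twoExp (a + b) + (a / 2 + a / 4 + (b / 2 + b / 4)) := by
  have h1 := twoExp_add_le (a / 4) (b / 4)
  have h2 : twoExp (a / 4 + b / 4) ≤ twoExp ((a + b) / 4) := twoExp_mono (by omega)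
  rw [twoExp_rec_four a, twoExp_rec_four b, twoExp_rec_four (a + b)]
  omega

theorem twoExp_pos {n : ℕ} (h : 2 ≤ n) : 1 ≤ twoExp n := by rw [twoExp_rec]; omega

/-- The largest order of a nilpotent permutation group of degree `n`. -/
def nilBound (n : ℕ) : ℕ := if n % 4 = 3 then 3 * 2 ^ (twoExp n - 1) else 2 ^ twoExp n

theorem nilBound_of_ne {n : ℕ} (h : n % 4 ≠ 3) : nilBound n = 2 ^ twoExp n := if_neg h

theorem nilBound_of_eq {n : ℕ} (h : n % 4 = 3) : nilBound n = 3 * 2 ^ (twoExp n - 1) := if_pos h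

theorem nilBound_pos (n : ℕ) : 0 < nilBound n := by
  unfold nilBound; split <;> positivity

theorem two_pow_le_nilBound (n : ℕ) : 2 ^ twoExp n ≤ nilBound n := by
  by_cases h : n % 4 = 3
  · have := twoExp_pos (show 2 ≤ n by omega)
    rw [nilBound_of_eq h]
    calc 2 ^ twoExp n = 2 * 2 ^ (twoExp n - 1) := by rw [← pow_succ', show twoExp n - 1 + 1 = twoExp n by omega]
      _ ≤ _ := Nat.mul_le_mul_right _ (by norm_num)
  · rw [nilBound_of_ne h]

theorem nilBound_add_le (a b : ℕ) : nilBound a * nilBound b ≤ nilBound (a + b) := by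
  have h := twoExp_add_four a b
  have h0 := twoExp_add_le a b
  by_cases ha : a % 4 = 3 <;> by_cases hb : b % 4 = 3
  · have := twoExp_pos (show 2 ≤ a by omega)
    have := twoExp_pos (show 2 ≤ b by omega)
    rw [nilBound_of_eq ha, nilBound_of_eq hb, nilBound_of_ne (by omega)]
    calc 3 * 2 ^ (twoExp a - 1) * (3 * 2 ^ (twoExp b - 1))
        = 9 * 2 ^ (twoExp a - 1 + (twoExp b - 1)) := by rw [pow_add]; ring
      _ ≤ 2 ^ 4 * 2 ^ (twoExp a - 1 + (twoExp b - 1)) := Nat.mul_le_mul_right _ (by norm_num)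
      _ ≤ _ := by rw [← pow_add]; exact Nat.pow_le_pow_right two_pos (by omega)
  · have := twoExp_pos (show 2 ≤ a by omega)
    rw [nilBound_of_eq ha, nilBound_of_ne hb]
    by_cases hs : (a + b) % 4 = 3
    · rw [nilBound_of_eq hs, mul_assoc, ← pow_add]
      exact Nat.mul_le_mul_left 3 (Nat.pow_le_pow_right two_pos (by omega))
    · rw [nilBound_of_ne hs]
      calc 3 * 2 ^ (twoExp a - 1) * 2 ^ twoExp b = 3 * 2 ^ (twoExp a - 1 + twoExp b) := by rw [pow_add, mul_assoc]
        _ ≤ 2 ^ 2 * 2 ^ (twoExp a - 1 + twoExp b) := Nat.mul_le_mul_right _ (by norm_num)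
        _ ≤ _ := by rw [← pow_add]; exact Nat.pow_le_pow_right two_pos (by omega)
  · have := twoExp_pos (show 2 ≤ b by omega)
    rw [nilBound_of_ne ha, nilBound_of_eq hb]
    by_cases hs : (a + b) % 4 = 3
    · rw [nilBound_of_eq hs, mul_left_comm, ← pow_add]
      exact Nat.mul_le_mul_left 3 (Nat.pow_le_pow_right two_pos (by omega))
    · rw [nilBound_of_ne hs]
      calc 2 ^ twoExp a * (3 * 2 ^ (twoExp b - 1)) = 3 * 2 ^ (twoExp a + (twoExp b - 1)) := by rw [pow_add]; ring
        _ ≤ 2 ^ 2 * 2 ^ (twoExp a + (twoExp b - 1)) := Nat.mul_le_mul_right _ (by norm_num)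
        _ ≤ _ := by rw [← pow_add]; exact Nat.pow_le_pow_right two_pos (by omega)
  · rw [nilBound_of_ne ha, nilBound_of_ne hb, ← pow_add]
    exact (Nat.pow_le_pow_right two_pos h0).trans (two_pow_le_nilBound _)

theorem nilBound_zero : nilBound 0 = 1 := by rw [nilBound_of_ne (by norm_num), twoExp_zero, pow_zero]

theorem nilBound_one : nilBound 1 = 1 := by rw [nilBound_of_ne (by norm_num), twoExp_one, pow_zero]

theorem nilBound_mono {a b : ℕ} (h : a ≤ b) : nilBound a ≤ nilBound b := by
  obtain ⟨c, rfl⟩ := Nat.exists_eq_add_of_le h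
  exact le_trans (Nat.le_mul_of_pos_right _ (nilBound_pos c)) (nilBound_add_le a c)

theorem nilBound_mul_le {a b : ℕ} (ha : 0 < a) (hb : 0 < b) : nilBound a * nilBound b ≤ nilBound (a * b) := by
  rcases Nat.eq_or_lt_of_le ha with rfl | ha2
  · simp [nilBound_one]
  rcases Nat.eq_or_lt_of_le hb with rfl | hb2
  · simp [nilBound_one]
  exact (nilBound_add_le a b).trans (nilBound_mono (Nat.add_le_mul ha2 hb2))

theorem le_nilBound : ∀ n, n ≤ nilBound n
  | 0 => Nat.zero_le _
  | 1 => nilBound_one.ge
  | 2 => by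
    rw [nilBound_of_ne (by norm_num), twoExp_rec, twoExp_one]; norm_num
  | 3 => by
    rw [nilBound_of_eq (by norm_num), twoExp_rec, twoExp_one]; norm_num
  | n + 4 => by
    have h1 := le_nilBound (n + 2)
    have h2 := nilBound_add_le (n + 2) 2
    have h3 : 2 ≤ nilBound 2 := le_nilBound 2
    have h4 : (n + 2) * 2 ≤ nilBound (n + 2) * nilBound 2 := Nat.mul_le_mul h1 h3
    rw [show n + 2 + 2 = n + 4 by ring] at h2
    omega

theorem prod_nilBound_le {ι : Type*} (s : Finset ι) (f : ι → ℕ) :
    ∏ i ∈ s, nilBound (f i) ≤ nilBound (∑ i ∈ s, f i) := by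
  classical
  induction s using Finset.induction with
  | empty => simp [nilBound_zero]
  | insert a s ha ih =>
    rw [Finset.prod_insert ha, Finset.sum_insert ha]
    exact (Nat.mul_le_mul le_rfl ih).trans (nilBound_add_le _ _)

theorem prod_nilBound_le' {ι : Type*} (s : Finset ι) (f : ι → ℕ) (hf : ∀ i ∈ s, 0 < f i) :
    ∏ i ∈ s, nilBound (f i) ≤ nilBound (∏ i ∈ s, f i) := by
  classical
  induction s using Finset.induction with
  | empty => simp [nilBound_one]
  | insert a s ha ih =>
    rw [Finset.prod_insert ha, Finset.prod_insert ha]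
    exact (Nat.mul_le_mul le_rfl (ih fun i hi => hf i (Finset.mem_insert_of_mem hi))).trans
      (nilBound_mul_le (hf a (Finset.mem_insert_self a s))
        (Finset.prod_pos fun i hi => hf i (Finset.mem_insert_of_mem hi)))

theorem sub_one_mul_val (p : ℕ) [hp : Fact p.Prime] (b : ℕ) :
    (p - 1) * padicValNat p (p ^ b).factorial + 1 = p ^ b := by
  induction b with
  | zero => simp
  | succ b ih =>
    rw [pow_succ', padicValNat_factorial_mul, mul_add, add_right_comm, ih]
    have := hp.out.one_lt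
    calc p ^ b + (p - 1) * p ^ b = (1 + (p - 1)) * p ^ b := by ring
      _ = p * p ^ b := by rw [show 1 + (p - 1) = p by omega]

theorem sq_le_three_pow : ∀ p, 3 ≤ p → p ^ 2 ≤ 3 ^ (p - 1) := by
  intro p hp
  induction p, hp using Nat.le_induction with
  | base => norm_num
  | succ p hp ih =>
    calc (p + 1) ^ 2 ≤ p ^ 2 * 3 := by nlinarith
      _ ≤ 3 ^ (p - 1) * 3 := Nat.mul_le_mul_right 3 ih
      _ = 3 ^ (p + 1 - 1) := by rw [← pow_succ]; congr 1; omega

/-- The Sylow bound for a prime power. -/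
theorem prime_pow_bound (p : ℕ) [hp : Fact p.Prime] (b : ℕ) :
    p ^ padicValNat p (p ^ b).factorial ≤ nilBound (p ^ b) := by
  have hv := sub_one_mul_val p b
  rcases hp.out.eq_two_or_odd with rfl | hodd
  · exact two_pow_le_nilBound _
  have hp3 : 3 ≤ p := by have := hp.out.two_le; omega
  set e := padicValNat p (p ^ b).factorial
  have hm2 : p ^ b % 2 = 1 := by simp [Nat.pow_mod, hodd]
  generalize hm : p ^ b = m at hv hm2 ⊢
  by_cases h16 : 16 ≤ m
  · refine le_trans ?_ (two_pow_le_nilBound m)
    have hbig : 4 * (m - 1) ≤ 5 * twoExp m := by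
      rw [twoExp_rec m, twoExp_rec (m / 2), twoExp_rec (m / 2 / 2), twoExp_rec (m / 2 / 2 / 2)]
      omega
    refine (Nat.pow_le_pow_iff_left (n := 10) (by norm_num)).1 ?_
    calc (p ^ e) ^ 10 = (p ^ 2) ^ (5 * e) := by rw [← pow_mul, ← pow_mul]; ring_nf
      _ ≤ (3 ^ (p - 1)) ^ (5 * e) := Nat.pow_le_pow_left (sq_le_three_pow p hp3) _
      _ = (3 ^ 5) ^ (m - 1) := by
        rw [← pow_mul, ← pow_mul]; congr 1
        rw [show m - 1 = (p - 1) * e by omega]; ring
      _ ≤ (2 ^ 8) ^ (m - 1) := Nat.pow_le_pow_left (by norm_num) _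
      _ ≤ (2 ^ twoExp m) ^ 10 := by
        rw [← pow_mul, ← pow_mul]; exact Nat.pow_le_pow_right two_pos (by omega)
  · have hb3 : b ≤ 2 := by
      by_contra hb
      have : 3 ^ 3 ≤ p ^ b := (Nat.pow_le_pow_left hp3 3).trans (Nat.pow_le_pow_right (by omega) (not_le.1 hb))
      omega
    interval_cases b
    · obtain rfl : m = 1 := by simpa using hm.symm
      have : e = 0 := by
        rcases Nat.eq_zero_or_pos e with h | h
        · exact h
        · have : 0 < (p - 1) * e := Nat.mul_pos (by omega) h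
          omega
      rw [this, pow_zero]; exact nilBound_pos _
    · rw [pow_one] at hm
      subst hm
      have he : e = 1 := by
        have : (p - 1) * e = (p - 1) * 1 := by omega
        exact Nat.eq_of_mul_eq_mul_left (by omega) this
      rw [he, pow_one]
      exact le_nilBound p
    · have hp3' : p = 3 := by
        by_contra h
        have : 4 ^ 2 ≤ p ^ 2 := Nat.pow_le_pow_left (by omega) 2
        omega
      subst hp3'
      obtain rfl : m = 9 := by simpa using hm.symm
      have he : e = 4 := by omega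
      rw [he, nilBound_of_ne (by norm_num), twoExp_rec 9, twoExp_rec 4, twoExp_rec 2, twoExp_one]
      norm_num

theorem card_le_pow_val {p : ℕ} [hp : Fact p.Prime] {P : Type*} [Group P] [Finite P] (hP : IsPGroup p P)
    {β : Type*} [Finite β] (φ : P →* Equiv.Perm β) (hφ : Function.Injective φ) {b : ℕ}
    (hb : Nat.card β = p ^ b) : Nat.card P ≤ p ^ padicValNat p (p ^ b).factorial := by
  obtain ⟨k, hk⟩ := IsPGroup.iff_card.1 hP
  have h := Subgroup.card_subgroup_dvd_card φ.range
  rw [← Nat.card_congr (MonoidHom.ofInjective hφ).toEquiv, Nat.card_perm, hb, hk] at h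
  rw [hk]
  exact Nat.pow_le_pow_right hp.out.pos ((padicValNat_dvd_iff_le (Nat.factorial_ne_zero _)).1 h)

/-- The Sylow `p`-subgroup of a transitive nilpotent group is faithful on its orbit, of length a power of `p`
dividing the degree. -/
theorem exists_sylow_bound {N : Type*} [Group N] [Finite N] (hN : Group.IsNilpotent N)
    {Ω : Type*} [Finite Ω] [MulAction N Ω] [FaithfulSMul N Ω] [IsPretransitive N Ω] [Nonempty Ω]
    (p : ℕ) [Fact p.Prime] :
    ∃ b : ℕ, p ^ b ∣ Nat.card Ω ∧
      p ^ (Nat.card N).factorization p ≤ p ^ padicValNat p (p ^ b).factorial := by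
  classical
  obtain ⟨x⟩ := ‹Nonempty Ω›
  obtain ⟨P⟩ : Nonempty (Sylow p N) := inferInstance
  haveI hn : (P : Subgroup N).Normal :=
    P.normal_of_normalizerCondition (Group.normalizerCondition_of_isNilpotent (G := N))
  have hcard : Nat.card (orbit (P : Subgroup N) x) = (stabilizer N x).relIndex (P : Subgroup N) := by
    rw [Nat.card_congr (orbitEquivQuotientStabilizer (P : Subgroup N) x), Subgroup.relIndex, Subgroup.index]
    rfl
  obtain ⟨b, hb⟩ : ∃ b, Nat.card (orbit (P : Subgroup N) x) = p ^ b := by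
    rw [Nat.card_congr (orbitEquivQuotientStabilizer (P : Subgroup N) x)]
    exact P.2.index (stabilizer (P : Subgroup N) x)
  refine ⟨b, ?_, ?_⟩
  · have hidx : Nat.card Ω = (stabilizer N x).index := (index_stabilizer_of_transitive N x).symm
    have h1 := Subgroup.relIndex_mul_index (inf_le_left : (P : Subgroup N) ⊓ stabilizer N x ≤ P)
    have h2 := Subgroup.relIndex_mul_index (inf_le_right : (P : Subgroup N) ⊓ stabilizer N x ≤ stabilizer N x)
    rw [Subgroup.inf_relIndex_left, ← hcard, hb] at h1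
    rw [Subgroup.inf_relIndex_right, ← hidx, ← h1] at h2
    refine (Nat.Coprime.pow_left b ((Fact.out : p.Prime).coprime_iff_not_dvd.2 fun hd => ?_)).dvd_of_dvd_mul_left
      (Dvd.intro _ h2.symm)
    exact P.not_dvd_index (hd.trans (Subgroup.relIndex_dvd_index_of_normal _ _))
  · rw [← Sylow.card_eq_multiplicity P]
    refine (card_le_pow_val P.2 (MulAction.toPermHom (P : Subgroup N) (orbit (P : Subgroup N) x)) ?_ hb)
    rw [injective_iff_map_eq_one]
    intro g hg
    refine Subtype.ext (eq_of_smul_eq_smul (α := Ω) fun y => ?_)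
    obtain ⟨n, rfl⟩ := exists_smul_eq N x y
    have hc : n⁻¹ * (g : N) * n ∈ (P : Subgroup N) := by simpa using hn.conj_mem g g.2 n⁻¹
    rw [Subgroup.coe_one, one_smul]
    -- `n⁻¹ g n` fixes `x`
    have hfix : ∀ (h : (P : Subgroup N)), (g : N) • ((h : N) • x) = (h : N) • x := fun h =>
      congrArg Subtype.val (Equiv.ext_iff.1 hg ⟨(h : N) • x, ⟨h, rfl⟩⟩)
    obtain ⟨q, hq, r, hr, rfl⟩ : ∃ q : N, (∀ h : (P : Subgroup N), Commute q h) ∧ ∃ r ∈ (P : Subgroup N), n = q * r := by
      haveI : (Subgroup.centralizer ((P : Subgroup N) : Set N)).Normal := inferInstance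
      have htop : Subgroup.centralizer ((P : Subgroup N) : Set N) ⊔ (P : Subgroup N) = ⊤ := by
        by_contra hne
        obtain ⟨q, hq, hqd⟩ := Nat.exists_prime_and_dvd (Subgroup.index_eq_one.not.2 hne)
        by_cases hqp : q = p
        · rw [hqp] at hqd
          exact P.not_dvd_index (hqd.trans (Subgroup.index_dvd_of_le le_sup_right))
        · haveI : Fact q.Prime := ⟨hq⟩
          obtain ⟨Q⟩ : Nonempty (Sylow q N) := inferInstance
          haveI hQn : (Q : Subgroup N).Normal :=
            Q.normal_of_normalizerCondition (Group.normalizerCondition_of_isNilpotent (G := N))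
          have hle : (Q : Subgroup N) ≤ Subgroup.centralizer ((P : Subgroup N) : Set N) := fun u hu =>
            Subgroup.mem_centralizer_iff.2 fun w hw => Subgroup.commute_of_normal_of_disjoint (P : Subgroup N)
              (Q : Subgroup N) hn hQn (IsPGroup.disjoint_of_ne p q (Ne.symm hqp) _ _ P.2 Q.2) w u hw hu
          exact Q.not_dvd_index (hqd.trans (Subgroup.index_dvd_of_le (hle.trans le_sup_left)))
      obtain ⟨q, hq, r, hr, hqr⟩ := Subgroup.mem_sup_of_normal_left.1 (htop ▸ Subgroup.mem_top n)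
      exact ⟨q, fun h => (Subgroup.mem_centralizer_iff.1 hq h h.2).symm, r, hr, hqr.symm⟩
    rw [mul_smul, ← mul_smul (g : N) q, (hq g).symm.eq, mul_smul, hfix ⟨r, hr⟩]

/-- A transitive nilpotent permutation group of degree `m`. -/
theorem card_le_of_transitive {N : Type*} [Group N] [Finite N] (hN : Group.IsNilpotent N)
    {Ω : Type*} [Finite Ω] [MulAction N Ω] [FaithfulSMul N Ω] [IsPretransitive N Ω] [Nonempty Ω] :
    Nat.card N ≤ nilBound (Nat.card Ω) := by
  classical
  have key : ∀ p ∈ (Nat.card N).primeFactors, ∃ b : ℕ, p ^ b ∣ Nat.card Ω ∧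
      p ^ (Nat.card N).factorization p ≤ nilBound (p ^ b) := by
    intro p hp
    haveI : Fact p.Prime := ⟨Nat.prime_of_mem_primeFactors hp⟩
    obtain ⟨b, h1, h2⟩ := exists_sylow_bound hN (Ω := Ω) p
    exact ⟨b, h1, h2.trans (prime_pow_bound p b)⟩
  choose! b hb1 hb2 using key
  have hprod : ∏ p ∈ (Nat.card N).primeFactors, p ^ (Nat.card N).factorization p = Nat.card N :=
    (Nat.prod_primeFactors_pow_factorization Nat.card_pos.ne').symm
  rw [← hprod]
  refine (Finset.prod_le_prod' fun p hp => hb2 p hp).trans ((prod_nilBound_le' _ _ fun p hp =>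
    pow_pos (Nat.prime_of_mem_primeFactors hp).pos _).trans (nilBound_mono (Nat.le_of_dvd Nat.card_pos ?_)))
  suffices h : ∀ s ⊆ (Nat.card N).primeFactors, ∏ p ∈ s, p ^ b p ∣ Nat.card Ω from h _ subset_rfl
  intro s
  induction s using Finset.induction with
  | empty => simp
  | insert a s ha ih =>
    intro hs
    rw [Finset.prod_insert ha]
    refine Nat.Coprime.mul_dvd_of_dvd_of_dvd (Nat.Coprime.prod_right fun q hq => Nat.Coprime.pow _ _
      ((Nat.coprime_primes (Nat.prime_of_mem_primeFactors (hs (Finset.mem_insert_self a s)))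
        (Nat.prime_of_mem_primeFactors (hs (Finset.mem_insert_of_mem hq)))).2 fun h => ha (h ▸ hq)))
      (hb1 a (hs (Finset.mem_insert_self a s))) (ih fun x hx => hs (Finset.mem_insert_of_mem hx))

/-- A nilpotent permutation group of degree `n`. -/
theorem card_le {α : Type*} [Fintype α] (N : Subgroup (Equiv.Perm α)) (hN : Group.IsNilpotent N) :
    Nat.card N ≤ nilBound (Fintype.card α) := by
  classical
  haveI := Fintype.ofFinite (orbitRel.Quotient N α)
  let r : ∀ ω : orbitRel.Quotient N α, N →* Equiv.Perm ω.orbit := fun ω =>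
    MulAction.toPermHom N ω.orbit
  let φ : N →* ∀ ω, (r ω).range :=
    { toFun := fun a ω => (r ω).rangeRestrict a
      map_one' := funext fun ω => map_one _
      map_mul' := fun a b => funext fun ω => map_mul _ _ _ }
  have hφ : Function.Injective φ := fun a b h => Subtype.ext (Equiv.ext fun y => by
    have hy : y ∈ orbitRel.Quotient.orbit (Quotient.mk'' y : orbitRel.Quotient N α) := orbitRel.Quotient.mem_orbit.2 rfl
    exact congrArg Subtype.val (Equiv.ext_iff.1 (congrArg Subtype.val (congrFun h (Quotient.mk'' y : orbitRel.Quotient N α))) ⟨y, hy⟩))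
  refine (Nat.card_le_card_of_injective φ hφ).trans ?_
  rw [Nat.card_pi, show Fintype.card α = ∑ ω : orbitRel.Quotient N α, Nat.card ω.orbit by
    rw [← Nat.card_sigma, ← Nat.card_eq_fintype_card]
    exact Nat.card_congr (selfEquivSigmaOrbits' N α)]
  refine (Finset.prod_le_prod' fun ω _ => ?_).trans (prod_nilBound_le _ _)
  haveI : Group.IsNilpotent (r ω).range := Group.nilpotent_of_surjective _ (r ω).rangeRestrict_surjective
  haveI : Nonempty ω.orbit := ⟨⟨ω.out, orbitRel.Quotient.mem_orbit.2 (Quotient.out_eq' ω)⟩⟩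
  haveI : IsPretransitive (r ω).range ω.orbit := ⟨fun u v => by
    obtain ⟨g, hg⟩ := exists_smul_eq N u v
    exact ⟨⟨r ω g, g, rfl⟩, hg⟩⟩
  exact card_le_of_transitive inferInstance (Ω := ω.orbit)

/-- The order of a Sylow 2-subgroup of the symmetric group. -/
theorem card_sylow {α : Type*} [Finite α] (P : Sylow 2 (Equiv.Perm α)) :
    Nat.card P = 2 ^ twoExp (Nat.card α) := by
  haveI : Fact (Nat.Prime 2) := ⟨Nat.prime_two⟩
  rw [Sylow.card_eq_multiplicity P, Nat.card_perm, Nat.factorization_def _ Nat.prime_two]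

end Cfsg.Lib.NilpotentPerm
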