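import Cfsg.Agent.Lib.Perm.NilpotentBound
import Mathlib.GroupTheory.SpecificGroups.Alternating
import Mathlib.Algebra.BigOperators.Associated
import Mathlib.Tactic.NormNum.Prime

/-!
# Nilpotent subgroups of alternating groups

A nilpotent group of even permutations of degree `n ∉ {0, 1, 2, 3, 5, 6, 9}` has order at most half of
`nilBound n`.
-/

set_option autoImplicit false
set_option linter.style.haveILetI false

namespace Cfsg.Lib.NilpotentPerm

open MulAction

theorem twoExp_two : twoExp 2 = 1 := by rw [twoExp_rec, twoExp_one]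

theorem twoExp_vals : twoExp 3 = 1 ∧ twoExp 4 = 3 ∧ twoExp 5 = 3 ∧ twoExp 6 = 4 ∧ twoExp 7 = 4 ∧
    twoExp 8 = 7 ∧ twoExp 9 = 7 ∧ twoExp 10 = 8 ∧ twoExp 11 = 8 ∧ twoExp 12 = 10 ∧ twoExp 13 = 10 ∧
    twoExp 14 = 11 ∧ twoExp 15 = 11 ∧ twoExp 16 = 15 ∧ twoExp 17 = 15 ∧ twoExp 18 = 16 := by
  have h3 : twoExp 3 = 1 := by rw [twoExp_rec, twoExp_one]
  have h4 : twoExp 4 = 3 := by rw [twoExp_rec, twoExp_two]
  have h5 : twoExp 5 = 3 := by rw [twoExp_rec, twoExp_two]
  have h6 : twoExp 6 = 4 := by rw [twoExp_rec, h3]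
  have h7 : twoExp 7 = 4 := by rw [twoExp_rec, h3]
  have h8 : twoExp 8 = 7 := by rw [twoExp_rec, h4]
  have h9 : twoExp 9 = 7 := by rw [twoExp_rec, h4]
  refine ⟨h3, h4, h5, h6, h7, h8, h9, ?_, ?_, ?_, ?_, ?_, ?_, ?_, ?_, ?_⟩
  · rw [twoExp_rec, h5]
  · rw [twoExp_rec, h5]
  · rw [twoExp_rec, h6]
  · rw [twoExp_rec, h6]
  · rw [twoExp_rec, h7]
  · rw [twoExp_rec, h7]
  · rw [twoExp_rec, h8]
  · rw [twoExp_rec, h8]
  · rw [twoExp_rec, h9]

theorem two_mul_le_pow : ∀ n, 6 ≤ n → 2 * n ≤ 2 ^ twoExp n := by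
  intro n
  induction n using Nat.strong_induction_on with
  | _ n ih =>
    intro hn
    obtain ⟨-, -, -, h6, h7, -⟩ := twoExp_vals
    by_cases h8 : n < 8
    · interval_cases n <;> simp [h6, h7]
    obtain ⟨m, rfl⟩ : ∃ m, n = m + 2 := ⟨n - 2, by omega⟩
    have h1 := ih m (by omega) (by omega)
    have h2 : twoExp m + 1 ≤ twoExp (m + 2) := by
      have := twoExp_add_le m 2
      rw [twoExp_two] at this
      exact this
    have h3 : 2 ^ (twoExp m + 1) ≤ 2 ^ twoExp (m + 2) := Nat.pow_le_pow_right two_pos h2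
    rw [pow_succ] at h3
    omega

/-- The Sylow bound of an odd prime power with a factor two to spare. -/
theorem two_mul_prime_pow_le (p : ℕ) [hp : Fact p.Prime] (hodd : p ≠ 2) (b : ℕ) (hm : 11 ≤ p ^ b) :
    2 * p ^ padicValNat p (p ^ b).factorial ≤ 2 ^ twoExp (p ^ b) := by
  have hv := sub_one_mul_val p b
  have hp3 : 3 ≤ p := by have := hp.out.two_le; omega
  by_cases hb : b = 1
  · subst hb
    have he : padicValNat p (p ^ 1).factorial = 1 := by
      have : (p - 1) * padicValNat p (p ^ 1).factorial = (p - 1) * 1 := by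
        rw [pow_one] at hv ⊢; omega
      exact Nat.eq_of_mul_eq_mul_left (by omega) this
    rw [he, pow_one]
    exact two_mul_le_pow p (by rw [pow_one] at hm; omega)
  have hm25 : 25 ≤ p ^ b := by
    rcases Nat.lt_or_ge b 3 with hb3 | hb3
    · interval_cases b
      · simp at hm
      · simp at hb
      · have : p ≠ 3 := fun h => by subst h; norm_num at hm
        have h4 : p ≠ 4 := fun h => (by norm_num : ¬ Nat.Prime 4) (h ▸ hp.out)
        calc 25 = 5 ^ 2 := by norm_num
          _ ≤ p ^ 2 := Nat.pow_le_pow_left (show 5 ≤ p by omega) 2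
    · exact le_trans (by norm_num) ((Nat.pow_le_pow_left hp3 3).trans (Nat.pow_le_pow_right (by omega) hb3))
  have hm2 : p ^ b % 2 = 1 := by simp [Nat.pow_mod, hp.out.mod_two_eq_one_iff_ne_two.2 hodd]
  generalize hmeq : p ^ b = m at hv hm25 hm2 ⊢
  generalize padicValNat p m.factorial = e at hv ⊢
  have hbig : 4 * (m - 1) + 5 ≤ 5 * twoExp m := by
    rw [twoExp_rec m, twoExp_rec (m / 2), twoExp_rec (m / 2 / 2), twoExp_rec (m / 2 / 2 / 2)]
    omega
  refine (Nat.pow_le_pow_iff_left (n := 10) (by norm_num)).1 ?_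
  calc (2 * p ^ e) ^ 10 = 2 ^ 10 * (p ^ 2) ^ (5 * e) := by rw [mul_pow, ← pow_mul, ← pow_mul]; ring_nf
    _ ≤ 2 ^ 10 * (3 ^ (p - 1)) ^ (5 * e) := Nat.mul_le_mul_left _ (Nat.pow_le_pow_left (sq_le_three_pow p hp3) _)
    _ = 2 ^ 10 * (3 ^ 5) ^ (m - 1) := by
      congr 1
      rw [← pow_mul, ← pow_mul]; congr 1
      rw [show m - 1 = (p - 1) * e by omega]; ring
    _ ≤ 2 ^ 10 * (2 ^ 8) ^ (m - 1) := Nat.mul_le_mul_left _ (Nat.pow_le_pow_left (by norm_num) _)
    _ ≤ (2 ^ twoExp m) ^ 10 := by
      rw [← pow_mul, ← pow_mul, ← pow_add]; exact Nat.pow_le_pow_right two_pos (by omega)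

/-- The degrees for which the bound for groups of even permutations fails. -/
def Exceptional (n : ℕ) : Prop := n ≤ 3 ∨ n = 5 ∨ n = 6 ∨ n = 9

theorem small_case (p : ℕ) [hp : Fact p.Prime] (hodd : p ≠ 2) {b r : ℕ} (hb : 1 ≤ b)
    (hr : Exceptional r) (hn : ¬ Exceptional (p ^ b + r)) :
    2 * p ^ padicValNat p (p ^ b).factorial * nilBound r ≤ nilBound (p ^ b + r) := by
  by_cases hm : 11 ≤ p ^ b
  · refine le_trans (Nat.mul_le_mul ((two_mul_prime_pow_le p hodd b hm).trans (two_pow_le_nilBound _)) le_rfl)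
      (nilBound_add_le _ _)
  have hv := sub_one_mul_val p b
  have hp3 : 3 ≤ p := by have := hp.out.two_le; omega
  have hb2 : b ≤ 2 := by
    by_contra h
    have : 3 ^ 3 ≤ p ^ b := (Nat.pow_le_pow_left hp3 3).trans (Nat.pow_le_pow_right (by omega) (not_le.1 h))
    omega
  obtain ⟨v3, v4, v5, v6, v7, v8, v9, v10, v11, v12, v13, v14, v15, v16, v17, v18⟩ := twoExp_vals
  have hp11 : p ≤ 10 := by
    have : p ^ 1 ≤ p ^ b := Nat.pow_le_pow_right (by omega) hb
    rw [pow_one] at this
    omega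
  have hpp : p = 3 ∨ p = 5 ∨ p = 7 := by
    have := hp.out
    interval_cases p <;> first | omega | exact absurd this (by norm_num)
  have hr9 : r ≤ 9 := by rcases hr with h | h | h | h <;> omega
  obtain ⟨hme⟩ : Nonempty ((p ^ b = 3 ∧ p ^ padicValNat p (p ^ b).factorial = 3) ∨
      (p ^ b = 5 ∧ p ^ padicValNat p (p ^ b).factorial = 5) ∨
      (p ^ b = 7 ∧ p ^ padicValNat p (p ^ b).factorial = 7) ∨
      (p ^ b = 9 ∧ p ^ padicValNat p (p ^ b).factorial = 81)) := by
    constructor
    generalize padicValNat p (p ^ b).factorial = e at hv ⊢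
    rcases Nat.lt_or_ge b 2 with hb1 | hb1
    · obtain rfl : b = 1 := by omega
      rw [pow_one] at hv ⊢
      have he1 : e = 1 := by
        have : (p - 1) * e = (p - 1) * 1 := by omega
        exact Nat.eq_of_mul_eq_mul_left (by omega) this
      subst he1
      rcases hpp with rfl | rfl | rfl <;> norm_num
    · obtain rfl : b = 2 := by omega
      rcases hpp with rfl | rfl | rfl
      · have : e = 4 := by norm_num at hv; omega
        subst this
        norm_num
      · norm_num at hm
      · norm_num at hm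
  obtain ⟨hm', he'⟩ | ⟨hm', he'⟩ | ⟨hm', he'⟩ | ⟨hm', he'⟩ := hme <;> rw [he'] <;> rw [hm'] at hn ⊢ <;>
    interval_cases r <;> simp [Exceptional] at hr hn <;>
    norm_num [nilBound, v3, v4, v5, v6, v7, v8, v9, v10, v11, v12, v13, v14, v15, v16, v17, v18,
      twoExp_zero, twoExp_one, twoExp_two]

section Transitive

variable {N : Type*} [Group N] [Finite N] {Ω : Type*} [Finite Ω] [MulAction N Ω] [FaithfulSMul N Ω]
  [IsPretransitive N Ω] [Nonempty Ω]

/-- The part of an odd prime in a transitive nilpotent group. -/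
theorem exists_odd_part (hN : Group.IsNilpotent N) (p : ℕ) [hp : Fact p.Prime] (hd : p ∣ Nat.card N) :
    ∃ b x : ℕ, 1 ≤ b ∧ Nat.card Ω = p ^ b * x ∧
      Nat.card N ≤ p ^ padicValNat p (p ^ b).factorial * nilBound x ∧ (x = 1 → IsPGroup p N) := by
  classical
  obtain ⟨b, ⟨x, hx⟩, hb⟩ := exists_sylow_bound hN (Ω := Ω) p
  have hfp : 1 ≤ (Nat.card N).factorization p := hp.out.factorization_pos_of_dvd Nat.card_pos.ne' hd
  have hb0 : 1 ≤ b := by
    by_contra h
    obtain rfl : b = 0 := by omega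
    simp at hb
    exact absurd (Nat.one_lt_pow (Nat.one_le_iff_ne_zero.1 hfp) hp.out.one_lt) (not_lt.2 hb)
  set S := (Nat.card N).primeFactors.erase p
  have key : ∀ q ∈ S, ∃ c : ℕ, q ^ c ∣ x ∧ q ^ (Nat.card N).factorization q ≤ nilBound (q ^ c) := by
    intro q hq
    obtain ⟨hqp, hq'⟩ := Finset.mem_erase.1 hq
    haveI : Fact q.Prime := ⟨Nat.prime_of_mem_primeFactors hq'⟩
    obtain ⟨c, h1, h2⟩ := exists_sylow_bound hN (Ω := Ω) q
    refine ⟨c, ?_, h2.trans (prime_pow_bound q c)⟩
    rw [hx] at h1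
    exact (Nat.Coprime.pow _ _ ((Nat.coprime_primes (Nat.prime_of_mem_primeFactors hq') hp.out).2 hqp)).dvd_of_dvd_mul_left h1
  have hxpos : 0 < x := Nat.pos_of_ne_zero fun h => by
    rw [h, mul_zero] at hx
    exact Nat.card_pos.ne' hx
  choose! c hc1 hc2 using key
  have hsplit : p ^ (Nat.card N).factorization p * ∏ q ∈ S, q ^ (Nat.card N).factorization q = Nat.card N := by
    rw [Finset.mul_prod_erase _ (fun q => q ^ (Nat.card N).factorization q)
      (Nat.mem_primeFactors.2 ⟨hp.out, hd, Nat.card_pos.ne'⟩)]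
    exact (Nat.prod_primeFactors_pow_factorization Nat.card_pos.ne').symm
  have hdvd : ∀ s ⊆ S, ∏ q ∈ s, q ^ c q ∣ x := by
    intro s
    induction s using Finset.induction with
    | empty => simp
    | insert a s ha ih =>
      intro hs
      rw [Finset.prod_insert ha]
      refine Nat.Coprime.mul_dvd_of_dvd_of_dvd (Nat.Coprime.prod_right fun q hq => Nat.Coprime.pow _ _
        ((Nat.coprime_primes (Nat.prime_of_mem_primeFactors (Finset.mem_of_mem_erase (hs (Finset.mem_insert_self a s))))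
          (Nat.prime_of_mem_primeFactors (Finset.mem_of_mem_erase (hs (Finset.mem_insert_of_mem hq))))).2
          fun h => ha (h ▸ hq)))
        (hc1 a (hs (Finset.mem_insert_self a s))) (ih fun y hy => hs (Finset.mem_insert_of_mem hy))
  have hrest : ∏ q ∈ S, q ^ (Nat.card N).factorization q ≤ nilBound x :=
    (Finset.prod_le_prod' fun q hq => hc2 q hq).trans ((prod_nilBound_le' _ _ fun q hq =>
      pow_pos (Nat.prime_of_mem_primeFactors (Finset.mem_of_mem_erase hq)).pos _).trans
        (nilBound_mono (Nat.le_of_dvd hxpos (hdvd S subset_rfl))))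
  refine ⟨b, x, hb0, hx, hsplit.symm.le.trans (Nat.mul_le_mul hb hrest), fun h1 => ?_⟩
  refine IsPGroup.of_card (n := (Nat.card N).factorization p) ?_
  rw [h1, nilBound_one] at hrest
  have : 0 < ∏ q ∈ S, q ^ (Nat.card N).factorization q :=
    Finset.prod_pos fun q hq => pow_pos (Nat.prime_of_mem_primeFactors (Finset.mem_of_mem_erase hq)).pos _
  nlinarith [hsplit]

end Transitive

universe u

/-- A nilpotent group of even permutations. -/
theorem two_mul_card_le {α : Type u} [Fintype α] [DecidableEq α] (N : Subgroup (Equiv.Perm α))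
    (hN : Group.IsNilpotent N) (hev : ∀ a ∈ N, Equiv.Perm.sign a = 1) (hn : ¬ Exceptional (Fintype.card α)) :
    2 * Nat.card N ≤ nilBound (Fintype.card α) := by
  induction hcard : Fintype.card α using Nat.strong_induction_on generalizing α with
  | _ n ih =>
  classical
  subst hcard
  have hn4 : 4 ≤ Fintype.card α := by
    by_contra h
    exact hn (Or.inl (by omega))
  by_cases h2 : IsPGroup 2 N
  · haveI : Fact (Nat.Prime 2) := ⟨Nat.prime_two⟩
    obtain ⟨k, hk⟩ := IsPGroup.iff_card.1 h2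
    have hle : N ≤ alternatingGroup α := fun a ha => Equiv.Perm.mem_alternatingGroup.2 (hev a ha)
    have hd := Subgroup.card_dvd_of_le hle
    haveI : Nontrivial α := Fintype.one_lt_card_iff_nontrivial.1 (by omega)
    have h' : 2 * Nat.card N ∣ (Fintype.card α).factorial := by
      rw [← Fintype.card_perm, ← two_mul_card_alternatingGroup (α := α), ← Nat.card_eq_fintype_card]
      exact Nat.mul_dvd_mul_left 2 hd
    rw [hk, ← pow_succ'] at h' ⊢
    exact (Nat.pow_le_pow_right two_pos ((padicValNat_dvd_iff_le (Nat.factorial_ne_zero _)).1 h')).trans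
      (two_pow_le_nilBound _)
  -- an odd prime divisor
  obtain ⟨p, hp, hp2, hpN⟩ : ∃ p, p.Prime ∧ p ≠ 2 ∧ p ∣ Nat.card N := by
    by_contra hcon
    push Not at hcon
    refine h2 (IsPGroup.of_card (n := (Nat.card N).primeFactorsList.length) ?_)
    exact Nat.eq_prime_pow_of_unique_prime_dvd Nat.card_pos.ne' fun {q} hq hqd => by
      by_contra hq2
      exact hcon q hq hq2 hqd
  haveI : Fact p.Prime := ⟨hp⟩
  haveI := Fintype.ofFinite (orbitRel.Quotient N α)
  let r : ∀ ω : orbitRel.Quotient N α, N →* Equiv.Perm ω.orbit := fun ω =>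
    MulAction.toPermHom N ω.orbit
  let φ : N →* ∀ ω, (r ω).range :=
    { toFun := fun a ω => (r ω).rangeRestrict a
      map_one' := funext fun ω => map_one _
      map_mul' := fun a b => funext fun ω => map_mul _ _ _ }
  have hφ : Function.Injective φ := fun a b h => Subtype.ext (Equiv.ext fun y => by
    have hy : y ∈ orbitRel.Quotient.orbit (Quotient.mk'' y : orbitRel.Quotient N α) := orbitRel.Quotient.mem_orbit.2 rfl
    exact congrArg Subtype.val (Equiv.ext_iff.1 (congrArg Subtype.val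
      (congrFun h (Quotient.mk'' y : orbitRel.Quotient N α))) ⟨y, hy⟩))
  obtain ⟨ω, -, hω⟩ : ∃ ω ∈ (Finset.univ : Finset (orbitRel.Quotient N α)), p ∣ Nat.card (r ω).range := by
    have h := hpN.trans (Subgroup.card_dvd_of_injective φ hφ)
    rw [Nat.card_pi] at h
    exact ((Nat.Prime.prime hp).dvd_finsetProd_iff _).1 h
  haveI : Group.IsNilpotent (r ω).range := Group.nilpotent_of_surjective _ (r ω).rangeRestrict_surjective
  haveI : Nonempty ω.orbit := ⟨⟨ω.out, orbitRel.Quotient.mem_orbit.2 (Quotient.out_eq' ω)⟩⟩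
  haveI : IsPretransitive (r ω).range ω.orbit := ⟨fun u v => by
    obtain ⟨g, hg⟩ := exists_smul_eq N u v
    exact ⟨⟨r ω g, g, rfl⟩, hg⟩⟩
  obtain ⟨b, x, hb, hx, hbound, hx1⟩ := exists_odd_part (N := (r ω).range) (Ω := ω.orbit) inferInstance p hω
  -- the action outside the orbit
  have hinv : ∀ a : N, ∀ y, (a : Equiv.Perm α) y ∈ ω.orbit ↔ y ∈ ω.orbit := fun a y => by
    simp only [orbitRel.Quotient.mem_orbit]
    rw [show (Quotient.mk'' ((a : Equiv.Perm α) y) : orbitRel.Quotient N α) = Quotient.mk'' y from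
      Quotient.sound' (⟨a, rfl⟩ : a • y ∈ orbit N y)]
  let s : N →* Equiv.Perm {y // ¬ y ∈ ω.orbit} :=
    { toFun := fun a => (a : Equiv.Perm α).subtypePerm fun y => not_congr (hinv a y)
      map_one' := Equiv.ext fun y => rfl
      map_mul' := fun a b => Equiv.ext fun y => rfl }
  let ψ : N →* (r ω).range × s.range := (r ω).rangeRestrict.prod s.rangeRestrict
  have hψ : Function.Injective ψ := fun a c h => Subtype.ext (Equiv.ext fun y => by
    by_cases hy : y ∈ ω.orbit
    · exact congrArg Subtype.val (Equiv.ext_iff.1 (congrArg (fun z => (z.1 : Equiv.Perm ω.orbit)) h) ⟨y, hy⟩)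
    · exact congrArg Subtype.val (Equiv.ext_iff.1 (congrArg (fun z => (z.2 : Equiv.Perm {y // ¬ y ∈ ω.orbit})) h) ⟨y, hy⟩))
  have hle := Nat.card_le_card_of_injective ψ hψ
  rw [Nat.card_prod] at hle
  set k := Fintype.card {y // ¬ y ∈ ω.orbit}
  have hk : Nat.card ω.orbit + k = Fintype.card α := by
    simp only [k, ← Nat.card_eq_fintype_card]
    rw [← Nat.card_sum]
    exact Nat.card_congr (Equiv.sumCompl (· ∈ ω.orbit))
  haveI : Group.IsNilpotent s.range := Group.nilpotent_of_surjective _ s.rangeRestrict_surjective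
  have hp3 : 3 ≤ p := by have := hp.two_le; omega
  have hm3 : 3 ≤ p ^ b := le_trans hp3 (Nat.le_self_pow (by omega) p)
  by_cases hx' : x = 1
  · subst hx'
    rw [mul_one] at hx
    rw [nilBound_one, mul_one] at hbound
    by_cases hkx : Exceptional k
    · calc 2 * Nat.card N ≤ 2 * (p ^ padicValNat p (p ^ b).factorial * nilBound k) :=
            Nat.mul_le_mul_left 2 (hle.trans (Nat.mul_le_mul hbound (card_le s.range inferInstance)))
        _ ≤ _ := by
          rw [← mul_assoc, ← hk, hx]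
          exact small_case p hp2 hb hkx (by rw [← hx, hk]; exact hn)
    · have hodd : ∀ a : N, Equiv.Perm.sign (r ω a) = 1 := fun a => by
        obtain ⟨j, hj⟩ := hx1 rfl ((r ω).rangeRestrict a)
        have hj' := congrArg (fun z : (r ω).range => Equiv.Perm.sign (z : Equiv.Perm ω.orbit)) hj
        simp only [Subgroup.coe_pow, map_pow, OneMemClass.coe_one, map_one] at hj'
        obtain ⟨i, hi⟩ : Odd (p ^ j) := (hp.odd_of_ne_two hp2).pow
        rw [hi, pow_succ, pow_mul, pow_two, Int.units_mul_self, one_pow, one_mul] at hj'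
        exact hj'
      have hev' : ∀ c ∈ s.range, Equiv.Perm.sign c = 1 := by
        rintro _ ⟨a, rfl⟩
        have hs : (a : Equiv.Perm α) = Equiv.Perm.subtypeCongr
            ((a : Equiv.Perm α).subtypePerm (p := (· ∈ ω.orbit)) (hinv a)) (s a) := Equiv.ext fun y => by
          by_cases hy : y ∈ ω.orbit
          · rw [Equiv.Perm.subtypeCongr.apply, dif_pos hy]; rfl
          · rw [Equiv.Perm.subtypeCongr.apply, dif_neg hy]; rfl
        have h := hev a a.2
        rw [hs, Equiv.Perm.sign_subtypeCongr,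
          show (a : Equiv.Perm α).subtypePerm (p := (· ∈ ω.orbit)) (hinv a) = r ω a from Equiv.ext fun y => rfl,
          hodd, one_mul] at h
        exact h
      have hlt : k < Fintype.card α := by omega
      have hih := ih k hlt s.range inferInstance hev' hkx rfl
      calc 2 * Nat.card N ≤ p ^ padicValNat p (p ^ b).factorial * (2 * Nat.card s.range) := by
            rw [mul_left_comm]; exact Nat.mul_le_mul_left 2 (hle.trans (Nat.mul_le_mul hbound le_rfl))
        _ ≤ nilBound (p ^ b) * nilBound k := Nat.mul_le_mul (prime_pow_bound p b) hih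
        _ ≤ _ := by rw [← hk, hx]; exact nilBound_add_le _ _
  · have hx2 : 2 ≤ x := by
      rcases Nat.eq_zero_or_pos x with h | h
      · rw [h, mul_zero] at hx; exact absurd hx Nat.card_pos.ne'
      · omega
    set m := p ^ b with hm
    set e := padicValNat p m.factorial with he
    have hv : (p - 1) * e + 1 = m := sub_one_mul_val p b
    have h2e : 2 * p ^ e ≤ 2 ^ twoExp (2 * (m - 1)) := by
      rw [twoExp_rec, Nat.mul_div_cancel_left _ two_pos]
      have h1 := twoExp_pos (show 2 ≤ m - 1 by omega)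
      have h3 : p ^ e ≤ 2 ^ (m - 1) := by
        refine (Nat.pow_le_pow_iff_left (n := 2) (by norm_num)).1 ?_
        calc (p ^ e) ^ 2 = (p ^ 2) ^ e := by rw [← pow_mul, ← pow_mul, mul_comm]
          _ ≤ (3 ^ (p - 1)) ^ e := Nat.pow_le_pow_left (sq_le_three_pow p hp3) _
          _ = 3 ^ (m - 1) := by rw [← pow_mul]; congr 1; omega
          _ ≤ 4 ^ (m - 1) := Nat.pow_le_pow_left (by norm_num) _
          _ = (2 ^ (m - 1)) ^ 2 := by rw [← pow_mul, mul_comm, pow_mul]; norm_num
      calc 2 * p ^ e ≤ 2 * 2 ^ (m - 1) := Nat.mul_le_mul_left 2 h3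
        _ ≤ _ := by rw [← pow_succ']; exact Nat.pow_le_pow_right two_pos (by omega)
    have hineq : 2 * (m - 1) + (x + k) ≤ Fintype.card α := by
      rw [← hk, hx]
      have : (m - 1) * 2 ≤ (m - 1) * x := Nat.mul_le_mul_left _ hx2
      have : m * x = (m - 1) * x + x := by
        conv_lhs => rw [show m = (m - 1) + 1 by omega, add_mul, one_mul]
      omega
    calc 2 * Nat.card N ≤ 2 * (p ^ e * nilBound x * nilBound k) :=
          Nat.mul_le_mul_left 2 (hle.trans (Nat.mul_le_mul hbound (card_le s.range inferInstance)))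
      _ = (2 * p ^ e) * (nilBound x * nilBound k) := by ring
      _ ≤ nilBound (2 * (m - 1)) * nilBound (x + k) :=
          Nat.mul_le_mul (h2e.trans (two_pow_le_nilBound _)) (nilBound_add_le _ _)
      _ ≤ _ := (nilBound_add_le _ _).trans (nilBound_mono hineq)

end Cfsg.Lib.NilpotentPerm
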