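import Mathlib
import Cfsg.Agent.Lib.Perm.NilpotentEvenBound

/-!
# Nilpotent permutation groups of degree `n ≡ 3 (mod 4)` of order `3 * 2 ^ k`

If `k` is within one of the exponent of 2 in `(n-3)!`, the element of order three is a three-cycle, so
such a group is generated by a three-cycle and a 2-subgroup of its centralizer.
-/

set_option autoImplicit false

namespace Cfsg.Lib.NilpotentPerm

open Equiv

theorem twoExp_four_mul (j : ℕ) : twoExp (4 * j) = 3 * j + twoExp j := by
  rw [twoExp_rec_four, show 4 * j / 4 = j by omega]; omega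

theorem twoExp_sub_three {n : ℕ} (hn : n % 4 = 3) :
    twoExp n = twoExp (n - 3) + 1 := by
  obtain ⟨j, rfl⟩ : ∃ j, n = 4 * j + 3 := ⟨n / 4, by omega⟩
  rw [Nat.add_sub_cancel, twoExp_four_mul, twoExp_rec_four, show (4 * j + 3) / 4 = j by omega]
  omega

theorem twoExp_gap {n t : ℕ} (hn : n % 4 = 3) (ht : 2 ≤ t) (htn : 3 * t ≤ n) :
    twoExp t + twoExp (n - 3 * t) + 2 ≤ twoExp (n - 3) := by
  obtain ⟨j, rfl⟩ : ∃ j, n = 4 * j + 3 := ⟨n / 4, by omega⟩
  rw [Nat.add_sub_cancel]
  rcases Nat.eq_or_lt_of_le ht with rfl | ht3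
  · have := twoExp_mono (show j - 1 ≤ j by omega)
    rw [twoExp_four_mul, twoExp_two, twoExp_rec_four, show (4 * j + 3 - 3 * 2) / 4 = j - 1 by omega]
    omega
  · have h1 := twoExp_add_le (2 * t) (4 * j + 3 - 3 * t)
    have h2 := twoExp_mono (show 2 * t + (4 * j + 3 - 3 * t) ≤ 4 * j by omega)
    have h3 := twoExp_rec (2 * t)
    rw [Nat.mul_div_cancel_left _ two_pos] at h3
    omega

/-- The structure of a nilpotent group of order `3 * 2 ^ k`. -/
theorem structure_three_two {G : Type*} [Group G] [Finite G] (N : Subgroup G)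
    (hN : Group.IsNilpotent N) (k : ℕ) (hc : Nat.card N = 3 * 2 ^ k) :
    ∃ σ : G, ∃ Q : Subgroup G, orderOf σ = 3 ∧ σ ∈ N ∧ Nat.card Q = 2 ^ k ∧
      Q ≤ Subgroup.centralizer ({σ} : Set G) ∧ Subgroup.zpowers σ ⊔ Q = N := by
  have : Fact (Nat.Prime 3) := ⟨by norm_num⟩
  have : Fact (Nat.Prime 2) := ⟨Nat.prime_two⟩
  obtain ⟨s, hs⟩ := exists_prime_orderOf_dvd_card' (G := N) 3 (by rw [hc]; exact dvd_mul_right _ _)
  obtain ⟨P⟩ : Nonempty (Sylow 2 N) := inferInstance
  obtain ⟨R⟩ : Nonempty (Sylow 3 N) := inferInstance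
  have hP : (P : Subgroup N).Normal :=
    P.normal_of_normalizerCondition (Group.normalizerCondition_of_isNilpotent (G := N))
  have hR : (R : Subgroup N).Normal :=
    R.normal_of_normalizerCondition (Group.normalizerCondition_of_isNilpotent (G := N))
  have hPc : Nat.card (P : Subgroup N) = 2 ^ k := by
    rw [P.card_eq_multiplicity, hc, Nat.factorization_mul (by norm_num) (by positivity),
      Nat.Prime.factorization_pow Nat.prime_two]
    simp [Nat.factorization_eq_zero_of_not_dvd (show ¬ 2 ∣ 3 by norm_num)]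
  have hsR : s ∈ (R : Subgroup N) := by
    have hz : IsPGroup 3 (Subgroup.zpowers s) := IsPGroup.of_card (n := 1) (by
      rw [Nat.card_zpowers, hs, pow_one])
    obtain ⟨R', hR'⟩ := hz.exists_le_sylow
    have : Subsingleton (Sylow 3 N) := (Sylow.unique_of_normal R hR).instSubsingleton
    rw [Subsingleton.elim R R']
    exact hR' (Subgroup.mem_zpowers s)
  have hcom : ∀ x ∈ (P : Subgroup N), Commute x s := fun x hx =>
    Subgroup.commute_of_normal_of_disjoint _ _ hP hR
      (IsPGroup.disjoint_of_ne 2 3 (by norm_num) _ _ P.2 R.2) x s hx hsR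
  refine ⟨s, (P : Subgroup N).map N.subtype, by rw [Subgroup.orderOf_coe, hs], s.2,
    by rw [Subgroup.card_subtype, hPc], ?_, ?_⟩
  · rintro _ ⟨x, hx, rfl⟩
    rw [Subgroup.mem_centralizer_singleton_iff]
    exact congrArg Subtype.val (hcom x hx).eq
  · have htop : Subgroup.zpowers s ⊔ (P : Subgroup N) = ⊤ := by
      refine Subgroup.eq_top_of_le_card _ ?_
      have h1 := Subgroup.card_dvd_of_le
        (le_sup_left : Subgroup.zpowers s ≤ Subgroup.zpowers s ⊔ (P : Subgroup N))
      have h2 := Subgroup.card_dvd_of_le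
        (le_sup_right : (P : Subgroup N) ≤ Subgroup.zpowers s ⊔ (P : Subgroup N))
      rw [Nat.card_zpowers, hs] at h1
      rw [hPc] at h2
      rw [hc]
      exact Nat.le_of_dvd Nat.card_pos (Nat.Coprime.mul_dvd_of_dvd_of_dvd
        (Nat.Coprime.pow_right _ (by norm_num)) h1 h2)
    have := congrArg (Subgroup.map N.subtype) htop
    rwa [Subgroup.map_sup, MonoidHom.map_zpowers, ← MonoidHom.range_eq_map, Subgroup.range_subtype]
      at this

/-- The element of order three is a three-cycle. -/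
theorem isThreeCycle_of_large {n : ℕ} (hn : n % 4 = 3) {σ : Perm (Fin n)} (hσ : orderOf σ = 3)
    (Q : Subgroup (Perm (Fin n))) (hQ : Q ≤ Subgroup.centralizer ({σ} : Set (Perm (Fin n))))
    {k : ℕ} (hk : Nat.card Q = 2 ^ k) (hbig : twoExp (n - 3) ≤ k + 1) : σ.IsThreeCycle := by
  obtain ⟨t, ht⟩ := Perm.cycleType_prime_order (σ := σ) (by rw [hσ]; norm_num)
  rw [hσ] at ht
  rcases Nat.eq_zero_or_pos t with rfl | htpos
  · simpa [Perm.IsThreeCycle] using ht
  exfalso
  have hle : 3 * (t + 1) ≤ n := by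
    have := Perm.sum_cycleType σ
    rw [ht, Multiset.sum_replicate, smul_eq_mul] at this
    have := (σ.support.card_le_univ).trans (le_of_eq (Fintype.card_fin n))
    omega
  have hd : 2 ^ k ∣ (n - 3 * (t + 1)).factorial * 3 ^ (t + 1) * (t + 1).factorial := by
    have h := Subgroup.card_dvd_of_le hQ
    rw [hk, Perm.nat_card_centralizer, ht, Multiset.sum_replicate, Multiset.prod_replicate,
      Multiset.toFinset_replicate, if_neg (by omega), Finset.prod_singleton,
      Multiset.count_replicate_self, Fintype.card_fin, smul_eq_mul] at h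
    rwa [mul_comm 3 (t + 1)]
  have : Fact (Nat.Prime 2) := ⟨Nat.prime_two⟩
  have hv := (padicValNat_dvd_iff_le (by positivity)).1 hd
  rw [padicValNat.mul (by positivity) (by positivity), padicValNat.mul (by positivity) (by positivity),
    padicValNat.eq_zero_of_not_dvd (show ¬ 2 ∣ 3 ^ (t + 1) from fun h =>
      absurd (Nat.prime_two.dvd_of_dvd_pow h) (by norm_num))] at hv
  have := twoExp_gap hn (show 2 ≤ t + 1 by omega) hle
  simp only [twoExp] at this hbig
  omega

/-- The 2-part of the centralizer of a three-cycle. -/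
theorem factorization_centralizer {n : ℕ} {σ : Perm (Fin n)} (hσ : σ.IsThreeCycle) :
    (Nat.card (Subgroup.centralizer ({σ} : Set (Perm (Fin n))))).factorization 2 = twoExp (n - 3) := by
  have : Fact (Nat.Prime 2) := ⟨Nat.prime_two⟩
  rw [Perm.nat_card_centralizer, hσ, Fintype.card_fin]
  simp only [Multiset.sum_singleton, Multiset.prod_singleton, Multiset.toFinset_singleton,
    Finset.prod_singleton, Multiset.count_singleton_self, Nat.factorial_one, mul_one]
  rw [Nat.factorization_mul (Nat.factorial_ne_zero _) (by norm_num), Finsupp.add_apply,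
    Nat.factorization_eq_zero_of_not_dvd (show ¬ 2 ∣ 3 by norm_num), add_zero,
    Nat.factorization_def _ Nat.prime_two]

/-- Groups generated by conjugate elements and Sylow 2-subgroups of their centralizers. -/
theorem exists_conj {G : Type*} [Group G] [Finite G] (σ₁ σ₂ : G) (Q₁ Q₂ : Subgroup G)
    (hconj : ∃ g : G, g * σ₁ * g⁻¹ = σ₂)
    (h₁ : Q₁ ≤ Subgroup.centralizer ({σ₁} : Set G)) (h₂ : Q₂ ≤ Subgroup.centralizer ({σ₂} : Set G))
    (c₁ : Nat.card Q₁ = 2 ^ (Nat.card (Subgroup.centralizer ({σ₂} : Set G))).factorization 2)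
    (c₂ : Nat.card Q₂ = 2 ^ (Nat.card (Subgroup.centralizer ({σ₂} : Set G))).factorization 2) :
    ∃ g : G, Subgroup.zpowers σ₂ ⊔ Q₂ = (Subgroup.zpowers σ₁ ⊔ Q₁).map (MulAut.conj g).toMonoidHom := by
  have : Fact (Nat.Prime 2) := ⟨Nat.prime_two⟩
  obtain ⟨g, hg⟩ := hconj
  set C := Subgroup.centralizer ({σ₂} : Set G)
  set Q := Q₁.map (MulAut.conj g).toMonoidHom with hQdef
  have hQ : Q ≤ C := by
    rintro _ ⟨x, hx, rfl⟩
    refine Subgroup.mem_centralizer_singleton_iff.2 ?_
    have := Subgroup.mem_centralizer_singleton_iff.1 (h₁ hx)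
    show g * x * g⁻¹ * σ₂ = σ₂ * (g * x * g⁻¹)
    rw [← hg]
    calc g * x * g⁻¹ * (g * σ₁ * g⁻¹) = g * (x * σ₁) * g⁻¹ := by group
      _ = g * (σ₁ * x) * g⁻¹ := by rw [this]
      _ = _ := by group
  have cQ : Nat.card Q = 2 ^ (Nat.card C).factorization 2 := by
    rw [hQdef, Subgroup.card_map_of_injective (MulAut.conj g).injective, c₁]
  obtain ⟨h, hh⟩ := MulAction.exists_smul_eq C
    (Sylow.ofCard (Q.subgroupOf C) (by
      rw [Nat.card_congr (Subgroup.subgroupOfEquivOfLe hQ).toEquiv, cQ]))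
    (Sylow.ofCard (Q₂.subgroupOf C) (by
      rw [Nat.card_congr (Subgroup.subgroupOfEquivOfLe h₂).toEquiv, c₂]))
  refine ⟨(h : G) * g, ?_⟩
  have hh' : (Q.subgroupOf C).map (MulAut.conj h).toMonoidHom = Q₂.subgroupOf C :=
    congrArg (fun P : Sylow 2 C => (P : Subgroup C)) hh
  have e1 : Q₁.map (MulAut.conj ((h : G) * g)).toMonoidHom = Q₂ := by
    have := congrArg (Subgroup.map C.subtype) hh'
    rw [Subgroup.map_map, show C.subtype.comp (MulAut.conj h).toMonoidHom =
        (MulAut.conj (h : G)).toMonoidHom.comp C.subtype from MonoidHom.ext fun x => rfl,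
      ← Subgroup.map_map, Subgroup.subgroupOf_map_subtype, Subgroup.subgroupOf_map_subtype,
      inf_eq_left.2 hQ, inf_eq_left.2 h₂, hQdef, Subgroup.map_map] at this
    rw [← this]
    congr 1
    exact MonoidHom.ext fun x => by simp
  rw [Subgroup.map_sup, e1, MonoidHom.map_zpowers]
  congr 2
  show σ₂ = (h : G) * g * σ₁ * ((h : G) * g)⁻¹
  rw [mul_inv_rev, show (h : G) * g * σ₁ * (g⁻¹ * (h : G)⁻¹) = (h : G) * (g * σ₁ * g⁻¹) * (h : G)⁻¹ by group,
    hg, Subgroup.mem_centralizer_singleton_iff.1 h.2, mul_inv_cancel_right]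

/-- The product of a Sylow 2-subgroup with a group of order three. -/
theorem exists_extremal {G H Z : Type*} [Group G] [Group H] [Finite H] [Group Z] (hZ : Nat.card Z = 3)
    (ι : H × Z →* G) (hι : Function.Injective ι) (P : Sylow 2 H) :
    ∃ M : Subgroup G, Group.IsNilpotent M ∧ Nat.card M = 3 * Nat.card P ∧
      Nonempty (M ≃* (↥(P : Subgroup H) × Multiplicative (ZMod 3))) := by
  have : Fact (Nat.Prime 2) := ⟨Nat.prime_two⟩
  have : Fact (Nat.Prime 3) := ⟨by norm_num⟩
  have hcyc : IsCyclic Z := isCyclic_of_prime_card hZ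
  have : Finite Z := Nat.finite_of_card_ne_zero (by rw [hZ]; norm_num)
  let e3 : Multiplicative (ZMod 3) ≃* Z :=
    mulEquivOfCyclicCardEq (by rw [hZ]; exact Nat.card_zmod 3)
  let f : ↥(P : Subgroup H) × Multiplicative (ZMod 3) →* G := ι.comp
    ((P : Subgroup H).subtype.prodMap e3.toMonoidHom)
  have hf : Function.Injective f := hι.comp fun a b h =>
    Prod.ext (Subtype.ext (congrArg Prod.fst h)) (e3.injective (congrArg Prod.snd h))
  have hPn : Group.IsNilpotent (P : Subgroup H) := P.2.isNilpotent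
  let e := MonoidHom.ofInjective hf
  refine ⟨f.range, ?_, ?_, ⟨e.symm⟩⟩
  · exact Group.nilpotent_of_surjective e.toMonoidHom e.surjective
  · rw [← Nat.card_congr e.toEquiv, Nat.card_prod, mul_comm]
    congr 1
    exact Nat.card_zmod 3

/-- Permutations of `Fin m` and of three further points. -/
noncomputable def joinThree {n : ℕ} (h : 3 ≤ n) : Perm (Fin (n - 3)) × Perm (Fin 3) →* Perm (Fin n) :=
  (finSumFinEquiv.trans (finCongr (Nat.sub_add_cancel h))).permCongrHom.toMonoidHom.comp
    (Perm.sumCongrHom (Fin (n - 3)) (Fin 3))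

theorem joinThree_injective {n : ℕ} (h : 3 ≤ n) : Function.Injective (joinThree h) :=
  (Equiv.permCongrHom _).injective.comp Perm.sumCongrHom_injective

theorem sign_joinThree {n : ℕ} (h : 3 ≤ n) (x : Perm (Fin (n - 3)) × Perm (Fin 3)) :
    Perm.sign (joinThree h x) = Perm.sign x.1 * Perm.sign x.2 := by
  show Perm.sign ((finSumFinEquiv.trans (finCongr (Nat.sub_add_cancel h))).permCongr
    (Perm.sumCongr x.1 x.2)) = _
  rw [Perm.sign_permCongr, Perm.sign_sumCongr]

end Cfsg.Lib.NilpotentPerm
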