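import Mathlib
import Cfsg.Agent.Lib.Perm.SharpTwo
import Cfsg.Agent.S0696

set_option autoImplicit false

/-! Normal subgroups of multiply primitive groups are multiply transitive. -/

open scoped Pointwise

namespace Cfsg.Agent.Perm

open MulAction

universe u v

theorem full_of_small {G : Type u} [Group G] {X : Type v} [Fintype X] [MulAction G X] {k : ℕ}
    (hk : Fintype.card X ≤ k + 1) (hG : IsMultiplyPretransitive G X k) (hkn : k ≤ Fintype.card X) :
    Function.Surjective (toPermHom G X) := by
  haveI := hG
  haveI : IsMultiplyPretransitive G X (Nat.card X - 1) :=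
    isMultiplyPretransitive_of_le (n := k) (by rw [Nat.card_eq_fintype_card]; omega)
      (by rw [Nat.card_eq_fintype_card]; omega)
  have h : (toPermHom G X).range = ⊤ := by
    apply Equiv.Perm.eq_top_of_isMultiplyPretransitive
    constructor
    intro x y
    obtain ⟨g, hg⟩ := exists_smul_eq G x y
    exact ⟨⟨toPermHom G X g, g, rfl⟩, hg⟩
  exact MonoidHom.range_eq_top.1 h

theorem normal_transitive {k : ℕ} : ∀ {G : Type u} [Group G] {X : Type v} [Fintype X] [MulAction G X]
    [FaithfulSMul G X], k ≤ Fintype.card X → IsMultiplyPreprimitive G X k →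
    ∀ (H : Subgroup G), H.Normal → H ≠ ⊥ → (∃ a : X, stabilizer H a ≠ ⊥) →
    (k ≤ 2 ∨ ¬ Function.Surjective (toPermHom G X)) → IsMultiplyPretransitive H X k := by
  induction k with
  | zero => intros; exact is_zero_pretransitive
  | succ k ih =>
    intro G _ X _ _ _ hkn hG H hHn hH hnr hfull
    haveI := hHn
    classical
    obtain ⟨a₀, ha₀⟩ := hnr
    haveI : Nonempty X := ⟨a₀⟩
    haveI : IsMultiplyPreprimitive G X (k + 1) := hG
    haveI hG1 : IsPreprimitive G X := (is_one_preprimitive_iff G X).1
      (isMultiplyPreprimitive_of_le G X hG (by omega) (by rw [ENat.card_eq_coe_fintype_card, Nat.cast_le]; exact hkn))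
    have hHt : IsPretransitive H X := by
      apply IsQuasiPreprimitive.isPretransitive_of_normal
      intro h
      apply hH
      rw [Subgroup.eq_bot_iff_forall]
      intro x hx
      apply FaithfulSMul.eq_of_smul_eq_smul (α := X)
      intro y
      rw [one_smul]
      exact (Set.eq_univ_iff_forall.1 h y) ⟨x, hx⟩
    rcases Nat.eq_zero_or_pos k with rfl | hk
    · exact is_one_pretransitive_iff.2 hHt
    haveI := hHt
    rw [show k + 1 = Nat.succ k from rfl, SubMulAction.ofStabilizer.isMultiplyPretransitive (a := a₀)]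
    -- the point stabilizer of `H` as a normal subgroup of the point stabilizer of `G`
    set Ga := stabilizer G a₀
    haveI hGa : IsMultiplyPreprimitive Ga (SubMulAction.ofStabilizer G a₀) k :=
      isMultiplyPreprimitive_ofStabilizer G X
    haveI : Fintype (SubMulAction.ofStabilizer G a₀) := Fintype.ofFinite _
    have hcard : Fintype.card (SubMulAction.ofStabilizer G a₀) = Fintype.card X - 1 := by
      rw [← Nat.card_eq_fintype_card, ← Nat.card_eq_fintype_card, SubMulAction.nat_card_ofStabilizer_eq G a₀]
    haveI : FaithfulSMul Ga (SubMulAction.ofStabilizer G a₀) := by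
      constructor
      intro g h hgh
      apply Subtype.ext
      apply FaithfulSMul.eq_of_smul_eq_smul (α := X)
      intro y
      by_cases hy : y = a₀
      · rw [hy, g.2, h.2]
      · exact congrArg Subtype.val (hgh ⟨y, hy⟩)
    set K : Subgroup Ga := H.subgroupOf Ga
    haveI hKn : K.Normal := Subgroup.Normal.subgroupOf hHn Ga
    have hK : K ≠ ⊥ := by
      intro h
      apply ha₀
      rw [Subgroup.eq_bot_iff_forall]
      intro x hx
      have hm : (⟨(x : G), hx⟩ : Ga) ∈ K := x.2
      rw [h, Subgroup.mem_bot] at hm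
      exact Subtype.ext (congrArg (fun u : Ga => (u : G)) hm)
    suffices hKt : IsMultiplyPretransitive K (SubMulAction.ofStabilizer G a₀) k by
      constructor
      intro x y
      let f : SubMulAction.ofStabilizer H a₀ → SubMulAction.ofStabilizer G a₀ := fun z => ⟨z.1, z.2⟩
      let x' : Fin k ↪ SubMulAction.ofStabilizer G a₀ :=
        ⟨fun i => f (x i), fun i j h => x.injective (Subtype.ext (congrArg (fun z : SubMulAction.ofStabilizer G a₀ => (z : X)) h))⟩
      let y' : Fin k ↪ SubMulAction.ofStabilizer G a₀ :=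
        ⟨fun i => f (y i), fun i j h => y.injective (Subtype.ext (congrArg (fun z : SubMulAction.ofStabilizer G a₀ => (z : X)) h))⟩
      obtain ⟨g, hg⟩ := hKt.exists_smul_eq x' y'
      refine ⟨⟨⟨((g : Ga) : G), g.2⟩, (g : Ga).2⟩, Function.Embedding.ext fun i => Subtype.ext ?_⟩
      exact congrArg Subtype.val (DFunLike.congr_fun hg i)
    rcases Nat.lt_or_ge k 2 with hk2 | hk2
    · obtain rfl : k = 1 := by omega
      rw [is_one_pretransitive_iff]
      haveI : IsPreprimitive Ga (SubMulAction.ofStabilizer G a₀) := (is_one_preprimitive_iff _ _).1 hGa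
      apply IsQuasiPreprimitive.isPretransitive_of_normal
      intro h
      apply hK
      rw [Subgroup.eq_bot_iff_forall]
      intro x hx
      apply FaithfulSMul.eq_of_smul_eq_smul (α := SubMulAction.ofStabilizer G a₀)
      intro y
      rw [one_smul]
      exact (Set.eq_univ_iff_forall.1 h y) ⟨x, hx⟩
    have hnf : ¬ Function.Surjective (toPermHom G X) := hfull.resolve_left (by omega)
    by_cases hKreg : ∃ b : SubMulAction.ofStabilizer G a₀, stabilizer K b ≠ ⊥
    · refine ih (by omega) hGa K hKn hK hKreg (Or.inr fun hs => hnf ?_)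
      haveI : IsPretransitive G X := hG1.toIsPretransitive
      intro σ
      obtain ⟨g, hg⟩ := exists_smul_eq G a₀ (σ a₀)
      set τ : Equiv.Perm X := (toPermHom G X g)⁻¹ * σ
      have hτ : τ a₀ = a₀ := by
        show g⁻¹ • σ a₀ = a₀
        rw [← hg, inv_smul_smul]
      let τ' : Equiv.Perm (SubMulAction.ofStabilizer G a₀) := τ.subtypePerm (fun y => by
        show τ y ≠ a₀ ↔ y ≠ a₀
        exact not_congr ⟨fun h => τ.injective (h.trans hτ.symm), fun h => h ▸ hτ⟩)
      obtain ⟨h, hh⟩ := hs τ'
      refine ⟨g * (h : G), ?_⟩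
      have he : toPermHom G X (h : G) = τ := by
        ext y
        by_cases hy : y = a₀
        · subst hy; rw [hτ]; exact h.2
        · exact congrArg (fun π : Equiv.Perm (SubMulAction.ofStabilizer G a₀) => ((π ⟨y, hy⟩ : SubMulAction.ofStabilizer G a₀) : X)) hh
      rw [map_mul, he, mul_inv_cancel_left]
    -- otherwise `H` is sharply 2-transitive and `G` has a regular normal subgroup
    exfalso
    push Not at hKreg
    have hGa1 : IsPreprimitive Ga (SubMulAction.ofStabilizer G a₀) := (is_one_preprimitive_iff _ _).1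
      (isMultiplyPreprimitive_of_le _ _ hGa (by omega) (by rw [ENat.card_eq_coe_fintype_card, Nat.cast_le]; omega))
    have hKt : IsPretransitive K (SubMulAction.ofStabilizer G a₀) := by
      haveI := hGa1
      apply IsQuasiPreprimitive.isPretransitive_of_normal
      intro h
      apply hK
      rw [Subgroup.eq_bot_iff_forall]
      intro x hx
      apply FaithfulSMul.eq_of_smul_eq_smul (α := SubMulAction.ofStabilizer G a₀)
      intro y
      rw [one_smul]
      exact (Set.eq_univ_iff_forall.1 h y) ⟨x, hx⟩
    have h2t : IsMultiplyPretransitive H X 2 := by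
      rw [show 2 = Nat.succ 1 from rfl, SubMulAction.ofStabilizer.isMultiplyPretransitive (a := a₀),
        is_one_pretransitive_iff]
      constructor
      intro x y
      obtain ⟨g, hg⟩ := hKt.exists_smul_eq ⟨x.1, x.2⟩ ⟨y.1, y.2⟩
      exact ⟨⟨⟨((g : Ga) : G), g.2⟩, (g : Ga).2⟩, Subtype.ext (congrArg Subtype.val hg)⟩
    have h2u : ∀ a b : X, a ≠ b → ∀ g : G, g ∈ H → g • a = a → g • b = b → g = 1 := by
      intro a b hab g hg hga hgb
      obtain ⟨c, hc⟩ := exists_smul_eq H a a₀
      have hca : (c : G) • a = a₀ := hc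
      have hd : (c : G) • b ≠ a₀ := fun h => hab (MulAction.injective (c : G) (hca.trans h.symm))
      set g' := (c : G) * g * (c : G)⁻¹
      have e1 : g' • a₀ = a₀ := by rw [← hca, mul_smul, mul_smul, inv_smul_smul, hga]
      have e2 : g' • ((c : G) • b) = (c : G) • b := by rw [mul_smul, mul_smul, inv_smul_smul, hgb]
      have hm : (⟨g', e1⟩ : Ga) ∈ K := H.mul_mem (H.mul_mem c.2 hg) (H.inv_mem c.2)
      have hs : (⟨_, hm⟩ : K) ∈ stabilizer K (⟨(c : G) • b, hd⟩ : SubMulAction.ofStabilizer G a₀) :=
        Subtype.ext e2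
      rw [hKreg, Subgroup.mem_bot] at hs
      have h3 : g' = 1 := congrArg (fun u : K => ((u : Ga) : G)) hs
      exact conj_eq_one_iff.1 h3
    -- pass to permutations
    set φ := (toPermHom G X).comp H.subtype
    have hφ : Function.Injective φ := fun x y h => Subtype.ext
      (FaithfulSMul.eq_of_smul_eq_smul (α := X) fun z => Equiv.congr_fun h z)
    haveI : IsMultiplyPretransitive φ.range X 2 := by
      constructor
      intro x y
      obtain ⟨g, hg⟩ := h2t.exists_smul_eq x y
      exact ⟨⟨φ g, g, rfl⟩, hg⟩
    have hsharp : ∀ x : Fin 2 ↪ X, stabilizer φ.range x = ⊥ := by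
      intro x
      rw [Subgroup.eq_bot_iff_forall]
      rintro ⟨_, g, rfl⟩ hs
      have e : ∀ i, φ g (x i) = x i := fun i => DFunLike.congr_fun (mem_stabilizer_iff.1 hs) i
      have : (g : G) = 1 := h2u (x 0) (x 1) (fun h => absurd (x.injective h) (by decide)) g g.2 (e 0) (e 1)
      apply Subtype.ext
      show φ g = 1
      rw [show g = 1 from Subtype.ext this, map_one]
    obtain ⟨p, j, hp, hj, hn, T, hTn, -, -, -, -, hTt, hTs, hTm⟩ :=
      sharpTwo_kernel φ.range hsharp (by omega)
    let N : Subgroup G := (T.comap φ.rangeRestrict).map H.subtype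
    have hmem : ∀ g : G, g ∈ N ↔ g ∈ H ∧ (g = 1 ∨ ∀ y : X, g • y ≠ y) := by
      intro g
      constructor
      · rintro ⟨u, hu, rfl⟩
        refine ⟨u.2, ?_⟩
        rcases (hTm _).1 hu with h | h
        · left
          have : φ u = φ 1 := by rw [map_one]; exact congrArg Subtype.val h
          rw [hφ this]; rfl
        · exact Or.inr h
      · rintro ⟨hg, h⟩
        refine ⟨⟨g, hg⟩, (hTm _).2 ?_, rfl⟩
        rcases h with rfl | h
        · left; exact Subtype.ext (map_one φ)
        · exact Or.inr h
    haveI hNn : N.Normal := by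
      constructor
      intro x hx g
      rw [hmem] at hx ⊢
      refine ⟨hHn.conj_mem x hx.1 g, ?_⟩
      rcases hx.2 with rfl | h
      · left; simp
      · right
        intro y hy
        rw [mul_smul, mul_smul, smul_eq_iff_eq_inv_smul] at hy
        exact h _ hy
    have hNt : IsPretransitive N X := by
      constructor
      intro x y
      obtain ⟨⟨⟨_, u, rfl⟩, ht⟩, htxy⟩ := hTt.exists_smul_eq x y
      exact ⟨⟨(u : G), u, ht, rfl⟩, htxy⟩
    have hNs : ∀ x : X, stabilizer N x = ⊥ := by
      intro x
      rw [Subgroup.eq_bot_iff_forall]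
      rintro ⟨g, hg⟩ hs
      rcases ((hmem g).1 hg).2 with h | h
      · exact Subtype.ext h
      · exact absurd hs (h x)
    have h3p : IsMultiplyPreprimitive G X 3 := isMultiplyPreprimitive_of_le G X hG (by omega)
      (by rw [ENat.card_eq_coe_fintype_card, Nat.cast_le]; exact hkn)
    rcases Cfsg.Agent.S0696.result (by omega) h3p N hNt hNs with h | h
    · exact hnf (full_of_small (k := k + 1) (by omega) hG.isMultiplyPretransitive hkn)
    · exact hnf (full_of_small (k := k + 1) (by omega) hG.isMultiplyPretransitive hkn)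

end Cfsg.Agent.Perm
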