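import Cfsg.Agent.Lib.Perm.PrimeDegree
import Mathlib.Algebra.CharP.Lemmas
import Mathlib.GroupTheory.Perm.Cycle.Type

/-!
# Transitive groups of odd order with a regular cyclic subgroup of prime power order are solvable

Schur: for composite degree such a group is imprimitive; Burnside settles prime degree.
-/

set_option autoImplicit false
set_option linter.style.haveILetI false

namespace Cfsg.Lib.Perm.OddCyclic

open Subgroup

universe u

variable {α : Type u} [Finite α] {G : Subgroup (Equiv.Perm α)} {p : ℕ}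

/-- A group separated by finitely many homomorphisms to solvable groups is solvable. -/
theorem isSolvable_of_forall {N : Type*} [Group N] {ι : Type*} [Finite ι] {H : ι → Type*} [∀ i, Group (H i)]
    (f : ∀ i, N →* H i) (hH : ∀ i, Group.IsSolvable (H i)) (hinj : ∀ k : N, (∀ i, f i k = 1) → k = 1) :
    Group.IsSolvable N := by
  choose n hn using fun i => (hH i).solvable
  haveI : Fintype ι := Fintype.ofFinite ι
  refine ⟨⟨Finset.univ.sup n, eq_bot_iff.2 fun k hk => mem_bot.2 (hinj k fun i => ?_)⟩⟩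
  have h := map_derivedSeries_le_derivedSeries (f i) (n i)
    (mem_map_of_mem (f i) (derivedSeries_antitone N (Finset.le_sup (Finset.mem_univ i)) hk))
  rwa [hn i, mem_bot] at h

/-- In a group of odd order no element interchanges two points. -/
theorem eq_of_swap (hodd : Odd (Nat.card G)) {g : Equiv.Perm α} (hg : g ∈ G) {x y : α} (hxy : g x = y)
    (hyx : g y = x) : x = y := by
  obtain ⟨m, hm⟩ := hodd.of_dvd_nat (orderOf_dvd_natCard (⟨g, hg⟩ : G))
  rw [Subgroup.orderOf_mk] at hm
  have h2 : ∀ j : ℕ, (g ^ (2 * j)) x = x := fun j => by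
    induction j with
    | zero => simp
    | succ j ih => rw [Nat.mul_succ, pow_add, Equiv.Perm.mul_apply, pow_two g, Equiv.Perm.mul_apply, hxy, hyx, ih]
  have h3 : (g ^ (2 * (m + 1))) x = g x := by
    rw [show 2 * (m + 1) = orderOf g + 1 by omega, pow_succ, pow_orderOf_eq_one, one_mul]
  rw [h2, hxy] at h3
  exact h3

/-- The regular cyclic subgroup, as a parametrisation of the points. -/
theorem exists_param (a : Equiv.Perm α) (hreg : ∀ x y : α, ∃ i : ℤ, (a ^ i) x = y) (v₀ : α) :
    Function.Bijective fun c : zpowers a => (c : Equiv.Perm α) v₀ := by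
  constructor
  · rintro ⟨c, hc⟩ ⟨d, hd⟩ h
    refine Subtype.ext (Equiv.ext fun x => ?_)
    obtain ⟨i, rfl⟩ := hreg v₀ x
    obtain ⟨j, rfl⟩ := hc
    obtain ⟨k, rfl⟩ := hd
    change (a ^ j) v₀ = (a ^ k) v₀ at h
    show (a ^ j) ((a ^ i) v₀) = (a ^ k) ((a ^ i) v₀)
    rw [← Equiv.Perm.mul_apply, ← Equiv.Perm.mul_apply, ← zpow_add, ← zpow_add, add_comm j, add_comm k,
      zpow_add, zpow_add, Equiv.Perm.mul_apply, Equiv.Perm.mul_apply, h]
  · intro y
    obtain ⟨i, hi⟩ := hreg v₀ y
    exact ⟨⟨a ^ i, ⟨i, rfl⟩⟩, hi⟩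

/-- An invariant set of translations spans a block system. -/
theorem block_of_invariant {a : Equiv.Perm α} (ha : a ∈ G) (hreg : ∀ x y : α, ∃ i : ℤ, (a ^ i) x = y)
    (v₀ : α) (S : Set (zpowers a))
    (hS : ∀ h ∈ G, h v₀ = v₀ → ∀ c ∈ S, ∃ c' ∈ S, h ((c : Equiv.Perm α) v₀) = (c' : Equiv.Perm α) v₀) :
    ∀ g ∈ G, ∀ (d : zpowers a) (x : α), d ∈ Subgroup.closure S →
      ∃ d' : zpowers a, d' ∈ Subgroup.closure S ∧ g ((d : Equiv.Perm α) x) = (d' : Equiv.Perm α) (g x) := by
  obtain ⟨-, hsurj⟩ := exists_param a hreg v₀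
  have hcomm : ∀ c d : zpowers a, c * d = d * c := by
    rintro ⟨_, i, rfl⟩ ⟨_, j, rfl⟩
    exact Subtype.ext ((Commute.refl a).zpow_zpow i j).eq
  intro g hg d x hd
  revert x
  rw [← Subgroup.mem_toSubmonoid, Subgroup.closure_toSubmonoid_of_finite] at hd
  induction hd using Submonoid.closure_induction with
  | mem c hc =>
    intro x
    obtain ⟨cx, hcx⟩ := hsurj x
    obtain ⟨cy, hcy⟩ := hsurj (g x)
    have hcx' : (cx : Equiv.Perm α) v₀ = x := hcx
    have hcy' : (cy : Equiv.Perm α) v₀ = g x := hcy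
    have hh : (cy : Equiv.Perm α)⁻¹ * g * (cx : Equiv.Perm α) ∈ G :=
      G.mul_mem (G.mul_mem (G.inv_mem ((zpowers_le.2 ha) cy.2)) hg) ((zpowers_le.2 ha) cx.2)
    have hh0 : ((cy : Equiv.Perm α)⁻¹ * g * (cx : Equiv.Perm α)) v₀ = v₀ := by
      rw [Equiv.Perm.mul_apply, Equiv.Perm.mul_apply, hcx', ← hcy']
      exact Equiv.symm_apply_apply _ _
    obtain ⟨c', hc', he⟩ := hS _ hh hh0 c hc
    refine ⟨c', subset_closure hc', ?_⟩
    have e1 : (c : Equiv.Perm α) x = (cx : Equiv.Perm α) ((c : Equiv.Perm α) v₀) := by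
      rw [← hcx', ← Equiv.Perm.mul_apply, ← Equiv.Perm.mul_apply]
      exact congrArg (fun z : zpowers a => (z : Equiv.Perm α) v₀) (hcomm c cx)
    have e2 : (c' : Equiv.Perm α) (g x) = (cy : Equiv.Perm α) ((c' : Equiv.Perm α) v₀) := by
      rw [← hcy', ← Equiv.Perm.mul_apply, ← Equiv.Perm.mul_apply]
      exact congrArg (fun z : zpowers a => (z : Equiv.Perm α) v₀) (hcomm c' cy)
    rw [Equiv.Perm.mul_apply, Equiv.Perm.mul_apply, Equiv.Perm.inv_eq_iff_eq] at he
    rw [e1, he, e2]
  | one => exact fun x => ⟨1, one_mem _, by simp⟩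
  | mul c₁ c₂ _ _ h₁ h₂ =>
    intro x
    obtain ⟨d₂, hd₂, e₂⟩ := h₂ x
    obtain ⟨d₁, hd₁, e₁⟩ := h₁ ((c₂ : Equiv.Perm α) x)
    refine ⟨d₁ * d₂, mul_mem hd₁ hd₂, ?_⟩
    rw [Subgroup.coe_mul, Subgroup.coe_mul, Equiv.Perm.mul_apply, Equiv.Perm.mul_apply, e₁, e₂]

set_option maxHeartbeats 2000000 in
/-- Schur: a nontrivial proper block subgroup exists for composite prime power degree. -/
theorem exists_invariant [hp : Fact p.Prime] (hodd : Odd (Nat.card G)) {a : Equiv.Perm α} (ha : a ∈ G)
    (hreg : ∀ x y : α, ∃ i : ℤ, (a ^ i) x = y) (v₀ : α) {e : ℕ} (he : 2 ≤ e) (hN : Nat.card α = p ^ e) :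
    ∃ S : Set (zpowers a),
      (∀ h ∈ G, h v₀ = v₀ → ∀ c ∈ S, ∃ c' ∈ S, h ((c : Equiv.Perm α) v₀) = (c' : Equiv.Perm α) v₀) ∧
        Subgroup.closure S ≠ ⊥ ∧ Subgroup.closure S ≠ ⊤ := by
  classical
  by_contra hprim
  push Not at hprim
  set P := zpowers a with hPdef
  haveI : Fintype P := Fintype.ofFinite _
  have hbij := exists_param a hreg v₀
  let π : α → P := (Equiv.ofBijective _ hbij).symm
  have hπv : ∀ x : α, (π x : Equiv.Perm α) v₀ = x := fun x => (Equiv.ofBijective _ hbij).apply_symm_apply x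
  have hπc : ∀ c : P, π ((c : Equiv.Perm α) v₀) = c := fun c => (Equiv.ofBijective _ hbij).symm_apply_apply c
  have hPcard : Nat.card P = p ^ e := hN ▸ Nat.card_eq_of_bijective _ hbij
  have hPG : ∀ c : P, (c : Equiv.Perm α) ∈ G := fun c => (zpowers_le.2 ha) c.2
  -- every invariant set of translations is trivial or generates
  let Inv : Set P → Prop := fun S => ∀ h ∈ G, h v₀ = v₀ → ∀ c ∈ S, π (h ((c : Equiv.Perm α) v₀)) ∈ S
  have hgen : ∀ S : Set P, Inv S → ∀ K : Subgroup P, K ≠ ⊤ → S ⊆ K → S ⊆ {1} := by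
    intro S hS K hK hSK c hc
    by_contra hc1
    refine hK (le_antisymm le_top ((hprim S (fun h hh hh0 c hc => ⟨_, hS h hh hh0 c hc, (hπv _).symm⟩) ?_).ge.trans
      ((closure_le K).2 hSK)))
    exact fun hbot => hc1 (mem_bot.1 (hbot ▸ subset_closure hc))
  -- the subgroup of order `p`
  haveI : IsCyclic P := inferInstance
  letI : CommGroup P := IsCyclic.commGroup
  set E : Subgroup P := (powMonoidHom p : P →* P).ker with hE
  have hEcard : Nat.card E = p := by
    rw [hE, IsCyclic.card_powMonoidHom_ker, hPcard]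
    exact Nat.gcd_eq_right (dvd_pow_self p (by omega))
  have hEtop : E ≠ ⊤ := fun h => by
    have : p ^ 1 = p ^ e := by rw [pow_one, ← hPcard, ← hEcard, h, card_top]
    have := Nat.pow_right_injective hp.out.two_le this
    omega
  have hPptop : (powMonoidHom p : P →* P).range ≠ ⊤ := fun h => by
    have h1 := (powMonoidHom p : P →* P).ker.card_mul_index
    rw [index_ker, ← hE, hEcard, h, card_top] at h1
    have hpos : 0 < Nat.card P := Nat.card_pos
    have := hp.out.two_le
    nlinarith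
  -- orbits of the stabilizer
  let orb : P → Set P := fun c => {d | ∃ h ∈ G, h v₀ = v₀ ∧ π (h ((c : Equiv.Perm α) v₀)) = d}
  have horb : ∀ c, Inv (orb c) := by
    rintro c h hh hh0 d ⟨k, hk, hk0, rfl⟩
    exact ⟨h * k, G.mul_mem hh hk, by rw [Equiv.Perm.mul_apply, hk0, hh0],
      by rw [Equiv.Perm.mul_apply, hπv]⟩
  have horb_self : ∀ c, c ∈ orb c := fun c => ⟨1, one_mem _, rfl, hπc c⟩
  have horb_one : ∀ c, 1 ∈ orb c → c = 1 := by
    rintro c ⟨h, hh, hh0, h1⟩
    have h2 : h ((c : Equiv.Perm α) v₀) = h v₀ := by rw [← hπv (h _), h1, hh0]; rfl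
    exact hbij.1 (h.injective h2)
  -- invariant kernels
  have hrel : ∀ c (f : Equiv.Perm α), f ∈ G → ∀ x y : α, (π x)⁻¹ * π y ∈ orb c ↔
      (π (f x))⁻¹ * π (f y) ∈ orb c := by
    have key : ∀ c (f : Equiv.Perm α), f ∈ G → ∀ x y : α, (π x)⁻¹ * π y ∈ orb c →
        (π (f x))⁻¹ * π (f y) ∈ orb c := by
      intro c f hf x y hxy
      set k := (π (f x) : Equiv.Perm α)⁻¹ * f * (π x : Equiv.Perm α) with hk
      have hkG : k ∈ G := G.mul_mem (G.mul_mem (G.inv_mem (hPG _)) hf) (hPG _)
      have hk0 : k v₀ = v₀ := by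
        rw [hk, Equiv.Perm.mul_apply, Equiv.Perm.mul_apply, hπv]
        exact Equiv.Perm.inv_eq_iff_eq.2 (hπv _).symm
      have h1 := horb c k hkG hk0 _ hxy
      have h2 : π (k ((((π x)⁻¹ * π y : P) : Equiv.Perm α) v₀)) = (π (f x))⁻¹ * π (f y) := by
        rw [← hπc ((π (f x))⁻¹ * π (f y))]
        congr 1
        simp only [hk, Subgroup.coe_mul, Subgroup.coe_inv, Equiv.Perm.mul_apply, Equiv.Perm.inv_def,
          Equiv.apply_symm_apply, hπv]
      rwa [h2] at h1
    intro c f hf x y
    refine ⟨key c f hf x y, fun h => ?_⟩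
    have := key c f⁻¹ (G.inv_mem hf) _ _ h
    simpa using this
  -- a fibre of the `p`th power map is full or empty
  have hfib : ∀ c, ∀ t ∈ orb c, t ∉ E → ∀ z ∈ E, t * z ∈ orb c := by
    intro c
    haveI : CharP (ZMod p) p := ZMod.charP p
    set T := Finset.univ.filter (fun t : P => t ∈ orb c) with hT
    let K : MonoidAlgebra (ZMod p) P → α → α → ZMod p := fun f x y => f.coeff ((π x)⁻¹ * π y)
    let IsInv : MonoidAlgebra (ZMod p) P → Prop := fun f => ∀ g ∈ G, ∀ x y, K f (g x) (g y) = K f x y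
    haveI : Fintype α := Fintype.ofFinite α
    have hmul : ∀ f₁ f₂, IsInv f₁ → IsInv f₂ → IsInv (f₁ * f₂) := by
      intro f₁ f₂ h₁ h₂ g hg
      have hK : ∀ x y, K (f₁ * f₂) x y = ∑ z : α, K f₁ x z * K f₂ z y := by
        intro x y
        show (f₁ * f₂).coeff _ = _
        rw [MonoidAlgebra.coeff_mul_apply_left, Finsupp.sum_fintype _ _ (by simp)]
        refine Fintype.sum_equiv ((Equiv.mulLeft (π x)).trans (Equiv.ofBijective _ hbij)) _ _ fun d => ?_
        show _ = f₁.coeff ((π x)⁻¹ * π (((π x * d : P) : Equiv.Perm α) v₀)) *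
          f₂.coeff ((π (((π x * d : P) : Equiv.Perm α) v₀))⁻¹ * π y)
        rw [hπc, inv_mul_cancel_left, mul_inv_rev, mul_assoc]
      intro x y
      rw [hK, hK]
      refine (Fintype.sum_equiv g _ _ fun z => ?_).symm
      rw [h₁ g hg, h₂ g hg]
    set η : MonoidAlgebra (ZMod p) P := ∑ t ∈ T, MonoidAlgebra.single t 1 with hη
    have hηc : ∀ d, η.coeff d = if d ∈ orb c then 1 else 0 := by
      intro d
      rw [hη, MonoidAlgebra.coeff_sum, Finsupp.finsetSum_apply]
      simp only [MonoidAlgebra.coeff_single, Finsupp.single_apply, Finset.sum_ite_eq', hT,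
        Finset.mem_filter, Finset.mem_univ, true_and]
    have hηI : IsInv η := fun g hg x y => by
      show η.coeff _ = η.coeff _
      rw [hηc, hηc]
      exact if_congr (hrel c g hg x y).symm rfl rfl
    have h1I : IsInv 1 := fun g hg x y => by
      show (1 : MonoidAlgebra (ZMod p) P).coeff _ = (1 : MonoidAlgebra (ZMod p) P).coeff _
      have : ∀ u w : α, (π u)⁻¹ * π w = 1 ↔ u = w := fun u w => by
        rw [inv_mul_eq_one]
        exact ⟨fun h => by rw [← hπv u, h, hπv], fun h => by rw [h]⟩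
      simp only [MonoidAlgebra.one_def, MonoidAlgebra.coeff_single, Finsupp.single_apply]
      refine if_congr ?_ rfl rfl
      rw [eq_comm, this, eq_comm (a := (1 : P)), this]
      exact g.injective.eq_iff
    have hpow' : ∀ n : ℕ, IsInv (η ^ n) := by
      intro n
      induction n with
      | zero => rw [pow_zero]; exact h1I
      | succ n ih => rw [pow_succ]; exact hmul _ _ ih hηI
    have hpow : IsInv (η ^ p) := hpow' p
    have hcoef : ∀ s : P, (η ^ p).coeff s = ((T.filter (fun t => t ^ p = s)).card : ZMod p) := by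
      intro s
      haveI : CharP (MonoidAlgebra (ZMod p) P) p :=
        charP_of_injective_ringHom (f := MonoidAlgebra.singleOneRingHom)
          (fun u w h => by simpa using congrArg (fun f : MonoidAlgebra (ZMod p) P => f.coeff 1) h) p
      rw [hη, sum_pow_char p, MonoidAlgebra.coeff_sum, Finsupp.finsetSum_apply]
      simp only [MonoidAlgebra.single_pow, one_pow, MonoidAlgebra.coeff_single, Finsupp.single_apply,
        Finset.sum_boole]
    have hS : {s : P | (η ^ p).coeff s ≠ 0} ⊆ {1} := by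
      refine hgen _ (fun h hh hh0 d hd => ?_) _ hPptop fun s hs => ?_
      · have h1 := hpow h hh v₀ ((d : Equiv.Perm α) v₀)
        have h0 : π v₀ = 1 := hπc 1
        simp only [K, hh0, h0, inv_one, one_mul, hπc] at h1
        show (η ^ p).coeff _ ≠ 0
        rw [h1]
        exact hd
      · rw [Set.mem_setOf_eq, hcoef] at hs
        obtain ⟨t, ht⟩ := Finset.card_pos.1 (Nat.pos_of_ne_zero fun h0 => hs (by rw [h0]; simp))
        exact ⟨t, (Finset.mem_filter.1 ht).2⟩
    intro t ht htE z hz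
    have hts : t ^ p ≠ 1 := htE
    have h0 : ((T.filter (fun u => u ^ p = t ^ p)).card : ZMod p) = 0 := by
      rw [← hcoef]
      by_contra hne
      exact hts (hS hne)
    rw [ZMod.natCast_eq_zero_iff] at h0
    have hEfin : (Finset.univ.filter (fun u : P => u ^ p = t ^ p)).card = p := by
      refine Eq.trans ?_ hEcard
      rw [Nat.card_eq_fintype_card, ← Fintype.card_subtype]
      refine Fintype.card_congr ((Equiv.mulLeft t⁻¹).subtypeEquiv fun u => ?_)
      show u ^ p = t ^ p ↔ (t⁻¹ * u) ^ p = 1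
      rw [mul_pow, inv_pow, inv_mul_eq_one]
      exact eq_comm
    have hsub : T.filter (fun u => u ^ p = t ^ p) ⊆ Finset.univ.filter (fun u : P => u ^ p = t ^ p) :=
      Finset.filter_subset_filter _ (Finset.subset_univ _)
    have hpos : 0 < (T.filter (fun u => u ^ p = t ^ p)).card :=
      Finset.card_pos.2 ⟨t, by simp [hT, ht]⟩
    have heq := Finset.eq_of_subset_of_card_le hsub (by rw [hEfin]; exact Nat.le_of_dvd hpos h0)
    have : t * z ∈ T.filter (fun u => u ^ p = t ^ p) := by
      rw [heq, Finset.mem_filter, mul_pow, show z ^ p = 1 from hz, mul_one]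
      exact ⟨Finset.mem_univ _, rfl⟩
    simpa [hT] using (Finset.mem_filter.1 this).1
  -- the number of common points
  let cnt : P → P → ℕ := fun c g => (Finset.univ.filter fun z : P => z ∈ orb c ∧ g⁻¹ * z ∈ orb c).card
  have hcnt : ∀ c (h : Equiv.Perm α), h ∈ G → h v₀ = v₀ → ∀ g : P,
      cnt c (π (h ((g : Equiv.Perm α) v₀))) = cnt c g := by
    intro c h hh hh0 g
    symm
    refine Finset.card_equiv (((Equiv.ofBijective _ hbij).trans h).trans (Equiv.ofBijective _ hbij).symm) fun z => ?_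
    simp only [Finset.mem_filter, Finset.mem_univ, true_and]
    show _ ↔ π (h ((z : Equiv.Perm α) v₀)) ∈ orb c ∧
      (π (h ((g : Equiv.Perm α) v₀)))⁻¹ * π (h ((z : Equiv.Perm α) v₀)) ∈ orb c
    have h0 : π v₀ = 1 := hπc 1
    have h1 := hrel c h hh v₀ ((z : Equiv.Perm α) v₀)
    have h2 := hrel c h hh ((g : Equiv.Perm α) v₀) ((z : Equiv.Perm α) v₀)
    simp only [hh0, h0, inv_one, one_mul, hπc] at h1
    simp only [hπc] at h2
    rw [h1, h2]
  -- every nontrivial orbit meets `E`
  have hmeet : ∀ c, c ≠ 1 → ∃ z ∈ orb c, z ∈ E := by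
    intro c hc
    by_contra hcon
    push Not at hcon
    set T := Finset.univ.filter (fun t : P => t ∈ orb c) with hT
    let D : Subgroup P :=
      { carrier := {g | ∀ z, z ∈ orb c ↔ g⁻¹ * z ∈ orb c}
        one_mem' := fun z => by simp
        mul_mem' := fun {g h} hg hh z => by
          rw [hg z, hh (g⁻¹ * z), mul_inv_rev, mul_assoc]
        inv_mem' := fun {g} hg z => by
          rw [inv_inv]
          have := hg (g * z)
          rw [inv_mul_cancel_left] at this
          exact this.symm }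
    have hDtop : D ≠ ⊤ := by
      intro h
      have h1 : (c⁻¹ : P) ∈ D := h ▸ mem_top _
      have h2 := (h1 1).2 (by simpa using horb_self c)
      exact hc (horb_one c h2)
    set S := {g : P | cnt c g = T.card} with hS
    have hSD : S ⊆ D := by
      intro g hg
      have h1 : ∀ z ∈ orb c, g⁻¹ * z ∈ orb c := by
        intro z hz
        have h2 : (Finset.univ.filter fun z : P => z ∈ orb c ∧ g⁻¹ * z ∈ orb c) = T :=
          Finset.eq_of_subset_of_card_le (fun z hz => by simp_all [hT]) hg.ge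
        have h3 : z ∈ T := by simp [hT, hz]
        rw [← h2] at h3
        exact (Finset.mem_filter.1 h3).2.2
      refine fun z => ⟨h1 z, fun hz => ?_⟩
      have h4 : T.image (fun t => g⁻¹ * t) = T := by
        refine Finset.eq_of_subset_of_card_le (fun t ht => ?_)
          (Finset.card_image_of_injective _ (mul_right_injective g⁻¹)).ge
        obtain ⟨u, hu, rfl⟩ := Finset.mem_image.1 ht
        simp only [hT, Finset.mem_filter, Finset.mem_univ, true_and] at hu ⊢
        exact h1 u hu
      have h5 : g⁻¹ * z ∈ T.image (fun t => g⁻¹ * t) := by rw [h4]; simp [hT, hz]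
      obtain ⟨u, hu, hu'⟩ := Finset.mem_image.1 h5
      rw [← mul_left_cancel hu']
      simpa [hT] using hu
    have hES : (E : Set P) ⊆ S := by
      intro z hz
      show cnt c z = T.card
      refine congrArg Finset.card (Finset.filter_congr fun t _ => ?_)
      refine ⟨fun h => h.1, fun ht => ⟨ht, ?_⟩⟩
      rw [mul_comm]
      exact hfib c t ht (fun h => hcon t ht h) _ (E.inv_mem hz)
    have h2 := hgen S (fun h hh hh0 g hg => (hcnt c h hh hh0 g).trans hg) D hDtop hSD
    have h3 : E ≤ ⊥ := fun z hz => h2 (hES hz)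
    exact hp.out.one_lt.ne (by rw [← hEcard, le_bot_iff.1 h3, card_bot])
  -- the count
  obtain ⟨c, hcE⟩ : ∃ c : P, c ∉ E := by
    by_contra hcon
    push Not at hcon
    exact hEtop ((eq_top_iff' E).2 hcon)
  have hc1 : c ≠ 1 := fun h => hcE (h ▸ one_mem _)
  set T := Finset.univ.filter (fun t : P => t ∈ orb c) with hT
  set R := T.filter (fun t => t ∉ E) with hR
  have hR1 : ∀ g : P, g ≠ 1 → R.card ≤ cnt c g := by
    intro g hg
    obtain ⟨z, ⟨h, hh, hh0, hz⟩, hzE⟩ := hmeet g hg
    rw [← hcnt c h hh hh0 g, hz]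
    refine Finset.card_le_card fun t ht => ?_
    rw [hR, Finset.mem_filter, hT, Finset.mem_filter] at ht
    refine Finset.mem_filter.2 ⟨Finset.mem_univ _, ht.1.2, ?_⟩
    rw [mul_comm]
    exact hfib c t ht.1.2 ht.2 _ (E.inv_mem hzE)
  have hsum : ∑ g : P, cnt c g = T.card * T.card := by
    simp only [cnt, Finset.card_filter]
    rw [Finset.sum_comm]
    have : ∀ z : P, (∑ g : P, if z ∈ orb c ∧ g⁻¹ * z ∈ orb c then 1 else 0) =
        if z ∈ orb c then T.card else 0 := by
      intro z
      by_cases hz : z ∈ orb c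
      · simp only [hz, true_and, if_true, ← Finset.card_filter]
        refine Finset.card_equiv ((Equiv.inv P).trans (Equiv.mulRight z)) fun g => ?_
        simp [hT]
      · simp [hz]
    rw [Finset.sum_congr rfl fun z _ => this z, ← Finset.sum_filter, Finset.sum_const, smul_eq_mul, ← hT]
  have h1T : cnt c 1 = T.card := congrArg Finset.card (Finset.filter_congr fun t _ => by simp)
  have hlow : (Fintype.card P - 1) * R.card + T.card ≤ T.card * T.card := by
    rw [← hsum, ← Finset.add_sum_erase _ _ (Finset.mem_univ (1 : P)), h1T, add_comm]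
    refine Nat.add_le_add_left ?_ _
    calc (Fintype.card P - 1) * R.card = ∑ _g ∈ (Finset.univ : Finset P).erase 1, R.card := by
          rw [Finset.sum_const, Finset.card_erase_of_mem (Finset.mem_univ _), Finset.card_univ, smul_eq_mul]
      _ ≤ _ := Finset.sum_le_sum fun g hg => hR1 g (Finset.ne_of_mem_erase hg)
  have hhalf : 2 * T.card ≤ Fintype.card P - 1 := by
    have hd : Disjoint T (T.image fun t => t⁻¹) := by
      rw [Finset.disjoint_left]
      intro t ht ht'
      obtain ⟨s, hs, rfl⟩ := Finset.mem_image.1 ht'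
      rw [hT, Finset.mem_filter] at ht hs
      obtain ⟨h, hh, hh0, he1⟩ := ht.2
      obtain ⟨k, hk, hk0, he2⟩ := hs.2
      -- `h k⁻¹` fixes `v₀` and sends `s v₀` to `s⁻¹ v₀`
      have e3 : (h * k⁻¹) ((s : Equiv.Perm α) v₀) = ((s⁻¹ : P) : Equiv.Perm α) v₀ := by
        rw [Equiv.Perm.mul_apply, ← he2, hπv, Equiv.Perm.inv_def, Equiv.symm_apply_apply]
        rw [← hπv (h _), he1, he2]
      set g := (s : Equiv.Perm α) * (h * k⁻¹) with hg
      have hgG : g ∈ G := G.mul_mem (hPG s) (G.mul_mem hh (G.inv_mem hk))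
      have g1 : g v₀ = (s : Equiv.Perm α) v₀ := by
        rw [hg, Equiv.Perm.mul_apply, Equiv.Perm.mul_apply, Equiv.Perm.inv_eq_iff_eq.2 hk0.symm, hh0]
      have g2 : g ((s : Equiv.Perm α) v₀) = v₀ := by
        rw [hg, Equiv.Perm.mul_apply, e3, Subgroup.coe_inv, Equiv.Perm.inv_def, Equiv.apply_symm_apply]
      exact hc1 (horb_one c (by
        rw [show (1 : P) = s from ((hπc 1).symm.trans (congrArg π (eq_of_swap hodd hgG g1 g2))).trans (hπc s)]
        exact hs.2))
    have hni : ∀ t ∈ T ∪ T.image (fun t => t⁻¹), t ∈ (Finset.univ : Finset P).erase 1 := by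
      intro t ht
      refine Finset.mem_erase.2 ⟨fun h => ?_, Finset.mem_univ _⟩
      subst h
      rcases Finset.mem_union.1 ht with h | h
      · exact hc1 (horb_one c (by simpa [hT] using h))
      · obtain ⟨s, hs, hs1⟩ := Finset.mem_image.1 h
        rw [inv_eq_one.1 hs1] at hs
        exact hc1 (horb_one c (by simpa [hT] using hs))
    have h1 := Finset.card_le_card hni
    rw [Finset.card_union_of_disjoint hd, Finset.card_image_of_injective _ inv_injective,
      Finset.card_erase_of_mem (Finset.mem_univ _), Finset.card_univ] at h1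
    omega
  have hRp : p ≤ R.card := by
    rw [← hEcard, Nat.card_eq_fintype_card]
    refine Finset.card_le_card_of_injOn (fun z : E => c * z) (fun z _ => ?_) (fun z _ w _ h => ?_)
    · simp only [hR, hT, Finset.coe_filter, Finset.mem_filter, Finset.mem_univ, true_and, Set.mem_setOf_eq]
      exact ⟨hfib c c (horb_self c) hcE z z.2, fun h => hcE ((E.mul_mem_cancel_right z.2).1 h)⟩
    · exact Subtype.ext (mul_left_cancel h)
  have hUp : T.card ≤ R.card + p - 1 := by
    have h1 : R.card + (T.filter fun t => ¬ t ∉ E).card = T.card := by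
      rw [hR]
      convert Finset.card_filter_add_card_filter_not (s := T) (fun t => t ∉ E)
    have h2 : (T.filter fun t => ¬ t ∉ E).card ≤ ((Finset.univ.filter fun t : P => t ∈ E).erase 1).card := by
      refine Finset.card_le_card fun t ht => ?_
      simp only [hT, Finset.mem_filter, Finset.mem_univ, true_and, not_not] at ht
      refine Finset.mem_erase.2 ⟨fun h => ?_, by simpa using ht.2⟩
      exact hc1 (horb_one c (h ▸ ht.1))
    rw [Finset.card_erase_of_mem (by simp), ← Fintype.card_subtype, ← Nat.card_eq_fintype_card] at h2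
    change _ ≤ Nat.card E - 1 at h2
    rw [hEcard] at h2
    exact h1.symm.le.trans ((Nat.add_le_add_left h2 _).trans (le_of_eq (Nat.add_sub_assoc hp.out.one_le _).symm))
  have hTpos : 0 < T.card := Finset.card_pos.2 ⟨c, by simpa [hT] using horb_self c⟩
  have h5 : T.card * T.card < 2 * T.card * R.card + T.card := by
    have : T.card < 2 * R.card + 1 := by omega
    calc T.card * T.card < T.card * (2 * R.card + 1) := (Nat.mul_lt_mul_left hTpos).2 this
      _ = _ := by ring
  have h6 : 2 * T.card * R.card ≤ (Fintype.card P - 1) * R.card := Nat.mul_le_mul_right _ hhalf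
  omega

set_option maxHeartbeats 1000000 in
/-- A transitive group of odd order containing a regular cyclic subgroup of prime power order is
solvable. -/
theorem isSolvable_of_regular_cyclic (p : ℕ) [hp : Fact p.Prime] : ∀ (e : ℕ) (α : Type u) [Finite α]
    (G : Subgroup (Equiv.Perm α)), Odd (Nat.card G) → ∀ a ∈ G, (∀ x y : α, ∃ i : ℤ, (a ^ i) x = y) →
    Nat.card α = p ^ e → Group.IsSolvable G := by
  intro e
  induction e using Nat.strong_induction_on with
  | _ e ih =>
  intro α _ G hodd a ha hreg hN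
  classical
  haveI : Fintype α := Fintype.ofFinite α
  rcases Nat.lt_or_ge e 2 with he | he
  · rcases Nat.lt_or_ge e 1 with he0 | he1
    · rw [show e = 0 by omega, pow_zero] at hN
      haveI : Subsingleton α := (Nat.card_eq_one_iff_unique.1 hN).1
      haveI : Subsingleton G := ⟨fun g h => Subtype.ext (Equiv.ext fun x => Subsingleton.elim _ _)⟩
      infer_instance
    · rw [show e = 1 by omega, pow_one, Nat.card_eq_fintype_card] at hN
      haveI : MulAction.IsPretransitive G α := ⟨fun x y => by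
        obtain ⟨i, hi⟩ := hreg x y
        exact ⟨⟨a ^ i, G.zpow_mem ha i⟩, hi⟩⟩
      rcases Cfsg.Agent.PrimeDegree.two_transitive_or_affine hN G with h | ⟨f, h⟩
      · exfalso
        obtain ⟨x, y, hxy⟩ : ∃ x y : α, x ≠ y :=
          Fintype.one_lt_card_iff.1 (hN.symm ▸ hp.out.one_lt)
        obtain ⟨⟨g, hg⟩, hg1, hg2⟩ := MulAction.is_two_pretransitive_iff.1 h hxy (Ne.symm hxy)
        exact hxy (eq_of_swap hodd hg hg1 hg2)
      · exact Cfsg.Agent.PrimeDegree.isSolvable_of_affine G f h
  haveI : Nonempty α := Nat.card_pos_iff.1 (hN ▸ pow_pos hp.out.pos e) |>.1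
  obtain ⟨v₀⟩ := ‹Nonempty α›
  obtain ⟨S, hS, hSbot, hStop⟩ := exists_invariant hodd ha hreg v₀ he hN
  set D := Subgroup.closure S with hD
  have hbij := exists_param a hreg v₀
  have hPcard : Nat.card (zpowers a) = p ^ e := hN ▸ Nat.card_eq_of_bijective _ hbij
  let st : Setoid α :=
    { r := fun x y => ∃ d : zpowers a, d ∈ D ∧ (d : Equiv.Perm α) x = y
      iseqv := ⟨fun x => ⟨1, one_mem _, rfl⟩, fun {x y} ⟨d, hd, h⟩ => ⟨d⁻¹, inv_mem hd, by
          rw [Subgroup.coe_inv, Equiv.Perm.inv_eq_iff_eq, h]⟩,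
        fun {x y z} ⟨d, hd, h⟩ ⟨d', hd', h'⟩ => ⟨d' * d, mul_mem hd' hd, by
          rw [Subgroup.coe_mul, Equiv.Perm.mul_apply, h, h']⟩⟩ }
  have hcompat : ∀ g ∈ G, ∀ x y : α, st.r x y → st.r (g x) (g y) := by
    rintro g hg x _ ⟨d, hd, rfl⟩
    obtain ⟨d', hd', h⟩ := block_of_invariant ha hreg v₀ S hS g hg d x hd
    exact ⟨d', hd', h.symm⟩
  let act : G → Quotient st → Quotient st := fun g => Quotient.map (g : Equiv.Perm α) (hcompat g g.2)
  have act_one : ∀ x, act 1 x = x := fun x => Quotient.inductionOn x fun _ => rfl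
  have act_mul : ∀ g h x, act (g * h) x = act g (act h x) := fun g h x => Quotient.inductionOn x fun _ => rfl
  let θ : G →* Equiv.Perm (Quotient st) := MonoidHom.mk' (fun g =>
      ⟨act g, act g⁻¹, fun x => by rw [← act_mul, inv_mul_cancel, act_one],
        fun x => by rw [← act_mul, mul_inv_cancel, act_one]⟩)
    fun g h => Equiv.ext (act_mul g h)
  haveI : Finite (Quotient st) := Quotient.finite _
  obtain ⟨e', he', hD'⟩ : ∃ e', e' ≤ e ∧ Nat.card D = p ^ e' :=
    (Nat.dvd_prime_pow hp.out).1 (hPcard ▸ card_subgroup_dvd_card D)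
  have he'0 : e' ≠ 0 := fun h => hSbot (card_eq_one.1 (by rw [hD', h, pow_zero]))
  have he'e : e' ≠ e := fun h => hStop (eq_top_of_card_eq _ (by rw [hD', h, hPcard]))
  let cl : Quotient st → Type u := fun x => {y : α // (⟦y⟧ : Quotient st) = x}
  have hclcard : ∀ x, Nat.card (cl x) = p ^ e' := by
    intro x
    induction x using Quotient.inductionOn with
    | h x =>
      obtain ⟨c, hc⟩ := hbij.2 x
      rw [← hD']
      refine (Nat.card_eq_of_bijective (fun d : D => (⟨((d : zpowers a) : Equiv.Perm α) x,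
        Quotient.sound ⟨(d : zpowers a)⁻¹, inv_mem d.2, by simp⟩⟩ : cl ⟦x⟧)) ⟨?_, ?_⟩).symm
      · intro d d' h
        have h1 : ((d : zpowers a) : Equiv.Perm α) x = ((d' : zpowers a) : Equiv.Perm α) x :=
          congrArg Subtype.val h
        refine Subtype.ext (mul_right_cancel (b := c) (hbij.1 ?_))
        show (((d : zpowers a) * c : zpowers a) : Equiv.Perm α) v₀ = _
        simp only [Subgroup.coe_mul, Equiv.Perm.mul_apply]
        rw [show (c : Equiv.Perm α) v₀ = x from hc]
        exact h1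
      · rintro ⟨y, hy⟩
        obtain ⟨d, hd, h⟩ := Quotient.exact hy.symm
        exact ⟨⟨d, hd⟩, Subtype.ext h⟩
  have hqcard : Nat.card (Quotient st) = p ^ (e - e') := by
    have h1 : Nat.card α = Nat.card (Quotient st) * p ^ e' := by
      haveI : Fintype (Quotient st) := Fintype.ofFinite _
      rw [← Nat.card_congr (Equiv.sigmaFiberEquiv (Quotient.mk st)), Nat.card_sigma]
      rw [Finset.sum_congr rfl fun x _ => hclcard x, Finset.sum_const,
        Finset.card_univ, Nat.card_eq_fintype_card, smul_eq_mul]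
    rw [hN, show e = (e - e') + e' by omega, pow_add] at h1
    exact (Nat.eq_of_mul_eq_mul_right (pow_pos hp.out.pos e') h1).symm
  have himg : Group.IsSolvable θ.range := by
    refine ih (e - e') (by omega) (Quotient st) θ.range (hodd.of_dvd_nat (card_range_dvd θ)) (θ ⟨a, ha⟩)
      ⟨_, rfl⟩ (fun x y => ?_) hqcard
    induction x, y using Quotient.inductionOn₂ with
    | h x y =>
      obtain ⟨i, hi⟩ := hreg x y
      refine ⟨i, ?_⟩
      rw [← map_zpow]
      show act (⟨a, ha⟩ ^ i) ⟦x⟧ = ⟦y⟧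
      rw [← hi]
      rfl
  have hker : Group.IsSolvable θ.ker := by
    have hres : ∀ x : Quotient st, ∃ f : θ.ker →* Equiv.Perm (cl x), Group.IsSolvable f.range ∧
        ∀ k : θ.ker, f k = 1 → ∀ y : cl x, ((k : G) : Equiv.Perm α) y.1 = y.1 := by
      intro x
      have hpres : ∀ (k : θ.ker) (y : α), (⟦y⟧ : Quotient st) = x → (⟦((k : G) : Equiv.Perm α) y⟧ : Quotient st) = x := by
        intro k y hy
        have h1 : act (k : G) ⟦y⟧ = ⟦y⟧ := Equiv.congr_fun (MonoidHom.mem_ker.1 k.2) ⟦y⟧
        exact h1.trans hy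
      let f : θ.ker →* Equiv.Perm (cl x) := MonoidHom.mk' (fun k =>
          ⟨fun y => ⟨((k : G) : Equiv.Perm α) y.1, hpres k y.1 y.2⟩,
            fun y => ⟨(((k⁻¹ : θ.ker) : G) : Equiv.Perm α) y.1, hpres k⁻¹ y.1 y.2⟩,
            fun y => Subtype.ext (by simp), fun y => Subtype.ext (by simp)⟩)
        fun k l => Equiv.ext fun y => Subtype.ext rfl
      refine ⟨f, ?_, fun k hk y => congrArg Subtype.val (Equiv.congr_fun hk y)⟩
      obtain ⟨d₀, hd₀⟩ := IsCyclic.exists_generator (α := D)
      have hdG : ((d₀ : zpowers a) : Equiv.Perm α) ∈ G := (zpowers_le.2 ha) (d₀ : zpowers a).2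
      have hdk : (⟨_, hdG⟩ : G) ∈ θ.ker := by
        refine MonoidHom.mem_ker.2 (Equiv.ext fun z => Quotient.inductionOn z fun z => ?_)
        exact Quotient.sound ⟨(d₀ : zpowers a)⁻¹, inv_mem d₀.2, by simp⟩
      haveI : Finite (cl x) := Subtype.finite
      refine ih e' (by omega) (cl x) f.range ?_ (f ⟨_, hdk⟩) ⟨_, rfl⟩ (fun y z => ?_) (hclcard x)
      · exact (hodd.of_dvd_nat (card_subgroup_dvd_card θ.ker)).of_dvd_nat (card_range_dvd f)
      obtain ⟨d, hd, h⟩ := Quotient.exact (y.2.trans z.2.symm)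
      obtain ⟨i, hi⟩ := mem_zpowers_iff.1 (hd₀ ⟨d, hd⟩)
      refine ⟨i, ?_⟩
      rw [← map_zpow]
      refine Subtype.ext ?_
      show (((⟨⟨_, hdG⟩, hdk⟩ : θ.ker) ^ i : θ.ker) : Equiv.Perm α) y.1 = z.1
      rw [← h]
      have := congrArg (fun w : D => ((w : zpowers a) : Equiv.Perm α) y.1) hi
      simp only [SubgroupClass.coe_zpow] at this ⊢
      exact this
    choose f hf hfk using hres
    refine isSolvable_of_forall (fun x => (f x).rangeRestrict) hf fun k hk => ?_
    refine Subtype.ext (Subtype.ext (Equiv.ext fun y => ?_))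
    exact hfk ⟦y⟧ k (congrArg Subtype.val (hk ⟦y⟧)) ⟨y, rfl⟩
  exact Group.isSolvable_of_ker_le_range θ.ker.subtype θ.rangeRestrict (by
    rw [MonoidHom.ker_rangeRestrict, range_subtype])

end Cfsg.Lib.Perm.OddCyclic
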