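import Mathlib

/-!
# Overgroups of a Sylow 2-subgroup of a symmetric group

For a Sylow 2-subgroup `R` with orbits other than a fixed point and one further orbit there are two subgroups
over `R` that do not contain the alternating group but together generate it; with exactly such orbits every
overgroup of `R ∩ Alt` moving the fixed point contains the alternating group.
-/

set_option autoImplicit false

namespace Cfsg.Lib.Perm.OddIndex

open Equiv Equiv.Perm MulAction
open scoped Pointwise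

variable {α : Type*}

/-- The setwise stabilizer of `X`. -/
def setStab (X : Set α) : Subgroup (Perm α) where
  carrier := {g | ∀ x, g x ∈ X ↔ x ∈ X}
  one_mem' := fun _ => Iff.rfl
  mul_mem' := fun {g h} hg hh x => (hg (h x)).trans (hh x)
  inv_mem' := fun {g} hg x => by simpa using (hg (g⁻¹ x)).symm

/-- The stabilizer of the partition `{X, Xᶜ}`. -/
def partStab (X : Set α) : Subgroup (Perm α) where
  carrier := {g | ∀ x y, (g x ∈ X ↔ g y ∈ X) ↔ (x ∈ X ↔ y ∈ X)}
  one_mem' := fun _ _ => Iff.rfl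
  mul_mem' := fun {g h} hg hh x y => (hg (h x) (h y)).trans (hh x y)
  inv_mem' := fun {g} hg x y => by simpa using (hg (g⁻¹ x) (g⁻¹ y)).symm

theorem setStab_le_partStab (X : Set α) : setStab X ≤ partStab X := fun _ hg x y => by rw [hg x, hg y]

variable [DecidableEq α] [Fintype α]

theorem swap_mem_setStab {X : Set α} {a b : α} (h : a ∈ X ↔ b ∈ X) : swap a b ∈ setStab X := by
  intro x
  rcases eq_or_ne x a with rfl | ha
  · rw [swap_apply_left]; exact h.symm
  rcases eq_or_ne x b with rfl | hb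
  · rw [swap_apply_right]; exact h
  rw [swap_apply_of_ne_of_ne ha hb]

theorem cycle3_mem_alt {a b c : α} (hab : a ≠ b) (hac : a ≠ c) :
    swap a b * swap a c ∈ alternatingGroup α := by
  simp [mem_alternatingGroup, sign_swap hab, sign_swap hac]

theorem swap_swap_mem_alt {a b c d : α} (hab : a ≠ b) (hcd : c ≠ d) :
    swap a b * swap c d ∈ alternatingGroup α := by
  simp [mem_alternatingGroup, sign_swap hab, sign_swap hcd]

theorem exists_third {X : Set α} (h : 3 ≤ X.ncard) (a b : α) : ∃ c ∈ X, c ≠ a ∧ c ≠ b := by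
  obtain ⟨c, hc, hc'⟩ := Set.exists_mem_notMem_of_ncard_lt_ncard (s := ({a, b} : Set α)) (t := X)
    (lt_of_le_of_lt (Set.ncard_insert_le a {b}) (by rw [Set.ncard_singleton]; omega))
  simp only [Set.mem_insert_iff, Set.mem_singleton_iff, not_or] at hc'
  exact ⟨c, hc, hc'⟩

/-- A subgroup transitive with all 3-cycles on a large set contains the alternating group. -/
theorem alt_le_of_large {H : Subgroup (Perm α)} (htr : IsPretransitive H α) {X : Set α} (hX : 3 ≤ X.ncard)
    (hbig : Nat.card α ≤ 2 * X.ncard)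
    (h3 : ∀ a ∈ X, ∀ b ∈ X, ∀ c ∈ X, a ≠ b → a ≠ c → b ≠ c → swap a b * swap a c ∈ H)
    (hsplit : Nat.card α < 2 * X.ncard ∨ ∃ h ∈ H, ∃ x ∈ X, ∃ y ∈ X, h x ∈ X ∧ h y ∉ X) :
    alternatingGroup α ≤ H := by
  haveI : IsPreprimitive H α := by
    haveI := htr
    refine @IsPreprimitive.mk H α _ htr fun {B} hB => ?_
    by_contra hnt
    obtain ⟨h1, h2⟩ := not_or.1 hnt
    have hmove : ∀ g ∈ H, ∀ u ∈ B, g u ∈ B → ∀ v ∈ B, g v ∈ B := by
      intro g hg u hu hgu v hv
      have h : (⟨g, hg⟩ : H) • B = B := hB.smul_eq_of_nonempty ⟨g u, ⟨u, hu, rfl⟩, hgu⟩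
      exact h ▸ ⟨v, hv, rfl⟩
    obtain ⟨x, hx⟩ : ∃ x, x ∈ X := Set.nonempty_of_ncard_ne_zero (by omega)
    -- translate the block to meet `X`
    obtain ⟨u, hu, w, hw, huw⟩ := Set.not_subsingleton_iff.1 h1
    obtain ⟨g, hg⟩ := exists_smul_eq (M := H) u x
    have hB' : IsBlock H (g • B) := hB.translate g
    set B' := g • B with hB'def
    have hxB : x ∈ B' := ⟨u, hu, hg⟩
    have hmove' : ∀ g ∈ H, ∀ u ∈ B', g u ∈ B' → ∀ v ∈ B', g v ∈ B' := by
      intro g hg u hu hgu v hv
      have h : (⟨g, hg⟩ : H) • B' = B' := hB'.smul_eq_of_nonempty ⟨g u, ⟨u, hu, rfl⟩, hgu⟩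
      exact h ▸ ⟨v, hv, rfl⟩
    obtain ⟨y, hy, hyx⟩ : ∃ y ∈ B', y ≠ x := ⟨g • w, ⟨w, hw, rfl⟩, fun h => huw (by
      rw [← hg] at h; exact ((MulAction.injective g) h).symm)⟩
    obtain ⟨z, hz, hzB, hzx⟩ : ∃ z, z ∈ X ∧ z ∈ B' ∧ z ≠ x := by
      by_contra hcon
      push Not at hcon
      have hyX : y ∉ X := fun h => hyx (hcon y h hy)
      obtain ⟨b, hb, hbx, -⟩ := exists_third hX x x
      obtain ⟨c, hc, hcx, hcb⟩ := exists_third hX x b
      have hg' := h3 x hx b hb c hc hbx.symm hcx.symm hcb.symm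
      have e1 : (swap x b * swap x c) y = y := by
        rw [mul_apply, swap_apply_of_ne_of_ne hyx (fun h => hyX (h ▸ hc)),
          swap_apply_of_ne_of_ne hyx (fun h => hyX (h ▸ hb))]
      have e2 : (swap x b * swap x c) x = c := by
        rw [mul_apply, swap_apply_left, swap_apply_of_ne_of_ne hcx hcb]
      have := hmove' _ hg' y hy (e1.symm ▸ hy) x hxB
      rw [e2] at this
      exact hcx (hcon c hc this)
    have hsub : X ⊆ B' := by
      intro c hc
      by_contra hcB
      obtain ⟨d, hd, hdz, hdc⟩ := exists_third hX z c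
      by_cases hdx : d = x
      · subst hdx
        -- rotate `z ↦ c` fixing a point of the block
        obtain ⟨e, he, hez, hec⟩ : ∃ e ∈ X, e ≠ z ∧ e ≠ c := ⟨d, hd, hdz, hdc⟩
        by_cases hbig4 : ∃ e ∈ X, e ≠ z ∧ e ≠ c ∧ e ≠ d
        · obtain ⟨e, he, hez, hec, hed⟩ := hbig4
          have hzc : z ≠ c := fun h => hcB (h ▸ hzB)
          have hg' := h3 z hz e he c hc hez.symm hzc hec
          have e1 : (swap z e * swap z c) d = d := by
            rw [mul_apply, swap_apply_of_ne_of_ne hdz hdc, swap_apply_of_ne_of_ne hdz hed.symm]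
          have e2 : (swap z e * swap z c) z = c := by
            rw [mul_apply, swap_apply_left, swap_apply_of_ne_of_ne hzc.symm hec.symm]
          have := hmove' _ hg' d hxB (e1.symm ▸ hxB) z hzB
          rw [e2] at this
          exact hcB this
        · -- `X = {d, z, c}`: the cycle moves the block onto itself through `d ↦ z`
          have hzc : z ≠ c := fun h => hcB (h ▸ hzB)
          have hg' := h3 d hd c hc z hz hdc hdz hzc.symm
          have e1 : (swap d c * swap d z) d = z := by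
            rw [mul_apply, swap_apply_left, swap_apply_of_ne_of_ne hdz.symm hzc]
          have e2 : (swap d c * swap d z) z = c := by
            rw [mul_apply, swap_apply_right, swap_apply_left]
          have := hmove' _ hg' d hxB (e1.symm ▸ hzB) z hzB
          rw [e2] at this
          exact hcB this
      · have hzc : z ≠ c := fun h => hcB (h ▸ hzB)
        have hg' := h3 z hz d hd c hc hdz.symm hzc hdc
        have e1 : (swap z d * swap z c) x = x := by
          rw [mul_apply, swap_apply_of_ne_of_ne hzx.symm (fun h => hcB (by rw [← h]; exact hxB)),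
            swap_apply_of_ne_of_ne hzx.symm (Ne.symm hdx)]
        have e2 : (swap z d * swap z c) z = c := by
          rw [mul_apply, swap_apply_left, swap_apply_of_ne_of_ne hzc.symm hdc.symm]
        have := hmove' _ hg' x hxB (e1.symm ▸ hxB) z hzB
        rw [e2] at this
        exact hcB this
    -- a block with at least half of the points
    have hB'univ : B' = Set.univ := by
      by_contra hne
      have h2' : 2 * B'.ncard ≤ Nat.card α := by
        have hdvd := hB'.ncard_dvd_card ⟨x, hxB⟩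
        have hlt : B'.ncard < Nat.card α :=
          (Set.ncard_lt_card hne)
        obtain ⟨k, hk⟩ := hdvd
        rcases Nat.lt_or_ge k 2 with hk2 | hk2
        · rcases Nat.eq_zero_or_pos k with rfl | hk0
          · omega
          · obtain rfl : k = 1 := by omega
            omega
        · rw [hk, mul_comm B'.ncard k]; exact Nat.mul_le_mul_right _ hk2
      have hle := Set.ncard_le_ncard hsub (Set.toFinite _)
      rcases hsplit with hs | ⟨h, hh, a, ha, b, hb, hab, hab'⟩
      · omega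
      · have heq : X = B' := Set.eq_of_subset_of_ncard_le hsub (by omega) (Set.toFinite _)
        exact hab' (heq ▸ hmove' h hh a (hsub ha) (hsub hab) b (hsub hb))
    exact h2 (by rw [← inv_smul_smul g B, ← hB'def, hB'univ, Set.smul_set_univ])
  obtain ⟨a, ha⟩ : ∃ a, a ∈ X := Set.nonempty_of_ncard_ne_zero (by omega)
  obtain ⟨b, hb, hba, -⟩ := exists_third hX a a
  obtain ⟨c, hc, hca, hcb⟩ := exists_third hX a b
  exact alternatingGroup_le_of_isPreprimitive_of_isThreeCycle_mem (show IsPreprimitive H α from inferInstance)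
    (isThreeCycle_swap_mul_swap_same hba.symm hca.symm hcb.symm) (h3 a ha b hb c hc hba.symm hca.symm hcb.symm)

theorem pretransitive_of_reach {H : Subgroup (Perm α)} (a : α) (h : ∀ b, ∃ g ∈ H, g a = b) :
    IsPretransitive H α := by
  refine ⟨fun x y => ?_⟩
  obtain ⟨g, hg, rfl⟩ := h x
  obtain ⟨k, hk, rfl⟩ := h y
  exact ⟨⟨k, hk⟩ * (⟨g, hg⟩ : H)⁻¹, by rw [mul_smul]; show k (g⁻¹ (g a)) = k a; rw [Equiv.Perm.inv_def, Equiv.symm_apply_apply]⟩

section Orbits

variable (R : Subgroup (Perm α))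

/-- The orbit of `a` under `R`. -/
def orb (a : α) : Set α := {b | ∃ g ∈ R, g a = b}

variable {R}

omit [DecidableEq α] [Fintype α] in
theorem mem_orb_self (a : α) : a ∈ orb R a := ⟨1, one_mem R, rfl⟩

omit [DecidableEq α] [Fintype α] in
theorem orb_eq {a b : α} (h : b ∈ orb R a) : orb R b = orb R a := by
  obtain ⟨g, hg, rfl⟩ := h
  ext c
  constructor
  · rintro ⟨k, hk, rfl⟩; exact ⟨k * g, mul_mem hk hg, rfl⟩
  · rintro ⟨k, hk, rfl⟩; exact ⟨k * g⁻¹, mul_mem hk (inv_mem hg), by simp⟩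

omit [DecidableEq α] [Fintype α] in
theorem orb_meet {a b x : α} (h : x ∈ orb R a) (h' : x ∈ orb R b) : b ∈ orb R a := by
  rw [(orb_eq h).symm.trans (orb_eq h')]
  exact mem_orb_self b

omit [DecidableEq α] [Fintype α] in
theorem le_setStab_orb (a : α) : R ≤ setStab (orb R a) := fun g hg x => by
  constructor
  · rintro ⟨k, hk, e⟩
    exact ⟨g⁻¹ * k, mul_mem (inv_mem hg) hk, by simp [e]⟩
  · rintro ⟨k, hk, rfl⟩
    exact ⟨g * k, mul_mem hg hk, rfl⟩

theorem ncard_orb (hR : IsPGroup 2 R) (a : α) : ∃ k, (orb R a).ncard = 2 ^ k := by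
  obtain ⟨k, hk⟩ := hR.card_orbit (α := α) a
  refine ⟨k, ?_⟩
  rw [← hk, ← Nat.card_coe_set_eq]
  refine Nat.card_congr (Equiv.setCongr (Set.ext fun b => ?_))
  exact ⟨fun ⟨g, hg, e⟩ => ⟨⟨g, hg⟩, e⟩, fun ⟨g, e⟩ => ⟨g.1, g.2, e⟩⟩

/-- On a nontrivial orbit some involution moving every point there and nothing else commutes with `R`. -/
theorem exists_central (hR : IsPGroup 2 R) {a : α} (ha : 2 ≤ (orb R a).ncard) :
    ∃ z : Perm α, z * z = 1 ∧ (∀ g ∈ R, g * z = z * g) ∧ ∀ x, z x ≠ x ↔ x ∈ orb R a := by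
  classical
  haveI : Fact (Nat.Prime 2) := ⟨Nat.prime_two⟩
  let A := orb R a
  have hres : ∀ g ∈ R, ∀ x, g x ∈ A ↔ x ∈ A := fun g hg => le_setStab_orb a hg
  let ρ : R →* Perm A := MonoidHom.mk' (fun g => Equiv.Perm.subtypePerm g.1 (fun x => hres g.1 g.2 x))
    (fun g h => Equiv.ext fun x => rfl)
  have hP : IsPGroup 2 ρ.range := hR.of_surjective ρ.rangeRestrict ρ.rangeRestrict_surjective
  obtain ⟨b, hb, hba⟩ : ∃ b ∈ A, b ≠ a := Set.exists_ne_of_one_lt_ncard (show 1 < A.ncard from ha) a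
  obtain ⟨g, hg, hgb⟩ := id hb
  haveI : Nontrivial ρ.range := ⟨⟨ρ.rangeRestrict ⟨g, hg⟩, 1, fun h => hba (by
    have := congrArg (fun p : ρ.range => ((p : Perm A) ⟨a, mem_orb_self a⟩ : α)) h
    exact hgb.symm.trans this)⟩⟩
  haveI := hP.center_nontrivial
  have hC : IsPGroup 2 (Subgroup.center ρ.range) := hP.to_subgroup _
  obtain ⟨c, hc⟩ : ∃ c : Subgroup.center ρ.range, orderOf c = 2 := by
    refine exists_prime_orderOf_dvd_card' 2 ?_
    obtain ⟨k, hk0, hk⟩ := hC.nontrivial_iff_card.1 inferInstance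
    rw [hk]; exact dvd_pow_self 2 (by omega)
  set p : Perm A := ((c : ρ.range) : Perm A) with hp
  have hp2 : p * p = 1 := by
    have := pow_orderOf_eq_one c
    rw [hc, pow_two] at this
    exact congrArg (fun t : Subgroup.center ρ.range => ((t : ρ.range) : Perm A)) this
  have hp1 : p ≠ 1 := fun h => by
    rw [show c = 1 from Subtype.ext (Subtype.ext h), orderOf_one] at hc; omega
  have hcomm : ∀ g : R, ρ g * p = p * ρ g := fun g =>
    congrArg Subtype.val (Subgroup.mem_center_iff.1 c.2 (ρ.rangeRestrict g))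
  have hfree : ∀ x : A, p x ≠ x := by
    intro x hx
    refine hp1 (Equiv.ext fun y => ?_)
    obtain ⟨k, hk, hky⟩ : (y : α) ∈ orb R (x : α) := by rw [orb_eq x.2]; exact y.2
    have e : ρ ⟨k, hk⟩ x = y := Subtype.ext hky
    rw [← e, ← Perm.mul_apply, ← hcomm, Perm.mul_apply, hx, Perm.one_apply]
  refine ⟨ofSubtype p, ?_, fun g hg => ?_, fun x => ?_⟩
  · rw [← map_mul, hp2, map_one]
  · refine Equiv.ext fun x => ?_
    by_cases hx : x ∈ A
    · have hgx : g x ∈ A := (hres g hg x).2 hx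
      rw [mul_apply, mul_apply, ofSubtype_apply_of_mem p hx, ofSubtype_apply_of_mem p hgx]
      exact congrArg Subtype.val (DFunLike.congr_fun (hcomm ⟨g, hg⟩) ⟨x, hx⟩)
    · have hgx : g x ∉ A := fun h => hx ((hres g hg x).1 h)
      rw [mul_apply, mul_apply, ofSubtype_apply_of_not_mem p hx, ofSubtype_apply_of_not_mem p hgx]
  · by_cases hx : x ∈ A
    · refine ⟨fun _ => hx, fun _ h => hfree ⟨x, hx⟩ (Subtype.ext ?_)⟩
      rw [ofSubtype_apply_of_mem p hx] at h
      exact h
    · exact ⟨fun h => absurd (ofSubtype_apply_of_not_mem p hx) h, fun h => absurd h hx⟩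

end Orbits

theorem cycle3_mem_stab {X : Set α} {a b c : α} (h1 : a ∈ X ↔ b ∈ X) (h2 : a ∈ X ↔ c ∈ X) :
    swap a b * swap a c ∈ setStab X :=
  mul_mem (swap_mem_setStab h1) (swap_mem_setStab h2)

theorem not_alt_le_setStab {X : Set α} {a b : α} (ha : a ∈ X) (hb : b ∉ X) (hn : 3 ≤ Nat.card α) :
    ¬ alternatingGroup α ≤ setStab X := fun h => by
  obtain ⟨c, -, hca, hcb⟩ := exists_third (X := (Set.univ : Set α)) (by rw [Set.ncard_univ]; exact hn) a b
  have hab : a ≠ b := fun e => hb (e ▸ ha)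
  have := (h (cycle3_mem_alt hab (Ne.symm hca)) c)
  have h2 := (h (cycle3_mem_alt (a := a) (b := c) (c := b) (Ne.symm hca) hab) a)
  rw [mul_apply, swap_apply_left, swap_apply_of_ne_of_ne hab.symm hcb.symm] at h2
  exact hb (h2.2 ha)

/-- The centralizer of an involution `z`. -/
abbrev cent (z : Perm α) : Subgroup (Perm α) := Subgroup.centralizer {z}

theorem pair_swap_mem_cent {z : Perm α} (hz : z * z = 1) {x y : α} (hx : z x ≠ x) (hy : z y ≠ y) (hzxy : z x ≠ y)
    (hxy : x ≠ y) : swap x y * swap (z x) (z y) ∈ cent z := by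
  have hzz : ∀ t, z (z t) = t := fun t => by rw [← Perm.mul_apply, hz, Perm.one_apply]
  have h3 : z y ≠ x := fun e => hzxy (by rw [← e, hzz])
  have h4 : z x ≠ z y := fun e => hxy (z.injective e)
  have hc : swap x y * swap (z x) (z y) = swap (z x) (z y) * swap x y :=
    (Equiv.Perm.disjoint_swap_swap (by simp [hxy, h4, Ne.symm hx, Ne.symm hy, Ne.symm h3, Ne.symm hzxy])).commute.eq
  rw [Subgroup.mem_centralizer_singleton_iff]
  symm
  calc z * (swap x y * swap (z x) (z y)) = swap (z x) (z y) * (z * swap (z x) (z y)) := by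
        rw [← mul_assoc, Equiv.mul_swap_eq_swap_mul z x y, mul_assoc]
    _ = swap (z x) (z y) * swap x y * z := by rw [Equiv.mul_swap_eq_swap_mul z (z x) (z y), hzz, hzz, mul_assoc]
    _ = swap x y * swap (z x) (z y) * z := by rw [hc]

theorem not_alt_le_cent {z : Perm α} {a : α} (ha : z a ≠ a) (hn : 4 ≤ Nat.card α) :
    ¬ alternatingGroup α ≤ cent z := fun h => by
  obtain ⟨c, hc, hc1, hc2⟩ := exists_third (X := (Set.univ : Set α)) (by rw [Set.ncard_univ]; omega) a (z a)
  obtain ⟨d, hd, hd'⟩ := Set.exists_mem_notMem_of_ncard_lt_ncard (s := ({a, z a, c} : Set α))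
    (t := (Set.univ : Set α)) (by
      rw [Set.ncard_univ]
      have h1 := Set.ncard_insert_le a ({z a, c} : Set α)
      have h2 := Set.ncard_insert_le (z a) ({c} : Set α)
      rw [Set.ncard_singleton] at h2
      omega)
  simp only [Set.mem_insert_iff, Set.mem_singleton_iff, not_or] at hd'
  have hm := Subgroup.mem_centralizer_singleton_iff.1 (h (cycle3_mem_alt (a := a) (b := c) (c := d) hc1.symm (Ne.symm hd'.1)))
  have h3 := DFunLike.congr_fun hm a
  rw [mul_apply, mul_apply, mul_apply, mul_apply, swap_apply_left,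
    swap_apply_of_ne_of_ne hd'.1 hd'.2.2, swap_apply_of_ne_of_ne ha (Ne.symm hd'.2.1),
    swap_apply_of_ne_of_ne ha (Ne.symm hc2)] at h3
  exact hd'.1 (z.injective h3.symm)

/-- What two overgroups are to show. -/
def TwoAbove (R : Subgroup (Perm α)) : Prop :=
  ∃ K₁ K₂ : Subgroup (Perm α), R ≤ K₁ ∧ R ≤ K₂ ∧ ¬ alternatingGroup α ≤ K₁ ∧ ¬ alternatingGroup α ≤ K₂ ∧
    alternatingGroup α ≤ (K₁ ⊓ alternatingGroup α) ⊔ (K₂ ⊓ alternatingGroup α)

variable {R : Subgroup (Perm α)}

theorem reach_cent {z : Perm α} (hz : z * z = 1) {a b : α} (hza : z a ≠ a) (hzb : z b ≠ b) (hne : z a ≠ b)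
    (hab : a ≠ b) : swap a b * swap (z a) (z b) ∈ cent z ⊓ alternatingGroup α ∧
      (swap a b * swap (z a) (z b)) a = b := by
  refine ⟨Subgroup.mem_inf.2 ⟨pair_swap_mem_cent hz hza hzb hne hab,
    swap_swap_mem_alt hab fun e => hab (z.injective e)⟩, ?_⟩
  have hzz : z (z b) = b := by rw [← Perm.mul_apply, hz, Perm.one_apply]
  rw [mul_apply, swap_apply_of_ne_of_ne (Ne.symm hza) (fun e => hne (by rw [e, hzz])), swap_apply_left]

/-- At least three orbits. -/
theorem twoAbove_three (hn : 5 ≤ Nat.card α) {a b c : α} (hb : b ∉ orb R a) (hc : c ∉ orb R a) (hc' : c ∉ orb R b)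
    (hA : ∀ x, (orb R a).ncard ≤ (orb R x).ncard) (hbig : ∀ x ∉ orb R a, (orb R x).ncard ≤ (orb R b).ncard)
    (hB2 : 2 ≤ (orb R b).ncard) : TwoAbove R := by
  set A := orb R a with hAd
  set B := orb R b with hBd
  have ha : a ∈ A := mem_orb_self a
  have hbB : b ∈ B := mem_orb_self b
  have haB : a ∉ B := fun h => hb (orb_meet (mem_orb_self a) h)
  refine ⟨setStab A, setStab B, le_setStab_orb a, le_setStab_orb b, not_alt_le_setStab ha hb (by omega),
    not_alt_le_setStab hbB haB (by omega), ?_⟩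
  set H := setStab A ⊓ alternatingGroup α ⊔ setStab B ⊓ alternatingGroup α
  have hsum : A.ncard + Aᶜ.ncard = Nat.card α := Set.ncard_add_ncard_compl A
  have hsub : B ∪ orb R c ⊆ Aᶜ := by
    rintro x (hx | hx)
    · exact fun h => hb (orb_meet h hx)
    · exact fun h => hc (orb_meet h hx)
  have hdisj : Disjoint B (orb R c) := by
    rw [Set.disjoint_left]
    intro x hx hx'
    exact hc' (orb_meet hx hx')
  have hge := Set.ncard_le_ncard hsub (Set.toFinite _)
  rw [Set.ncard_union_eq hdisj (Set.toFinite _) (Set.toFinite _)] at hge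
  have := hA b
  have := hA c
  have h3 : ∀ x ∈ Aᶜ, ∀ y ∈ Aᶜ, ∀ z ∈ Aᶜ, x ≠ y → x ≠ z → y ≠ z → swap x y * swap x z ∈ H := by
    intro x hx y hy z hz hxy hxz _
    exact Subgroup.mem_sup_left (Subgroup.mem_inf.2
      ⟨cycle3_mem_stab (iff_of_false hx hy) (iff_of_false hx hz), cycle3_mem_alt hxy hxz⟩)
  have hin : ∀ {u v : α}, u ∈ Aᶜ → v ∈ Aᶜ → ∃ g ∈ H, g u = v := by
    intro u v hu hv
    rcases eq_or_ne u v with rfl | hne
    · exact ⟨1, one_mem _, rfl⟩
    obtain ⟨w, hw, hwu, hwv⟩ := exists_third (X := Aᶜ) (by omega) u v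
    refine ⟨_, h3 u hu w hw v hv hwu.symm hne hwv, ?_⟩
    rw [mul_apply, swap_apply_left, swap_apply_of_ne_of_ne hne.symm hwv.symm]
  refine alt_le_of_large ?_ (X := Aᶜ) (by omega) (by omega) h3 (Or.inl (by omega))
  refine pretransitive_of_reach c fun x => ?_
  by_cases hx : x ∈ A
  · obtain ⟨d, hd, hdb⟩ := Set.exists_ne_of_one_lt_ncard (by omega : 1 < B.ncard) b
    have hxc : c ≠ x := fun e => hc (e ▸ hx)
    have hxB : x ∉ B := fun h => hb (orb_meet hx h)
    refine ⟨swap c x * swap b d, Subgroup.mem_sup_right (Subgroup.mem_inf.2 ⟨mul_mem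
      (swap_mem_setStab (iff_of_false hc' hxB)) (swap_mem_setStab (iff_of_true hbB hd)),
      swap_swap_mem_alt hxc hdb.symm⟩), ?_⟩
    rw [mul_apply, swap_apply_of_ne_of_ne (show c ≠ b from fun e => hc' (e ▸ hbB)) (show c ≠ d from fun e => hc' (e ▸ hd)), swap_apply_left]
  · exact hin hc hx

/-- Two orbits, both nontrivial. -/
theorem twoAbove_two (hR : IsPGroup 2 R) (hn : 5 ≤ Nat.card α) {a b : α} (hb : b ∉ orb R a)
    (hcov : ∀ x, x ∈ orb R a ∨ x ∈ orb R b) (ha2 : 2 ≤ (orb R a).ncard) (hb2 : 2 ≤ (orb R b).ncard)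
    (hle : (orb R b).ncard ≤ (orb R a).ncard) : TwoAbove R := by
  set A := orb R a with hAd
  set B := orb R b with hBd
  have ha : a ∈ A := mem_orb_self a
  obtain ⟨za, hza, hzaR, hzaA⟩ := exists_central hR ha2
  obtain ⟨zb, hzb, hzbR, hzbB⟩ := exists_central hR hb2
  have hAB : ∀ x, x ∈ B → x ∉ A := fun x hx h => hb (orb_meet h hx)
  have hdisj : Equiv.Perm.Disjoint za zb := fun x => by
    rcases hcov x with h | h
    · exact Or.inr (not_not.1 fun h' => hAB x ((hzbB x).1 h') h)
    · exact Or.inl (not_not.1 fun h' => hAB x h ((hzaA x).1 h'))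
  set z := za * zb with hzd
  have hz : z * z = 1 := by
    rw [hzd, hdisj.commute.symm.mul_mul_mul_comm, hza, hzb, one_mul]
  have hfree : ∀ x, z x ≠ x := by
    intro x h
    rcases hcov x with hx | hx
    · rw [hzd, mul_apply, not_not.1 fun h' => hAB x ((hzbB x).1 h') hx] at h
      exact (hzaA x).2 hx h
    · have h' : za x = x := not_not.1 fun h' => hAB x hx ((hzaA x).1 h')
      rw [hzd, hdisj.commute.eq, mul_apply, h'] at h
      exact (hzbB x).2 hx h
  have hRz : R ≤ cent z := fun g hg => by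
    rw [Subgroup.mem_centralizer_singleton_iff, hzd, ← mul_assoc, hzaR g hg, mul_assoc, hzbR g hg, mul_assoc]
  have hzA : ∀ x ∈ A, z x ∈ A := by
    intro x hx
    have h' : zb x = x := not_not.1 fun h' => hAB x ((hzbB x).1 h') hx
    rw [hzd, mul_apply, h']
    by_contra h
    exact h ((hzaA _).1 fun e => (hzaA x).2 hx (za.injective e))
  refine ⟨setStab A, cent z, le_setStab_orb a, hRz, not_alt_le_setStab ha hb (by omega),
    not_alt_le_cent (hfree a) (by omega), ?_⟩
  set H := setStab A ⊓ alternatingGroup α ⊔ cent z ⊓ alternatingGroup α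
  have hsum : A.ncard + B.ncard = Nat.card α := by
    rw [← Set.ncard_univ, ← Set.ncard_union_eq ?_ (Set.toFinite _) (Set.toFinite _)]
    · congr 1; ext x; simp [hcov x]
    · rw [Set.disjoint_left]; exact fun x hx hx' => hAB x hx' hx
  have hA3 : 3 ≤ A.ncard := by omega
  have h3 : ∀ x ∈ A, ∀ y ∈ A, ∀ w ∈ A, x ≠ y → x ≠ w → y ≠ w → swap x y * swap x w ∈ H := by
    intro x hx y hy w hw hxy hxw _
    exact Subgroup.mem_sup_left (Subgroup.mem_inf.2
      ⟨cycle3_mem_stab (iff_of_true hx hy) (iff_of_true hx hw), cycle3_mem_alt hxy hxw⟩)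
  have hcross : ∀ v ∉ A, ∃ g ∈ H, g a = v ∧ ∃ y ∈ A, g y ∈ A := by
    intro v hv
    have hzav : z a ≠ v := fun e => hv (e ▸ hzA a ha)
    have hav : a ≠ v := fun e => hv (e ▸ ha)
    obtain ⟨h1, h2⟩ := reach_cent hz (hfree a) (hfree v) hzav hav
    obtain ⟨y, hy, hya, hyz⟩ := exists_third hA3 a (z a)
    refine ⟨_, Subgroup.mem_sup_right h1, h2, y, hy, ?_⟩
    have hyv : y ≠ v := fun e => hv (e ▸ hy)
    have hyzv : y ≠ z v := fun e => hv (by
      have h := hzA y hy
      rwa [e, ← Perm.mul_apply, hz, Perm.one_apply] at h)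
    rw [mul_apply, swap_apply_of_ne_of_ne hyz hyzv, swap_apply_of_ne_of_ne hya hyv]
    exact hy
  refine alt_le_of_large ?_ hA3 (by omega) h3 ?_
  · refine pretransitive_of_reach a fun x => ?_
    by_cases hx : x ∈ A
    · rcases eq_or_ne a x with rfl | hne
      · exact ⟨1, one_mem _, rfl⟩
      obtain ⟨w, hw, hwu, hwv⟩ := exists_third hA3 a x
      refine ⟨_, h3 a ha w hw x hx hwu.symm hne hwv, ?_⟩
      rw [mul_apply, swap_apply_left, swap_apply_of_ne_of_ne hne.symm hwv.symm]
    · obtain ⟨g, hg, e, -⟩ := hcross x hx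
      exact ⟨g, hg, e⟩
  · obtain ⟨g, hg, e, y, hy, hgy⟩ := hcross b hb
    exact Or.inr ⟨g, hg, y, hy, a, ha, hgy, e ▸ hb⟩

/-- A single orbit. -/
theorem twoAbove_one (hR : IsPGroup 2 R) (hn : 5 ≤ Nat.card α) {a : α} (hcov : ∀ x, x ∈ orb R a) : TwoAbove R := by
  haveI : Fact (Nat.Prime 2) := ⟨Nat.prime_two⟩
  have hcard : (orb R a).ncard = Nat.card α := by
    rw [← Set.ncard_univ]; congr 1; exact Set.eq_univ_of_forall hcov
  obtain ⟨k, hk⟩ := ncard_orb hR a
  rw [hcard] at hk
  obtain ⟨z, hz, hzR, hzA⟩ := exists_central hR (a := a) (by omega)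
  have hfree : ∀ x, z x ≠ x := fun x => (hzA x).2 (hcov x)
  -- the two halves
  let S : Subgroup R := MulAction.stabilizer R a
  have hS : S ≠ ⊤ := by
    obtain ⟨b, hb, hba⟩ := Set.exists_ne_of_one_lt_ncard (by omega : 1 < (orb R a).ncard) a
    obtain ⟨g, hg, e⟩ := hb
    exact fun h => hba (e.symm.trans (show g a = a from (h ▸ Subgroup.mem_top (⟨g, hg⟩ : R) : ⟨g, hg⟩ ∈ S)))
  obtain ⟨N, hN, hSN⟩ := (eq_top_or_exists_le_coatom S).resolve_left hS
  haveI : Group.IsNilpotent R := hR.isNilpotent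
  haveI hNn : N.Normal := Subgroup.NormalizerCondition.normal_of_coatom _ Group.normalizerCondition_of_isNilpotent hN
  let X : Set α := {x | ∃ g ∈ N, (g : Perm α) a = x}
  have hmemX : ∀ g : R, (g : Perm α) a ∈ X ↔ g ∈ N := by
    intro g
    refine ⟨fun ⟨u, hu, e⟩ => ?_, fun h => ⟨g, h, rfl⟩⟩
    have h1 : u⁻¹ * g ∈ S := by
      show (u⁻¹ * g) • a = a
      rw [mul_smul, show g • a = u • a from e.symm, inv_smul_smul]
    have := mul_mem hu (hSN h1)
    rwa [mul_inv_cancel_left] at this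
  have hidx : N.index = 2 := by
    haveI : IsSimpleGroup (R ⧸ N) := by
      refine @IsSimpleGroup.mk _ _ ?_ fun M _ => ?_
      · exact QuotientGroup.nontrivial_iff.2 hN.1
      · rcases eq_or_lt_of_le (show N ≤ M.comap (QuotientGroup.mk' N) from fun x hx => by
          rw [Subgroup.mem_comap, show QuotientGroup.mk' N x = 1 from (QuotientGroup.eq_one_iff x).2 hx]
          exact one_mem M) with h | h
        · left
          have := congrArg (Subgroup.map (QuotientGroup.mk' N)) h
          rwa [Subgroup.map_comap_eq_self_of_surjective (QuotientGroup.mk'_surjective N),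
            QuotientGroup.map_mk'_self, eq_comm] at this
        · right
          have := congrArg (Subgroup.map (QuotientGroup.mk' N)) (hN.2 _ h)
          rwa [Subgroup.map_comap_eq_self_of_surjective (QuotientGroup.mk'_surjective N),
            Subgroup.map_top_of_surjective _ (QuotientGroup.mk'_surjective N)] at this
    have hQ : IsPGroup 2 (R ⧸ N) := hR.to_quotient N
    haveI : Group.IsNilpotent (R ⧸ N) := hQ.isNilpotent
    haveI : IsCyclic (R ⧸ N) := by
      letI : CommGroup (R ⧸ N) :=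
        { (inferInstance : Group (R ⧸ N)) with mul_comm := IsSimpleGroup.comm_iff_isSolvable.2 inferInstance }
      exact inferInstance
    obtain ⟨j, hj⟩ := IsPGroup.iff_card.1 hQ
    obtain ⟨r, hr⟩ : ∃ r, r = Nat.card (R ⧸ N) := ⟨_, rfl⟩
    letI : CommGroup (R ⧸ N) :=
        { (inferInstance : Group (R ⧸ N)) with mul_comm := IsSimpleGroup.comm_iff_isSolvable.2 inferInstance }
    have hprime := (IsSimpleGroup.prime_card (α := R ⧸ N))
    rw [Subgroup.index_eq_card]
    rw [hj] at hprime ⊢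
    rcases Nat.eq_zero_or_pos j with rfl | hj0
    · simp [Nat.not_prime_one] at hprime
    · obtain rfl : j = 1 := by
        by_contra hne
        exact Nat.Prime.not_prime_pow (show 2 ≤ j by omega) hprime
      rfl
  have hX : ∀ g : R, ∀ u : R, (g : Perm α) ((u : Perm α) a) ∈ X ↔ (g * u) ∈ N := fun g u => hmemX (g * u)
  have hRP : R ≤ partStab X := by
    intro g hg x y
    obtain ⟨u, hu, rfl⟩ := hcov x
    obtain ⟨v, hv, rfl⟩ := hcov y
    rw [hX ⟨g, hg⟩ ⟨u, hu⟩, hX ⟨g, hg⟩ ⟨v, hv⟩, hmemX ⟨u, hu⟩, hmemX ⟨v, hv⟩,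
      Subgroup.mul_mem_iff_of_index_two hidx, Subgroup.mul_mem_iff_of_index_two hidx]
    tauto
  have ha : a ∈ X := ⟨1, one_mem N, rfl⟩
  obtain ⟨t, ht⟩ : ∃ t : R, t ∉ N := by
    by_contra h
    push Not at h
    exact hN.1 (eq_top_iff.2 fun x _ => h x)
  have hb : (t : Perm α) a ∉ X := fun h => ht ((hmemX t).1 h)
  -- both halves have the same size
  have hXc : Xᶜ.ncard = X.ncard := by
    rw [← Set.ncard_image_of_injective X (t : Perm α).injective]
    congr 1
    ext x
    obtain ⟨u, hu, rfl⟩ := hcov x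
    constructor
    · intro h
      refine ⟨((t⁻¹ * ⟨u, hu⟩ : R) : Perm α) a, ?_, by simp⟩
      rw [hmemX, Subgroup.mul_mem_iff_of_index_two hidx]
      exact iff_of_false (fun h' => ht (inv_mem_iff.1 h')) fun h' => h ((hmemX ⟨u, hu⟩).2 h')
    · rintro ⟨w, ⟨v, hv, rfl⟩, e⟩ h
      have h1 := (hX t v).1 (by rw [e]; exact h)
      exact ht ((Subgroup.mul_mem_cancel_right N hv).1 h1)
  have hsum : X.ncard + Xᶜ.ncard = Nat.card α := Set.ncard_add_ncard_compl X
  have hX4 : 4 ≤ X.ncard := by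
    rcases Nat.lt_or_ge k 3 with hk3 | hk3
    · interval_cases k <;> omega
    · have := Nat.pow_le_pow_right (show 1 ≤ 2 by norm_num) hk3
      omega
  have hnpart : ¬ alternatingGroup α ≤ partStab X := fun h => by
    obtain ⟨w, hw, hwa, -⟩ := exists_third (X := X) (by omega) a a
    have hg := cycle3_mem_alt (a := a) (b := (t : Perm α) a) (c := w) (fun e => hb (by rw [← e]; exact ha)) hwa.symm
    have h2 := (h hg a w).2 (iff_of_true ha hw)
    rw [mul_apply, swap_apply_left, swap_apply_of_ne_of_ne hwa (fun e => hb (by rw [← e]; exact hw)), mul_apply,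
      swap_apply_right, swap_apply_left] at h2
    exact hb (h2.1 hw)
  refine ⟨partStab X, cent z, hRP, fun g hg => Subgroup.mem_centralizer_singleton_iff.2 (hzR g hg), hnpart,
    not_alt_le_cent (hfree a) (by omega), ?_⟩
  set H := partStab X ⊓ alternatingGroup α ⊔ cent z ⊓ alternatingGroup α
  have h3 : ∀ x ∈ X, ∀ y ∈ X, ∀ w ∈ X, x ≠ y → x ≠ w → y ≠ w → swap x y * swap x w ∈ H := by
    intro x hx y hy w hw hxy hxw _
    exact Subgroup.mem_sup_left (Subgroup.mem_inf.2
      ⟨setStab_le_partStab X (cycle3_mem_stab (iff_of_true hx hy) (iff_of_true hx hw)), cycle3_mem_alt hxy hxw⟩)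
  have hin : ∀ {u v : α}, u ∈ X → v ∈ X → ∃ g ∈ H, g u = v := by
    intro u v hu hv
    rcases eq_or_ne u v with rfl | hne
    · exact ⟨1, one_mem _, rfl⟩
    obtain ⟨w, hw, hwu, hwv⟩ := exists_third (X := X) (by omega) u v
    refine ⟨_, h3 u hu w hw v hv hwu.symm hne hwv, ?_⟩
    rw [mul_apply, swap_apply_left, swap_apply_of_ne_of_ne hne.symm hwv.symm]
  refine alt_le_of_large ?_ (X := X) (by omega) (by omega) h3 (Or.inr ?_)
  · refine pretransitive_of_reach a fun x => ?_
    by_cases hx : x ∈ X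
    · exact hin ha hx
    · obtain ⟨u, hu, hu', huz⟩ := exists_third (X := X) (by omega) (z x) (z x)
      obtain ⟨g, hg, e⟩ := hin ha hu
      obtain ⟨h1, h2⟩ := reach_cent hz (hfree u) (hfree x)
        (fun e' => hu' (by rw [← e', ← Perm.mul_apply, hz, Perm.one_apply]))
        (fun e' => hx (e' ▸ hu))
      exact ⟨_, mul_mem (Subgroup.mem_sup_right h1) hg, by rw [mul_apply _ g, e]; exact h2⟩
  · obtain ⟨b', hb', hb'z⟩ : ∃ b', b' ∉ X ∧ b' ≠ z a := by
      obtain ⟨c, hc, hcz⟩ := Set.exists_ne_of_one_lt_ncard (by omega : 1 < Xᶜ.ncard) (z a)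
      exact ⟨c, hc, hcz⟩
    obtain ⟨h1, h2⟩ := reach_cent hz (hfree a) (hfree b') hb'z.symm (fun e => hb' (e ▸ ha))
    obtain ⟨w, hw, hw'⟩ := Set.exists_mem_notMem_of_ncard_lt_ncard (s := ({a, z a, z b'} : Set α)) (t := X) (by
      have e1 := Set.ncard_insert_le a ({z a, z b'} : Set α)
      have e2 := Set.ncard_insert_le (z a) ({z b'} : Set α)
      rw [Set.ncard_singleton] at e2
      omega)
    simp only [Set.mem_insert_iff, Set.mem_singleton_iff, not_or] at hw'
    refine ⟨_, Subgroup.mem_sup_right h1, w, hw, a, ha, ?_, by rw [h2]; exact hb'⟩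
    rw [mul_apply, swap_apply_of_ne_of_ne hw'.2.1 hw'.2.2, swap_apply_of_ne_of_ne hw'.1 (fun e => hb' (by rw [← e]; exact hw))]
    exact hw

set_option maxHeartbeats 1000000 in
/-- Overgroups of the even part of a Sylow subgroup with orbits a point and the rest. -/
theorem fix_or_alt (P : Sylow 2 (Perm α)) (hn : 5 ≤ Nat.card α) {o : α} (ho : ∀ g ∈ (P : Subgroup (Perm α)), g o = o)
    (htr : ∀ a, a ≠ o → ∀ b, b ≠ o → b ∈ orb (P : Subgroup (Perm α)) a) {H : Subgroup (Perm α)}
    (hH : (P : Subgroup (Perm α)) ⊓ alternatingGroup α ≤ H) :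
    (∀ g ∈ H, g o = o) ∨ alternatingGroup α ≤ H := by
  classical
  haveI : Fact (Nat.Prime 2) := ⟨Nat.prime_two⟩
  by_contra hcon
  obtain ⟨hmove, hnalt⟩ := not_or.1 hcon
  push Not at hmove
  obtain ⟨g, hg, hgo⟩ := hmove
  set R := (P : Subgroup (Perm α)) with hRdef
  obtain ⟨a, ha⟩ : ∃ a, a ≠ o := ⟨g o, hgo⟩
  have horb : orb R a = {o}ᶜ := by
    ext x
    refine ⟨fun ⟨k, hk, e⟩ hx => ha (k.injective (by rw [e, ho k hk]; exact hx)), fun hx => htr a ha x hx⟩
  have hcard : (orb R a).ncard + 1 = Nat.card α := by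
    have := Set.ncard_add_ncard_compl ({o} : Set α)
    rw [Set.ncard_singleton] at this
    rw [horb]; omega
  obtain ⟨z, hz, hzR, hzA⟩ := exists_central (R := R) P.2 (a := a) (by omega)
  have hzo : z o = o := not_not.1 fun h => by
    have := (hzA o).1 h
    rw [horb] at this
    exact this rfl
  have hfree : ∀ x, x ≠ o → z x ≠ x := fun x hx => (hzA x).2 (horb ▸ hx)
  have hzz : ∀ x, z (z x) = x := fun x => by rw [← Perm.mul_apply, hz, Perm.one_apply]
  -- the pair swaps lie in the Sylow subgroup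
  let E : Subgroup (Perm α) := Subgroup.closure {e | ∃ x, e = swap x (z x)}
  have hEcomm : ∀ e ∈ {e : Perm α | ∃ x, e = swap x (z x)}, ∀ f ∈ {e : Perm α | ∃ x, e = swap x (z x)},
      e * f = f * e := by
    rintro _ ⟨x, rfl⟩ _ ⟨y, rfl⟩
    by_cases h1 : x = y
    · rw [h1]
    by_cases h2 : x = z y
    · rw [h2, hzz, swap_comm]
    by_cases hx : z x = x
    · rw [hx, swap_self]; rfl
    by_cases hy : z y = y
    · rw [hy, swap_self]; rfl
    refine (Equiv.Perm.disjoint_swap_swap ?_).commute.eq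
    have h3 : z x ≠ y := fun e => h2 (by rw [← e, hzz])
    have h4 : z x ≠ z y := fun e => h1 (z.injective e)
    simp [h1, h2, h3, h4, Ne.symm hx, Ne.symm hy]
  haveI : IsMulCommutative E := Subgroup.isMulCommutative_closure hEcomm
  have hEp : IsPGroup 2 E := by
    intro u
    refine ⟨1, Subtype.ext ?_⟩
    rw [SubmonoidClass.coe_pow, Subgroup.coe_one, pow_one]
    obtain ⟨u, hu⟩ := u
    show u ^ 2 = 1
    induction hu using Subgroup.closure_induction with
    | mem e he => obtain ⟨x, rfl⟩ := he; rw [pow_two, swap_mul_self]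
    | one => exact one_pow _
    | mul e f he hf ihe ihf =>
      have hcom : Commute e f := congrArg Subtype.val (mul_comm' (⟨e, he⟩ : E) ⟨f, hf⟩)
      rw [hcom.mul_pow, ihe, ihf, one_mul]
    | inv e _ ihe => rw [inv_pow, ihe, inv_one]
  have hnorm : R ≤ Subgroup.normalizer (E : Set (Perm α)) := by
    intro k hk
    have hconj : ∀ k' ∈ R, ∀ e ∈ E, k' * e * k'⁻¹ ∈ E := by
      intro k' hk' e he
      induction he using Subgroup.closure_induction with
      | mem e he =>
        obtain ⟨x, rfl⟩ := he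
        refine Subgroup.subset_closure ⟨k' x, ?_⟩
        rw [Equiv.mul_swap_eq_swap_mul, mul_inv_cancel_right, show k' (z x) = z (k' x) from DFunLike.congr_fun (hzR k' hk') x]
      | one => simp
      | mul e f _ _ ihe ihf => simpa [mul_assoc] using mul_mem ihe ihf
      | inv e _ ihe => simpa [mul_assoc] using inv_mem ihe
    rw [Subgroup.mem_normalizer_iff]
    refine fun e => ⟨hconj k hk e, fun h => ?_⟩
    simpa [mul_assoc] using hconj k⁻¹ (inv_mem hk) _ h
  have hER : E ≤ R := by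
    have := P.is_maximal' (IsPGroup.to_sup_of_normal_right' P.2 hEp hnorm) le_sup_left
    exact le_of_le_of_eq le_sup_right this
  have hpair : ∀ x y, x ≠ o → y ≠ o → swap x (z x) * swap y (z y) ∈ H := fun x y hx hy =>
    hH (Subgroup.mem_inf.2 ⟨mul_mem (hER (Subgroup.subset_closure ⟨x, rfl⟩)) (hER (Subgroup.subset_closure ⟨y, rfl⟩)),
      swap_swap_mem_alt (hfree x hx).symm (hfree y hy).symm⟩)
  -- transitivity
  have hreach : ∀ b, b ≠ o → ∃ k ∈ H, k a = b := by
    intro b hb
    obtain ⟨k, hk, e⟩ := htr a ha b hb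
    by_cases heven : k ∈ alternatingGroup α
    · exact ⟨k, hH (Subgroup.mem_inf.2 ⟨hk, heven⟩), e⟩
    obtain ⟨c, hc, hc'⟩ := Set.exists_mem_notMem_of_ncard_lt_ncard (s := ({b, z b} : Set α)) (t := orb R a)
      (by have := Set.ncard_insert_le b ({z b} : Set α); rw [Set.ncard_singleton] at this; omega)
    simp only [Set.mem_insert_iff, Set.mem_singleton_iff, not_or] at hc'
    have hco : c ≠ o := fun h => by rw [horb] at hc; exact hc h
    refine ⟨swap c (z c) * k, hH (Subgroup.mem_inf.2 ⟨mul_mem (hER (Subgroup.subset_closure ⟨c, rfl⟩)) hk, ?_⟩), ?_⟩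
    · rw [mem_alternatingGroup] at heven ⊢
      rw [map_mul, sign_swap (hfree c hco).symm]
      rcases Int.units_eq_one_or (sign k) with h | h
      · exact absurd h heven
      · rw [h]; rfl
    · rw [mul_apply, e, swap_apply_of_ne_of_ne (Ne.symm hc'.1) (fun h => hc'.2 (by rw [h, hzz]))]
  have hpre : IsPretransitive H α := by
    refine pretransitive_of_reach o fun x => ?_
    rcases eq_or_ne x o with rfl | hx
    · exact ⟨1, one_mem _, rfl⟩
    obtain ⟨k, hk, e⟩ := hreach x hx
    obtain ⟨k', hk', e'⟩ := hreach (g o) hgo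
    exact ⟨k * k'⁻¹ * g, mul_mem (mul_mem hk (inv_mem hk')) hg, by simp [← e, ← e']⟩
  haveI : IsPreprimitive H α := by
    haveI := hpre
    refine @IsPreprimitive.mk H α _ hpre fun {B} hB => ?_
    rcases Set.subsingleton_or_nontrivial B with h | h
    · exact Or.inl h
    right
    obtain ⟨u, hu⟩ := h.nonempty
    obtain ⟨k, hk⟩ := exists_smul_eq (M := H) u o
    have hoB : o ∈ k • B := ⟨u, hu, hk⟩
    obtain ⟨w, hw, hwo⟩ : ∃ w ∈ k • B, w ≠ o := by
      obtain ⟨w, hw, hwu⟩ := h.exists_ne u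
      exact ⟨k • w, ⟨w, hw, rfl⟩, fun e => hwu (MulAction.injective k (e.trans hk.symm))⟩
    have : k • B = Set.univ := Set.eq_univ_of_forall fun x => by
      rcases eq_or_ne x o with rfl | hx
      · exact hoB
      obtain ⟨k₁, hk₁, e₁⟩ := hreach w hwo
      obtain ⟨k₂, hk₂, e₂⟩ := hreach x hx
      have ho' : ∀ m ∈ H, m o = o → ∀ v ∈ k • B, m v ∈ k • B := fun m hm hmo v hv => by
        have h : (⟨m, hm⟩ : H) • (k • B) = k • B :=
          (hB.translate k).smul_eq_of_nonempty ⟨o, ⟨o, hoB, hmo⟩, hoB⟩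
        exact h ▸ ⟨v, hv, rfl⟩
      by_cases heven : (∀ v, v ≠ o → ∀ v', v' ≠ o → ∃ m ∈ H, m o = o ∧ m v = v')
      · obtain ⟨m, hm, hmo, hmv⟩ := heven w hwo x hx
        exact hmv ▸ ho' m hm hmo w hw
      · exfalso
        apply heven
        intro v hv v' hv'
        obtain ⟨c₁, hc₁, d₁⟩ := htr v hv v' hv'
        by_cases h1 : c₁ ∈ alternatingGroup α
        · exact ⟨c₁, hH (Subgroup.mem_inf.2 ⟨hc₁, h1⟩), ho c₁ hc₁, d₁⟩
        obtain ⟨c, hc, hc'⟩ := Set.exists_mem_notMem_of_ncard_lt_ncard (s := ({v', z v'} : Set α)) (t := orb R a)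
          (by have := Set.ncard_insert_le v' ({z v'} : Set α); rw [Set.ncard_singleton] at this; omega)
        simp only [Set.mem_insert_iff, Set.mem_singleton_iff, not_or] at hc'
        have hco : c ≠ o := fun h => by rw [horb] at hc; exact hc h
        refine ⟨swap c (z c) * c₁, hH (Subgroup.mem_inf.2
          ⟨mul_mem (hER (Subgroup.subset_closure ⟨c, rfl⟩)) hc₁, ?_⟩), ?_, ?_⟩
        · rw [mem_alternatingGroup] at h1 ⊢
          rw [map_mul, sign_swap (hfree c hco).symm]
          rcases Int.units_eq_one_or (sign c₁) with h | h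
          · exact absurd h h1
          · rw [h]; rfl
        · rw [mul_apply, ho c₁ hc₁, swap_apply_of_ne_of_ne hco.symm
            (fun h => hco (z.injective (by rw [← h, hzo])))]
        · rw [mul_apply, d₁, swap_apply_of_ne_of_ne (Ne.symm hc'.1) (fun h => hc'.2 (by rw [h, hzz]))]
    rw [← inv_smul_smul k B, this, Set.smul_set_univ]
  -- a conjugate of a double transposition meeting another in one point gives a 3-cycle
  have hao : a ≠ o := ha
  obtain ⟨x₂, hx₂, hx₂'⟩ := Set.exists_mem_notMem_of_ncard_lt_ncard (s := ({a, z a} : Set α)) (t := orb R a)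
    (by have := Set.ncard_insert_le a ({z a} : Set α); rw [Set.ncard_singleton] at this; omega)
  simp only [Set.mem_insert_iff, Set.mem_singleton_iff, not_or] at hx₂'
  have hx₂o : x₂ ≠ o := fun h => by rw [horb] at hx₂; exact hx₂ h
  obtain ⟨m, hm, hma⟩ : ∃ m ∈ H, m a = o := by
    obtain ⟨⟨m, hm⟩, e⟩ := exists_smul_eq (M := H) a o
    exact ⟨m, hm, e⟩
  have hT : swap o (m (z a)) * swap (m x₂) (m (z x₂)) ∈ H := by
    have := mul_mem (mul_mem hm (hpair a x₂ ha hx₂o)) (inv_mem hm)
    rw [← mul_assoc, Equiv.mul_swap_eq_swap_mul m a (z a), mul_assoc (swap (m a) _) m, Equiv.mul_swap_eq_swap_mul m x₂ _,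
      hma] at this
    simpa [mul_assoc] using this
  set p := m (z a)
  set u := m x₂
  set v := m (z x₂)
  have hne1 : p ≠ o := fun e => hfree a ha (m.injective (e.trans hma.symm))
  have hne2 : u ≠ o := fun e => hx₂'.1 (m.injective (e.trans hma.symm))
  have hne3 : v ≠ o := fun e => hx₂'.2 (by rw [← m.injective (e.trans hma.symm), hzz])
  have hne4 : p ≠ u := fun e => hx₂'.2 (m.injective e).symm
  have hne5 : p ≠ v := fun e => hx₂'.1 (z.injective (m.injective e)).symm
  have hne6 : u ≠ v := fun e => hfree x₂ hx₂o (m.injective e).symm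
  have hT' : swap u v * swap o p ∈ H := by
    have hd : Equiv.Perm.Disjoint (swap o p) (swap u v) := Equiv.Perm.disjoint_swap_swap
      (by simp [hne1.symm, hne2.symm, hne3.symm, hne4, hne5, hne6])
    rw [← hd.commute.eq]; exact hT
  -- the 3-cycle
  obtain ⟨t, ht3, ht⟩ : ∃ t : Perm α, t.IsThreeCycle ∧ t ∈ H := by
    have hzne : ∀ x, x ≠ o → z x ≠ o := fun x hx e => hx (z.injective (e.trans hzo.symm))
    have hfind : ∀ s : Set α, s.ncard + 1 < Nat.card α → ∃ d, d ≠ o ∧ d ∉ s := by
      intro s hs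
      obtain ⟨d, -, hd⟩ := Set.exists_mem_notMem_of_ncard_lt_ncard (s := insert o s) (t := (Set.univ : Set α))
        (by rw [Set.ncard_univ]; exact lt_of_le_of_lt (Set.ncard_insert_le o s) hs)
      rw [Set.mem_insert_iff, not_or] at hd
      exact ⟨d, hd⟩
    -- two involutions meeting in one point
    have hmeet : ∀ a₁ a₂ b₁ b₂ d, swap a₁ a₂ * swap b₁ b₂ ∈ H → a₂ ≠ o → d ≠ o →
        a₁ ≠ a₂ → b₁ ≠ b₂ → a₁ ≠ z a₂ → a₁ ≠ b₁ → a₁ ≠ b₂ → a₂ ≠ b₁ → a₂ ≠ b₂ → z a₂ ≠ b₁ → z a₂ ≠ b₂ →
        a₁ ≠ d → a₁ ≠ z d → a₂ ≠ d → a₂ ≠ z d → z a₂ ≠ d → z a₂ ≠ z d → b₁ ≠ d → b₁ ≠ z d → b₂ ≠ d → b₂ ≠ z d →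
        ∃ t : Perm α, t.IsThreeCycle ∧ t ∈ H := by
      intro a₁ a₂ b₁ b₂ d hTH ha2 hd h12 hb12 h1z h1b h1b' h2b h2b' hzb hzb' h1d h1d' h2d h2d' hzd hzd' hbd hbd' hb'd hb'd'
      have hW := hpair a₂ d ha2 hd
      have hmem := mul_mem (mul_mem (mul_mem hTH hW) hTH) hW
      have h3c : (swap a₁ a₂ * swap a₂ (z a₂)).IsThreeCycle := by
        rw [swap_comm a₁ a₂]
        exact isThreeCycle_swap_mul_swap_same h12.symm (hfree a₂ ha2).symm h1z
      refine ⟨_, h3c.isThreeCycle_sq, ?_⟩
      set A₁ := swap a₁ a₂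
      set B := swap b₁ b₂
      set A₂ := swap a₂ (z a₂)
      set C := swap d (z d)
      have hBA₂ : Commute B A₂ := (Equiv.Perm.disjoint_swap_swap
        (by simp [hb12, h2b.symm, Ne.symm hzb, h2b'.symm, Ne.symm hzb', (hfree a₂ ha2).symm])).commute
      have hBC : Commute B C := (Equiv.Perm.disjoint_swap_swap
        (by simp [hb12, hbd, hbd', hb'd, hb'd', (hfree d hd).symm])).commute
      have hBA₁ : Commute B A₁ := (Equiv.Perm.disjoint_swap_swap
        (by simp [hb12, h1b.symm, h1b'.symm, h2b.symm, h2b'.symm, h12])).commute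
      have hCA₁ : Commute C A₁ := (Equiv.Perm.disjoint_swap_swap
        (by simp [h12, h1d.symm, Ne.symm h1d', h2d.symm, Ne.symm h2d', (hfree d hd).symm])).commute
      have hCA₂ : Commute C A₂ := (Equiv.Perm.disjoint_swap_swap
        (by simp [h2d.symm, Ne.symm h2d', hzd.symm, Ne.symm hzd', (hfree d hd).symm, (hfree a₂ ha2).symm])).commute
      have e1 : (A₁ * B) * (A₂ * C) = (A₁ * A₂) * (B * C) := hBA₂.mul_mul_mul_comm A₁ C
      have e2 : Commute (B * C) (A₁ * A₂) := (hBA₁.mul_left hCA₁).mul_right (hBA₂.mul_left hCA₂)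
      have e3 : (B * C) * (B * C) = 1 := by
        rw [hBC.symm.mul_mul_mul_comm, swap_mul_self, swap_mul_self, one_mul]
      have e : (A₁ * A₂) ^ 2 = A₁ * B * (A₂ * C) * (A₁ * B) * (A₂ * C) := by
        rw [mul_assoc _ (A₁ * B) (A₂ * C), e1, e2.mul_mul_mul_comm, e3, mul_one, pow_two]
      simp only [pow_two] at e ⊢
      rw [e]
      exact hmem
    have hsize : Nat.card α = 5 ∨ 9 ≤ Nat.card α := by
      obtain ⟨k, hk⟩ := ncard_orb (R := R) P.2 a
      rcases Nat.lt_or_ge k 3 with hk3 | hk3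
      · interval_cases k <;> omega
      · have := Nat.pow_le_pow_right (show 1 ≤ 2 by norm_num) hk3
        omega
    rcases hsize with h5 | h9
    swap
    · -- at least nine points
      have hsix : ∀ c₁ c₂ c₃, ∃ d, d ≠ o ∧ d ∉ ({c₁, z c₁, c₂, z c₂, c₃, z c₃} : Set α) := fun c₁ c₂ c₃ => by
        refine hfind _ ?_
        have h1 := Set.ncard_insert_le c₁ ({z c₁, c₂, z c₂, c₃, z c₃} : Set α)
        have h2 := Set.ncard_insert_le (z c₁) ({c₂, z c₂, c₃, z c₃} : Set α)
        have h3 := Set.ncard_insert_le c₂ ({z c₂, c₃, z c₃} : Set α)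
        have h4 := Set.ncard_insert_le (z c₂) ({c₃, z c₃} : Set α)
        have h5 := Set.ncard_insert_le c₃ ({z c₃} : Set α)
        rw [Set.ncard_singleton] at h5
        omega
      obtain ⟨d, hdo, hd⟩ := hsix p u v
      simp only [Set.mem_insert_iff, Set.mem_singleton_iff, not_or] at hd
      obtain ⟨d1, d2, d3, d4, d5, d6⟩ := hd
      have hzd : ∀ x, d ≠ z x → x ≠ z d := fun x h e => h (by rw [e, hzz])
      have hzd' : ∀ x, d ≠ x → z x ≠ z d := fun x h e => h (z.injective e).symm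
      by_cases h1 : z p = u
      · have hzv1 : z v ≠ p := fun e => hne6 (by rw [← h1, ← e, hzz])
        have hzv2 : u ≠ z v := fun e => hne5 (z.injective (by rw [h1, e]))
        exact hmeet u v o p d hT' hne3 hdo hne6 hne1.symm hzv2 hne2 hne4.symm hne3 hne5.symm (hzne v hne3) hzv1
          (Ne.symm d3) (hzd u d4) (Ne.symm d5) (hzd v d6) (Ne.symm d6) (hzd' v d5) (Ne.symm hdo)
          (hzne d hdo).symm (Ne.symm d1) (hzd p d2)
      by_cases h2 : z p = v
      · have hzu1 : z u ≠ p := fun e => hne6.symm (by rw [← h2, ← e, hzz])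
        have hzu2 : v ≠ z u := fun e => hne4 (z.injective (by rw [h2, e]))
        rw [swap_comm u v] at hT'
        exact hmeet v u o p d hT' hne2 hdo hne6.symm hne1.symm hzu2 hne3 hne5.symm hne2 hne4.symm (hzne u hne2) hzu1
          (Ne.symm d5) (hzd v d6) (Ne.symm d3) (hzd u d4) (Ne.symm d4) (hzd' u d3) (Ne.symm hdo)
          (hzne d hdo).symm (Ne.symm d1) (hzd p d2)
      exact hmeet o p u v d hT hne1 hdo hne1.symm hne6 (hzne p hne1).symm hne2.symm hne3.symm hne4 hne5 h1 h2
          (Ne.symm hdo) (hzne d hdo).symm (Ne.symm d1) (hzd p d2) (Ne.symm d2) (hzd' p d1) (Ne.symm d3)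
          (hzd u d4) (Ne.symm d5) (hzd v d6)
    · -- five points
      have hall : ∀ w, w ≠ o → w ≠ p → w ≠ u → w ≠ v → ∀ x, x = o ∨ x = p ∨ x = u ∨ x = v ∨ x = w := by
        intro w h1 h2 h3 h4 x
        have hcard5 : ({o, p, u, v, w} : Set α).ncard = 5 := by
          rw [Set.ncard_eq_toFinset_card']
          simp [hne1.symm, hne2.symm, hne3.symm, hne4, hne5, hne6, h1.symm, h2.symm, h3.symm, h4.symm]
        have hu : ({o, p, u, v, w} : Set α) = Set.univ :=
          Set.eq_of_subset_of_ncard_le (Set.subset_univ _) (by rw [Set.ncard_univ, hcard5, h5]) (Set.toFinite _)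
        have hx : x ∈ ({o, p, u, v, w} : Set α) := hu ▸ Set.mem_univ x
        simpa using hx
      by_cases hzu : z u = v
      · -- the pairs are `{p, z p}` and `{u, v}`
        have hzp1 : z p ≠ u := fun e => hne5 (by rw [← hzu, ← e, hzz])
        have hzp2 : z p ≠ v := fun e => hne4 (z.injective (by rw [e, hzu]))
        refine ⟨_, isThreeCycle_swap_mul_swap_same hne1 (hfree p hne1).symm (hzne p hne1).symm, ?_⟩
        have hW := hpair p u hne1 hne2
        rw [hzu] at hW
        have hd : Equiv.Perm.Disjoint (swap p (z p)) (swap u v) := Equiv.Perm.disjoint_swap_swap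
          (by simp [(hfree p hne1).symm, hne4, hne5, hzp1, hzp2, hne6])
        rw [hd.commute.eq] at hW
        have := mul_mem hT hW
        rwa [mul_assoc, ← mul_assoc (swap u v), swap_mul_self, one_mul, swap_comm o p] at this
      -- otherwise the fifth point is paired with `u` or `v`
      have hcase : ∃ s w, (s = u ∨ s = v) ∧ w ≠ o ∧ w ≠ p ∧ w ≠ u ∧ w ≠ v ∧ z s = w := by
        obtain ⟨w, hwo, hw⟩ := hfind ({p, u, v} : Set α) (by
          have h1 := Set.ncard_insert_le p ({u, v} : Set α)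
          have h2 := Set.ncard_insert_le u ({v} : Set α)
          rw [Set.ncard_singleton] at h2
          omega)
        simp only [Set.mem_insert_iff, Set.mem_singleton_iff, not_or] at hw
        rcases hall w hwo hw.1 hw.2.1 hw.2.2 (z w) with e | e | e | e | e
        · exact absurd e (hzne w hwo)
        · rcases hall w hwo hw.1 hw.2.1 hw.2.2 (z u) with e' | e' | e' | e' | e'
          · exact absurd e' (hzne u hne2)
          · exact absurd (z.injective (e'.trans e.symm)) (Ne.symm hw.2.1)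
          · exact absurd e' (hfree u hne2)
          · exact absurd e' hzu
          · exact ⟨u, w, Or.inl rfl, hwo, hw.1, hw.2.1, hw.2.2, e'⟩
        · exact ⟨u, w, Or.inl rfl, hwo, hw.1, hw.2.1, hw.2.2, by rw [← e, hzz]⟩
        · exact ⟨v, w, Or.inr rfl, hwo, hw.1, hw.2.1, hw.2.2, by rw [← e, hzz]⟩
        · exact absurd e (hfree w hwo)
      obtain ⟨s, w, hs, hwo, hwp, hwu, hwv, hzs⟩ := hcase
      have hall' := hall w hwo hwp hwu hwv
      -- an even element fixing `o` and exchanging `u` and `v`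
      obtain ⟨k, hk, hko, hkuv⟩ : ∃ k, k ∈ R ⊓ alternatingGroup α ∧ k o = o ∧ k v = u := by
        obtain ⟨c₁, hc₁, d₁⟩ := htr v hne3 u hne2
        by_cases h1 : c₁ ∈ alternatingGroup α
        · exact ⟨c₁, Subgroup.mem_inf.2 ⟨hc₁, h1⟩, ho c₁ hc₁, d₁⟩
        obtain ⟨c, hco, hc⟩ := hfind ({u, z u} : Set α) (by
          have h1 := Set.ncard_insert_le u ({z u} : Set α); rw [Set.ncard_singleton] at h1; omega)
        simp only [Set.mem_insert_iff, Set.mem_singleton_iff, not_or] at hc
        refine ⟨swap c (z c) * c₁, Subgroup.mem_inf.2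
          ⟨mul_mem (hER (Subgroup.subset_closure ⟨c, rfl⟩)) hc₁, ?_⟩, ?_, ?_⟩
        · rw [mem_alternatingGroup] at h1 ⊢
          rw [map_mul, sign_swap (hfree c hco).symm]
          rcases Int.units_eq_one_or (sign c₁) with h | h
          · exact absurd h h1
          · rw [h]; rfl
        · rw [mul_apply, ho c₁ hc₁, swap_apply_of_ne_of_ne hco.symm (hzne c hco).symm]
        · rw [mul_apply, d₁, swap_apply_of_ne_of_ne (Ne.symm hc.1) (fun h => hc.2 (by rw [h, hzz]))]
      obtain ⟨hkR, hkA⟩ := Subgroup.mem_inf.1 hk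
      have hkz : ∀ x, k (z x) = z (k x) := fun x => DFunLike.congr_fun (hzR k hkR) x
      have hk_eq : k = swap u v * swap p w := by
        have hzp : z p = if s = u then v else u := by
          rcases hs with rfl | rfl
          · rw [if_pos rfl]
            rcases hall' (z p) with e | e | e | e | e
            · exact absurd e (hzne p hne1)
            · exact absurd e (hfree p hne1)
            · exact absurd (show p = w by rw [← hzz p, e, hzs]) (Ne.symm hwp)
            · exact e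
            · exact absurd (z.injective (e.trans hzs.symm)) hne4
          · rw [if_neg hne6.symm]
            rcases hall' (z p) with e | e | e | e | e
            · exact absurd e (hzne p hne1)
            · exact absurd e (hfree p hne1)
            · exact e
            · exact absurd (show p = w by rw [← hzz p, e, hzs]) (Ne.symm hwp)
            · exact absurd (z.injective (e.trans hzs.symm)) hne5
        -- images are forced by commuting with the pairing
        have hko' : ∀ x, x ≠ o → k x ≠ o := fun x hx e => hx (k.injective (e.trans hko.symm))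
        have hsign : sign k = 1 := mem_alternatingGroup.1 hkA
        have hsw : ∀ x, x ≠ o → x ≠ v → k x ≠ u := fun x _ hx e => hx (k.injective (e.trans hkuv.symm))
        rcases hs with rfl | rfl
        · rw [if_pos rfl] at hzp
          have hzv : z v = p := by rw [← hzp, hzz]
          have hzw : z w = u := by rw [← hzs, hzz]
          have hkp : k p = w := by rw [← hzv, hkz, hkuv, hzs]
          rcases hall' (k u) with e | e | e | e | e
          · exact absurd e (hko' u hne2)
          · exfalso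
            have hkw : k w = v := by rw [← hzs, hkz, e, hzp]
            have : k = swap v u * swap u p * swap p w := by
              refine Equiv.ext fun x => ?_
              rcases hall' x with rfl | rfl | rfl | rfl | rfl <;>
                simp [hko, hkp, e, hkw, hkuv, Equiv.swap_apply_def, hne1, hne2, hne3, hne4, hne5, hne6, hwo, hwp, hwu, hwv, hne1.symm, hne2.symm, hne3.symm, hne4.symm, hne5.symm, hne6.symm, hwo.symm, hwp.symm, hwu.symm, hwv.symm]
            rw [this, map_mul, map_mul, sign_swap hne6.symm, sign_swap hne4.symm, sign_swap (Ne.symm hwp)] at hsign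
            simp at hsign
          · exact absurd e (hsw u hne2 hne6)
          · have hkw : k w = p := by rw [← hzs, hkz, e, hzv]
            refine Equiv.ext fun x => ?_
            rcases hall' x with rfl | rfl | rfl | rfl | rfl <;>
              simp [hko, hkp, e, hkw, hkuv, Equiv.swap_apply_def, hne1, hne2, hne3, hne4, hne5, hne6, hwo, hwp, hwu, hwv, hne1.symm, hne2.symm, hne3.symm, hne4.symm, hne5.symm, hne6.symm, hwo.symm, hwp.symm, hwu.symm, hwv.symm]
          · exact absurd (k.injective (e.trans hkp.symm)) hne4.symm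
        · rw [if_neg hne6.symm] at hzp
          have hzu' : z u = p := by rw [← hzp, hzz]
          have hzw : z w = v := by rw [← hzs, hzz]
          have hkw : k w = p := by rw [← hzs, hkz, hkuv, hzu']
          rcases hall' (k p) with e | e | e | e | e
          · exact absurd e (hko' p hne1)
          · exact absurd (k.injective (e.trans hkw.symm)) (Ne.symm hwp)
          · exact absurd e (hsw p hne1 hne5)
          · exfalso
            have hku : k u = w := by rw [← hzp, hkz, e, hzs]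
            have : k = swap p v * swap v u * swap u w := by
              refine Equiv.ext fun x => ?_
              rcases hall' x with rfl | rfl | rfl | rfl | rfl <;>
                simp [hko, hku, e, hkw, hkuv, Equiv.swap_apply_def, hne1, hne2, hne3, hne4, hne5, hne6, hwo, hwp, hwu, hwv, hne1.symm, hne2.symm, hne3.symm, hne4.symm, hne5.symm, hne6.symm, hwo.symm, hwp.symm, hwu.symm, hwv.symm]
            rw [this, map_mul, map_mul, sign_swap hne5, sign_swap hne6.symm, sign_swap (Ne.symm hwu)] at hsign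
            simp at hsign
          · have hku : k u = v := by rw [← hzp, hkz, e, hzw]
            refine Equiv.ext fun x => ?_
            rcases hall' x with rfl | rfl | rfl | rfl | rfl <;>
              simp [hko, hku, e, hkw, hkuv, Equiv.swap_apply_def, hne1, hne2, hne3, hne4, hne5, hne6, hwo, hwp, hwu, hwv, hne1.symm, hne2.symm, hne3.symm, hne4.symm, hne5.symm, hne6.symm, hwo.symm, hwp.symm, hwu.symm, hwv.symm]
      refine ⟨_, isThreeCycle_swap_mul_swap_same (Ne.symm hwp) hne1 hwo, ?_⟩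
      have hd : Equiv.Perm.Disjoint (swap u v) (swap p w) := Equiv.Perm.disjoint_swap_swap
        (by simp [hne6, hne4.symm, hne5.symm, hwu.symm, hwv.symm, Ne.symm hwp])
      have := mul_mem (hH hk) hT'
      rwa [hk_eq, hd.commute.eq, mul_assoc, ← mul_assoc (swap u v), swap_mul_self, one_mul, swap_comm o p] at this
  exact hnalt (alternatingGroup_le_of_isPreprimitive_of_isThreeCycle_mem (show IsPreprimitive H α from inferInstance) ht3 ht)

end Cfsg.Lib.Perm.OddIndex

namespace Cfsg.Lib.Perm.OddIndex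

open Equiv Equiv.Perm MulAction

variable {α : Type*} [DecidableEq α] [Fintype α]

/-- `R` fixes one point and is transitive on the others. -/
def PointAndRest (R : Subgroup (Perm α)) : Prop :=
  ∃ o : α, (∀ g ∈ R, g o = o) ∧ ∀ a, a ≠ o → ∀ b, b ≠ o → b ∈ orb R a

theorem not_le_alt (P : Sylow 2 (Perm α)) (hn : 2 ≤ Nat.card α) :
    ¬ (P : Subgroup (Perm α)) ≤ alternatingGroup α := fun h => by
  haveI : Fact (Nat.Prime 2) := ⟨Nat.prime_two⟩
  haveI : Nontrivial α := Finite.one_lt_card_iff_nontrivial.1 (by omega)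
  have h1 := Subgroup.index_dvd_of_le h
  rw [alternatingGroup.index_eq_two] at h1
  exact P.not_dvd_index h1

/-- Either two overgroups generate the alternating group, or there is a fixed point and one further orbit. -/
theorem dichotomy (P : Sylow 2 (Perm α)) (hn : 5 ≤ Nat.card α) :
    TwoAbove (P : Subgroup (Perm α)) ∨ PointAndRest (P : Subgroup (Perm α)) := by
  classical
  set R := (P : Subgroup (Perm α)) with hR
  by_cases h1 : ∃ a, ∀ x, x ∈ orb R a
  · obtain ⟨a, ha⟩ := h1
    exact Or.inl (twoAbove_one P.2 hn ha)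
  push Not at h1
  obtain ⟨a, -, hmin⟩ := Set.exists_min_image (Set.univ : Set α) (fun x => (orb R x).ncard) (Set.toFinite _)
    (by haveI : Nonempty α := (Nat.card_pos_iff.1 (by omega)).1; exact Set.univ_nonempty)
  obtain ⟨b, hb, hmax⟩ := Set.exists_max_image {x | x ∉ orb R a} (fun x => (orb R x).ncard) (Set.toFinite _) (h1 a)
  have hpos : ∀ x, 1 ≤ (orb R x).ncard := fun x => (Set.ncard_pos (Set.toFinite _)).2 ⟨x, mem_orb_self x⟩
  by_cases h3 : ∃ c, c ∉ orb R a ∧ c ∉ orb R b
  · obtain ⟨c, hc, hc'⟩ := h3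
    refine Or.inl (twoAbove_three hn hb hc hc' (fun x => hmin x trivial) hmax ?_)
    by_contra hlt
    -- all orbits are singletons
    apply not_le_alt P (by omega)
    intro g hg
    have hall : ∀ x, (orb R x).ncard = 1 := fun x => by
      have := hmin b trivial
      have := hpos x
      by_cases hx : x ∈ orb R a
      · rw [orb_eq hx] at *; omega
      · have := hmax x hx; omega
    rw [show g = 1 from Equiv.ext fun x => by
      obtain ⟨y, hy⟩ := Set.ncard_eq_one.1 (hall x)
      have h1 : g x ∈ orb R x := ⟨g, hg, rfl⟩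
      have h2 : x ∈ orb R x := mem_orb_self x
      rw [hy, Set.mem_singleton_iff] at h1 h2
      rw [h1, Perm.one_apply, h2]]
    exact one_mem _
  push Not at h3
  have hcov : ∀ x, x ∈ orb R a ∨ x ∈ orb R b := fun x => or_iff_not_imp_left.2 (h3 x)
  by_cases ha1 : 2 ≤ (orb R a).ncard
  · have hb1 := ha1.trans (hmin b trivial)
    exact Or.inl (twoAbove_two P.2 hn (a := b) (b := a) (fun h => hb (orb_meet (mem_orb_self a) h)) (fun x => (hcov x).symm) hb1 ha1 (hmin b trivial))
  · refine Or.inr ⟨a, fun g hg => ?_, fun x hx y hy => ?_⟩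
    · exact (Set.ncard_le_one (Set.toFinite (orb R a))).1 (by omega) _ ⟨g, hg, rfl⟩ _ (mem_orb_self a)
    · have hx' : ∀ z, z ≠ a → z ∈ orb R b := fun z hz => (hcov z).resolve_left fun h =>
        hz ((Set.ncard_le_one (Set.toFinite (orb R a))).1 (by omega) _ h _ (mem_orb_self a))
      rw [orb_eq (hx' x hx)]
      exact hx' y hy

theorem card_of_pointAndRest (P : Sylow 2 (Perm α)) (hn : 5 ≤ Nat.card α)
    (h : PointAndRest (P : Subgroup (Perm α))) : ∃ k, 2 ≤ k ∧ Nat.card α = 2 ^ k + 1 := by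
  obtain ⟨o, ho, htr⟩ := h
  haveI : Nontrivial α := Finite.one_lt_card_iff_nontrivial.1 (by omega)
  obtain ⟨a, ha⟩ := exists_ne o
  have horb : orb (P : Subgroup (Perm α)) a = {o}ᶜ := by
    ext x
    refine ⟨fun ⟨k, hk, e⟩ hx => ha (k.injective (by rw [e, ho k hk]; exact hx)), fun hx => htr a ha x hx⟩
  obtain ⟨k, hk⟩ := ncard_orb (R := (P : Subgroup (Perm α))) P.2 a
  have := Set.ncard_add_ncard_compl ({o} : Set α)
  rw [Set.ncard_singleton, ← horb, hk] at this
  refine ⟨k, ?_, by omega⟩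
  by_contra hlt
  interval_cases k <;> omega

theorem pointAndRest_of_card (P : Sylow 2 (Perm α)) {k : ℕ} (hk : Nat.card α = 2 ^ k + 1) (hk1 : 1 ≤ k) :
    PointAndRest (P : Subgroup (Perm α)) := by
  classical
  haveI : Fact (Nat.Prime 2) := ⟨Nat.prime_two⟩
  have hfix : ∀ Q : Sylow 2 (Perm α), ∃ o, ∀ g ∈ (Q : Subgroup (Perm α)), g o = o := by
    intro Q
    have h := Q.2.card_modEq_card_fixedPoints α
    haveI : Nonempty (fixedPoints (Q : Subgroup (Perm α)) α) := by
      by_contra hne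
      rw [not_nonempty_iff] at hne
      rw [Nat.card_eq_zero.2 (Or.inl hne)] at h
      have h2 : 2 ∣ Nat.card α := Nat.modEq_zero_iff_dvd.1 h
      rw [hk] at h2
      obtain ⟨j, rfl⟩ : ∃ j, k = j + 1 := ⟨k - 1, by omega⟩
      rw [pow_succ] at h2
      omega
    obtain ⟨⟨o, ho⟩⟩ := ‹Nonempty (fixedPoints (Q : Subgroup (Perm α)) α)›
    exact ⟨o, fun g hg => ho ⟨g, hg⟩⟩
  obtain ⟨o, -⟩ := hfix P
  -- a regular elementary abelian group on the points other than `o`
  obtain ⟨e⟩ : Nonempty ({x // x ≠ o} ≃ (Fin k → ZMod 2)) := by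
    refine ⟨Fintype.equivOfCardEq ?_⟩
    rw [Fintype.card_fun, ZMod.card, Fintype.card_fin, Fintype.card_subtype_compl, Fintype.card_subtype_eq,
      ← Nat.card_eq_fintype_card, hk, Nat.add_sub_cancel]
  let f : Multiplicative (Fin k → ZMod 2) →* Perm α := MonoidHom.mk'
    (fun v => ofSubtype (e.symm.permCongr (Equiv.addLeft v.toAdd))) (fun v w => by
      rw [← map_mul]; congr 1; ext x; simp [add_assoc])
  have hU : IsPGroup 2 f.range := by
    refine IsPGroup.of_surjective ?_ f.rangeRestrict f.rangeRestrict_surjective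
    intro v
    refine ⟨1, Multiplicative.toAdd.injective (funext fun i => ?_)⟩
    rw [toAdd_pow, toAdd_one, Pi.smul_apply, Pi.zero_apply, pow_one, two_nsmul, CharTwo.add_self_eq_zero]
  obtain ⟨Q, hQ⟩ := hU.exists_le_sylow
  obtain ⟨o', ho'⟩ := hfix Q
  have htrQ : ∀ a, a ≠ o → ∀ b, b ≠ o → ∃ g ∈ (Q : Subgroup (Perm α)), g a = b := by
    intro a ha b hb
    refine ⟨f (Multiplicative.ofAdd (e ⟨b, hb⟩ - e ⟨a, ha⟩)), hQ ⟨_, rfl⟩, ?_⟩
    show ofSubtype _ a = b
    rw [ofSubtype_apply_of_mem (p := fun x => x ≠ o) _ ha]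
    simp
  have hoo : o' = o := by
    by_contra hne
    haveI : Nontrivial {x // x ≠ o} := e.nontrivial_congr.2 (by
      haveI : Nonempty (Fin k) := ⟨⟨0, hk1⟩⟩
      infer_instance)
    obtain ⟨⟨b, hb⟩, hbne⟩ := exists_ne (⟨o', hne⟩ : {x // x ≠ o})
    obtain ⟨g, hg, e'⟩ := htrQ o' hne b hb
    exact hbne (Subtype.ext (e'.symm.trans (ho' g hg)))
  subst hoo
  obtain ⟨g, hg⟩ := MulAction.exists_smul_eq (Perm α) Q P
  have hmem : ∀ x ∈ (Q : Subgroup (Perm α)), g * x * g⁻¹ ∈ (P : Subgroup (Perm α)) := fun x hx => by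
    rw [← hg, Sylow.coe_subgroup_smul]
    exact ⟨x, hx, rfl⟩
  have hmem' : ∀ x ∈ (P : Subgroup (Perm α)), ∃ y ∈ (Q : Subgroup (Perm α)), x = g * y * g⁻¹ := fun x hx => by
    rw [← hg, Sylow.coe_subgroup_smul] at hx
    obtain ⟨y, hy, rfl⟩ := hx
    exact ⟨y, hy, rfl⟩
  refine ⟨g o', fun x hx => ?_, fun a ha b hb => ?_⟩
  · obtain ⟨y, hy, rfl⟩ := hmem' x hx
    simp [mul_apply, ho' y hy]
  · obtain ⟨y, hy, e'⟩ := htrQ (g⁻¹ a) (fun h => ha (by simp [← h])) (g⁻¹ b) (fun h => hb (by simp [← h]))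
    exact ⟨g * y * g⁻¹, hmem y hy, by simp [mul_apply] at e' ⊢; simp [e']⟩

theorem eq_top_of_alt_lt {H : Subgroup (Perm α)} (hA : alternatingGroup α ≤ H) {g : Perm α} (hg : g ∈ H)
    (hodd : g ∉ alternatingGroup α) : H = ⊤ := by
  rw [eq_top_iff]
  intro x _
  by_cases hx : x ∈ alternatingGroup α
  · exact hA hx
  have h : x * g ∈ alternatingGroup α := by
    rw [mem_alternatingGroup] at hx hodd ⊢
    rw [map_mul]
    rcases Int.units_eq_one_or (sign x) with h1 | h1
    · exact absurd h1 hx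
    rcases Int.units_eq_one_or (sign g) with h2 | h2
    · exact absurd h2 hodd
    rw [h1, h2]; rfl
  simpa using mul_mem (hA h) (inv_mem hg)

theorem not_existsUnique {X : Type*} [Group X] [Finite X] {R K₁ K₂ : Subgroup X} (h1 : R ≤ K₁) (h2 : R ≤ K₂)
    (n1 : K₁ ≠ ⊤) (n2 : K₂ ≠ ⊤) (htop : K₁ ⊔ K₂ = ⊤) : ¬ ∃! M : Subgroup X, IsCoatom M ∧ R ≤ M := by
  rintro ⟨M, hM, huniq⟩
  obtain ⟨M₁, hM₁, l1⟩ := (eq_top_or_exists_le_coatom K₁).resolve_left n1
  obtain ⟨M₂, hM₂, l2⟩ := (eq_top_or_exists_le_coatom K₂).resolve_left n2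
  have e1 := huniq M₁ ⟨hM₁, h1.trans l1⟩
  have e2 := huniq M₂ ⟨hM₂, h2.trans l2⟩
  exact hM.1.1 (eq_top_iff.2 (htop ▸ sup_le (e1 ▸ l1) (e2 ▸ l2)))

theorem existsUnique_of_top {X : Type*} [Group X] [Finite X] {R M₀ : Subgroup X} (h : R ≤ M₀) (hne : M₀ ≠ ⊤)
    (hall : ∀ M : Subgroup X, R ≤ M → M ≠ ⊤ → M ≤ M₀) : ∃! M : Subgroup X, IsCoatom M ∧ R ≤ M :=
  have hco : IsCoatom M₀ := ⟨hne, fun M hlt => by
    by_contra hM
    exact hlt.not_ge (hall M (h.trans hlt.le) hM)⟩
  ⟨M₀, ⟨hco, h⟩, fun M ⟨hM, hR⟩ => by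
    rcases (hall M hR hM.1).eq_or_lt with e | e
    · exact e
    · exact absurd (hM.2 _ e) hne⟩

end Cfsg.Lib.Perm.OddIndex
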