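import Cfsg.Agent.Lib.Perm.PrimeDegreeModule

/-!
# Groups of prime degree whose Sylow normaliser contains all square multipliers

A two point stabiliser has at most two orbits on the other points: three orbits would give three
independent weight functions on the pairs, and each is determined by two values on the numbering.
-/

set_option autoImplicit false
set_option linter.style.haveILetI false
set_option linter.unusedSectionVars false

namespace Cfsg.Lib.Perm.PrimeHalf

variable {p : ℕ} [Fact p.Prime] {α : Type*} [Fintype α] [DecidableEq α]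

/-- The square multipliers lie in the group. -/
theorem exists_mul (G : Subgroup (Equiv.Perm α)) (e : ZMod p ≃ α) (hα : Fintype.card α = p)
    (he : ∀ t : ZMod p, ∃ g ∈ G, ∀ i, g (e i) = e (i + t)) (P : Sylow p G)
    (hN : p * (p - 1) ≤ 2 * Nat.card (Subgroup.normalizer ((P : Subgroup G) : Set G))) :
    ∀ a : ZMod p, a ≠ 0 → ∃ g ∈ G, ∀ i, g (e i) = e (a * a * i) := by
  classical
  have hp : p.Prime := Fact.out
  have hpp : ¬ p ^ 2 ∣ Nat.card G := by
    intro h
    have h0 := Subgroup.card_subgroup_dvd_card G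
    rw [Nat.card_eq_fintype_card (α := Equiv.Perm α), Fintype.card_perm, hα] at h0
    have h1 := h.trans h0
    rw [← Nat.mul_factorial_pred hp.ne_zero, pow_two] at h1
    have h2 := Nat.dvd_of_mul_dvd_mul_left hp.pos h1
    exact absurd (hp.dvd_factorial.mp h2) (by have := hp.pos; omega)
  obtain ⟨c, hc, hc'⟩ := he 1
  set C : Subgroup G := Subgroup.zpowers ⟨c, hc⟩ with hC
  have hcpow : ∀ (n : ℕ) (i : ZMod p), (c ^ n) (e i) = e (i + n) := by
    intro n
    induction n with
    | zero => intro i; simp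
    | succ n ih =>
        intro i
        rw [pow_succ', Equiv.Perm.mul_apply, ih, hc']
        congr 1; push_cast; ring
  have hcord : orderOf c = p := by
    refine orderOf_eq_prime ?_ ?_
    · refine Equiv.ext fun x => ?_
      obtain ⟨i, rfl⟩ := e.surjective x
      rw [hcpow]; simp
    · intro h1
      have := hc' 0
      rw [h1] at this
      exact zero_ne_one ((e.injective this).trans (zero_add _))
  have hCcard : Nat.card C = p := by rw [hC, Nat.card_zpowers, ← Subgroup.orderOf_coe, hcord]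
  obtain ⟨Q, hQ⟩ := (IsPGroup.of_card (n := 1) (hCcard.trans (pow_one p).symm)).exists_le_sylow
  have hQeq : C = (Q : Subgroup G) := by
    refine Subgroup.eq_of_le_of_card_ge hQ ?_
    obtain ⟨k, hk⟩ := Q.2.exists_card_eq
    rw [hk, hCcard]
    rcases Nat.lt_or_ge k 2 with h | h
    · calc p ^ k ≤ p ^ 1 := Nat.pow_le_pow_right hp.pos (by omega)
        _ = p := pow_one p
    · exact absurd ((pow_dvd_pow p h).trans (hk ▸ Subgroup.card_subgroup_dvd_card _)) hpp
  set N := Subgroup.normalizer (C : Set G) with hNdef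
  have hNcard : Nat.card N = Nat.card (Subgroup.normalizer ((P : Subgroup G) : Set G)) := by
    have h1 : N.index = (Subgroup.normalizer ((P : Subgroup G) : Set G)).index := by
      rw [hNdef, hQeq]
      exact Q.card_eq_index_normalizer.symm.trans P.card_eq_index_normalizer
    have h2 := (Subgroup.card_mul_index N).trans
      (Subgroup.card_mul_index (Subgroup.normalizer ((P : Subgroup G) : Set G))).symm
    rw [h1] at h2
    exact Nat.eq_of_mul_eq_mul_right (Nat.pos_of_ne_zero Subgroup.index_ne_zero_of_finite) h2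
  -- elements of the normaliser are affine
  have haff : ∀ n : N, ∃ k b : ZMod p, ∀ i, ((n : G) : Equiv.Perm α) (e i) = e (k * i + b) := by
    intro s
    have hmem : (s : G) * ⟨c, hc⟩ * (s : G)⁻¹ ∈ C :=
      (Subgroup.mem_normalizer_iff.mp s.2 _).mp (Subgroup.mem_zpowers _)
    obtain ⟨k, hk⟩ := mem_powers_iff_mem_zpowers.mpr hmem
    have hk' : ((s : G) : Equiv.Perm α) * c = c ^ k * ((s : G) : Equiv.Perm α) := by
      have h1 := congrArg (fun x : G => (x : Equiv.Perm α)) hk
      simp only [SubmonoidClass.coe_pow, Subgroup.coe_mul, InvMemClass.coe_inv] at h1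
      rw [h1, inv_mul_cancel_right]
    set π : Equiv.Perm (ZMod p) := e.trans (((s : G) : Equiv.Perm α).trans e.symm) with hπ
    have hπapp : ∀ i, ((s : G) : Equiv.Perm α) (e i) = e (π i) := fun i => by simp [hπ]
    have hstep : ∀ i, π (i + 1) = π i + k := by
      intro i
      apply e.injective
      rw [← hπapp, ← hc', ← Equiv.Perm.mul_apply, hk', Equiv.Perm.mul_apply, hπapp, hcpow]
    have hlin : ∀ n : ℕ, π (n : ZMod p) = π 0 + k * n := by
      intro n
      induction n with
      | zero => simp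
      | succ n ih => rw [Nat.cast_succ, hstep, ih]; ring
    refine ⟨k, π 0, fun i => ?_⟩
    have := hlin i.val
    rw [ZMod.natCast_rightInverse i] at this
    rw [hπapp, this, add_comm]
  let ψ : N →* ZMod p :=
    { toFun := fun g => e.symm (((g : G) : Equiv.Perm α) (e 1)) - e.symm (((g : G) : Equiv.Perm α) (e 0))
      map_one' := by simp
      map_mul' := fun g h => by
        obtain ⟨k, b, hk⟩ := haff g
        obtain ⟨l, d, hl⟩ := haff h
        have h1 : ∀ i, (((g * h : N) : G) : Equiv.Perm α) (e i) = e (k * (l * i + d) + b) := fun i => by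
          rw [Subgroup.coe_mul, Subgroup.coe_mul, Equiv.Perm.mul_apply, hl, hk]
        simp only [h1, hk, hl, e.symm_apply_apply]
        ring }
  have hker : ψ.toHomUnits.ker ≤ C.subgroupOf N := by
    intro g hg
    obtain ⟨k, b, hk⟩ := haff g
    have h1 : ψ g = 1 := congrArg Units.val (MonoidHom.mem_ker.1 hg)
    have hk1 : k = 1 := by simpa [ψ, hk] using h1
    have hgc : (g : G) = ⟨c, hc⟩ ^ b.val := by
      refine Subtype.ext (Equiv.ext fun x => ?_)
      obtain ⟨i, rfl⟩ := e.surjective x
      rw [hk, SubmonoidClass.coe_pow, hcpow, hk1, one_mul, ZMod.natCast_rightInverse b]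
    show (g : G) ∈ C
    rw [hgc]
    exact Subgroup.npow_mem_zpowers _ _
  have hkle : Nat.card ψ.toHomUnits.ker ≤ p := by
    refine (Subgroup.card_le_of_le hker).trans ?_
    rw [Nat.card_congr (Subgroup.subgroupOfEquivOfLe (Subgroup.le_normalizer)).toEquiv, hCcard]
  set I := ψ.toHomUnits.range
  have hI : I.index ≤ 2 := by
    have h1 := Subgroup.card_mul_index ψ.toHomUnits.ker
    rw [Subgroup.index_ker, hNcard] at h1
    have h2 := Subgroup.card_mul_index I
    rw [Nat.card_eq_fintype_card (α := (ZMod p)ˣ), ZMod.card_units] at h2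
    have h3 : p * (Nat.card I * I.index) ≤ 2 * (p * Nat.card I) := by
      rw [h2]
      calc p * (p - 1) ≤ 2 * (Nat.card ψ.toHomUnits.ker * Nat.card I) := h1 ▸ hN
        _ ≤ 2 * (p * Nat.card I) := Nat.mul_le_mul_left _ (Nat.mul_le_mul_right _ hkle)
    have h4 : p * Nat.card I * I.index ≤ p * Nat.card I * 2 := by rw [mul_assoc]; linarith
    exact Nat.le_of_mul_le_mul_left h4 (Nat.mul_pos hp.pos Nat.card_pos)
  intro a ha
  have hmem : Units.mk0 a ha * Units.mk0 a ha ∈ I := by
    rcases Nat.lt_or_ge I.index 2 with h | h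
    · have : I.index = 1 := by have := Subgroup.index_ne_zero_of_finite (H := I); omega
      rw [Subgroup.index_eq_one.1 this]; exact Subgroup.mem_top _
    · exact Subgroup.mul_self_mem_of_index_two (le_antisymm hI h) _
  obtain ⟨n, hn⟩ := hmem
  obtain ⟨k, b, hk⟩ := haff n
  have hka : k = a * a := by
    have := congrArg Units.val hn
    simpa [ψ, hk] using this
  obtain ⟨t, ht, ht'⟩ := he (-b)
  exact ⟨t * ((n : G) : Equiv.Perm α), G.mul_mem ht (n : G).2, fun i => by
    rw [Equiv.Perm.mul_apply, hk, ht', hka, add_neg_cancel_right]⟩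

/-- A two point stabiliser has at most two orbits on the remaining points. -/
theorem two_orbits (hα : Fintype.card α = p) (G : Subgroup (Equiv.Perm α)) [MulAction.IsPretransitive G α]
    (hG : ¬ Group.IsSolvable G) (P : Sylow p G)
    (hN : p * (p - 1) ≤ 2 * Nat.card (Subgroup.normalizer ((P : Subgroup G) : Set G)))
    {a b c d f : α} (hab : a ≠ b) (hca : c ≠ a) (hcb : c ≠ b) (hda : d ≠ a) (hdb : d ≠ b) (hfa : f ≠ a)
    (hfb : f ≠ b) :
    ∃ g ∈ G, g a = a ∧ g b = b ∧ (g c = d ∨ g c = f ∨ g d = f) := by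
  classical
  have hp : p.Prime := Fact.out
  by_contra hcon
  push Not at hcon
  have h2 : MulAction.IsMultiplyPretransitive G α 2 :=
    (Cfsg.Agent.PrimeDegree.two_transitive_or_affine hα G).resolve_right
      (fun ⟨e', h'⟩ => hG (Cfsg.Agent.PrimeDegree.isSolvable_of_affine G e' h'))
  obtain ⟨e, he⟩ := Cfsg.Agent.PrimeDegree.exists_numbering hα G
  have hmul := exists_mul G e hα he P hN
  -- orbit indicators of the two point stabiliser
  let Rel : α → α → Prop := fun u v => ∃ g ∈ G, g a = a ∧ g b = b ∧ g u = v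
  have hrel : ∀ g ∈ G, g a = a → g b = b → ∀ u v, Rel u (g v) ↔ Rel u v := by
    intro g hg hga hgb u v
    constructor
    · rintro ⟨k, hk, hka, hkb, hkv⟩
      refine ⟨g⁻¹ * k, G.mul_mem (G.inv_mem hg) hk, ?_, ?_, ?_⟩
      · rw [Equiv.Perm.mul_apply, hka, Equiv.Perm.inv_eq_iff_eq, hga]
      · rw [Equiv.Perm.mul_apply, hkb, Equiv.Perm.inv_eq_iff_eq, hgb]
      · rw [Equiv.Perm.mul_apply, hkv, Equiv.Perm.inv_eq_iff_eq]
    · rintro ⟨k, hk, hka, hkb, hkv⟩
      exact ⟨g * k, G.mul_mem hg hk, by rw [Equiv.Perm.mul_apply, hka, hga],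
        by rw [Equiv.Perm.mul_apply, hkb, hgb], by rw [Equiv.Perm.mul_apply, hkv]⟩
  let I₀ : Fin 3 → α → ZMod p := fun i y => if Rel (![c, d, f] i) y then 1 else 0
  let w₀ : (Fin 3 → ZMod p) → α → ZMod p := fun v y =>
    ∑ i, v i * I₀ i y - if y = a then ∑ z, ∑ i, v i * I₀ i z else 0
  have hw₀sum : ∀ v, ∑ y, w₀ v y = 0 := fun v => by
    simp only [w₀, Finset.sum_sub_distrib, Finset.sum_ite_eq', Finset.mem_univ, if_true, sub_self]
  have hw₀inv : ∀ v, ∀ g ∈ G, g a = a → g b = b → ∀ y, w₀ v (g y) = w₀ v y := by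
    intro v g hg hga hgb y
    have h1 : g y = a ↔ y = a := ⟨fun h => g.injective (h.trans hga.symm), fun h => h ▸ hga⟩
    simp only [w₀, I₀, hrel g hg hga hgb, h1]
  -- the weights of all pairs
  have htr : ∀ u v : α, ∃ g ∈ G, u ≠ v → g a = u ∧ g b = v := by
    intro u v
    by_cases huv : u = v
    · exact ⟨1, G.one_mem, fun h => absurd huv h⟩
    · obtain ⟨g, h1, h1'⟩ := (MulAction.is_two_pretransitive_iff.mp h2) hab huv
      exact ⟨g.1, g.2, fun _ => ⟨h1, h1'⟩⟩
  choose gs hgs hgs' using htr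
  let w : (Fin 3 → ZMod p) → α → α → α → ZMod p := fun v i j y => w₀ v ((gs i j)⁻¹ y)
  have hw : ∀ v, ∀ h ∈ G, ∀ i j y, i ≠ j → w v (h i) (h j) (h y) = w v i j y := by
    intro v h hh i j y hij
    obtain ⟨h1, h1'⟩ := hgs' i j hij
    obtain ⟨h3, h3'⟩ := hgs' (h i) (h j) (h.injective.ne hij)
    have hk : (gs (h i) (h j))⁻¹ * h * gs i j ∈ G := G.mul_mem (G.mul_mem (G.inv_mem (hgs _ _)) hh) (hgs _ _)
    have := hw₀inv v _ hk
      (by simp only [Equiv.Perm.mul_apply, h1, Equiv.Perm.inv_eq_iff_eq, h3])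
      (by simp only [Equiv.Perm.mul_apply, h1', Equiv.Perm.inv_eq_iff_eq, h3']) ((gs i j)⁻¹ y)
    simp only [Equiv.Perm.mul_apply, Equiv.Perm.coe_inv, Equiv.apply_symm_apply] at this
    exact this
  have hwsum : ∀ v i j, ∑ y, w v i j y = 0 := fun v i j =>
    (Equiv.sum_comp (gs i j)⁻¹ (w₀ v)).trans (hw₀sum v)
  let Φ : (Fin 3 → ZMod p) → ZMod p → ZMod p → ZMod p := fun v i j => ∑ y, w v (e i) (e j) y * e.symm y
  -- a combination killing both values
  obtain ⟨η, hη⟩ : ∃ η : ZMod p, ¬ IsSquare η := by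
    refine FiniteField.exists_nonsquare ?_
    rw [ZMod.ringChar_zmod_n]
    intro h2'
    subst h2'
    have : c = a ∨ c = b := by
      have hU : ({a, b} : Finset α) = Finset.univ :=
        Finset.eq_univ_of_card _ (by rw [Finset.card_pair hab, hα])
      simpa using (hU.symm ▸ Finset.mem_univ c : c ∈ ({a, b} : Finset α))
    rcases this with h | h
    exacts [hca h, hcb h]
  have hadd : ∀ u v i j y, w (u + v) i j y = w u i j y + w v i j y := by
    intro u v i j y
    simp only [w, w₀, Pi.add_apply, add_mul, Finset.sum_add_distrib]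
    split_ifs <;> ring
  have hsmul : ∀ (r : ZMod p) v i j y, w (r • v) i j y = r * w v i j y := by
    intro r v i j y
    simp only [w, w₀, Pi.smul_apply, smul_eq_mul, mul_assoc, ← Finset.mul_sum]
    split_ifs <;> ring
  let Λ : (Fin 3 → ZMod p) →ₗ[ZMod p] ZMod p × ZMod p :=
    { toFun := fun v => (Φ v 0 1, Φ v 0 η)
      map_add' := fun u v => by simp [Φ, hadd, add_mul, Finset.sum_add_distrib]
      map_smul' := fun r v => by simp [Φ, hsmul, mul_assoc, Finset.mul_sum] }
  obtain ⟨v, hv, hv0⟩ : ∃ v, Λ v = 0 ∧ v ≠ 0 := by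
    by_contra h
    push Not at h
    have := LinearMap.finrank_le_finrank_of_injective
      (LinearMap.ker_eq_bot.mp ((Submodule.eq_bot_iff _).2 fun v hv => h v hv))
    simp [Module.finrank_prod] at this
  obtain ⟨hv1, hvη⟩ : Φ v 0 1 = 0 ∧ Φ v 0 η = 0 := Prod.mk_eq_zero.mp hv
  have hshift : ∀ i j t, i ≠ j → Φ v (i + t) (j + t) = Φ v i j := by
    intro i j t hij
    obtain ⟨g, hg, hg'⟩ := he t
    show ∑ y, w v (e (i + t)) (e (j + t)) y * e.symm y = ∑ y, w v (e i) (e j) y * e.symm y
    rw [← Equiv.sum_comp g, ← hg', ← hg']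
    calc ∑ y, w v (g (e i)) (g (e j)) (g y) * e.symm (g y)
        = ∑ y, w v (e i) (e j) y * (e.symm y + t) := by
          refine Finset.sum_congr rfl fun y _ => ?_
          rw [hw v g hg _ _ _ (e.injective.ne hij)]
          obtain ⟨k, rfl⟩ := e.surjective y
          rw [hg', e.symm_apply_apply, e.symm_apply_apply]
      _ = _ := by simp only [mul_add, Finset.sum_add_distrib, ← Finset.sum_mul, hwsum, zero_mul, add_zero]
  have hscale : ∀ k j, k ≠ 0 → j ≠ 0 → Φ v 0 (k * k * j) = k * k * Φ v 0 j := by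
    intro k j hk hj
    obtain ⟨g, hg, hg'⟩ := hmul k hk
    show ∑ y, w v (e 0) (e (k * k * j)) y * e.symm y = k * k * ∑ y, w v (e 0) (e j) y * e.symm y
    rw [← Equiv.sum_comp g, ← hg', show e 0 = g (e 0) by rw [hg', mul_zero], Finset.mul_sum]
    refine Finset.sum_congr rfl fun y _ => ?_
    rw [hw v g hg _ _ _ (e.injective.ne (Ne.symm hj))]
    obtain ⟨l, rfl⟩ := e.surjective y
    rw [hg', e.symm_apply_apply, e.symm_apply_apply]
    rw [show g (e 0) = e 0 by rw [hg', mul_zero]]
    ring
  have hvanish : ∀ i j, i ≠ j → Φ v i j = 0 := by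
    intro i j hij
    rw [← hshift i j (-i) hij, add_neg_cancel]
    have hd : j + -i ≠ 0 := by rw [← sub_eq_add_neg, sub_ne_zero]; exact hij.symm
    by_cases hsq : IsSquare (j + -i)
    · obtain ⟨k, hk⟩ := hsq
      have hk0 : k ≠ 0 := fun e0 => hd (by rw [hk, e0, mul_zero])
      rw [hk, ← mul_one (k * k), hscale k 1 hk0 one_ne_zero, hv1, mul_zero]
    · have hη0 : η ≠ 0 := fun e0 => hη (e0 ▸ IsSquare.zero)
      have hsq' : IsSquare ((j + -i) * η) := by
        rw [← quadraticChar_one_iff_isSquare (mul_ne_zero hd hη0), map_mul,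
          quadraticChar_neg_one_iff_not_isSquare.2 hsq, quadraticChar_neg_one_iff_not_isSquare.2 hη]
        norm_num
      obtain ⟨l, hl⟩ := hsq'
      have hl0 : l ≠ 0 := fun e0 => mul_ne_zero hd hη0 (by rw [hl, e0, mul_zero])
      have he' : j + -i = (l / η) * (l / η) * η := by
        field_simp
        linear_combination hl
      rw [he', hscale (l / η) η (div_ne_zero hl0 hη0) hη0, hvη, mul_zero]
  -- the functions orthogonal to all weights
  let W : Subrepresentation (Cfsg.permRep (ZMod p) G α) :=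
    { toSubmodule :=
        { carrier := {u | ∑ x, u x = 0 ∧ ∀ i j, i ≠ j → ∑ y, w v i j y * u y = 0}
          add_mem' := fun {u u'} hu hu' => ⟨by simp [Finset.sum_add_distrib, hu.1, hu'.1],
            fun i j hij => by simp [mul_add, Finset.sum_add_distrib, hu.2 i j hij, hu'.2 i j hij]⟩
          zero_mem' := ⟨by simp, fun i j _ => by simp⟩
          smul_mem' := fun r u hu => ⟨by simp [← Finset.mul_sum, hu.1],
            fun i j hij => by
              simp only [Pi.smul_apply, smul_eq_mul, mul_left_comm _ r, ← Finset.mul_sum, hu.2 i j hij, mul_zero]⟩ }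
      apply_mem_toSubmodule := by
        intro g u hu
        refine ⟨?_, fun i j hij => ?_⟩
        · show ∑ x, u (((g⁻¹ : G) : Equiv.Perm α) x) = 0
          rw [Equiv.sum_comp]; exact hu.1
        · show ∑ y, w v i j y * u (((g⁻¹ : G) : Equiv.Perm α) y) = 0
          set k : Equiv.Perm α := ((g⁻¹ : G) : Equiv.Perm α) with hk
          rw [← hu.2 (k i) (k j) (k.injective.ne hij), ← Equiv.sum_comp k (fun y => w v (k i) (k j) y * u y)]
          exact Finset.sum_congr rfl fun y _ => by rw [hw v k (g⁻¹ : G).2 i j y hij] }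
  have hu : (fun x => e.symm x) ∈ W.toSubmodule := by
    refine ⟨?_, fun i j hij => ?_⟩
    · rw [Equiv.sum_comp e.symm (fun i => i)]
      have := FiniteField.sum_pow_lt_card_sub_one (K := ZMod p) 1 (by
        rw [ZMod.card]
        by_contra h
        have : p = 2 := by have := hp.two_le; omega
        subst this
        exact hη (FiniteField.isSquare_of_char_two (by rw [ZMod.ringChar_zmod_n]) η))
      simpa using this
    · obtain ⟨i, rfl⟩ := e.surjective i
      obtain ⟨j, rfl⟩ := e.surjective j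
      exact hvanish i j fun h => hij (h ▸ rfl)
  rcases Cfsg.Agent.PrimeDegree.heart_irreducible (K := ZMod p) hα G hG W (by
      show Submodule.span _ _ ≤ _
      rw [Submodule.span_singleton_le_iff_mem]
      exact ⟨by simp [hα], fun i j _ => by simpa using hwsum v i j⟩)
    (fun u hu => hu.1) with hW | hW
  · rw [hW] at hu
    obtain ⟨r, hr⟩ := Submodule.mem_span_singleton.mp hu
    have ha := congrFun hr (e 0)
    have hb := congrFun hr (e 1)
    simp at ha hb
    exact zero_ne_one (ha.symm.trans hb)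
  · -- every weight is constant
    have hkey : ∀ x y, w₀ v x = w₀ v y := by
      intro x y
      have hz : (Pi.single x 1 - Pi.single y 1 : α → ZMod p) ∈ W.toSubmodule := by
        rw [hW]
        show ∑ z, (Pi.single x 1 - Pi.single y 1 : α → ZMod p) z = 0
        simp [Finset.sum_sub_distrib]
      obtain ⟨h1, h1'⟩ := hgs' a b hab
      have hxy := hz.2 (gs a b a) (gs a b b) ((gs a b).injective.ne hab)
      rw [h1, h1'] at hxy
      have e1 : ∀ z, w v a b z = w₀ v z := fun z => by
        show w₀ v ((gs a b)⁻¹ z) = w₀ v z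
        exact hw₀inv v _ (G.inv_mem (hgs a b)) (by rw [Equiv.Perm.inv_eq_iff_eq, h1])
          (by rw [Equiv.Perm.inv_eq_iff_eq, h1']) z
      simp [mul_sub, Finset.sum_sub_distrib, Pi.single_apply, e1] at hxy
      exact sub_eq_zero.mp hxy
    have hwb : w₀ v b = 0 := by
      simp only [w₀, I₀, if_neg hab.symm, sub_zero]
      refine Finset.sum_eq_zero fun i _ => ?_
      rw [if_neg, mul_zero]
      rintro ⟨g, hg, hga, hgb, hgi⟩
      fin_cases i <;> simp at hgi
      exacts [hcb (g.injective (hgi.trans hgb.symm)), hdb (g.injective (hgi.trans hgb.symm)),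
        hfb (g.injective (hgi.trans hgb.symm))]
    apply hv0
    have hr : ∀ u : α, Rel u u := fun u => ⟨1, G.one_mem, rfl, rfl, rfl⟩
    have hsym : ∀ u u', Rel u u' → Rel u' u := by
      rintro u u' ⟨g, hg, hga, hgb, hgu⟩
      exact ⟨g⁻¹, G.inv_mem hg, by rw [Equiv.Perm.inv_eq_iff_eq, hga], by rw [Equiv.Perm.inv_eq_iff_eq, hgb],
        by rw [Equiv.Perm.inv_eq_iff_eq, hgu]⟩
    have hncd : ¬ Rel c d := fun ⟨g, hg, hga, hgb, h⟩ => (hcon g hg hga hgb).1 h
    have hncf : ¬ Rel c f := fun ⟨g, hg, hga, hgb, h⟩ => (hcon g hg hga hgb).2.1 h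
    have hndf : ¬ Rel d f := fun ⟨g, hg, hga, hgb, h⟩ => (hcon g hg hga hgb).2.2 h
    have hc0 := (hkey c b).trans hwb
    have hd0 := (hkey d b).trans hwb
    have hf0 := (hkey f b).trans hwb
    simp [w₀, I₀, hca, hda, hfa, Fin.sum_univ_three, hr, hncd, hncf, hndf,
      show ¬ Rel d c from fun h => hncd (hsym d c h), show ¬ Rel f c from fun h => hncf (hsym f c h),
      show ¬ Rel f d from fun h => hndf (hsym f d h)] at hc0 hd0 hf0
    funext i
    fin_cases i <;> assumption

end Cfsg.Lib.Perm.PrimeHalf
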