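import Cfsg.Agent.Lib.Perm.PrimeDegreeHalf

/-!
# Prime degree, half normaliser: the point stabiliser is primitive

A block system of a point stabiliser yields a linear space on which the group is transitive on
non-collinear triples.  Counting the stabiliser of a line among the affine maps leaves lines of size
three, and the involutions attached to the points of a line then satisfy an identity which fails
unless the degree is seven.
-/

set_option autoImplicit false
set_option linter.style.haveILetI false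
set_option linter.unusedSectionVars false

namespace Cfsg.Lib.Perm.PrimeHalf

variable {p : ℕ} [Fact p.Prime]

set_option maxHeartbeats 1600000 in
/-- No nontrivial invariant equivalence relation for a point stabiliser, in coordinates. -/
theorem no_blocks (hp7 : 7 < p) (G : Subgroup (Equiv.Perm (ZMod p)))
    (h2 : ∀ a b a' b' : ZMod p, a ≠ b → a' ≠ b' → ∃ g ∈ G, g a = a' ∧ g b = b')
    (ht : ∀ t : ZMod p, ∃ g ∈ G, ∀ i, g i = i + t)
    (hm : ∀ k : ZMod p, k ≠ 0 → ∃ g ∈ G, ∀ i, g i = k * k * i)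
    (horb : ∀ a b c d f : ZMod p, a ≠ b → c ≠ a → c ≠ b → d ≠ a → d ≠ b → f ≠ a → f ≠ b →
      ∃ g ∈ G, g a = a ∧ g b = b ∧ (g c = d ∨ g c = f ∨ g d = f))
    (r : ZMod p → ZMod p → Prop)
    (hrsymm : ∀ x y, r x y → r y x)
    (hrtrans : ∀ x y w, r x y → r y w → r x w)
    (hrinv : ∀ g ∈ G, g 0 = 0 → ∀ x y, r x y → r (g x) (g y))
    (hne : ∀ x, x ≠ 0 → ∃ y, y ≠ 0 ∧ y ≠ x ∧ r x y)
    (hfull : ∀ x, x ≠ 0 → ∃ y, y ≠ 0 ∧ y ≠ x ∧ ¬ r x y) : False := by
  classical
  have hp : p.Prime := Fact.out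
  -- collinearity
  let col : ZMod p → ZMod p → ZMod p → Prop := fun a b c =>
    a ≠ b ∧ a ≠ c ∧ b ≠ c ∧ ∃ g ∈ G, g a = 0 ∧ r (g b) (g c)
  have col_any : ∀ {a b c}, col a b c → ∀ g ∈ G, g a = 0 → r (g b) (g c) := by
    rintro a b c ⟨-, -, -, g, hg, hga, hgr⟩ g' hg' hg'a
    have h := hrinv (g' * g⁻¹) (G.mul_mem hg' (G.inv_mem hg))
      (by rw [Equiv.Perm.mul_apply, ← hga, Equiv.Perm.inv_def, Equiv.symm_apply_apply, hg'a, hga]) _ _ hgr
    simpa using h
  have to0 : ∀ a : ZMod p, ∃ g ∈ G, g a = 0 := fun a => by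
    obtain ⟨g, hg, hg'⟩ := ht (-a)
    exact ⟨g, hg, by rw [hg', add_neg_cancel]⟩
  have col_inv : ∀ {a b c}, col a b c → ∀ h ∈ G, col (h a) (h b) (h c) := by
    rintro a b c ⟨hab, hac, hbc, g, hg, hga, hgr⟩ h hh
    refine ⟨h.injective.ne hab, h.injective.ne hac, h.injective.ne hbc, g * h⁻¹,
      G.mul_mem hg (G.inv_mem hh), ?_, ?_⟩
    · simpa using hga
    · simpa using hgr
  have col_symm : ∀ {a b c}, col a b c → col a c b := by
    rintro a b c ⟨hab, hac, hbc, g, hg, hga, hgr⟩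
    exact ⟨hac, hab, hbc.symm, g, hg, hga, hrsymm _ _ hgr⟩
  have col_trans : ∀ {a b c d}, col a b c → col a c d → b ≠ d → col a b d := by
    rintro a b c d ⟨hab, hac, hbc, g, hg, hga, hgr⟩ h hbd
    exact ⟨hab, h.2.1, hbd, g, hg, hga, hrtrans _ _ _ hgr (col_any h g hg hga)⟩
  have col_ex : ∀ a b, a ≠ b → ∃ c, col a b c := by
    intro a b hab
    obtain ⟨g, hg, hga⟩ := to0 a
    obtain ⟨y, hy0, hyx, hyr⟩ := hne (g b) (fun h => hab (g.injective (hga.trans h.symm)))
    refine ⟨g⁻¹ y, hab, fun h => hy0 ?_, fun h => hyx ?_, g, hg, hga, by simpa using hyr⟩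
    · rw [← hga, h]; simp
    · rw [h]; simp
  have col_out : ∀ a b, a ≠ b → ∃ c, c ≠ a ∧ c ≠ b ∧ ¬ col a b c := by
    intro a b hab
    obtain ⟨g, hg, hga⟩ := to0 a
    obtain ⟨y, hy0, hyx, hyr⟩ := hfull (g b) (fun h => hab (g.injective (hga.trans h.symm)))
    refine ⟨g⁻¹ y, fun h => hy0 ?_, fun h => hyx ?_, fun h => hyr ?_⟩
    · rw [← hga, ← h]; simp
    · rw [← h]; simp
    · simpa using col_any h g hg hga
  have col_swap : ∀ {a b c}, col a b c → col b a c := by
    intro a b c hc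
    by_contra hcb
    have hab : a ≠ b := hc.1
    have inv : ∀ g ∈ G, g a = a → g b = b → ∀ u v, g u = v →
        (col a b u ↔ col a b v) ∧ (col b a u ↔ col b a v) := by
      intro g hg ga gb u v huv
      have hga : g⁻¹ a = a := by rw [Equiv.Perm.inv_eq_iff_eq, ga]
      have hgb : g⁻¹ b = b := by rw [Equiv.Perm.inv_eq_iff_eq, gb]
      have hgv : g⁻¹ v = u := by rw [Equiv.Perm.inv_eq_iff_eq, huv]
      refine ⟨⟨fun h => ?_, fun h => ?_⟩, ⟨fun h => ?_, fun h => ?_⟩⟩
      · simpa only [ga, gb, huv] using col_inv h g hg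
      · simpa only [hga, hgb, hgv] using col_inv h g⁻¹ (G.inv_mem hg)
      · simpa only [ga, gb, huv] using col_inv h g hg
      · simpa only [hga, hgb, hgv] using col_inv h g⁻¹ (G.inv_mem hg)
    have three : ∀ u v, u ≠ a → u ≠ b → v ≠ a → v ≠ b →
        ¬ (col a b u ↔ col a b c) ∨ ¬ (col b a u ↔ col b a c) →
        ¬ (col a b v ↔ col a b c) ∨ ¬ (col b a v ↔ col b a c) →
        (col a b u ↔ col a b v) ∧ (col b a u ↔ col b a v) := by
      intro u v hua hub hva hvb hu hv
      obtain ⟨g, hg, ga, gb, h | h | h⟩ :=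
        horb a b c u v hab hc.2.1.symm hc.2.2.1.symm hua hub hva hvb
      · have := inv g hg ga gb c u h
        exact hu.elim (fun n => absurd this.1.symm n) (fun n => absurd this.2.symm n)
      · have := inv g hg ga gb c v h
        exact hv.elim (fun n => absurd this.1.symm n) (fun n => absurd this.2.symm n)
      · exact inv g hg ga gb u v h
    obtain ⟨d, hda, hdb, hd⟩ := col_out a b hab
    obtain ⟨e, he⟩ := col_ex b a hab.symm
    have hea := he.2.2.1.symm
    have heb := he.2.1.symm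
    have key : ∀ u, u ≠ a → u ≠ b → (col a b u ↔ ¬ col b a u) := by
      intro u hua hub
      by_cases hA : col a b u <;> by_cases hB : col b a u
      · exact absurd ((three u d hua hub hda hdb (Or.inr fun h => hcb (h.1 hB))
          (Or.inl fun h => hd (h.2 hc))).1.1 hA) hd
      · exact iff_of_true hA hB
      · exact iff_of_false hA (not_not_intro hB)
      · exact absurd ((three u e hua hub hea heb (Or.inl fun h => hA (h.2 hc))
          (Or.inr fun h => hcb (h.1 he))).2.2 he) hB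
    -- both relations have the same number of points
    obtain ⟨g, hg, hgab, hgba⟩ := h2 a b b a hab hab.symm
    set S : Finset (ZMod p) := (Finset.univ.erase a).erase b with hS
    have hmemS : ∀ u, u ∈ S ↔ u ≠ b ∧ u ≠ a := fun u => by simp [hS]
    have hgi : g⁻¹ a = b ∧ g⁻¹ b = a := by
      rw [Equiv.Perm.inv_eq_iff_eq, Equiv.Perm.inv_eq_iff_eq, hgab, hgba]; exact ⟨rfl, rfl⟩
    have hcard : (S.filter (col a b)).card = (S.filter (fun u => ¬ col a b u)).card := by
      refine Finset.card_bij (fun u _ => g u) ?_ (fun u _ v _ h => g.injective h) ?_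
      · intro u hu
        rw [Finset.mem_filter, hmemS] at hu ⊢
        have h := col_inv hu.2 g hg
        rw [hgab, hgba] at h
        have h' : g u ≠ a ∧ g u ≠ b := ⟨h.2.2.1.symm, h.2.1.symm⟩
        exact ⟨⟨h'.2, h'.1⟩, fun hn => (key _ h'.1 h'.2).1 hn h⟩
      · intro v hv
        rw [Finset.mem_filter, hmemS] at hv
        have h0 : col b a v := by
          by_contra hn; exact hv.2 ((key v hv.1.2 hv.1.1).2 hn)
        have h := col_inv h0 g⁻¹ (G.inv_mem hg)
        rw [hgi.1, hgi.2] at h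
        exact ⟨g⁻¹ v, by rw [Finset.mem_filter, hmemS]; exact ⟨⟨h.2.2.1.symm, h.2.1.symm⟩, h⟩, by simp⟩
    have hSc : S.card = p - 1 - 1 := by
      rw [hS, Finset.card_erase_of_mem (by simp [hab.symm]), Finset.card_erase_of_mem (Finset.mem_univ a),
        Finset.card_univ, ZMod.card]
    have := Finset.card_filter_add_card_filter_not (s := S) (col a b)
    have hodd := hp.odd_of_ne_two (by omega)
    rw [hcard, hSc] at this
    obtain ⟨n, hn⟩ := hodd
    omega
  -- lines
  let line : ZMod p → ZMod p → Finset (ZMod p) := fun a b =>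
    Finset.univ.filter fun c => c = a ∨ c = b ∨ col a b c
  have mem_line : ∀ {a b c}, c ∈ line a b ↔ c = a ∨ c = b ∨ col a b c := fun {a b c} => by simp [line]
  have line_swap : ∀ a b, line a b = line b a := by
    intro a b
    ext c
    rw [mem_line, mem_line]
    exact ⟨fun h => h.elim (fun e => Or.inr (Or.inl e)) fun h => h.elim Or.inl fun h => Or.inr (Or.inr (col_swap h)),
      fun h => h.elim (fun e => Or.inr (Or.inl e)) fun h => h.elim Or.inl fun h => Or.inr (Or.inr (col_swap h))⟩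
  have line_left : ∀ {a b y}, a ≠ y → y ∈ line a b → line a b = line a y := by
    intro a b y hay hy
    rcases mem_line.1 hy with h | h | h
    · exact absurd h.symm hay
    · rw [h]
    · ext c
      rw [mem_line, mem_line]
      constructor
      · rintro (h' | h' | h')
        · exact Or.inl h'
        · exact Or.inr (Or.inr (h' ▸ col_symm h))
        · by_cases hcy : c = y
          · exact Or.inr (Or.inl hcy)
          · exact Or.inr (Or.inr (col_trans (col_symm h) h' (Ne.symm hcy)))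
      · rintro (h' | h' | h')
        · exact Or.inl h'
        · exact Or.inr (Or.inr (h' ▸ h))
        · by_cases hcb : c = b
          · exact Or.inr (Or.inl hcb)
          · exact Or.inr (Or.inr (col_trans h h' (Ne.symm hcb)))
  have line_eq : ∀ {a b x y}, x ≠ y → x ∈ line a b → y ∈ line a b → line x y = line a b := by
    intro a b x y hxy hx hy
    by_cases hxa : x = a
    · subst hxa; exact (line_left hxy hy).symm
    · have h1 : line a b = line x a := (line_left (Ne.symm hxa) hx).trans (line_swap _ _)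
      rw [h1] at hy ⊢
      exact (line_left hxy hy).symm
  have line_inv : ∀ g ∈ G, ∀ a b, line (g a) (g b) = (line a b).image g := by
    intro g hg a b
    ext c
    obtain ⟨c, rfl⟩ := g.surjective c
    rw [Finset.mem_image]
    simp only [g.injective.eq_iff, exists_eq_right, mem_line]
    have : col (g a) (g b) (g c) ↔ col a b c :=
      ⟨fun h => by simpa using col_inv h g⁻¹ (G.inv_mem hg), fun h => col_inv h g hg⟩
    rw [this]
  have haff : ∀ k t : ZMod p, k ≠ 0 → IsSquare k → ∃ g ∈ G, ∀ i, g i = k * i + t := by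
    rintro k t hk ⟨l, rfl⟩
    obtain ⟨g1, hg1, h1⟩ := hm l (fun h => hk (by rw [h, mul_zero]))
    obtain ⟨g2, hg2, h2'⟩ := ht t
    exact ⟨g2 * g1, G.mul_mem hg2 hg1, fun i => by rw [Equiv.Perm.mul_apply, h1, h2']⟩
  -- a base line, centred
  set L0 := line 0 1 with hL0
  obtain ⟨c1, hc1⟩ := col_ex 0 1 zero_ne_one
  obtain ⟨d1, hd10, hd11, hd1⟩ := col_out 0 1 zero_ne_one
  have hM3 : 3 ≤ L0.card := by
    have hsub : ({0, 1, c1} : Finset (ZMod p)) ⊆ L0 := by
      intro u hu
      simp only [Finset.mem_insert, Finset.mem_singleton] at hu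
      rcases hu with rfl | rfl | rfl
      · exact mem_line.2 (Or.inl rfl)
      · exact mem_line.2 (Or.inr (Or.inl rfl))
      · exact mem_line.2 (Or.inr (Or.inr hc1))
    have := Finset.card_le_card hsub
    rwa [Finset.card_eq_three.2 ⟨0, 1, c1, zero_ne_one, hc1.2.1, hc1.2.2.1, rfl⟩] at this
  have hMp : L0.card < p := by
    have := Finset.card_lt_univ_of_notMem (s := L0) (x := d1) (by
      rw [mem_line]; rintro (h | h | h)
      exacts [hd10 h, hd11 h, hd1 h])
    rwa [ZMod.card] at this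
  have hM0 : (L0.card : ZMod p) ≠ 0 := fun h => by
    rw [ZMod.natCast_eq_zero_iff] at h
    exact absurd (Nat.le_of_dvd (by omega) h) (by omega)
  set z : ZMod p := (∑ i ∈ L0, i) / (L0.card : ZMod p) with hz
  set L := L0.image (fun i => i - z) with hL
  have hinjz : Function.Injective (fun i : ZMod p => i - z) := fun u v h => by simpa using h
  have hLcard : L.card = L0.card := Finset.card_image_of_injective _ hinjz
  have hmemL : ∀ i, i ∈ L ↔ i + z ∈ L0 := fun i => by
    simp [hL, Finset.mem_image, sub_eq_iff_eq_add]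
  have hLsum : ∑ i ∈ L, i = 0 := by
    rw [hL, Finset.sum_image hinjz.injOn, Finset.sum_sub_distrib, Finset.sum_const, nsmul_eq_mul, hz,
      mul_div_cancel₀ _ hM0, sub_self]
  have hmove : ∀ x y x' y', x ∈ L → y ∈ L → x' ∈ L → y' ∈ L → x ≠ y → x' ≠ y' → ∀ k, k ≠ 0 → IsSquare k →
      y' - x' = k * (y - x) → x' = k * x ∧ y' = k * y ∧ ∀ i ∈ L, k * i ∈ L := by
    intro x y x' y' hx hy hx' hy' hxy hxy' k hk hsq hd
    obtain ⟨g, hg, hgi⟩ := haff k (x' + z - k * (x + z)) hk hsq
    have e1 : g (x + z) = x' + z := by rw [hgi]; ring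
    have e2 : g (y + z) = y' + z := by rw [hgi]; linear_combination -hd
    rw [hmemL] at hx hy hx' hy'
    have himg : L0.image g = L0 := by
      rw [hL0, ← line_eq (x := x + z) (y := y + z) (by simpa using hxy) hx hy, ← line_inv g hg, e1, e2,
        line_eq (by simpa using hxy') hx' hy', line_eq (x := x + z) (y := y + z) (by simpa using hxy) hx hy]
    have hL' : ∀ i ∈ L, k * i + (x' - k * x) ∈ L := by
      intro i hi
      rw [hmemL] at hi ⊢
      have hmem : g (i + z) ∈ L0 := himg ▸ Finset.mem_image_of_mem g hi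
      rw [hgi] at hmem
      convert hmem using 1
      ring
    have himg' : L.image (fun i => k * i + (x' - k * x)) = L :=
      Finset.eq_of_subset_of_card_le (fun u hu => by
        obtain ⟨i, hi, rfl⟩ := Finset.mem_image.1 hu
        exact hL' i hi)
        (le_of_eq (Finset.card_image_of_injective _ fun u v h => mul_left_cancel₀ hk (add_right_cancel h)).symm)
    have ht0 : x' - k * x = 0 := by
      have hs := congrArg (fun s => ∑ i ∈ s, i) himg'
      simp only [Finset.sum_image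
          (fun u _ v _ h => mul_left_cancel₀ hk (add_right_cancel h)),
        Finset.sum_add_distrib, Finset.sum_const, nsmul_eq_mul] at hs
      rw [← Finset.mul_sum, hLsum, mul_zero, zero_add, hLcard, mul_eq_zero] at hs
      exact hs.resolve_left hM0
    refine ⟨sub_eq_zero.1 ht0, ?_, fun i hi => by simpa [ht0] using hL' i hi⟩
    linear_combination hd + sub_eq_zero.1 ht0
  set K : Finset (ZMod p) := Finset.univ.filter (fun k => k ≠ 0 ∧ IsSquare k ∧ ∀ i ∈ L, k * i ∈ L) with hK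
  have hfib : ∀ s : Finset (ZMod p × ZMod p), (∀ q ∈ s, q.1 ∈ L ∧ q.2 ∈ L ∧ q.1 ≠ q.2) →
      (∀ q ∈ s, ∀ q' ∈ s, IsSquare ((q'.2 - q'.1) / (q.2 - q.1))) → s.card ≤ K.card := by
    intro s hs hsq
    rcases s.eq_empty_or_nonempty with rfl | ⟨q, hq⟩
    · simp
    have hd : q.2 - q.1 ≠ 0 := sub_ne_zero.2 (hs q hq).2.2.symm
    have hk : ∀ q' ∈ s, let k := (q'.2 - q'.1) / (q.2 - q.1)
        k ∈ K ∧ q'.1 = k * q.1 ∧ q'.2 = k * q.2 := by
      intro q' hq'
      obtain ⟨a1, a2, a3⟩ := hs q hq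
      obtain ⟨b1, b2, b3⟩ := hs q' hq'
      have hk0 : (q'.2 - q'.1) / (q.2 - q.1) ≠ 0 := div_ne_zero (sub_ne_zero.2 b3.symm) hd
      obtain ⟨r1, r2, r3⟩ := hmove _ _ _ _ a1 a2 b1 b2 a3 b3 _ hk0 (hsq q hq q' hq') (div_mul_cancel₀ _ hd).symm
      exact ⟨Finset.mem_filter.2 ⟨Finset.mem_univ _, hk0, hsq q hq q' hq', r3⟩, r1, r2⟩
    refine Finset.card_le_card_of_injOn (fun q' => (q'.2 - q'.1) / (q.2 - q.1)) (fun q' hq' => (hk q' hq').1) ?_
    intro u hu v hv h
    obtain ⟨-, u1, u2⟩ := hk u hu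
    obtain ⟨-, v1, v2⟩ := hk v hv
    have h' : (u.2 - u.1) / (q.2 - q.1) = (v.2 - v.1) / (q.2 - q.1) := h
    exact Prod.ext (by rw [u1, v1, h']) (by rw [u2, v2, h'])
  have hclass : ∀ a b : ZMod p, a ≠ 0 → b ≠ 0 → (IsSquare a ↔ IsSquare b) → IsSquare (b / a) := by
    intro a b ha hb h
    rw [← quadraticChar_one_iff_isSquare (div_ne_zero hb ha), div_eq_mul_inv, map_mul]
    by_cases hsa : IsSquare a
    · have hsai : IsSquare a⁻¹ := hsa.inv
      rw [(quadraticChar_one_iff_isSquare hb).2 (h.1 hsa),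
        (quadraticChar_one_iff_isSquare (inv_ne_zero ha)).2 hsai, one_mul]
    · have hsai : ¬ IsSquare a⁻¹ := fun h' => hsa (inv_inv a ▸ h'.inv)
      rw [quadraticChar_neg_one_iff_not_isSquare.2 (fun h' => hsa (h.2 h')),
        quadraticChar_neg_one_iff_not_isSquare.2 hsai]
      norm_num
  have hpairs : L.card * L.card - L.card ≤ 2 * K.card := by
    rw [← Finset.offDiag_card, ← Finset.card_filter_add_card_filter_not
      (s := L.offDiag) (fun q => IsSquare (q.2 - q.1))]
    have hd : ∀ q ∈ L.offDiag, q.1 ∈ L ∧ q.2 ∈ L ∧ q.1 ≠ q.2 := fun q hq => Finset.mem_offDiag.1 hq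
    have h1 := hfib (L.offDiag.filter (fun q => IsSquare (q.2 - q.1)))
      (fun q hq => hd q (Finset.mem_filter.1 hq).1) (fun q hq q' hq' => by
        rw [Finset.mem_filter] at hq hq'
        exact hclass _ _ (sub_ne_zero.2 (hd q hq.1).2.2.symm) (sub_ne_zero.2 (hd q' hq'.1).2.2.symm)
          (iff_of_true hq.2 hq'.2))
    have h2' := hfib (L.offDiag.filter (fun q => ¬ IsSquare (q.2 - q.1)))
      (fun q hq => hd q (Finset.mem_filter.1 hq).1) (fun q hq q' hq' => by
        rw [Finset.mem_filter] at hq hq'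
        exact hclass _ _ (sub_ne_zero.2 (hd q hq.1).2.2.symm) (sub_ne_zero.2 (hd q' hq'.1).2.2.symm)
          (iff_of_false hq.2 hq'.2))
    omega
  have hKle : ∀ x ∈ L, x ≠ 0 → K.card ≤ (L.erase 0).card := by
    intro x hx hx0
    refine Finset.card_le_card_of_injOn (fun k => k * x) (fun k hk => ?_)
      (fun u _ v _ h => mul_right_cancel₀ hx0 h)
    obtain ⟨-, hk0, -, hkL⟩ := Finset.mem_filter.1 hk
    exact Finset.mem_erase.2 ⟨mul_ne_zero hk0 hx0, hkL x hx⟩
  obtain ⟨x, hxe⟩ : (L.erase 0).Nonempty := Finset.card_pos.1 (by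
    have := Finset.pred_card_le_card_erase (s := L) (a := (0 : ZMod p)); omega)
  obtain ⟨hx0, hxL⟩ := Finset.mem_erase.1 hxe
  have hK' := hKle x hxL hx0
  have herase := Finset.card_erase_le (s := L) (a := (0 : ZMod p))
  have hL3 : L.card = 3 := by
    by_contra hne3
    have h4 : 4 ≤ L.card := by omega
    have h4' : 4 * L.card ≤ L.card * L.card := Nat.mul_le_mul_right _ h4
    omega
  have hM : L0.card = 3 := hLcard ▸ hL3
  have h0L : (0 : ZMod p) ∉ L := fun h => by
    rw [Finset.card_erase_of_mem h, hL3] at hK'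
    rw [hL3] at hpairs; omega
  have hK3 : 3 ≤ K.card := by rw [hL3] at hpairs; omega
  have hneg : ¬ IsSquare (-1 : ZMod p) := by
    intro hsq
    have hall : ∀ u ∈ L, u ≠ x → u = -x := by
      intro u hu hux
      obtain ⟨-, h, -⟩ := hmove u x x u hu hxL hxL hu hux (Ne.symm hux) (-1) (neg_ne_zero.2 one_ne_zero) hsq
        (by ring)
      rw [h]; ring
    have hsub : L ⊆ {x, -x} := fun u hu => by
      by_cases hux : u = x <;> simp [hux]
      exact hall u hu hux
    have := Finset.card_le_card hsub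
    have := Finset.card_le_two (a := x) (b := -x)
    omega
  obtain ⟨ω, hωK, hω1⟩ := Finset.exists_mem_ne (by omega : 1 < K.card) 1
  obtain ⟨-, hω0, hωsq, hωL⟩ := Finset.mem_filter.1 hωK
  have hωm1 : ω ≠ -1 := fun h => hneg (h ▸ hωsq)
  have hω2 : ω * ω ≠ 1 := fun h => (mul_self_eq_one_iff.1 h).elim hω1 hωm1
  have hd3 : x ≠ ω * x ∧ x ≠ ω * (ω * x) ∧ ω * x ≠ ω * (ω * x) := by
    refine ⟨fun h => hω1 ?_, fun h => hω2 ?_, fun h => hω1 ?_⟩
    · exact mul_right_cancel₀ hx0 (h.symm.trans (one_mul x).symm)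
    · exact mul_right_cancel₀ hx0 ((mul_assoc _ _ _).trans (h.symm.trans (one_mul x).symm))
    · have h' := mul_left_cancel₀ hω0 h
      exact mul_right_cancel₀ hx0 (h'.symm.trans (one_mul x).symm)
  have hLeq : ({x, ω * x, ω * (ω * x)} : Finset (ZMod p)) = L := by
    refine Finset.eq_of_subset_of_card_le ?_ ?_
    · intro u hu
      simp only [Finset.mem_insert, Finset.mem_singleton] at hu
      rcases hu with rfl | rfl | rfl
      exacts [hxL, hωL _ hxL, hωL _ (hωL _ hxL)]
    · rw [Finset.card_eq_three.2 ⟨x, ω * x, ω * (ω * x), hd3.1, hd3.2.1, hd3.2.2, rfl⟩, hL3]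
  have hω : ω ^ 2 + ω + 1 = 0 := by
    have := hLsum
    rw [← hLeq, Finset.sum_insert (by simp [hd3.1, hd3.2.1]), Finset.sum_pair hd3.2.2] at this
    refine mul_right_cancel₀ hx0 ?_
    linear_combination this
  -- the third point of a line
  have hcard3 : ∀ a b, a ≠ b → (line a b).card = 3 := by
    intro a b hab
    obtain ⟨g, hg, h1, h1'⟩ := h2 0 1 a b zero_ne_one hab
    rw [← h1, ← h1', line_inv g hg, Finset.card_image_of_injective _ g.injective, ← hL0, hM]
  have huniq : ∀ {a b c d}, col a b c → col a b d → c = d := by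
    intro a b c d hc hd
    by_contra hcd
    have hsub : ({a, b, c, d} : Finset (ZMod p)) ⊆ line a b := by
      intro u hu
      simp only [Finset.mem_insert, Finset.mem_singleton] at hu
      rw [mem_line]
      rcases hu with rfl | rfl | rfl | rfl <;> simp [hc, hd]
    have := Finset.card_le_card hsub
    rw [hcard3 a b hc.1, Finset.card_insert_of_notMem (by simp [hc.1, hc.2.1, hd.2.1]),
      Finset.card_eq_three.2 ⟨b, c, d, hc.2.2.1, hd.2.2.1, hcd, rfl⟩] at this
    omega
  set b := x * (ω - 1) with hbdef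
  have hb0 : b ≠ 0 := mul_ne_zero hx0 (sub_ne_zero.2 hω1)
  have hthird : ∀ a d, d ≠ 0 → IsSquare (d / b) → col a (a + d) (a + (1 + ω) * d) := by
    intro a d hd hsq
    obtain ⟨g, hg, hgi⟩ := haff (d / b) (a - d / b * (z + x)) (div_ne_zero hd hb0) hsq
    have hk : d = d / b * (x * (ω - 1)) := by rw [← hbdef, div_mul_cancel₀ _ hb0]
    have e1 : g (x + z) = a := by rw [hgi]; ring
    have e2 : g (ω * x + z) = a + d := by rw [hgi]; linear_combination -hk
    have e3 : g (ω * (ω * x) + z) = a + (1 + ω) * d := by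
      rw [hgi]; linear_combination -(1 + ω) * hk
    have hxm := (hmemL x).1 hxL
    have hωm := (hmemL _).1 (hωL _ hxL)
    have hωωm := (hmemL _).1 (hωL _ (hωL _ hxL))
    have hne1 : x + z ≠ ω * x + z := by simpa using hd3.1
    have hmem : g (ω * (ω * x) + z) ∈ line (g (x + z)) (g (ω * x + z)) := by
      rw [line_inv g hg, line_eq hne1 hxm hωm]
      exact Finset.mem_image_of_mem g hωωm
    rw [e1, e2, e3] at hmem
    rcases mem_line.1 hmem with h | h | h
    · exact absurd (add_right_cancel (g.injective (e3.trans (h.trans e1.symm)))) hd3.2.1.symm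
    · exact absurd (add_right_cancel (g.injective (e3.trans (h.trans e2.symm)))) hd3.2.2.symm
    · exact h
  have hthird' : ∀ a d, d ≠ 0 → IsSquare (-d / b) → col a (a + d) (a - ω * d) := by
    intro a d hd hsq
    have h := col_swap (hthird (a + d) (-d) (neg_ne_zero.2 hd) hsq)
    rwa [add_neg_cancel_right, show a + d + (1 + ω) * -d = a - ω * d by ring] at h
  -- the involutions of the points of a line
  set γ := (1 + ω) * b with hγdef
  have hline : col 0 b γ := by
    simpa using hthird 0 b hb0 (by rw [div_self hb0]; exact IsSquare.one)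
  have hex : ∀ u v : ZMod p, ∃ w, u ≠ v → col u v w := fun u v => by
    by_cases h : u = v
    · exact ⟨0, fun h' => absurd h h'⟩
    · obtain ⟨w, hw⟩ := col_ex u v h; exact ⟨w, fun _ => hw⟩
  choose f hf using hex
  set Ln := line 0 b with hLn
  have hLnmem : (0 : ZMod p) ∈ Ln ∧ b ∈ Ln ∧ γ ∈ Ln :=
    ⟨mem_line.2 (Or.inl rfl), mem_line.2 (Or.inr (Or.inl rfl)), mem_line.2 (Or.inr (Or.inr hline))⟩
  let R := {u : ZMod p // u ∉ Ln}
  have hfR : ∀ a ∈ Ln, ∀ u : R, f a u.1 ∉ Ln := by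
    intro a ha u hmem
    have hau : a ≠ u.1 := fun h => u.2 (h ▸ ha)
    have hc := hf a u.1 hau
    apply u.2
    show u.1 ∈ line 0 b
    rw [← line_eq hc.2.1 ha hmem]
    exact mem_line.2 (Or.inr (Or.inr (col_symm hc)))
  have hinvol : ∀ a u, a ≠ u → f a (f a u) = u := fun a u hau =>
    huniq (hf a _ (hf a u hau).2.1) (col_symm (hf a u hau))
  let σ : {a // a ∈ Ln} → Equiv.Perm R := fun a =>
    { toFun := fun u => ⟨f a.1 u.1, hfR a.1 a.2 u⟩
      invFun := fun u => ⟨f a.1 u.1, hfR a.1 a.2 u⟩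
      left_inv := fun u => Subtype.ext (hinvol _ _ fun h => u.2 (h ▸ a.2))
      right_inv := fun u => Subtype.ext (hinvol _ _ fun h => u.2 (h ▸ a.2)) }
  -- maps commuting with the stabiliser of the line pointwise
  let E : Subgroup (Equiv.Perm R) :=
    { carrier := {h | ∀ g ∈ G, g 0 = 0 → g b = b → ∀ u v : R, g u.1 = v.1 → g (h u).1 = (h v).1}
      mul_mem' := fun {h h'} hh hh' g hg g0 gb u v huv => hh g hg g0 gb _ _ (hh' g hg g0 gb u v huv)
      one_mem' := fun g hg g0 gb u v huv => huv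
      inv_mem' := by
        intro h hh g hg g0 gb u v huv
        have hgL : ∀ w : R, g w.1 ∉ Ln := by
          intro w hw
          apply w.2
          have : g w.1 ∈ (line 0 b).image g := by rw [← line_inv g hg, g0, gb]; exact hw
          obtain ⟨w', hw', he⟩ := Finset.mem_image.1 this
          exact g.injective he ▸ hw'
        have h1 := hh g hg g0 gb (h⁻¹ u) ⟨_, hgL (h⁻¹ u)⟩ rfl
        rw [show h (h⁻¹ u) = u by simp, huv] at h1
        exact congrArg Subtype.val (show (⟨_, hgL (h⁻¹ u)⟩ : R) = h⁻¹ v by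
          rw [Equiv.Perm.eq_inv_iff_eq]; exact Subtype.ext h1.symm) }
  have hfixLn : ∀ g ∈ G, g 0 = 0 → g b = b → ∀ a ∈ Ln, g a = a := by
    intro g hg g0 gb a ha
    rcases mem_line.1 ha with h | h | h
    · rw [h]; exact g0
    · rw [h]; exact gb
    · have := col_inv h g hg
      rw [g0, gb] at this
      exact huniq this h
  have hσE : ∀ a, σ a ∈ E := by
    intro a g hg g0 gb u v huv
    show g (f a.1 u.1) = f a.1 v.1
    have hau : a.1 ≠ u.1 := fun h => u.2 (h ▸ a.2)
    have := col_inv (hf _ _ hau) g hg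
    rw [hfixLn g hg g0 gb _ a.2, huv] at this
    exact huniq this (hf _ _ this.1)
  have htrR : ∀ u v : R, ∃ g ∈ G, g 0 = 0 ∧ g b = b ∧ g u.1 = v.1 := by
    intro u v
    have hu0 : u.1 ≠ 0 := fun h => u.2 (h ▸ hLnmem.1)
    have hv0 : v.1 ≠ 0 := fun h => v.2 (h ▸ hLnmem.1)
    have hub : u.1 ≠ b := fun h => u.2 (h ▸ hLnmem.2.1)
    have hvb : v.1 ≠ b := fun h => v.2 (h ▸ hLnmem.2.1)
    obtain ⟨g, hg, g0, gb, h | h | h⟩ :=
      horb 0 b u.1 v.1 γ (Ne.symm hb0) hu0 hub hv0 hvb hline.2.1.symm hline.2.2.1.symm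
    · exact ⟨g, hg, g0, gb, h⟩
    · have := hfixLn g hg g0 gb γ hLnmem.2.2
      exact absurd (g.injective (h.trans this.symm)) fun e => u.2 (e ▸ hLnmem.2.2)
    · have := hfixLn g hg g0 gb γ hLnmem.2.2
      exact absurd (g.injective (h.trans this.symm)) fun e => v.2 (e ▸ hLnmem.2.2)
  have hsemi : ∀ h ∈ E, ∀ u : R, h u = u → h = 1 := by
    intro h hh u hu
    refine Equiv.ext fun v => Subtype.ext ?_
    obtain ⟨g, hg, g0, gb, hguv⟩ := htrR u v
    have := hh g hg g0 gb u v hguv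
    rw [hu, hguv] at this
    exact this.symm
  -- the rotation of the line
  obtain ⟨ρ, hρ, hρi⟩ := haff ω b hω0 hωsq
  have hρ0 : ρ 0 = b := by rw [hρi]; ring
  have hρb : ρ b = γ := by rw [hρi, hγdef]; ring
  have hρc : ρ γ = 0 := by rw [hρi, hγdef]; linear_combination b * hω
  have hρ3 : ∀ u, ρ (ρ (ρ u)) = u := fun u => by
    simp only [hρi]; linear_combination ((ω - 1) * u + b) * hω
  have hρL : ∀ u, ρ u ∈ Ln ↔ u ∈ Ln := by
    intro u
    have himg : Ln.image ρ = Ln := by
      rw [hLn, ← line_inv ρ hρ, hρ0, hρb, line_eq hline.2.2.1 hLnmem.2.1 hLnmem.2.2]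
    constructor
    · intro h
      rw [← himg] at h
      obtain ⟨w, hw, he⟩ := Finset.mem_image.1 h
      exact ρ.injective he ▸ hw
    · intro h
      rw [← himg]; exact Finset.mem_image_of_mem _ h
  let ρR : Equiv.Perm R := ρ.subtypePerm fun u => not_congr (hρL u)
  have hρR : ∀ u : R, (ρR u).1 = ρ u.1 := fun u => rfl
  have hρRi : ∀ u : R, ρ (ρR⁻¹ u).1 = u.1 := fun u => by rw [← hρR]; simp
  have hconjE : ∀ h ∈ E, ρR * h * ρR⁻¹ ∈ E := by
    intro h hh g hg g0 gb u v huv
    have hgγ := hfixLn g hg g0 gb γ hLnmem.2.2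
    have hmem : ρ⁻¹ * g * ρ ∈ G := G.mul_mem (G.mul_mem (G.inv_mem hρ) hg) hρ
    have k0 : (ρ⁻¹ * g * ρ) 0 = 0 := by
      simp only [Equiv.Perm.mul_apply, Equiv.Perm.inv_eq_iff_eq, hρ0, gb]
    have kb : (ρ⁻¹ * g * ρ) b = b := by
      simp only [Equiv.Perm.mul_apply, Equiv.Perm.inv_eq_iff_eq, hρb, hgγ]
    have kuv : (ρ⁻¹ * g * ρ) (ρR⁻¹ u).1 = (ρR⁻¹ v).1 := by
      simp only [Equiv.Perm.mul_apply, Equiv.Perm.inv_eq_iff_eq, hρRi, huv]
    have := hh _ hmem k0 kb _ _ kuv
    simp only [Equiv.Perm.mul_apply, Equiv.Perm.inv_eq_iff_eq] at this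
    simpa only [Equiv.Perm.mul_apply, hρR] using this
  have hctr : b / (1 - ω) ∉ Ln := by
    have h1ω : (1 : ZMod p) - ω ≠ 0 := sub_ne_zero.2 (Ne.symm hω1)
    intro h
    rcases mem_line.1 h with h | h | h
    · exact div_ne_zero hb0 h1ω h
    · rw [div_eq_iff h1ω] at h
      exact mul_ne_zero hb0 hω0 (by linear_combination h)
    · have h' := huniq h hline
      rw [div_eq_iff h1ω, hγdef] at h'
      exact mul_ne_zero hb0 (mul_ne_zero hω0 hω0) (by linear_combination h')
  have hfpf : ∀ h ∈ E, ρR * h * ρR⁻¹ = h → h = 1 := by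
    intro h hh hc
    refine hsemi h hh ⟨_, hctr⟩ (Subtype.ext ?_)
    have h1ω : (1 : ZMod p) - ω ≠ 0 := sub_ne_zero.2 (Ne.symm hω1)
    have hfix : ρR ⟨_, hctr⟩ = ⟨_, hctr⟩ := Subtype.ext (by rw [hρR, hρi]; field_simp; ring)
    have hc' : ρR (h ⟨_, hctr⟩) = h ⟨_, hctr⟩ := by
      conv_rhs => rw [← hc]
      rw [Equiv.Perm.mul_apply, Equiv.Perm.mul_apply, Equiv.Perm.inv_eq_iff_eq.2 hfix.symm]
    have := congrArg Subtype.val hc'
    rw [hρR, hρi] at this
    show (h ⟨_, hctr⟩).1 = b / (1 - ω)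
    rw [eq_div_iff h1ω]
    linear_combination -this
  let ψ : E → E := fun h => ⟨h.1⁻¹ * (ρR * h.1 * ρR⁻¹), E.mul_mem (E.inv_mem h.2) (hconjE _ h.2)⟩
  have hψinj : Function.Injective ψ := by
    intro h1 h1' he
    have e : h1.1⁻¹ * (ρR * h1.1 * ρR⁻¹) = h1'.1⁻¹ * (ρR * h1'.1 * ρR⁻¹) := congrArg Subtype.val he
    have hone := hfpf (h1'.1 * h1.1⁻¹) (E.mul_mem h1'.2 (E.inv_mem h1.2)) (by
      have e2 : ρR * h1'.1 * ρR⁻¹ = h1'.1 * (h1.1⁻¹ * (ρR * h1.1 * ρR⁻¹)) := by
        rw [e]; group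
      calc ρR * (h1'.1 * h1.1⁻¹) * ρR⁻¹ = (ρR * h1'.1 * ρR⁻¹) * (ρR * h1.1 * ρR⁻¹)⁻¹ := by group
        _ = h1'.1 * h1.1⁻¹ := by rw [e2]; group)
    exact Subtype.ext (mul_inv_eq_one.1 hone).symm
  obtain ⟨h0, hh0⟩ := Finite.surjective_of_injective hψinj ⟨σ ⟨0, hLnmem.1⟩, hσE _⟩
  have hσ0 : σ ⟨0, hLnmem.1⟩ = h0.1⁻¹ * (ρR * h0.1 * ρR⁻¹) := (congrArg Subtype.val hh0).symm
  have hσconj : ∀ a a' : {a // a ∈ Ln}, ρ a.1 = a'.1 → ρR * σ a * ρR⁻¹ = σ a' := by
    intro a a' haa
    rw [mul_inv_eq_iff_eq_mul]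
    refine Equiv.ext fun u => Subtype.ext ?_
    show ρ (f a.1 u.1) = f a'.1 (ρ u.1)
    have := col_inv (hf _ _ (fun h => u.2 (h ▸ a.2) : a.1 ≠ u.1)) ρ hρ
    rw [haa] at this
    exact huniq this (hf _ _ this.1)
  have hρR3 : ρR * ρR * ρR = 1 := Equiv.ext fun u => Subtype.ext (hρ3 u.1)
  have hprod : σ ⟨0, hLnmem.1⟩ * σ ⟨b, hLnmem.2.1⟩ * σ ⟨γ, hLnmem.2.2⟩ = 1 := by
    rw [← hσconj ⟨b, hLnmem.2.1⟩ ⟨γ, hLnmem.2.2⟩ hρb, ← hσconj ⟨0, hLnmem.1⟩ ⟨b, hLnmem.2.1⟩ hρ0, hσ0]
    calc _ = h0.1⁻¹ * ((ρR * ρR * ρR) * h0.1 * (ρR * ρR * ρR)⁻¹) := by group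
      _ = 1 := by rw [hρR3]; group
  have hγσ : ∀ u : R, f γ u.1 = f b (f 0 u.1) := by
    intro u
    have hinv : ∀ a, (σ a)⁻¹ = σ a := fun a => rfl
    have h : σ ⟨γ, hLnmem.2.2⟩ = σ ⟨b, hLnmem.2.1⟩ * σ ⟨0, hLnmem.1⟩ := by
      have := eq_inv_of_mul_eq_one_right hprod
      rwa [mul_inv_rev, hinv, hinv] at this
    exact congrArg Subtype.val (Equiv.congr_fun h u)
  -- evaluation at one point
  have h2n : (2 : ZMod p) ≠ 0 := fun h => by
    have h' : ((2 : ℕ) : ZMod p) = 0 := by exact_mod_cast h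
    rw [ZMod.natCast_eq_zero_iff] at h'
    exact absurd (Nat.le_of_dvd (by norm_num) h') (by omega)
  have h3n : (3 : ZMod p) ≠ 0 := fun h => by
    have h' : ((3 : ℕ) : ZMod p) = 0 := by exact_mod_cast h
    rw [ZMod.natCast_eq_zero_iff] at h'
    exact absurd (Nat.le_of_dvd (by norm_num) h') (by omega)
  have h7n : (7 : ZMod p) ≠ 0 := fun h => by
    have h' : ((7 : ℕ) : ZMod p) = 0 := by exact_mod_cast h
    rw [ZMod.natCast_eq_zero_iff] at h'
    exact absurd (Nat.le_of_dvd (by norm_num) h') (by omega)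
  have hmb : -b ∉ Ln := by
    intro h
    rcases mem_line.1 h with h | h | h
    · exact hb0 (neg_eq_zero.1 h)
    · exact mul_ne_zero h2n hb0 (by linear_combination -h)
    · have h' := huniq h hline
      rw [hγdef] at h'
      have hw : 2 + ω = 0 := (mul_eq_zero.1 (show (2 + ω) * b = 0 by linear_combination -h')).resolve_right hb0
      exact h3n (by linear_combination hω - (ω - 1) * hw)
  have hid := hγσ ⟨-b, hmb⟩
  have hf0 : f 0 (-b) = ω * b := by
    have h := hthird' 0 (-b) (neg_ne_zero.2 hb0) (by rw [neg_neg, div_self hb0]; exact IsSquare.one)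
    rw [zero_add] at h
    exact (huniq (hf 0 (-b) h.1) h).trans (by ring)
  simp only [hf0] at hid
  have hω2sq : IsSquare (ω ^ 2) := ⟨ω, sq ω⟩
  have hdich : IsSquare (ω - 1) ∨ IsSquare (-(ω - 1)) := by
    by_cases h : IsSquare (ω - 1)
    · exact Or.inl h
    refine Or.inr ?_
    have := hclass (-1) (ω - 1) (neg_ne_zero.2 one_ne_zero) (sub_ne_zero.2 hω1) (iff_of_false hneg h)
    rwa [div_neg, div_one] at this
  have hd1 : (ω - 1) * b ≠ 0 := mul_ne_zero (sub_ne_zero.2 hω1) hb0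
  have hd2 : -(2 + ω) * b ≠ 0 := by
    refine mul_ne_zero (neg_ne_zero.2 fun h => ?_) hb0
    exact h3n (by linear_combination hω - (ω - 1) * h)
  have eωb : b + (ω - 1) * b = ω * b := by ring
  have emb : γ + -(2 + ω) * b = -b := by rw [hγdef]; ring
  rcases hdich with hε | hε
  · have h1 := hthird b _ hd1 (by rwa [mul_div_cancel_right₀ _ hb0])
    rw [eωb] at h1
    have h1' := hthird' γ _ hd2 (by
      rw [show -(-(2 + ω) * b) = (2 + ω) * b by ring, mul_div_cancel_right₀ _ hb0,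
        show (2 + ω) = ω ^ 2 * (ω - 1) by linear_combination (2 - ω) * hω]
      exact hω2sq.mul hε)
    rw [emb] at h1'
    rw [← huniq h1 (hf _ _ h1.1), ← huniq h1' (hf _ _ h1'.1)] at hid
    have hw : ω = 2 := by
      have h : ω * b * (ω - 2) = 0 := by rw [hγdef] at hid; linear_combination -hid + b * hω
      rcases mul_eq_zero.1 h with h | h
      · exact absurd h (mul_ne_zero hω0 hb0)
      · exact sub_eq_zero.1 h
    exact h7n (by subst hw; linear_combination hω)
  · have h1 := hthird' b _ hd1 (by rwa [← neg_mul, mul_div_cancel_right₀ _ hb0])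
    rw [eωb] at h1
    have h1' := hthird γ _ hd2 (by
      rw [mul_div_cancel_right₀ _ hb0,
        show -(2 + ω) = ω ^ 2 * -(ω - 1) by linear_combination -(2 - ω) * hω]
      exact hω2sq.mul hε)
    rw [emb] at h1'
    rw [← huniq h1 (hf _ _ h1.1), ← huniq h1' (hf _ _ h1'.1)] at hid
    have h : (3 * ω + 2) * b = 0 := by
      rw [hγdef] at hid; linear_combination -hid
    have hw : 3 * ω + 2 = 0 := (mul_eq_zero.1 h).resolve_right hb0
    exact h7n (by linear_combination 9 * hω - (3 * ω + 1) * hw)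

end Cfsg.Lib.Perm.PrimeHalf
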