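import Mathlib
import Cfsg.Prelude.Def_Perm
import Cfsg.Agent.S0673
import Cfsg.Agent.Lib.Perm.PrimeDegree

/-! The heart of the permutation module of a transitive group of prime degree in characteristic `p`. -/

set_option autoImplicit false

namespace Cfsg.Agent.PrimeDegree

open Polynomial

variable {p : ℕ} [Fact p.Prime] {K : Type*} [Field K] [CharP K p]

theorem cast_injective_zmod : Function.Injective (fun j : ZMod p => (ZMod.cast j : K)) :=
  (ZMod.castHom dvd_rfl K).injective

theorem poly_unique (P Q : K[X]) (hP : P.degree < p) (hQ : Q.degree < p)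
    (h : ∀ j : ZMod p, P.eval (ZMod.cast j : K) = Q.eval (ZMod.cast j : K)) : P = Q := by
  rw [← sub_eq_zero]
  refine Polynomial.eq_zero_of_degree_lt_of_eval_index_eq_zero (s := (Finset.univ : Finset (ZMod p)))
    (v := fun j : ZMod p => (ZMod.cast j : K)) cast_injective_zmod.injOn ?_ (fun j _ => by simp [h])
  rw [Finset.card_univ, ZMod.card]
  exact lt_of_le_of_lt (Polynomial.degree_sub_le P Q) (max_lt hP hQ)

theorem sum_eval_eq (P : K[X]) (hP : P.natDegree < p) :
    ∑ j : ZMod p, P.eval (ZMod.cast j : K) = -P.coeff (p - 1) := by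
  classical
  have hp : p.Prime := Fact.out
  simp only [Polynomial.eval_eq_sum_range' hP]
  rw [Finset.sum_comm, Finset.sum_eq_single (p - 1)]
  · rw [← Finset.mul_sum]
    have : ∑ j : ZMod p, (ZMod.cast j : K) ^ (p - 1) = -1 := by
      have h1 : ∀ j : ZMod p, (ZMod.cast j : K) ^ (p - 1) = if j = 0 then 0 else 1 := by
        intro j
        by_cases hj : j = 0
        · subst hj
          have : p - 1 ≠ 0 := by have := hp.two_le; omega
          simp [this]
        · rw [if_neg hj, ← ZMod.castHom_apply (R := K) (h := dvd_rfl), ← map_pow,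
            ZMod.pow_card_sub_one_eq_one hj, map_one]
      simp only [h1, Finset.sum_ite, Finset.sum_const_zero, zero_add, Finset.sum_const,
        nsmul_eq_mul, mul_one]
      rw [show ((Finset.univ.filter fun j : ZMod p => ¬ j = 0)) = Finset.univ.erase 0 by ext; simp,
        Finset.card_erase_of_mem (Finset.mem_univ _), Finset.card_univ, ZMod.card,
        Nat.cast_sub hp.one_le, CharP.cast_eq_zero, Nat.cast_one, zero_sub]
    rw [this]; ring
  · intro i hi hne
    rw [← Finset.mul_sum]
    have h2 := congrArg (ZMod.castHom (dvd_refl p) K) (FiniteField.sum_pow_lt_card_sub_one (K := ZMod p) i (by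
      rw [ZMod.card]; have := Finset.mem_range.mp hi; omega))
    rw [map_sum, map_zero] at h2
    simp only [map_pow, ZMod.castHom_apply] at h2
    rw [h2, mul_zero]
  · intro h
    exact absurd (Finset.mem_range.mpr (by have := hp.one_le; omega)) h

/-- A permutation of `ZMod p` preserving the space of polynomial functions of degree less than `R`
is affine, if `2 ≤ R` and `2 * R ≤ p + 1`. -/
theorem affine_of_invariant (π : Equiv.Perm (ZMod p)) {R : ℕ} (hR : 2 ≤ R) (hRp : 2 * R ≤ p + 1)
    (hinv : ∀ P : K[X], P.degree < R → ∃ Q : K[X], Q.degree < R ∧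
      ∀ j : ZMod p, P.eval (ZMod.cast (π j) : K) = Q.eval (ZMod.cast j : K)) (x : ZMod p) :
    π x = (π 1 - π 0) * x + π 0 := by
  have hp : p.Prime := Fact.out
  obtain ⟨P, hP, hPπ⟩ := hinv X (by rw [degree_X]; exact_mod_cast hR)
  simp only [eval_X] at hPπ
  rcases Nat.lt_or_ge P.natDegree 2 with hn | hn
  · have hPC := eq_X_add_C_of_natDegree_le_one (p := P) (by omega)
    refine cast_injective_zmod (K := K) ?_
    have key : ∀ y, (ZMod.cast (π y) : K) = P.coeff 1 * (ZMod.cast y : K) + P.coeff 0 := fun y => by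
      conv_lhs => rw [hPπ y, hPC]
      simp
    show ZMod.castHom dvd_rfl K (π x) = ZMod.castHom dvd_rfl K ((π 1 - π 0) * x + π 0)
    simp only [map_add, map_mul, map_sub]
    simp only [ZMod.castHom_apply, key]
    rw [← ZMod.castHom_apply (h := dvd_rfl) (R := K) (1 : ZMod p), map_one,
      ← ZMod.castHom_apply (h := dvd_rfl) (R := K) (0 : ZMod p), map_zero]
    ring
  exfalso
  set n := P.natDegree with hn'
  set j := (R + n - 1) / n with hj
  have hj1 : R ≤ j * n := by
    have := Nat.lt_div_mul_add (a := R + n - 1) (b := n) (by omega)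
    rw [← hj] at this; omega
  have hj2 : j * n ≤ R + n - 1 := Nat.div_mul_le_self _ _
  have hjr : j < R := by
    by_contra hh
    have := Nat.mul_le_mul_right n (Nat.le_of_not_lt hh)
    have h2 : R + n ≤ R * n := by nlinarith
    omega
  have hnr : n < R := by
    have hP0 : P ≠ 0 := by intro h; rw [hn', h] at hn; simp at hn
    exact (natDegree_lt_iff_degree_lt hP0).mpr hP
  obtain ⟨Q, hQ, hQπ⟩ := hinv (X ^ j) (by rw [degree_X_pow]; exact_mod_cast hjr)
  have hlt : j * n < p := by omega
  have hRle : R ≤ p := by omega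
  have heq : P ^ j = Q := poly_unique _ _ (lt_of_le_of_lt degree_le_natDegree
    (by rw [natDegree_pow]; exact_mod_cast hlt))
    (lt_of_lt_of_le hQ (by exact_mod_cast hRle))
    (fun y => by rw [eval_pow, ← hPπ y, ← hQπ y, eval_pow, eval_X])
  have hQ0 : Q ≠ 0 := by
    intro h
    have h1 := congrArg Polynomial.natDegree heq
    rw [natDegree_pow, h, natDegree_zero, ← hn'] at h1
    omega
  have h1 := (natDegree_lt_iff_degree_lt hQ0).mpr hQ
  rw [← heq, natDegree_pow, ← hn'] at h1
  omega

variable {α : Type*} [Fintype α] [DecidableEq α]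

/-- The heart of the permutation module of a non-solvable group of prime degree is irreducible. -/
theorem heart_irreducible (hα : Fintype.card α = p) (G : Subgroup (Equiv.Perm α))
    [MulAction.IsPretransitive G α] (hG : ¬ Group.IsSolvable G)
    (W : Subrepresentation (Cfsg.permRep K G α))
    (h₁ : (Cfsg.permConstants K G α).toSubmodule ≤ W.toSubmodule)
    (h₂ : W.toSubmodule ≤ (Cfsg.permSumZero K G α).toSubmodule) :
    W.toSubmodule = (Cfsg.permConstants K G α).toSubmodule ∨
      W.toSubmodule = (Cfsg.permSumZero K G α).toSubmodule := by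
  classical
  have hp : p.Prime := Fact.out
  obtain ⟨e, he⟩ := exists_numbering hα G
  set V : Submodule K (ZMod p → K) := W.toSubmodule.comap (LinearMap.funLeft K K e.symm) with hV
  have hmem : ∀ f, f ∈ V ↔ (fun x => f (e.symm x)) ∈ W.toSubmodule := fun f => Iff.rfl
  have hmem' : ∀ φ : α → K, φ ∈ W.toSubmodule ↔ (fun j => φ (e j)) ∈ V := fun φ => by
    rw [hmem]; simp
  have hinv : ∀ g ∈ G, ∀ f ∈ V, (fun j => f (e.symm (g (e j)))) ∈ V := by
    intro g hg f hf
    rw [hmem] at hf ⊢
    have := W.apply_mem_toSubmodule (⟨g, hg⟩⁻¹ : G) hf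
    convert this using 1
    funext x
    show _ = f (e.symm (((⟨g, hg⟩⁻¹ : G)⁻¹ : G) • x))
    rw [inv_inv, e.apply_symm_apply]; rfl
  have hsh : ∀ f ∈ V, (fun j => f (j - 1)) ∈ V := by
    intro f hf
    obtain ⟨t, ht, ht'⟩ := he (-1)
    have := hinv t ht f hf
    simpa [ht', sub_eq_add_neg] using this
  obtain ⟨r, hrp, -, hr⟩ := Cfsg.Agent.S0673.result (K := K) V hsh
  have hsum : ∀ f ∈ V, ∑ j, f j = 0 := by
    intro f hf
    have h0 : ∑ x, f (e.symm x) = 0 := h₂ ((hmem f).mp hf)
    rw [← h0]; exact (Equiv.sum_comp e.symm f).symm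
  have hr1 : 1 ≤ r := by
    by_contra hh
    obtain ⟨P, hP, hP1⟩ := (hr _).mp ((hmem (fun _ => 1)).mpr (h₁ (Submodule.mem_span_singleton_self _)))
    rw [show r = 0 by omega] at hP
    have hP0 : P = 0 := Polynomial.degree_eq_bot.mp (by simpa using hP)
    have := hP1 0
    rw [hP0, eval_zero] at this
    exact one_ne_zero this
  have hrlt : r < p := by
    by_contra hh
    have hV' : (fun j : ZMod p => (ZMod.cast j : K) ^ (p - 1)) ∈ V :=
      (hr _).mpr ⟨X ^ (p - 1), by rw [degree_X_pow]; exact_mod_cast (by omega), fun j => by simp⟩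
    have := hsum _ hV'
    have h' := sum_eval_eq (K := K) (p := p) (X ^ (p - 1)) (by rw [natDegree_X_pow]; omega)
    simp only [eval_pow, eval_X, coeff_X_pow, if_pos rfl] at h'
    rw [this] at h'
    simp at h'
  rcases Nat.lt_or_ge r 2 with hr2 | hr2
  · left
    refine le_antisymm (fun φ hφ => ?_) h₁
    obtain ⟨P, hP, hPφ⟩ := (hr _).mp ((hmem' φ).mp hφ)
    have hPc : P.degree ≤ 0 := by
      rcases hd : P.degree with _ | d
      · exact bot_le
      · rw [hd] at hP
        have := WithBot.coe_lt_coe.mp hP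
        exact WithBot.coe_le_coe.mpr (by simp at this ⊢; omega)
    have hPC := eq_C_of_degree_le_zero hPc
    refine Submodule.mem_span_singleton.mpr ⟨P.coeff 0, funext fun x => ?_⟩
    have := hPφ (e.symm x)
    rw [e.apply_symm_apply, hPC] at this
    rw [this]; simp
  rcases Nat.lt_or_ge r (p - 1) with hr3 | hr3
  · exfalso
    apply hG
    obtain ⟨R, hR, hRp, hRinv⟩ : ∃ R, 2 ≤ R ∧ 2 * R ≤ p + 1 ∧ ∀ g ∈ G, ∀ P : K[X], P.degree < R →
        ∃ Q : K[X], Q.degree < R ∧
          ∀ j : ZMod p, P.eval (ZMod.cast (e.symm (g (e j))) : K) = Q.eval (ZMod.cast j : K) := by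
      rcases Nat.le_total (2 * r) p with hle | hle
      · exact ⟨r, hr2, by omega, fun g hg P hP =>
          (hr _).mp (hinv g hg _ ((hr _).mpr ⟨P, hP, fun j => rfl⟩))⟩
      let U : Submodule K (ZMod p → K) :=
        { carrier := {f | ∀ g ∈ V, ∑ j, f j * g j = 0}
          add_mem' := fun {a b} ha hb g hg => by
            simp only [Pi.add_apply, add_mul, Finset.sum_add_distrib, ha g hg, hb g hg, add_zero]
          zero_mem' := fun g _ => by simp
          smul_mem' := fun c a ha g hg => by
            simp only [Pi.smul_apply, smul_eq_mul, mul_assoc, ← Finset.mul_sum, ha g hg, mul_zero] }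
      have hUinv : ∀ g ∈ G, ∀ f ∈ U, (fun j => f (e.symm (g (e j)))) ∈ U := by
        intro g hg f hf k hk
        rw [← hf _ (hinv g⁻¹ (G.inv_mem hg) k hk)]
        refine Fintype.sum_equiv (e.trans (g.trans e.symm)) _ _ fun j => ?_
        simp
      have hUsh : ∀ f ∈ U, (fun j => f (j - 1)) ∈ U := by
        intro f hf
        obtain ⟨t, ht, ht'⟩ := he (-1)
        have := hUinv t ht f hf
        simpa [ht', sub_eq_add_neg] using this
      obtain ⟨s, hsp, -, hs⟩ := Cfsg.Agent.S0673.result (K := K) U hUsh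
      have hsle : s ≤ p - r := by
        by_contra hh
        have hmU : (fun j : ZMod p => (ZMod.cast j : K) ^ (p - r)) ∈ U :=
          (hs _).mpr ⟨X ^ (p - r), by rw [degree_X_pow]; exact_mod_cast (by omega), fun j => by simp⟩
        have := hmU (fun j : ZMod p => (ZMod.cast j : K) ^ (r - 1))
          ((hr _).mpr ⟨X ^ (r - 1), by rw [degree_X_pow]; exact_mod_cast (by omega), fun j => by simp⟩)
        have h' := sum_eval_eq (K := K) (p := p) (X ^ (p - 1)) (by rw [natDegree_X_pow]; omega)
        simp only [eval_pow, eval_X, coeff_X_pow, if_pos rfl] at h'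
        simp only [← pow_add, show p - r + (r - 1) = p - 1 by omega] at this
        rw [this] at h'
        simp at h'
      have hUmem : ∀ P : K[X], P.degree < (p - r : ℕ) → (fun j : ZMod p => P.eval (ZMod.cast j : K)) ∈ U := by
        intro P hP k hk
        obtain ⟨Q, hQ, hQk⟩ := (hr _).mp hk
        simp only [hQk, ← eval_mul]
        rcases eq_or_ne P 0 with hP0 | hP0
        · simp [hP0]
        rcases eq_or_ne Q 0 with hQ0 | hQ0
        · simp [hQ0]
        have h1 := (natDegree_lt_iff_degree_lt hP0).mpr hP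
        have h2 := (natDegree_lt_iff_degree_lt hQ0).mpr hQ
        have h3 : (P * Q).natDegree < p - 1 :=
          lt_of_le_of_lt natDegree_mul_le (by omega)
        rw [sum_eval_eq _ (by omega), coeff_eq_zero_of_natDegree_lt h3, neg_zero]
      refine ⟨p - r, by omega, by omega, fun g hg P hP => ?_⟩
      obtain ⟨Q, hQ, hQ'⟩ := (hs _).mp (hUinv g hg _ (hUmem P hP))
      exact ⟨Q, lt_of_lt_of_le hQ (by exact_mod_cast hsle), hQ'⟩
    exact isSolvable_of_affine G e fun g hg i =>
      affine_of_invariant (K := K) (e.trans (g.trans e.symm)) hR hRp (hRinv g hg) i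
  · right
    refine le_antisymm h₂ fun φ hφ => ?_
    rw [hmem', hr]
    obtain ⟨P, hP, hPφ⟩ : ∃ P : K[X], P.degree < p ∧ ∀ j : ZMod p, φ (e j) = P.eval (ZMod.cast j : K) :=
      ⟨Lagrange.interpolate Finset.univ (fun j : ZMod p => (ZMod.cast j : K)) (fun j => φ (e j)), by
        have := Lagrange.degree_interpolate_lt (r := fun j => φ (e j))
          (s := (Finset.univ : Finset (ZMod p)))
          (v := fun j : ZMod p => (ZMod.cast j : K)) cast_injective_zmod.injOn
        simpa [Finset.card_univ, ZMod.card] using this, fun j =>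
          (Lagrange.eval_interpolate_at_node (r := fun j => φ (e j)) cast_injective_zmod.injOn
            (Finset.mem_univ j)).symm⟩
    refine ⟨P, ?_, hPφ⟩
    have hr' : r = p - 1 := by omega
    rcases eq_or_ne P 0 with hP0 | hP0
    · rw [hP0, degree_zero]; exact WithBot.bot_lt_coe _
    have hnd := (natDegree_lt_iff_degree_lt hP0).mpr hP
    have h0 : ∑ j : ZMod p, φ (e j) = 0 := by
      rw [Equiv.sum_comp e φ]; exact hφ
    simp only [hPφ] at h0
    rw [sum_eval_eq _ hnd, neg_eq_zero] at h0
    refine (natDegree_lt_iff_degree_lt hP0).mp ?_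
    rw [hr']
    rcases Nat.lt_or_ge P.natDegree (p - 1) with h | h
    · exact h
    · exfalso
      have : P.natDegree = p - 1 := by omega
      exact hP0 (leadingCoeff_eq_zero.mp (by rw [leadingCoeff, this, h0]))

end Cfsg.Agent.PrimeDegree
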