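import Cfsg.Agent.S3612
import Cfsg.Agent.S0676
import Cfsg.Agent.S0989
import Cfsg.Agent.Lib.Perm.PrimeDegreeIndex

/-!
# Groups of prime degree `q + 2` with half Sylow normaliser

Two point stabilisers are transitive of prime degree `q`, insoluble, and have index two in the
stabiliser of the pair, whose Sylow `q`-normaliser is therefore of even order.
-/

set_option autoImplicit false
set_option linter.style.haveILetI false
set_option linter.unusedSectionVars false

open MulAction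

namespace Cfsg.Lib.Perm.PrimeTwin

variable {p q : ℕ} [Fact p.Prime] [Fact q.Prime] {α : Type*} [Fintype α] [DecidableEq α]
  (hα : Fintype.card α = p) (G : Subgroup (Equiv.Perm α)) [MulAction.IsPretransitive G α]
  (hG : ¬ Group.IsSolvable G) (P : Sylow p G)
  (hN : 2 * Nat.card (Subgroup.normalizer ((P : Subgroup G) : Set G)) = p * (p - 1))

include hα hN in
theorem ne_top : G ≠ ⊤ := by
  classical
  have hp : p.Prime := Fact.out
  rintro rfl
  let ε : (⊤ : Subgroup (Equiv.Perm α)) ≃* Equiv.Perm α := Subgroup.topEquiv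
  let P' : Sylow p (Equiv.Perm α) := P.mapSurjective (f := ε.toMonoidHom) ε.surjective
  have h1 : Subgroup.normalizer ((P' : Subgroup (Equiv.Perm α)) : Set (Equiv.Perm α)) =
      (Subgroup.normalizer ((P : Subgroup (⊤ : Subgroup (Equiv.Perm α))) :
        Set (⊤ : Subgroup (Equiv.Perm α)))).map ε.toMonoidHom := by
    rw [Subgroup.map_equiv_normalizer_eq (P : Subgroup (⊤ : Subgroup (Equiv.Perm α))) ε]; rfl
  have h2 := Cfsg.Agent.S0989.result p (Or.inl hα) P'
  rw [h1, Subgroup.card_map_of_injective (f := ε.toMonoidHom) ε.injective] at h2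
  rw [h2] at hN
  have h3 : 0 < p * (p - 1) := Nat.mul_pos hp.pos (by have := hp.two_le; omega)
  omega

include hα hG P hN in
/-- A two point stabiliser is transitive on the other points. -/
theorem transitive_pair (hp7 : 7 < p) {a b c d : α} (hab : a ≠ b) (hca : c ≠ a) (hcb : c ≠ b)
    (hda : d ≠ a) (hdb : d ≠ b) (hq : p = q + 2) : ∃ g ∈ G, g a = a ∧ g b = b ∧ g c = d := by
  classical
  have hp : p.Prime := Fact.out
  have hqp : q.Prime := Fact.out
  by_contra hcon
  have hN' : p * (p - 1) ≤ 2 * Nat.card (Subgroup.normalizer ((P : Subgroup G) : Set G)) := hN.ge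
  let S : Subgroup G := stabilizer G a ⊓ stabilizer G b
  have hS : ∀ g : G, g ∈ S ↔ (g : Equiv.Perm α) a = a ∧ (g : Equiv.Perm α) b = b := fun g => by
    rw [Subgroup.mem_inf, mem_stabilizer_iff, mem_stabilizer_iff]; rfl
  let Rel : α → α → Prop := fun u v => ∃ g ∈ G, g a = a ∧ g b = b ∧ g u = v
  have hrefl : ∀ u, Rel u u := fun u => ⟨1, G.one_mem, rfl, rfl, rfl⟩
  have hsymm : ∀ u v, Rel u v → Rel v u := by
    rintro u v ⟨g, hg, ga, gb, gu⟩
    exact ⟨g⁻¹, G.inv_mem hg, by rw [Equiv.Perm.inv_eq_iff_eq, ga], by rw [Equiv.Perm.inv_eq_iff_eq, gb],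
      by rw [Equiv.Perm.inv_eq_iff_eq, gu]⟩
  have htrans : ∀ u v w, Rel u v → Rel v w → Rel u w := by
    rintro u v w ⟨g, hg, ga, gb, gu⟩ ⟨k, hk, ka, kb, kv⟩
    exact ⟨k * g, G.mul_mem hk hg, by simp [ga, ka], by simp [gb, kb], by simp [gu, kv]⟩
  have htwo : ∀ u, u ≠ a → u ≠ b → Rel c u ∨ Rel d u := by
    intro u hua hub
    obtain ⟨g, hg, ga, gb, h | h | h⟩ :=
      Cfsg.Lib.Perm.PrimeHalf.two_orbits hα G hG P hN' hab hca hcb hda hdb hua hub
    · exact absurd ⟨g, hg, ga, gb, h⟩ hcon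
    · exact Or.inl ⟨g, hg, ga, gb, h⟩
    · exact Or.inr ⟨g, hg, ga, gb, h⟩
  have hncd : ¬ Rel c d := fun ⟨g, hg, ga, gb, gu⟩ => hcon ⟨g, hg, ga, gb, gu⟩
  -- the two orbit sizes
  let O : α → Finset α := fun u => Finset.univ.filter (Rel u)
  have hO : ∀ u v, v ∈ O u ↔ Rel u v := fun u v => by simp [O]
  have hOne : ∀ u, u ≠ a → u ≠ b → ∀ v ∈ O u, v ≠ a ∧ v ≠ b := by
    intro u hua hub v hv
    obtain ⟨g, -, ga, gb, rfl⟩ := (hO u v).1 hv
    exact ⟨fun h => hua (g.injective (h.trans ga.symm)), fun h => hub (g.injective (h.trans gb.symm))⟩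
  have hcover : O c ∪ O d = (Finset.univ.erase a).erase b := by
    ext v
    rw [Finset.mem_union, Finset.mem_erase, Finset.mem_erase, hO, hO]
    constructor
    · rintro (h | h)
      · exact ⟨(hOne c hca hcb v ((hO c v).2 h)).2, (hOne c hca hcb v ((hO c v).2 h)).1, Finset.mem_univ _⟩
      · exact ⟨(hOne d hda hdb v ((hO d v).2 h)).2, (hOne d hda hdb v ((hO d v).2 h)).1, Finset.mem_univ _⟩
    · rintro ⟨hvb, hva, -⟩; exact htwo v hva hvb
  have hdisj : Disjoint (O c) (O d) := Finset.disjoint_left.2 fun v h1 h2 =>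
    hncd (htrans _ _ _ ((hO c v).1 h1) (hsymm _ _ ((hO d v).1 h2)))
  have hsum : (O c).card + (O d).card = q := by
    rw [← Finset.card_union_of_disjoint hdisj, hcover, Finset.card_erase_of_mem (by simp [hab.symm]),
      Finset.card_erase_of_mem (Finset.mem_univ a), Finset.card_univ, hα]
    omega
  -- choose the smaller orbit
  obtain ⟨c', d', hc'a, hc'b, hd'a, hd'b, hn', hsum', hlt, htwo'⟩ : ∃ c' d', c' ≠ a ∧ c' ≠ b ∧ d' ≠ a ∧ d' ≠ b ∧
      ¬ Rel c' d' ∧ (O c').card + (O d').card = q ∧ (O c').card < (O d').card ∧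
      ∀ u, u ≠ a → u ≠ b → Rel c' u ∨ Rel d' u := by
    have hodd := hqp.odd_of_ne_two (by omega)
    rcases lt_trichotomy (O c).card (O d).card with h | h | h
    · exact ⟨c, d, hca, hcb, hda, hdb, hncd, hsum, h, htwo⟩
    · obtain ⟨k, hk⟩ := hodd; omega
    · exact ⟨d, c, hda, hdb, hca, hcb, fun h' => hncd (hsymm _ _ h'), by omega, h,
        fun u h1 h2 => (htwo u h1 h2).symm⟩
  -- the stabiliser of the pair is transitive on the product of the two orbits
  have horbit : ∀ u, (orbit S u).ncard = (O u).card := fun u => by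
    rw [← Set.ncard_coe_finset]
    congr 1
    ext v
    rw [Finset.mem_coe, hO, mem_orbit_iff]
    constructor
    · rintro ⟨⟨g, hg⟩, rfl⟩; exact ⟨g, g.2, ((hS g).1 hg).1, ((hS g).1 hg).2, rfl⟩
    · rintro ⟨g, hg, ga, gb, gu⟩; exact ⟨⟨⟨g, hg⟩, (hS _).2 ⟨ga, gb⟩⟩, gu⟩
  have hcop : ∀ u v, Rel c' u → Rel d' v → ∃ g ∈ G, g a = a ∧ g b = b ∧ g c' = u ∧ g d' = v := by
    intro u v hu hv
    have hsub : orbit S (c', d') ⊆ (O c' : Set α) ×ˢ (O d' : Set α) := by
      rintro _ ⟨⟨g, hg⟩, rfl⟩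
      exact ⟨(hO _ _).2 ⟨g, g.2, ((hS g).1 hg).1, ((hS g).1 hg).2, rfl⟩,
        (hO _ _).2 ⟨g, g.2, ((hS g).1 hg).1, ((hS g).1 hg).2, rfl⟩⟩
    have hle1 : stabilizer S (c', d') ≤ stabilizer S c' := fun g hg => congrArg Prod.fst hg
    have hle2 : stabilizer S (c', d') ≤ stabilizer S d' := fun g hg => congrArg Prod.snd hg
    have h1 := Subgroup.index_dvd_of_le hle1
    have h2 := Subgroup.index_dvd_of_le hle2
    rw [index_stabilizer, index_stabilizer, horbit] at h1 h2
    have hpos : 0 < (O c').card := Finset.card_pos.2 ⟨c', (hO _ _).2 (hrefl c')⟩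
    have hco : Nat.Coprime (O c').card (O d').card := by
      have : Nat.Coprime (O c').card q := ((Nat.Prime.coprime_iff_not_dvd hqp).2 (Nat.not_dvd_of_pos_of_lt hpos (by omega))).symm
      rwa [← hsum', Nat.coprime_self_add_right] at this
    have hcard : ((O c' : Set α) ×ˢ (O d' : Set α)).ncard ≤ (orbit S (c', d')).ncard := by
      rw [Set.ncard_prod, Set.ncard_coe_finset, Set.ncard_coe_finset]
      exact Nat.le_of_dvd ((MulAction.nonempty_orbit _).ncard_pos) (hco.mul_dvd_of_dvd_of_dvd h1 h2)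
    have heq := Set.eq_of_subset_of_ncard_le hsub hcard
    have hmem : (u, v) ∈ orbit S (c', d') := heq.symm ▸ ⟨(hO _ _).2 hu, (hO _ _).2 hv⟩
    obtain ⟨⟨g, hg⟩, he⟩ := hmem
    exact ⟨g, g.2, ((hS g).1 hg).1, ((hS g).1 hg).2, congrArg Prod.fst he, congrArg Prod.snd he⟩
  -- the graph of the smaller orbit in the stabiliser of a point
  let adj : α → α → Prop := fun u v => u ≠ a ∧ v ≠ a ∧ u ≠ v ∧ ∃ g ∈ G, g a = a ∧ g u = b ∧ Rel c' (g v)
  have hadj_any : ∀ {u v}, adj u v → ∀ g ∈ G, g a = a → g u = b → Rel c' (g v) := by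
    rintro u v ⟨-, -, -, g, hg, ga, gu, gv⟩ k hk ka ku
    refine htrans _ _ _ gv ⟨k * g⁻¹, G.mul_mem hk (G.inv_mem hg), ?_, ?_, by simp⟩
    · rw [Equiv.Perm.mul_apply, Equiv.Perm.inv_eq_iff_eq.2 ga.symm, ka]
    · rw [Equiv.Perm.mul_apply, Equiv.Perm.inv_eq_iff_eq.2 gu.symm, ku]
  have hadj_inv : ∀ {u v}, adj u v → ∀ k ∈ G, k a = a → adj (k u) (k v) := by
    rintro u v ⟨hua, hva, huv, g, hg, ga, gu, gv⟩ k hk ka
    refine ⟨fun h => hua (k.injective (h.trans ka.symm)), fun h => hva (k.injective (h.trans ka.symm)),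
      k.injective.ne huv, g * k⁻¹, G.mul_mem hg (G.inv_mem hk), ?_, by simp [gu], by simpa using gv⟩
    rw [Equiv.Perm.mul_apply, Equiv.Perm.inv_eq_iff_eq.2 ka.symm, ga]
  have h2t : MulAction.IsMultiplyPretransitive G α 2 :=
    (Cfsg.Agent.PrimeDegree.two_transitive_or_affine hα G).resolve_right
      (fun ⟨e', h'⟩ => hG (Cfsg.Agent.PrimeDegree.isSolvable_of_affine G e' h'))
  have hto : ∀ u, u ≠ a → ∃ g ∈ G, g a = a ∧ g u = b := fun u hu => by
    obtain ⟨g, h1, h1'⟩ := (MulAction.is_two_pretransitive_iff.mp h2t) hu.symm hab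
    exact ⟨g.1, g.2, h1, h1'⟩
  have hadj_b : ∀ v, adj b v ↔ Rel c' v := fun v => by
    constructor
    · intro h; exact hadj_any h 1 G.one_mem rfl rfl
    · intro h
      have := hOne c' hc'a hc'b v ((hO _ _).2 h)
      exact ⟨hab.symm, this.1, this.2.symm, 1, G.one_mem, rfl, rfl, h⟩
  have hnadj : ∀ {u v}, u ≠ a → v ≠ a → u ≠ v → ¬ adj u v → ∀ g ∈ G, g a = a → g u = b → Rel d' (g v) := by
    intro u v hua hva huv hn g hg ga gu
    refine (htwo' (g v) (fun h => hva (g.injective (h.trans ga.symm)))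
      (fun h => huv (g.injective (gu.trans h.symm)))).resolve_left fun h => hn ⟨hua, hva, huv, g, hg, ga, gu, h⟩
  -- symmetry, from an involution fixing the point
  have hadj_symm : ∀ {u v}, adj u v → adj v u := by
    have h2dvd : 2 ∣ Nat.card (stabilizer G a) := by
      haveI : IsPretransitive (stabilizer G a) (SubMulAction.ofStabilizer G a) := by
        refine ⟨fun ⟨x, hx⟩ ⟨y, hy⟩ => ?_⟩
        rw [SubMulAction.mem_ofStabilizer_iff] at hx hy
        obtain ⟨g, hg, ga, gx⟩ := hto x hx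
        obtain ⟨k, hk, ka, ky⟩ := hto y hy
        refine ⟨⟨⟨k⁻¹ * g, G.mul_mem (G.inv_mem hk) hg⟩, ?_⟩, Subtype.ext ?_⟩
        · show (k⁻¹ * g) a = a
          rw [Equiv.Perm.mul_apply, ga, Equiv.Perm.inv_eq_iff_eq, ka]
        · show (k⁻¹ * g) x = y
          rw [Equiv.Perm.mul_apply, gx, Equiv.Perm.inv_eq_iff_eq, ky]
      have := (stabilizer (stabilizer G a) (⟨b, hab.symm⟩ : SubMulAction.ofStabilizer G a)).index_dvd_card
      rw [index_stabilizer_of_transitive] at this
      have hc : Nat.card (SubMulAction.ofStabilizer G a) = p - 1 := by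
        rw [Nat.card_eq_fintype_card, show Fintype.card (SubMulAction.ofStabilizer G a) =
          Fintype.card {x : α // x ≠ a} from Fintype.card_congr (Equiv.subtypeEquivRight fun x =>
            SubMulAction.mem_ofStabilizer_iff G a), Fintype.card_subtype_compl, hα, Fintype.card_subtype_eq]
      rw [hc] at this
      exact (even_iff_two_dvd.1 (hp.even_sub_one (by omega))).trans this
    obtain ⟨⟨t, hta⟩, ht⟩ := exists_prime_orderOf_dvd_card' 2 h2dvd
    have htne : t ≠ 1 := fun h => by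
      have : (⟨t, hta⟩ : stabilizer G a) = 1 := Subtype.ext h
      rw [this, orderOf_one] at ht; omega
    have htsq : ∀ x, (t : Equiv.Perm α) ((t : Equiv.Perm α) x) = x := fun x => by
      have := congrArg (fun s : stabilizer G a => ((s : G) : Equiv.Perm α) x) (ht ▸ pow_orderOf_eq_one (⟨t, hta⟩ : stabilizer G a))
      simpa [pow_two] using this
    obtain ⟨x, hx⟩ : ∃ x, (t : Equiv.Perm α) x ≠ x := by
      by_contra h; push Not at h
      exact htne (Subtype.ext (Equiv.ext h))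
    have hta' : (t : Equiv.Perm α) a = a := hta
    have hxa : x ≠ a := fun h => hx (h ▸ hta')
    have htxa : (t : Equiv.Perm α) x ≠ a := fun h => hxa ((t : Equiv.Perm α).injective (h.trans hta'.symm))
    -- pairs of the same kind are conjugate
    have hconj : ∀ u v u' v', u ≠ a → v ≠ a → u ≠ v → u' ≠ a → v' ≠ a → u' ≠ v' → (adj u v ↔ adj u' v') →
        ∃ g ∈ G, g a = a ∧ g u = u' ∧ g v = v' := by
      intro u v u' v' h1 h2 h3 h4 h5 h6 hiff
      obtain ⟨g, hg, ga, gu⟩ := hto u h1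
      obtain ⟨g', hg', ga', gu'⟩ := hto u' h4
      obtain ⟨k, hk, ka, kb, kv⟩ : Rel (g v) (g' v') := by
        by_cases h : adj u v
        · exact htrans _ _ _ (hsymm _ _ (hadj_any h g hg ga gu)) (hadj_any (hiff.1 h) g' hg' ga' gu')
        · exact htrans _ _ _ (hsymm _ _ (hnadj h1 h2 h3 h g hg ga gu))
            (hnadj h4 h5 h6 (mt hiff.2 h) g' hg' ga' gu')
      exact ⟨g'⁻¹ * k * g, G.mul_mem (G.mul_mem (G.inv_mem hg') hk) hg,
        by rw [Equiv.Perm.mul_apply, Equiv.Perm.mul_apply, ga, ka, Equiv.Perm.inv_eq_iff_eq, ga'],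
        by rw [Equiv.Perm.mul_apply, Equiv.Perm.mul_apply, gu, kb, Equiv.Perm.inv_eq_iff_eq, gu'],
        by rw [Equiv.Perm.mul_apply, Equiv.Perm.mul_apply, kv, Equiv.Perm.inv_eq_iff_eq]⟩
    have hsw : ∀ u v, u ≠ a → v ≠ a → u ≠ v → (adj x ((t : Equiv.Perm α) x) ↔ adj u v) →
        (adj v u ↔ adj u v) := by
      intro u v h1 h2 h3 hiff
      obtain ⟨g, hg, ga, gu, gv⟩ := hconj x _ u v hxa htxa (Ne.symm hx) h1 h2 h3 hiff
      have hk : g * (t : Equiv.Perm α) * g⁻¹ ∈ G := G.mul_mem (G.mul_mem hg t.2) (G.inv_mem hg)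
      have e0 : (g * (t : Equiv.Perm α) * g⁻¹) a = a := by
        rw [Equiv.Perm.mul_apply, Equiv.Perm.mul_apply, Equiv.Perm.inv_eq_iff_eq.2 ga.symm, hta', ga]
      have e1 : (g * (t : Equiv.Perm α) * g⁻¹) u = v := by
        rw [Equiv.Perm.mul_apply, Equiv.Perm.mul_apply, Equiv.Perm.inv_eq_iff_eq.2 gu.symm, gv]
      have e2 : (g * (t : Equiv.Perm α) * g⁻¹) v = u := by
        rw [Equiv.Perm.mul_apply, Equiv.Perm.mul_apply, Equiv.Perm.inv_eq_iff_eq.2 gv.symm, htsq, gu]
      exact ⟨fun h => by simpa only [e1, e2] using hadj_inv h _ hk e0,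
        fun h => by simpa only [e1, e2] using hadj_inv h _ hk e0⟩
    intro u v h
    by_cases hkind : adj x ((t : Equiv.Perm α) x)
    · exact (hsw u v h.1 h.2.1 h.2.2.1 (iff_of_true hkind h)).2 h
    · by_contra hn
      exact hn ((hsw v u h.2.1 h.1 h.2.2.1.symm (iff_of_false hkind hn)).1 h)
  -- the neighbourhood of a vertex
  have hdeg : ∀ u, u ≠ a → (Finset.univ.filter (adj u)).card = (O c').card := by
    intro u hu
    obtain ⟨g, hg, ga, gu⟩ := hto u hu
    refine Finset.card_bij (fun v _ => g v) (fun v hv => ?_) (fun v _ w _ h => g.injective h) (fun v hv => ?_)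
    · rw [hO]; exact hadj_any (Finset.mem_filter.1 hv).2 g hg ga gu
    · refine ⟨g⁻¹ v, Finset.mem_filter.2 ⟨Finset.mem_univ _, ?_⟩, by simp⟩
      have := hadj_inv ((hadj_b v).2 ((hO _ _).1 hv)) g⁻¹ (G.inv_mem hg) (Equiv.Perm.inv_eq_iff_eq.2 ga.symm)
      rwa [Equiv.Perm.inv_eq_iff_eq.2 gu.symm] at this
  have hallN : ∀ u v, Rel c' u → Rel d' v → ¬ adj u v := by
    intro u v hu hv huv
    have hua := hOne c' hc'a hc'b u ((hO _ _).2 hu)
    have hall : O d' ∪ {b} ⊆ Finset.univ.filter (adj u) := by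
      intro w hw
      rw [Finset.mem_filter]
      refine ⟨Finset.mem_univ _, ?_⟩
      rcases Finset.mem_union.1 hw with hw | hw
      · obtain ⟨g, hg, ga, gb, g1, g2⟩ := hcop u w hu ((hO _ _).1 hw)
        obtain ⟨k, hk, ka, kb, k1, k2⟩ := hcop u v hu hv
        have := hadj_inv huv (g * k⁻¹) (G.mul_mem hg (G.inv_mem hk))
          (by rw [Equiv.Perm.mul_apply, Equiv.Perm.inv_eq_iff_eq.2 ka.symm, ga])
        rwa [Equiv.Perm.mul_apply, Equiv.Perm.mul_apply, Equiv.Perm.inv_eq_iff_eq.2 k1.symm,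
          Equiv.Perm.inv_eq_iff_eq.2 k2.symm, g1, g2] at this
      · rw [Finset.mem_singleton.1 hw]; exact hadj_symm ((hadj_b u).2 hu)
    have := Finset.card_le_card hall
    rw [hdeg u hua.1, Finset.card_union_of_disjoint (Finset.disjoint_singleton_right.2 fun h =>
      (hOne d' hd'a hd'b b h).2 rfl), Finset.card_singleton] at this
    omega
  have hclique : ∀ u w, Rel c' u → Rel c' w → u ≠ w → adj u w := by
    intro u w hu hw huw
    have hua := hOne c' hc'a hc'b u ((hO _ _).2 hu)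
    have hsub : Finset.univ.filter (adj u) ⊆ insert b ((O c').erase u) := by
      intro v hv
      have h := (Finset.mem_filter.1 hv).2
      by_cases hvb : v = b
      · exact Finset.mem_insert.2 (Or.inl hvb)
      refine Finset.mem_insert.2 (Or.inr (Finset.mem_erase.2 ⟨h.2.2.1.symm, (hO _ _).2 ?_⟩))
      exact (htwo' v h.2.1 hvb).resolve_right fun hd => hallN u v hu hd h
    have hbO : b ∉ (O c').erase u := fun h => (hOne c' hc'a hc'b b (Finset.mem_of_mem_erase h)).2 rfl
    have heq := Finset.eq_of_subset_of_card_le hsub (by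
      rw [hdeg u hua.1, Finset.card_insert_of_notMem hbO, Finset.card_erase_of_mem ((hO _ _).2 hu)]
      have : 0 < (O c').card := Finset.card_pos.2 ⟨u, (hO _ _).2 hu⟩
      omega)
    have : w ∈ Finset.univ.filter (adj u) := by
      rw [heq]
      exact Finset.mem_insert.2 (Or.inr (Finset.mem_erase.2 ⟨huw.symm, (hO _ _).2 hw⟩))
    exact (Finset.mem_filter.1 this).2
  -- a block of the point stabiliser
  have hprim := Cfsg.Agent.S3612.result (G := G) (Ω := α) p hp (by rw [Nat.card_eq_fintype_card, hα])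
    inferInstance hG P hN hp7 a
  let Y := SubMulAction.ofStabilizer G a
  let r : Y → Y → Prop := fun u v => (u : α) = v ∨ adj u v
  have hr_trans : ∀ u v w : Y, r u v → r v w → r u w := by
    intro u v w huv hvw
    rcases huv with huv | huv
    · rcases hvw with h | h
      · exact Or.inl (huv.trans h)
      · exact Or.inr (huv ▸ h)
    rcases hvw with hvw | hvw
    · exact Or.inr (hvw ▸ huv)
    by_cases huw : (u : α) = w
    · exact Or.inl huw
    right
    obtain ⟨g, hg, ga, gv⟩ := hto v huv.2.1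
    have h1 := hadj_any (hadj_symm huv) g hg ga gv
    have h3 := hadj_any hvw g hg ga gv
    have := hadj_inv (hclique _ _ h1 h3 (g.injective.ne huw)) g⁻¹ (G.inv_mem hg)
      (Equiv.Perm.inv_eq_iff_eq.2 ga.symm)
    simpa using this
  have hr_inv : ∀ (k : stabilizer G a) (u v : Y), r u v → r (k • u) (k • v) := by
    intro k u v h
    rcases h with h | h
    · exact Or.inl (congrArg (fun z => ((k : G) : Equiv.Perm α) z) h)
    · exact Or.inr (hadj_inv h _ (k : G).2 k.2)
  have hr_symm : ∀ u v : Y, r u v → r v u := fun u v h => h.imp Eq.symm hadj_symm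
  let x0 : Y := ⟨b, hab.symm⟩
  have hblock : IsBlock (stabilizer G a) {u : Y | r x0 u} := by
    rw [isBlock_iff_smul_eq_of_nonempty]
    intro k hne
    obtain ⟨w, hw1, hw2⟩ := hne
    obtain ⟨w0, hw0, rfl⟩ := hw1
    have hx : r x0 (k • x0) := hr_trans _ _ _ hw2 (hr_inv k _ _ (hr_symm _ _ hw0))
    ext v
    constructor
    · rintro ⟨v0, hv0, rfl⟩; exact hr_trans _ _ _ hx (hr_inv k _ _ hv0)
    · intro hv
      refine ⟨k⁻¹ • v, ?_, smul_inv_smul k v⟩
      have := hr_inv k⁻¹ _ _ (hr_trans _ _ _ (hr_symm _ _ hx) hv)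
      rwa [inv_smul_smul] at this
  rcases hprim.isTrivialBlock_of_isBlock hblock with h | h
  · have h1 : (⟨c', hc'a⟩ : Y) ∈ {u : Y | r x0 u} := Or.inr ((hadj_b c').2 (hrefl c'))
    have h2 : x0 ∈ {u : Y | r x0 u} := Or.inl rfl
    exact hc'b (congrArg Subtype.val (h h1 h2))
  · have h1 : (⟨d', hd'a⟩ : Y) ∈ {u : Y | r x0 u} := h ▸ Set.mem_univ _
    rcases h1 with h1 | h1
    · exact hd'b h1.symm
    · exact hn' ((hadj_b d').1 h1)

/-- The restriction of a group preserving a predicate to the points with the predicate. -/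
def restrict {β : Type*} (Q : β → Prop) (H : Subgroup (Equiv.Perm β)) (hH : ∀ g ∈ H, ∀ x, Q (g x) ↔ Q x) :
    H →* Equiv.Perm {x // Q x} where
  toFun g := (g : Equiv.Perm β).subtypePerm (hH g g.2)
  map_one' := by ext x; rfl
  map_mul' g h := by ext x; rfl

theorem restrict_apply {β : Type*} (Q : β → Prop) (H : Subgroup (Equiv.Perm β))
    (hH : ∀ g ∈ H, ∀ x, Q (g x) ↔ Q x) (g : H) (x : {x // Q x}) :
    (restrict Q H hH g x : β) = (g : Equiv.Perm β) x.1 := rfl

/-- The subgroup of the elements fixing two points. -/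
def fixPair {β : Type*} (H : Subgroup (Equiv.Perm β)) (a b : β) : Subgroup (Equiv.Perm β) where
  carrier := {g | g ∈ H ∧ g a = a ∧ g b = b}
  one_mem' := ⟨H.one_mem, rfl, rfl⟩
  mul_mem' := fun {g h} hg hh => ⟨H.mul_mem hg.1 hh.1, by rw [Equiv.Perm.mul_apply, hh.2.1, hg.2.1],
    by rw [Equiv.Perm.mul_apply, hh.2.2, hg.2.2]⟩
  inv_mem' := fun {g} hg => ⟨H.inv_mem hg.1, by rw [Equiv.Perm.inv_eq_iff_eq, hg.2.1],
    by rw [Equiv.Perm.inv_eq_iff_eq, hg.2.2]⟩

/-- The subgroup of the elements permuting two points. -/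
def setPair {β : Type*} (H : Subgroup (Equiv.Perm β)) (a b : β) : Subgroup (Equiv.Perm β) where
  carrier := {g | g ∈ H ∧ ∀ x, (g x ≠ a ∧ g x ≠ b) ↔ (x ≠ a ∧ x ≠ b)}
  one_mem' := ⟨H.one_mem, fun x => Iff.rfl⟩
  mul_mem' := fun {g h} hg hh => ⟨H.mul_mem hg.1 hh.1, fun x => (hg.2 (h x)).trans (hh.2 x)⟩
  inv_mem' := fun {g} hg => ⟨H.inv_mem hg.1, fun x => by
    have := hg.2 (g⁻¹ x)
    simpa using this.symm⟩

include hα hG P hN in
/-- The group is five times transitive. -/
theorem five_transitive (hq5 : 5 < q) (hq : p = q + 2) :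
    ∀ x y : Fin 5 ↪ α, ∃ g ∈ G, ∀ i, g (x i) = y i := by
  classical
  have hp : p.Prime := Fact.out
  have hqp : q.Prime := Fact.out
  have hp7 : 7 < p := by omega
  have hqodd := hqp.odd_of_ne_two (by omega)
  have hN' : p * (p - 1) ≤ 2 * Nat.card (Subgroup.normalizer ((P : Subgroup G) : Set G)) := hN.ge
  have h2t : MulAction.IsMultiplyPretransitive G α 2 :=
    (Cfsg.Agent.PrimeDegree.two_transitive_or_affine hα G).resolve_right
      (fun ⟨e', h'⟩ => hG (Cfsg.Agent.PrimeDegree.isSolvable_of_affine G e' h'))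
  have htp : ∀ a b c d : α, a ≠ b → c ≠ a → c ≠ b → d ≠ a → d ≠ b → ∃ g ∈ G, g a = a ∧ g b = b ∧ g c = d :=
    fun a b c d h1 h2 h3 h4 h5 => transitive_pair hα G hG P hN hp7 h1 h2 h3 h4 h5 hq
  have h2 : ∀ a b a' b' : α, a ≠ b → a' ≠ b' → ∃ g ∈ G, g a = a' ∧ g b = b' := by
    intro a b a' b' h h'
    obtain ⟨g, h1, h1'⟩ := (MulAction.is_two_pretransitive_iff.mp h2t) h h'
    exact ⟨g.1, g.2, h1, h1'⟩
  -- no transposition
  have hnoswap : ∀ g ∈ G, ¬ g.IsSwap := by
    intro g hg hsw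
    have hprim : IsPreprimitive G α :=
      MulAction.IsPreprimitive.of_prime_card (by rw [Nat.card_eq_fintype_card, hα]; exact hp)
    exact ne_top hα G P hN (Equiv.Perm.subgroup_eq_top_of_isPreprimitive_of_isSwap_mem hprim g hsw hg)
  -- the key: a two point stabiliser is transitive on triples of other points
  suffices key : ∀ a b : α, a ≠ b → ∀ c d c' d' u v : α, c ≠ d → c' ≠ d' →
      (∀ z, z = c ∨ z = d ∨ z = c' ∨ z = d' ∨ z = u ∨ z = v → z ≠ a ∧ z ≠ b) →
      u ≠ c → u ≠ d → v ≠ c' → v ≠ d' →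
      ∃ g ∈ G, g a = a ∧ g b = b ∧ g c = c' ∧ g d = d' ∧ g u = v by
    intro x y
    obtain ⟨g, hg, h0, h1⟩ := h2 (x 0) (x 1) (y 0) (y 1) (x.injective.ne (by decide)) (y.injective.ne (by decide))
    have hne : ∀ i : Fin 5, 2 ≤ (i : ℕ) → (g (x i) ≠ y 0 ∧ g (x i) ≠ y 1) ∧ (y i ≠ y 0 ∧ y i ≠ y 1) := by
      intro i hi
      rw [← h0, ← h1]
      refine ⟨⟨g.injective.ne (x.injective.ne ?_), g.injective.ne (x.injective.ne ?_)⟩, ?_⟩
      · intro h; rw [h] at hi; exact absurd hi (by decide)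
      · intro h; rw [h] at hi; exact absurd hi (by decide)
      · rw [h0, h1]
        exact ⟨y.injective.ne (fun h => by rw [h] at hi; exact absurd hi (by decide)),
          y.injective.ne (fun h => by rw [h] at hi; exact absurd hi (by decide))⟩
    obtain ⟨k, hk, k0, k1, k2, k3, k4⟩ := key (y 0) (y 1) (y.injective.ne (by decide)) (g (x 2)) (g (x 3)) (y 2) (y 3)
      (g (x 4)) (y 4) (g.injective.ne (x.injective.ne (by decide))) (y.injective.ne (by decide)) (by
        rintro z (rfl | rfl | rfl | rfl | rfl | rfl)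
        exacts [(hne 2 (by decide)).1, (hne 3 (by decide)).1, (hne 2 (by decide)).2, (hne 3 (by decide)).2,
          (hne 4 (by decide)).1, (hne 4 (by decide)).2])
      (g.injective.ne (x.injective.ne (by decide))) (g.injective.ne (x.injective.ne (by decide)))
      (y.injective.ne (by decide)) (y.injective.ne (by decide))
    refine ⟨k * g, G.mul_mem hk hg, fun i => ?_⟩
    rw [Equiv.Perm.mul_apply]
    fin_cases i
    exacts [by rw [show (⟨0, _⟩ : Fin 5) = 0 from rfl, h0, k0], by rw [show (⟨1, _⟩ : Fin 5) = 1 from rfl, h1, k1],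
      k2, k3, k4]
  intro a b hab
  let Q : α → Prop := fun x => x ≠ a ∧ x ≠ b
  let H := setPair G a b
  let S := fixPair G a b
  have hSH : S ≤ H := by
    rintro g ⟨hg, ga, gb⟩
    refine ⟨hg, fun x => and_congr (not_congr ?_) (not_congr ?_)⟩
    · exact ⟨fun h => g.injective (h.trans ga.symm), fun h => h ▸ ga⟩
    · exact ⟨fun h => g.injective (h.trans gb.symm), fun h => h ▸ gb⟩
  have hHQ : ∀ g ∈ H, ∀ x, Q (g x) ↔ Q x := fun g hg => hg.2
  let R := {x : α // Q x}
  have hRcard : Fintype.card R = q := by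
    rw [Fintype.card_subtype, show Finset.univ.filter Q = (Finset.univ.erase a).erase b by
      ext x; simp [Q, and_comm], Finset.card_erase_of_mem (by simp [hab.symm]),
      Finset.card_erase_of_mem (Finset.mem_univ a), Finset.card_univ, hα]
    omega
  let ψ := restrict Q H hHQ
  have hψ : Function.Injective ψ := by
    rw [← MonoidHom.ker_eq_bot_iff, Subgroup.eq_bot_iff_forall]
    rintro ⟨g, hg⟩ hk
    have hfix : ∀ x, Q x → g x = x := fun x hx => congrArg Subtype.val (Equiv.congr_fun hk ⟨x, hx⟩)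
    have hcases : ∀ x, ¬ Q x → x = a ∨ x = b := fun x hx => by
      by_contra h; push Not at h; exact hx h
    have ha' := hcases (g a) (fun h => ((hg.2 a).1 h).1 rfl)
    have hb' := hcases (g b) (fun h => ((hg.2 b).1 h).2 rfl)
    refine Subtype.ext ?_
    show g = 1
    rcases ha' with ha' | ha'
    · refine Equiv.ext fun x => ?_
      by_cases hx : Q x
      · exact hfix x hx
      rcases hcases x hx with rfl | rfl
      · exact ha'
      · rcases hb' with h | h
        · exact absurd (g.injective (h.trans ha'.symm)) hab.symm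
        · exact h
    · exfalso
      refine hnoswap g hg.1 ⟨a, b, hab, Equiv.ext fun x => ?_⟩
      by_cases hx : Q x
      · rw [hfix x hx, Equiv.swap_apply_of_ne_of_ne hx.1 hx.2]
      rcases hcases x hx with rfl | rfl
      · rw [ha', Equiv.swap_apply_left]
      · rcases hb' with h | h
        · rw [h, Equiv.swap_apply_right]
        · exact absurd (g.injective (ha'.trans h.symm)) hab
  let HR : Subgroup (Equiv.Perm R) := ψ.range
  let SR : Subgroup (Equiv.Perm R) := (S.subgroupOf H).map ψ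
  have hmemS : ∀ g ∈ S, ∃ g' ∈ SR, ∀ x : R, (g' x).1 = g x.1 := fun g hg =>
    ⟨_, Subgroup.mem_map_of_mem ψ (show (⟨g, hSH hg⟩ : H) ∈ S.subgroupOf H from hg), fun x => rfl⟩
  have hSRmem : ∀ g' ∈ SR, ∃ g ∈ S, ∀ x : R, (g' x).1 = g x.1 := by
    rintro _ ⟨g, hg, rfl⟩; exact ⟨g, hg, fun x => rfl⟩
  haveI : IsPretransitive SR R := ⟨fun x y => by
    obtain ⟨g, hg, ga, gb, gx⟩ := htp a b x.1 y.1 hab x.2.1 x.2.2 y.2.1 y.2.2
    obtain ⟨g', hg', hgx⟩ := hmemS g ⟨hg, ga, gb⟩
    exact ⟨⟨g', hg'⟩, Subtype.ext ((hgx x).trans gx)⟩⟩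
  have hcardSR : Nat.card SR = Nat.card S := by
    rw [Subgroup.card_map_of_injective (f := ψ) hψ, Nat.card_congr (Subgroup.subgroupOfEquivOfLe hSH).toEquiv]
  -- the order of the group
  have hGcard : Nat.card G = p * (p - 1) * Nat.card S := by
    let T : Subgroup G := stabilizer G (a, b)
    have hT : Nat.card T = Nat.card S := by
      rw [show T = (S.subgroupOf G) from Subgroup.ext fun g =>
        ⟨fun h => ⟨g.2, congrArg Prod.fst h, congrArg Prod.snd h⟩, fun h => Prod.ext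
          (show (g : Equiv.Perm α) a = a from (Subgroup.mem_subgroupOf.1 h).2.1)
          (show (g : Equiv.Perm α) b = b from (Subgroup.mem_subgroupOf.1 h).2.2)⟩]
      exact Nat.card_congr (Subgroup.subgroupOfEquivOfLe (show S ≤ G from fun g hg => hg.1)).toEquiv
    have horb : orbit G (a, b) = ↑(Finset.univ.offDiag : Finset (α × α)) := by
      ext ⟨u, v⟩
      simp only [Finset.mem_coe, Finset.mem_offDiag, Finset.mem_univ, true_and]
      constructor
      · rintro ⟨g, hg⟩
        have e1 : (g : Equiv.Perm α) a = u := congrArg Prod.fst hg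
        have e2 : (g : Equiv.Perm α) b = v := congrArg Prod.snd hg
        rw [← e1, ← e2]
        exact (g : Equiv.Perm α).injective.ne hab
      · intro huv
        obtain ⟨g, hg, g1, g2⟩ := h2 a b u v hab huv
        exact ⟨⟨g, hg⟩, Prod.ext g1 g2⟩
    have h := Subgroup.card_mul_index T
    rw [hT, index_stabilizer, horb, Set.ncard_coe_finset, Finset.offDiag_card, Finset.card_univ, hα] at h
    rw [← h, Nat.mul_sub_one, mul_comm]
  have hnp : 2 * Nat.card S ≡ 1 [MOD p] := by
    have h1 := card_sylow_modEq_one p G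
    have h3 := Subgroup.card_mul_index (Subgroup.normalizer ((P : Subgroup G) : Set G))
    have h5 : Nat.card (Sylow p G) = (Subgroup.normalizer ((P : Subgroup G) : Set G)).index :=
      P.card_eq_index_normalizer
    rw [← h5, hGcard] at h3
    have hpos : 0 < p * (p - 1) := Nat.mul_pos hp.pos (by omega)
    have h4 : p * (p - 1) * Nat.card (Sylow p G) = p * (p - 1) * (2 * Nat.card S) := by
      calc p * (p - 1) * Nat.card (Sylow p G)
          = 2 * (Nat.card (Subgroup.normalizer ((P : Subgroup G) : Set G)) * Nat.card (Sylow p G)) := by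
            rw [← hN]; ring
        _ = _ := by rw [h3]; ring
    rwa [Nat.eq_of_mul_eq_mul_left hpos h4] at h1
  -- insolubility
  have hSRns : ¬ Group.IsSolvable SR := by
    intro hsol
    obtain ⟨e, he⟩ := Cfsg.Agent.PrimeDegree.affine_of_isSolvable hRcard SR hsol
    let φ : SR →* ZMod q :=
      { toFun := fun g => e.symm ((g : Equiv.Perm R) (e 1)) - e.symm ((g : Equiv.Perm R) (e 0))
        map_one' := by simp
        map_mul' := fun g h => by
          have h1 := he g g.2 (e.symm ((h : Equiv.Perm R) (e 1)))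
          have h0 := he g g.2 (e.symm ((h : Equiv.Perm R) (e 0)))
          rw [e.apply_symm_apply] at h0 h1
          show e.symm ((g : Equiv.Perm R) ((h : Equiv.Perm R) (e 1))) -
            e.symm ((g : Equiv.Perm R) ((h : Equiv.Perm R) (e 0))) = _
          rw [h1, h0]; ring }
    have hker : Nat.card φ.toHomUnits.ker ≤ q := by
      refine (Nat.card_le_card_of_injective (fun g : φ.toHomUnits.ker => e.symm ((g : SR).1 (e 0))) ?_).trans
        (by rw [Nat.card_eq_fintype_card, ZMod.card])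
      intro g h hgh
      have hk : ∀ g : φ.toHomUnits.ker, e.symm ((g : SR).1 (e 1)) - e.symm ((g : SR).1 (e 0)) = 1 := fun g =>
        congrArg Units.val (MonoidHom.mem_ker.1 g.2)
      refine Subtype.ext (Subtype.ext (Equiv.ext fun x => ?_))
      obtain ⟨i, rfl⟩ := e.surjective x
      apply e.symm.injective
      rw [he _ (g : SR).2, he _ (h : SR).2, hk, hk]
      exact congrArg _ hgh
    have hdvd : q ∣ Nat.card SR := by
      obtain ⟨r0⟩ : Nonempty R := Fintype.card_pos_iff.1 (by rw [hRcard]; omega)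
      have := (stabilizer SR r0).index_dvd_card
      rwa [index_stabilizer_of_transitive, Nat.card_eq_fintype_card, hRcard] at this
    set d := φ.toHomUnits.ker.index with hd
    have hdq : d ∣ q - 1 := by
      rw [hd, Subgroup.index_ker]
      have := Subgroup.card_subgroup_dvd_card φ.toHomUnits.range
      rwa [Nat.card_eq_fintype_card (α := (ZMod q)ˣ), ZMod.card_units] at this
    have hdle : d ≤ q - 1 := Nat.le_of_dvd (by omega) hdq
    have hprod := Subgroup.card_mul_index φ.toHomUnits.ker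
    rw [← hd] at hprod
    have hkq : Nat.card φ.toHomUnits.ker = q := by
      refine le_antisymm hker (Nat.le_of_dvd Nat.card_pos ?_)
      have hco : Nat.Coprime q d := (Nat.Prime.coprime_iff_not_dvd hqp).2 fun h => by
        have := Nat.le_of_dvd (Nat.pos_of_ne_zero Subgroup.index_ne_zero_of_finite) h
        omega
      exact hco.dvd_of_dvd_mul_right (hprod.symm ▸ hdvd)
    rw [← hcardSR, ← hprod, hkq] at hnp
    obtain ⟨k, hk⟩ := hdq
    have hzero : ((4 * d + 1 : ℕ) : ZMod p) = 0 := by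
      have h1 : ((2 * (q * d) : ℕ) : ZMod p) = ((1 : ℕ) : ZMod p) := (ZMod.natCast_eq_natCast_iff _ _ _).2 hnp
      have h2 : (q : ZMod p) = -2 := by
        have : ((q + 2 : ℕ) : ZMod p) = 0 := by rw [← hq, ZMod.natCast_self]
        push_cast at this
        linear_combination this
      push_cast at h1 ⊢
      rw [h2] at h1
      linear_combination -h1
    rw [ZMod.natCast_eq_zero_iff] at hzero
    obtain ⟨m, hm⟩ := hzero
    have hm4 : m < 4 := by
      by_contra h
      have : p * 4 ≤ p * m := Nat.mul_le_mul_left p (by omega)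
      omega
    have hk4 : k ≤ 4 := by
      by_contra h
      have : d * 5 ≤ d * k := Nat.mul_le_mul_left d (by omega)
      interval_cases m <;> omega
    have hq79 : q ≠ 7 ∧ q ≠ 9 := by
      refine ⟨fun h => ?_, fun h => ?_⟩
      · rw [hq, h] at hp; norm_num at hp
      · rw [h] at hqp; norm_num at hqp
    obtain ⟨hq7, hq9⟩ := hq79
    interval_cases m <;> interval_cases k <;> omega
  -- the stabiliser of the pair
  have hS2 : ∀ g ∈ H, g * g ∈ S := by
    intro g hg
    have hcases : ∀ x, ¬ Q x → x = a ∨ x = b := fun x hx => by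
      by_contra h; push Not at h; exact hx h
    have ha' := hcases (g a) (fun h => ((hg.2 a).1 h).1 rfl)
    have hb' := hcases (g b) (fun h => ((hg.2 b).1 h).2 rfl)
    refine ⟨G.mul_mem hg.1 hg.1, ?_, ?_⟩
    · rw [Equiv.Perm.mul_apply]
      rcases ha' with h | h
      · rw [h, h]
      · rcases hb' with h' | h'
        · rw [h, h']
        · exact absurd (g.injective (h.trans h'.symm)) hab
    · rw [Equiv.Perm.mul_apply]
      rcases hb' with h | h
      · rcases ha' with h' | h'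
        · exact absurd (g.injective (h'.trans h.symm)) hab
        · rw [h, h']
      · rw [h, h]
  obtain ⟨s, hs, hsab, hsba⟩ := h2 a b b a hab hab.symm
  have hsH : s ∈ H := ⟨hs, fun x => by
    have e1 : s x = a ↔ x = b := ⟨fun h => s.injective (h.trans hsba.symm), fun h => h ▸ hsba⟩
    have e2 : s x = b ↔ x = a := ⟨fun h => s.injective (h.trans hsab.symm), fun h => h ▸ hsab⟩
    simp only [ne_eq, e1, e2, and_comm]⟩
  have hconjS : ∀ k ∈ H, ∀ g ∈ S, k * g * k⁻¹ ∈ S := by
    intro k hk g hg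
    have hcases : ∀ x, ¬ Q x → x = a ∨ x = b := fun x hx => by
      by_contra h; push Not at h; exact hx h
    have hkinv : ∀ x, x = a ∨ x = b → g (k⁻¹ x) = k⁻¹ x := by
      intro x hx
      have hk' : k⁻¹ ∈ H := H.inv_mem hk
      rcases hcases (k⁻¹ x) (fun h => by have := (hk'.2 x).1 h; rcases hx with rfl | rfl; exacts [this.1 rfl, this.2 rfl])
        with h | h
      · rw [h]; exact hg.2.1
      · rw [h]; exact hg.2.2
    refine ⟨G.mul_mem (G.mul_mem hk.1 hg.1) (G.inv_mem hk.1), ?_, ?_⟩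
    · rw [Equiv.Perm.mul_apply, Equiv.Perm.mul_apply, hkinv a (Or.inl rfl)]; simp
    · rw [Equiv.Perm.mul_apply, Equiv.Perm.mul_apply, hkinv b (Or.inr rfl)]; simp
  -- even Sylow normaliser
  have hHRns : ¬ Group.IsSolvable HR := fun h => hSRns (by
    haveI := h
    exact Group.isSolvable_of_isSolvable_injective (f := Subgroup.inclusion (Subgroup.map_le_range _ _ : SR ≤ HR))
      (Subgroup.inclusion_injective _))
  haveI : IsPretransitive HR R := ⟨fun x y => by
    obtain ⟨g, hg⟩ := exists_smul_eq SR x y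
    exact ⟨Subgroup.inclusion (Subgroup.map_le_range _ _ : SR ≤ HR) g, hg⟩⟩
  let SR' : Subgroup HR := SR.subgroupOf HR
  have hnormal : SR'.Normal := ⟨fun n hn g => by
    obtain ⟨g1, hg1⟩ := g.2
    obtain ⟨n1, hn1, hn2⟩ := Subgroup.mem_subgroupOf.1 hn
    rw [Subgroup.mem_subgroupOf]
    refine ⟨g1 * n1 * g1⁻¹, hconjS _ g1.2 _ hn1, ?_⟩
    simp only [map_mul, map_inv, hg1, hn2, Subgroup.coe_mul, Subgroup.coe_inv]⟩
  obtain ⟨Q0⟩ : Nonempty (Sylow q HR) := inferInstance
  have hsq : ∀ n : HR, n * n ∈ SR' := by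
    intro n
    obtain ⟨n1, hn1⟩ := n.2
    rw [Subgroup.mem_subgroupOf]
    exact ⟨n1 * n1, hS2 _ n1.2, by simp [map_mul, hn1]⟩
  have hoddmem : ∀ n : HR, Odd (orderOf n) → n ∈ SR' := by
    rintro n ⟨k, hk⟩
    have h : n = ((n * n) ^ (k + 1)) := by
      rw [← pow_two, ← pow_mul, show 2 * (k + 1) = orderOf n + 1 by omega, pow_succ, pow_orderOf_eq_one, one_mul]
    rw [h]; exact SR'.pow_mem (hsq n) _
  have hQle : (Q0 : Subgroup HR) ≤ SR' := by
    intro n hn
    obtain ⟨k, hk⟩ := Q0.2 ⟨n, hn⟩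
    apply hoddmem
    have h1 : orderOf n ∣ q ^ k := orderOf_dvd_of_pow_eq_one (congrArg Subtype.val hk)
    exact (hqodd.pow).of_dvd_nat h1
  have heven : Even (Nat.card (Subgroup.normalizer ((Q0 : Subgroup HR) : Set HR))) := by
    rw [← Nat.not_odd_iff_even]
    intro hodd
    haveI := hnormal
    have htop : Subgroup.normalizer ((Q0 : Subgroup HR) : Set HR) ⊔ SR' = ⊤ := by
      have h1 := Sylow.normalizer_sup_eq_top (Q0.subtype hQle) (N := SR')
      have h2 : (((Q0.subtype hQle : Sylow q SR') : Subgroup SR').map SR'.subtype : Subgroup HR) = (Q0 : Subgroup HR) := by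
        show ((Q0 : Subgroup HR).subgroupOf SR').map SR'.subtype = _
        rw [Subgroup.map_subgroupOf_eq_of_le hQle]
      rwa [h2] at h1
    have hle : Subgroup.normalizer ((Q0 : Subgroup HR) : Set HR) ≤ SR' := fun n hn =>
      hoddmem n (hodd.of_dvd_nat (Subgroup.orderOf_dvd_natCard _ hn))
    rw [sup_eq_right.2 hle] at htop
    have hs' : (⟨ψ ⟨s, hsH⟩, ⟨_, rfl⟩⟩ : HR) ∈ SR' := htop ▸ Subgroup.mem_top _
    obtain ⟨g, hg, hgs⟩ := Subgroup.mem_subgroupOf.1 hs'
    have := congrArg Subtype.val (hψ hgs)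
    exact hab (hg.2.1.symm.trans ((Equiv.congr_fun this a).trans hsab))
  have h3 := Cfsg.Agent.S0676.result hRcard HR hHRns Q0 heven
  -- two points of the stabiliser
  have hSR2 : MulAction.IsMultiplyPretransitive SR R 2 :=
    (Cfsg.Agent.PrimeDegree.two_transitive_or_affine hRcard SR).resolve_right
      (fun ⟨e', h'⟩ => hSRns (Cfsg.Agent.PrimeDegree.isSolvable_of_affine SR e' h'))
  intro c d c' d' u v hcd hcd' hne huc hud hvc hvd
  obtain ⟨hc, hd, hc', hd', hu, hv⟩ : Q c ∧ Q d ∧ Q c' ∧ Q d' ∧ Q u ∧ Q v :=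
    ⟨hne c (by tauto), hne d (by tauto), hne c' (by tauto), hne d' (by tauto), hne u (by tauto), hne v (by tauto)⟩
  obtain ⟨g0, hg0c, hg0d⟩ := (MulAction.is_two_pretransitive_iff.mp hSR2)
    (show (⟨c, hc⟩ : R) ≠ ⟨d, hd⟩ from fun h => hcd (congrArg Subtype.val h))
    (show (⟨c', hc'⟩ : R) ≠ ⟨d', hd'⟩ from fun h => hcd' (congrArg Subtype.val h))
  obtain ⟨g, hg, hgv⟩ := hSRmem g0 g0.2
  have gc : g c = c' := (hgv ⟨c, hc⟩).symm.trans (congrArg Subtype.val hg0c)
  have gd : g d = d' := (hgv ⟨d, hd⟩).symm.trans (congrArg Subtype.val hg0d)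
  -- the stabiliser of two further points is transitive
  let T : Finset α := Finset.univ.filter (fun z => Q z ∧ z ≠ c' ∧ z ≠ d')
  let L : α → α → Prop := fun z w => ∃ k ∈ S, k c' = c' ∧ k d' = d' ∧ k z = w
  have hguT : g u ∈ T := Finset.mem_filter.2 ⟨Finset.mem_univ _, ((hSH hg).2 u).2 hu,
    fun h => huc (g.injective (h.trans gc.symm)), fun h => hud (g.injective (h.trans gd.symm))⟩
  suffices hL : L (g u) v by
    obtain ⟨k, hk, kc, kd, ku⟩ := hL
    exact ⟨k * g, G.mul_mem hk.1 hg.1, by simp [hg.2.1, hk.2.1], by simp [hg.2.2, hk.2.2], by simp [gc, kc],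
      by simp [gd, kd], by simp [ku]⟩
  by_contra hnL
  have hLtrans : ∀ x y z, L x y → L y z → L x z := by
    rintro x y z ⟨k, hk, kc, kd, kx⟩ ⟨l, hl, lc, ld, ly⟩
    exact ⟨l * k, S.mul_mem hl hk, by simp [kc, lc], by simp [kd, ld], by simp [kx, ly]⟩
  have hLsymm : ∀ x y, L x y → L y x := by
    rintro x y ⟨k, hk, kc, kd, kx⟩
    exact ⟨k⁻¹, S.inv_mem hk, by rw [Equiv.Perm.inv_eq_iff_eq, kc], by rw [Equiv.Perm.inv_eq_iff_eq, kd],
      by rw [Equiv.Perm.inv_eq_iff_eq, kx]⟩
  have htr3 : ∀ x y, x ∈ T → y ∈ T → ∃ k ∈ H, k c' = c' ∧ k d' = d' ∧ k x = y := by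
    intro x y hx hy
    simp only [T, Finset.mem_filter, Finset.mem_univ, true_and] at hx hy
    have hinj : ∀ z : α, ∀ hz : Q z, z ≠ c' → z ≠ d' →
        Function.Injective ![(⟨c', hc'⟩ : R), ⟨d', hd'⟩, ⟨z, hz⟩] := fun z hz h1 h2 i j hij => by
      have e := congrArg Subtype.val hij
      fin_cases i <;> fin_cases j <;> revert e <;> simp [hcd', hcd'.symm, h1, h1.symm, h2, h2.symm]
    obtain ⟨k, hk⟩ := h3.exists_smul_eq ⟨_, hinj x hx.1 hx.2.1 hx.2.2⟩ ⟨_, hinj y hy.1 hy.2.1 hy.2.2⟩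
    obtain ⟨k1, hk1⟩ := k.2
    have hval : ∀ z : R, (k1 : Equiv.Perm α) z.1 = (((k : Equiv.Perm R)) z).1 := fun z => by
      rw [← hk1]; exact (restrict_apply Q H hHQ k1 z).symm
    refine ⟨k1, k1.2, (hval ⟨c', hc'⟩).trans ?_, (hval ⟨d', hd'⟩).trans ?_, (hval ⟨x, hx.1⟩).trans ?_⟩
    · exact congrArg Subtype.val (DFunLike.congr_fun hk 0)
    · exact congrArg Subtype.val (DFunLike.congr_fun hk 1)
    · exact congrArg Subtype.val (DFunLike.congr_fun hk 2)
  have hvT : v ∈ T := Finset.mem_filter.2 ⟨Finset.mem_univ _, hv, hvc, hvd⟩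
  obtain ⟨k0, hk0, k0c, k0d, k0u⟩ := htr3 _ _ hguT hvT
  have hk0S : k0 ∉ S := fun h => hnL ⟨k0, h, k0c, k0d, k0u⟩
  have hmulS : ∀ k ∈ H, k ∉ S → k0⁻¹ * k ∈ S := by
    intro k hk hkS
    have hsw : ∀ l ∈ H, l ∉ S → l a = b ∧ l b = a := by
      intro l hl hlS
      have hcases : ∀ x, ¬ Q x → x = a ∨ x = b := fun x hx => by
        by_contra h; push Not at h; exact hx h
      rcases hcases (l a) (fun h => ((hl.2 a).1 h).1 rfl) with h | h
      · rcases hcases (l b) (fun h => ((hl.2 b).1 h).2 rfl) with h' | h'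
        · exact absurd (l.injective (h.trans h'.symm)) hab
        · exact absurd ⟨hl.1, h, h'⟩ hlS
      · rcases hcases (l b) (fun h => ((hl.2 b).1 h).2 rfl) with h' | h'
        · exact ⟨h, h'⟩
        · exact absurd (l.injective (h.trans h'.symm)) hab
    obtain ⟨e1, e2⟩ := hsw k hk hkS
    obtain ⟨f1, f2⟩ := hsw k0 hk0 hk0S
    exact ⟨G.mul_mem (G.inv_mem hk0.1) hk.1,
      by rw [Equiv.Perm.mul_apply, e1, Equiv.Perm.inv_eq_iff_eq, f1],
      by rw [Equiv.Perm.mul_apply, e2, Equiv.Perm.inv_eq_iff_eq, f2]⟩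
  have hmapT : ∀ k ∈ H, k c' = c' → k d' = d' → ∀ z, k z ∈ T ↔ z ∈ T := by
    intro k hk kc kd z
    simp only [T, Finset.mem_filter, Finset.mem_univ, true_and]
    exact and_congr (hk.2 z) (and_congr (not_congr ⟨fun h => k.injective (h.trans kc.symm), fun h => h ▸ kc⟩)
      (not_congr ⟨fun h => k.injective (h.trans kd.symm), fun h => h ▸ kd⟩))
  have hnorm : ∀ x y, L x y → L (k0 x) (k0 y) := by
    rintro x y ⟨k, hk, kc, kd, kx⟩
    exact ⟨k0 * k * k0⁻¹, hconjS k0 hk0 k hk,
      by rw [Equiv.Perm.mul_apply, Equiv.Perm.mul_apply, Equiv.Perm.inv_eq_iff_eq.2 k0c.symm, kc, k0c],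
      by rw [Equiv.Perm.mul_apply, Equiv.Perm.mul_apply, Equiv.Perm.inv_eq_iff_eq.2 k0d.symm, kd, k0d],
      by simp [kx]⟩
  have hcard : (T.filter (L (g u))).card = (T.filter (fun z => ¬ L (g u) z)).card := by
    refine Finset.card_bij (fun z _ => k0 z) ?_ (fun z _ w _ h => k0.injective h) ?_
    · intro z hz
      rw [Finset.mem_filter] at hz ⊢
      refine ⟨(hmapT k0 hk0 k0c k0d z).2 hz.1, fun h => hnL ?_⟩
      have := hnorm _ _ hz.2
      rw [k0u] at this
      exact hLtrans _ _ _ h (hLsymm _ _ this)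
    · intro w hw
      rw [Finset.mem_filter] at hw
      obtain ⟨k, hk, kc, kd, ku⟩ := htr3 _ _ hguT hw.1
      have hkS : k ∉ S := fun h => hw.2 ⟨k, h, kc, kd, ku⟩
      refine ⟨k0⁻¹ w, Finset.mem_filter.2 ⟨?_, ?_⟩, by simp⟩
      · exact (hmapT k0⁻¹ (H.inv_mem hk0) (Equiv.Perm.inv_eq_iff_eq.2 k0c.symm)
          (Equiv.Perm.inv_eq_iff_eq.2 k0d.symm) w).2 hw.1
      · exact ⟨k0⁻¹ * k, hmulS k hk hkS, by rw [Equiv.Perm.mul_apply, kc, Equiv.Perm.inv_eq_iff_eq, k0c],
          by rw [Equiv.Perm.mul_apply, kd, Equiv.Perm.inv_eq_iff_eq, k0d], by simp [ku]⟩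
  have hTcard : T.card = q - 2 := by
    rw [show T = ((Finset.univ.filter Q).erase c').erase d' by
      ext z; simp [T, and_assoc, and_comm, and_left_comm]]
    rw [Finset.card_erase_of_mem (Finset.mem_erase.2 ⟨hcd'.symm, Finset.mem_filter.2 ⟨Finset.mem_univ _, hd'⟩⟩),
      Finset.card_erase_of_mem (Finset.mem_filter.2 ⟨Finset.mem_univ _, hc'⟩),
      show (Finset.univ.filter Q).card = q by rw [← Fintype.card_subtype]; exact hRcard]
    omega
  have := Finset.card_filter_add_card_filter_not (s := T) (L (g u))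
  rw [hcard, hTcard] at this
  obtain ⟨m, hm⟩ := hqodd
  omega

end Cfsg.Lib.Perm.PrimeTwin
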