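import Cfsg.Agent.Lib.Perm.DihedralGraph
import Cfsg.Agent.Lib.Perm.PrimeTwin

/-!
# Even overgroups of a doubly transitive group of order `(p + 1) p (p - 1) / 2` on `p + 1` points

The stabiliser of a point has a half normaliser, hence primitive point stabilisers; the suborbit graph
of a pair is then a Cayley graph on a dihedral group, so there is none.
-/

set_option autoImplicit false
set_option linter.style.haveILetI false
set_option linter.unusedSectionVars false

open Equiv Equiv.Perm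

namespace Cfsg.Lib.Perm.ProjOver

open Cfsg.Lib.Perm.PrimeTwin (restrict restrict_apply fixPair)

variable {Ω : Type*} [Fintype Ω] [DecidableEq Ω] {p : ℕ} [Fact p.Prime]

/-- The elements fixing a point. -/
def fixPoint {β : Type*} (H : Subgroup (Perm β)) (a : β) : Subgroup (Perm β) where
  carrier := {g | g ∈ H ∧ g a = a}
  one_mem' := ⟨H.one_mem, rfl⟩
  mul_mem' := fun {g h} hg hh => ⟨H.mul_mem hg.1 hh.1, by rw [Perm.mul_apply, hh.2, hg.2]⟩
  inv_mem' := fun {g} hg => ⟨H.inv_mem hg.1, by rw [Perm.inv_eq_iff_eq, hg.2]⟩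

theorem fixPoint_pres {β : Type*} {H : Subgroup (Perm β)} {a : β} :
    ∀ g ∈ fixPoint H a, ∀ x, g x ≠ a ↔ x ≠ a := fun g hg x =>
  not_congr ⟨fun h => g.injective (h.trans hg.2.symm), fun h => h ▸ hg.2⟩

theorem card_fixPoint (H : Subgroup (Perm Ω)) (hH : ∀ x y : Ω, ∃ g ∈ H, g x = y) (a : Ω) :
    Fintype.card Ω * Nat.card (fixPoint H a) = Nat.card H := by
  have horb : (MulAction.orbit H a).ncard = Fintype.card Ω := by
    rw [← Nat.card_eq_fintype_card, ← Set.ncard_univ]
    congr 1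
    refine Set.eq_univ_of_forall fun y => ?_
    obtain ⟨g, hg, h⟩ := hH a y
    exact ⟨⟨g, hg⟩, h⟩
  have h := Subgroup.card_mul_index (MulAction.stabilizer H a)
  rw [MulAction.index_stabilizer, horb, mul_comm] at h
  rw [← h]
  congr 1
  exact Nat.card_congr
    { toFun := fun g => ⟨⟨g.1, g.2.1⟩, g.2.2⟩
      invFun := fun g => ⟨g.1.1, g.1.2, g.2⟩
      left_inv := fun g => rfl
      right_inv := fun g => rfl }

theorem card_fixPair (H : Subgroup (Perm Ω))
    (hH : ∀ x y x' y' : Ω, x ≠ y → x' ≠ y' → ∃ g ∈ H, g x = x' ∧ g y = y') (a b : Ω) (hab : a ≠ b) :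
    (Fintype.card Ω * Fintype.card Ω - Fintype.card Ω) * Nat.card (fixPair H a b) = Nat.card H := by
  have horb : (MulAction.orbit H (a, b)).ncard = Fintype.card Ω * Fintype.card Ω - Fintype.card Ω := by
    rw [← Finset.card_univ, ← Finset.offDiag_card, ← Set.ncard_coe_finset]
    congr 1
    ext ⟨u, v⟩
    simp only [Finset.mem_coe, Finset.mem_offDiag, Finset.mem_univ, true_and]
    constructor
    · rintro ⟨g, hg⟩
      have e1 : (g : Perm Ω) a = u := congrArg Prod.fst hg
      have e2 : (g : Perm Ω) b = v := congrArg Prod.snd hg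
      rw [← e1, ← e2]; exact (g : Perm Ω).injective.ne hab
    · intro huv
      obtain ⟨g, hg, h1, h2⟩ := hH a b u v hab huv
      exact ⟨⟨g, hg⟩, Prod.ext h1 h2⟩
  have h := Subgroup.card_mul_index (MulAction.stabilizer H (a, b))
  rw [MulAction.index_stabilizer, horb, mul_comm] at h
  rw [← h]
  congr 1
  exact Nat.card_congr
    { toFun := fun g => ⟨⟨g.1, g.2.1⟩, Prod.ext g.2.2.1 g.2.2.2⟩
      invFun := fun g => ⟨g.1.1, g.1.2, congrArg Prod.fst g.2, congrArg Prod.snd g.2⟩
      left_inv := fun g => rfl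
      right_inv := fun g => rfl }

/-- A permutation of odd sign. -/
theorem sign_mul_generator (hp2 : p ≠ 2) (k : (ZMod p)ˣ) (hk : ∀ u, u ∈ Subgroup.zpowers k)
    (π : Perm (ZMod p)) (hπ : ∀ i, π i = k * i) : Perm.sign π = -1 := by
  have hp : p.Prime := Fact.out
  have hk1 : (k : ZMod p) ≠ 1 := by
    intro h
    have hk' : k = 1 := Units.ext h
    have hcard : Fintype.card (ZMod p)ˣ ≤ 1 := Fintype.card_le_one_iff.2 fun u v => by
      have hu := hk u; have hv := hk v
      rw [hk', Subgroup.zpowers_one_eq_bot, Subgroup.mem_bot] at hu hv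
      rw [hu, hv]
    rw [ZMod.card_units] at hcard
    have := hp.two_le; omega
  have hpow : ∀ (n : ℕ) (i : ZMod p), (π ^ n) i = (k : ZMod p) ^ n * i := by
    intro n
    induction n with
    | zero => intro i; simp
    | succ n ih => intro i; rw [pow_succ', Perm.mul_apply, ih, hπ]; ring
  have hsupp : π.support = Finset.univ.erase 0 := by
    ext i
    simp only [mem_support, hπ, Finset.mem_erase, Finset.mem_univ, and_true]
    refine ⟨fun h h0 => h (by rw [h0, mul_zero]), fun h he => hk1 ?_⟩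
    exact mul_right_cancel₀ h (he.trans (one_mul i).symm)
  have hcyc : π.IsCycle := by
    refine ⟨1, by rw [hπ, mul_one]; exact hk1, fun y hy => ?_⟩
    have hy0 : y ≠ 0 := fun h => hy (by rw [hπ, h, mul_zero])
    have hfin : IsOfFinOrder k := isOfFinOrder_of_finite k
    obtain ⟨n, hn⟩ := hfin.mem_powers_iff_mem_zpowers.2 (hk (Units.mk0 y hy0))
    refine ⟨(n : ℤ), ?_⟩
    rw [zpow_natCast, hpow, mul_one]
    have := congrArg Units.val hn
    simpa using this
  rw [hcyc.sign, hsupp, Finset.card_erase_of_mem (Finset.mem_univ _), Finset.card_univ, ZMod.card]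
  obtain ⟨j, hj⟩ := hp.odd_of_ne_two hp2
  rw [show p - 1 = 2 * j by omega, pow_mul, neg_one_sq, one_pow]

/-- The hypothesis of half normaliser for a point stabiliser, and insolubility. -/
theorem half_normalizer (hΩ : Fintype.card Ω = p + 1) (hp2 : p ≠ 2) (X : Subgroup (Perm Ω))
    (heven : ∀ g ∈ X, Perm.sign g = 1) (L : Subgroup (Perm Ω)) (hLX : L ≤ X) (hne : L ≠ X)
    (hL : 2 * Nat.card L = (p + 1) * (p * (p - 1)))
    (hL2 : ∀ x y x' y' : Ω, x ≠ y → x' ≠ y' → ∃ g ∈ L, g x = x' ∧ g y = y') (a : Ω) :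
    ∃ (Γ : Subgroup (Perm {x // x ≠ a})) (P : Sylow p Γ) (e : ZMod p ≃ {x // x ≠ a}),
      MulAction.IsPretransitive Γ {x // x ≠ a} ∧ ¬ Group.IsSolvable Γ ∧
      2 * Nat.card (Subgroup.normalizer ((P : Subgroup Γ) : Set Γ)) = p * (p - 1) ∧
      (∀ g, g ∈ Γ ↔ ∃ g' ∈ X, g' a = a ∧ ∀ x : {x // x ≠ a}, (g x).1 = g' x.1) ∧
      (∀ g ∈ L, g a = a → ∃ k t : ZMod p, ∀ i, g (e i).1 = (e (k * i + t)).1) := by
  classical
  have hp : p.Prime := Fact.out
  have hp3 : 3 ≤ p := by have := hp.two_le; omega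
  have htr : ∀ x y : Ω, ∃ g ∈ L, g x = y := by
    intro x y
    haveI : Nontrivial Ω := Fintype.one_lt_card_iff_nontrivial.1 (by omega)
    obtain ⟨x', hx'⟩ := exists_ne x
    obtain ⟨y', hy'⟩ := exists_ne y
    obtain ⟨g, hg, h, -⟩ := hL2 x x' y y' hx'.symm hy'.symm
    exact ⟨g, hg, h⟩
  let R := {x : Ω // x ≠ a}
  have hR : Fintype.card R = p := by
    rw [Fintype.card_subtype_compl, Fintype.card_subtype_eq, hΩ]; omega
  let ψ := restrict (fun x => x ≠ a) (fixPoint X a) fixPoint_pres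
  have hψ : Function.Injective ψ := by
    rw [← MonoidHom.ker_eq_bot_iff, Subgroup.eq_bot_iff_forall]
    rintro ⟨g, hg⟩ hk
    refine Subtype.ext (Equiv.ext fun x => ?_)
    by_cases hx : x = a
    · subst hx; exact hg.2
    · exact congrArg Subtype.val (Equiv.congr_fun hk ⟨x, hx⟩)
  let Γ : Subgroup (Perm R) := ψ.range
  have hLa : fixPoint L a ≤ fixPoint X a := fun g hg => ⟨hLX hg.1, hg.2⟩
  let Λ : Subgroup (Perm R) := ((fixPoint L a).subgroupOf (fixPoint X a)).map ψ
  have hΛΓ : Λ ≤ Γ := Subgroup.map_le_range _ _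
  have hmemΛ : ∀ g ∈ L, g a = a → ∃ g' ∈ Λ, ∀ x : R, (g' x).1 = g x.1 := fun g hg ga =>
    ⟨_, Subgroup.mem_map_of_mem ψ (show (⟨g, hLX hg, ga⟩ : fixPoint X a) ∈ (fixPoint L a).subgroupOf _ from ⟨hg, ga⟩),
      fun x => rfl⟩
  haveI hΛtr : MulAction.IsPretransitive Λ R := ⟨fun x y => by
    obtain ⟨g, hg, ga, gx⟩ := hL2 a x.1 a y.1 x.2.symm y.2.symm
    obtain ⟨g', hg', h⟩ := hmemΛ g hg ga
    exact ⟨⟨g', hg'⟩, Subtype.ext ((h x).trans gx)⟩⟩
  haveI hΓtr : MulAction.IsPretransitive Γ R := ⟨fun x y => by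
    obtain ⟨g, hg⟩ := MulAction.exists_smul_eq Λ x y
    exact ⟨Subgroup.inclusion hΛΓ g, hg⟩⟩
  have hΛcard : 2 * Nat.card Λ = p * (p - 1) := by
    rw [Subgroup.card_map_of_injective (f := ψ) hψ, Nat.card_congr (Subgroup.subgroupOfEquivOfLe hLa).toEquiv]
    have h := card_fixPoint L htr a
    rw [hΩ] at h
    refine Nat.eq_of_mul_eq_mul_left (show 0 < p + 1 by omega) ?_
    rw [← hL, ← h]; ring
  -- numbering by the translations of the small group
  obtain ⟨e, he⟩ := Cfsg.Agent.PrimeDegree.exists_numbering hR Λ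
  obtain ⟨c, hc, hc'⟩ := he 1
  have hcpow : ∀ (n : ℕ) (i : ZMod p), (c ^ n) (e i) = e (i + n) := by
    intro n
    induction n with
    | zero => intro i; simp
    | succ n ih =>
        intro i
        rw [pow_succ', Perm.mul_apply, ih, hc']
        congr 1; push_cast; ring
  have hcord : orderOf c = p := by
    refine orderOf_eq_prime ?_ ?_
    · refine Equiv.ext fun x => ?_
      obtain ⟨i, rfl⟩ := e.surjective x
      rw [hcpow]; simp
    · intro h1
      have := hc' 0
      rw [h1] at this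
      exact zero_ne_one ((e.injective this).trans (zero_add _))
  let T : Subgroup (Perm R) := Subgroup.zpowers c
  have hTΛ : T ≤ Λ := Subgroup.zpowers_le.2 hc
  have hTcard : Nat.card T = p := by rw [Nat.card_zpowers, hcord]
  have haff : ∀ g : Perm R, g * c * g⁻¹ ∈ T → ∃ k b : ZMod p, ∀ i, g (e i) = e (k * i + b) := by
    intro g hg
    obtain ⟨k, hk⟩ := (isOfFinOrder_of_finite c).mem_powers_iff_mem_zpowers.2 hg
    have hk' : g * c = c ^ k * g := by rw [show c ^ k = g * c * g⁻¹ from hk, inv_mul_cancel_right]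
    have hstep : ∀ i, e.symm (g (e (i + 1))) = e.symm (g (e i)) + (k : ZMod p) := by
      intro i
      apply e.injective
      rw [e.apply_symm_apply, ← hc', ← Perm.mul_apply, hk', Perm.mul_apply, ← hcpow, e.apply_symm_apply]
    have hlin : ∀ n : ℕ, e.symm (g (e (n : ZMod p))) = e.symm (g (e 0)) + (k : ZMod p) * n := by
      intro n
      induction n with
      | zero => simp
      | succ n ih => rw [Nat.cast_succ, hstep, ih]; ring
    refine ⟨(k : ZMod p), e.symm (g (e 0)), fun i => ?_⟩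
    have := hlin i.val
    rw [ZMod.natCast_rightInverse i] at this
    rw [add_comm, ← this, e.apply_symm_apply]
  let T' : Subgroup Γ := T.subgroupOf Γ
  have hT'card : Nat.card T' = p := by
    rw [Nat.card_congr (Subgroup.subgroupOfEquivOfLe (hTΛ.trans hΛΓ)).toEquiv, hTcard]
  obtain ⟨P, hP⟩ := (IsPGroup.of_card (n := 1) (hT'card.trans (pow_one p).symm)).exists_le_sylow
  have hPeq : T' = (P : Subgroup Γ) := by
    refine Subgroup.eq_of_le_of_card_ge hP ?_
    obtain ⟨k, hk⟩ := P.2.exists_card_eq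
    rw [hk, hT'card]
    rcases Nat.lt_or_ge k 2 with h | h
    · calc p ^ k ≤ p ^ 1 := Nat.pow_le_pow_right hp.pos (by omega)
        _ = p := pow_one p
    · exact absurd ((pow_dvd_pow p h).trans (hk ▸ Subgroup.card_subgroup_dvd_card _))
        (Cfsg.Agent.PrimeDegree.card_sq_not_dvd hR Γ)
  set N := Subgroup.normalizer ((P : Subgroup Γ) : Set Γ) with hNdef
  have hN : ∀ g : Γ, g ∈ N → ∃ k b : ZMod p, ∀ i, (g : Perm R) (e i) = e (k * i + b) := by
    intro g hg
    apply haff
    rw [hNdef, Subgroup.mem_normalizer_iff] at hg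
    have hmem := (hg ⟨c, hΛΓ hc⟩).1 (hPeq ▸ (Subgroup.mem_subgroupOf.2 (Subgroup.mem_zpowers c)))
    rw [← hPeq] at hmem
    exact hmem
  -- the small group normalises the translations
  have hnorm : ∀ g ∈ Λ, ∀ x ∈ T, g * x * g⁻¹ ∈ T := by
    intro g hg x hx
    let T2 : Subgroup Λ := T.subgroupOf Λ
    obtain ⟨Q, hQ⟩ := (IsPGroup.of_card (n := 1) (show Nat.card T2 = p ^ 1 by
      rw [Nat.card_congr (Subgroup.subgroupOfEquivOfLe hTΛ).toEquiv, hTcard, pow_one])).exists_le_sylow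
    have hQeq : T2 = (Q : Subgroup Λ) := by
      refine Subgroup.eq_of_le_of_card_ge hQ ?_
      obtain ⟨k, hk⟩ := Q.2.exists_card_eq
      rw [hk, Nat.card_congr (Subgroup.subgroupOfEquivOfLe hTΛ).toEquiv, hTcard]
      rcases Nat.lt_or_ge k 2 with h | h
      · calc p ^ k ≤ p ^ 1 := Nat.pow_le_pow_right hp.pos (by omega)
          _ = p := pow_one p
      · exact absurd ((pow_dvd_pow p h).trans (hk ▸ Subgroup.card_subgroup_dvd_card _))
          (Cfsg.Agent.PrimeDegree.card_sq_not_dvd hR Λ)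
    have hone : Nat.card (Sylow p Λ) = 1 := by
      have h1 := card_sylow_modEq_one p Λ
      have h2 := Q.card_dvd_index
      have h3 := Subgroup.card_mul_index (Q : Subgroup Λ)
      rw [← hQeq, Nat.card_congr (Subgroup.subgroupOfEquivOfLe hTΛ).toEquiv, hTcard] at h3
      rw [← hQeq] at h2
      have hdvd : 2 * T2.index = p - 1 := by
        refine Nat.eq_of_mul_eq_mul_left hp.pos ?_
        rw [← hΛcard, ← h3]; ring
      have hle := Nat.le_of_dvd (by omega) h2
      have hlt : Nat.card (Sylow p Λ) < p := by omega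
      rw [Nat.ModEq, Nat.mod_eq_of_lt hlt, Nat.mod_eq_of_lt hp.one_lt] at h1
      exact h1
    haveI : Subsingleton (Sylow p Λ) := (Nat.card_eq_one_iff_unique.1 hone).1
    have hnQ : (Q : Subgroup Λ).Normal := Sylow.normal_of_subsingleton Q
    have := hnQ.conj_mem ⟨x, hTΛ hx⟩ (hQeq ▸ Subgroup.mem_subgroupOf.2 hx) ⟨g, hg⟩
    rw [← hQeq] at this
    exact this
  have hΛN : Λ.subgroupOf Γ ≤ N := by
    intro g hg
    rw [hNdef, Subgroup.mem_normalizer_iff, ← hPeq]
    intro x
    refine ⟨fun hx => hnorm _ hg _ hx, fun hx => ?_⟩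
    have h1 := hnorm _ (Λ.inv_mem hg) _ hx
    simp only [T', Subgroup.mem_subgroupOf]
    convert h1 using 1
    simp [mul_assoc]
  have hNlow : p * (p - 1) ≤ 2 * Nat.card N := by
    rw [← hΛcard]
    refine Nat.mul_le_mul_left 2 ?_
    rw [← Nat.card_congr (Subgroup.subgroupOfEquivOfLe hΛΓ).toEquiv]
    exact Subgroup.card_le_of_le hΛN
  have hNeq : 2 * Nat.card N = p * (p - 1) := by
    let φ : N →* ZMod p :=
      { toFun := fun g => e.symm (((g : Γ) : Perm R) (e 1)) - e.symm (((g : Γ) : Perm R) (e 0))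
        map_one' := by simp
        map_mul' := fun g h => by
          obtain ⟨k, b, hk⟩ := hN g g.2
          obtain ⟨l, d, hl⟩ := hN h h.2
          have h1 : ∀ i, (((g * h : N) : Γ) : Perm R) (e i) = e (k * (l * i + d) + b) := fun i => by
            rw [Subgroup.coe_mul, Subgroup.coe_mul, Perm.mul_apply, hl, hk]
          simp only [h1, hk, hl, e.symm_apply_apply]
          ring }
    have hker : Nat.card φ.toHomUnits.ker ≤ p := by
      refine (Nat.card_le_card_of_injective (fun g : φ.toHomUnits.ker => e.symm (((g : N) : Γ).1 (e 0))) ?_).trans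
        (by rw [Nat.card_eq_fintype_card, ZMod.card])
      intro g h hgh
      refine Subtype.ext (Subtype.ext (Subtype.ext (Equiv.ext fun x => ?_)))
      obtain ⟨i, rfl⟩ := e.surjective x
      obtain ⟨k, b, hk⟩ := hN (g : N) (g : N).2
      obtain ⟨l, d, hl⟩ := hN (h : N) (h : N).2
      have hk1 : k = 1 := by
        have h1 : φ (g : N) = 1 := congrArg Units.val (MonoidHom.mem_ker.1 g.2)
        simpa [φ, hk] using h1
      have hl1 : l = 1 := by
        have h1 : φ (h : N) = 1 := congrArg Units.val (MonoidHom.mem_ker.1 h.2)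
        simpa [φ, hl] using h1
      have hbd : b = d := by simpa [hk, hl] using hgh
      rw [hk, hl, hk1, hl1, hbd]
    have hprod := Subgroup.card_mul_index φ.toHomUnits.ker
    rw [Subgroup.index_ker] at hprod
    have hI := Subgroup.card_mul_index φ.toHomUnits.range
    rw [Nat.card_eq_fintype_card (α := (ZMod p)ˣ), ZMod.card_units] at hI
    have hidx : φ.toHomUnits.range.index ≠ 1 := by
      intro h1
      obtain ⟨k, hk⟩ := IsCyclic.exists_generator (α := (ZMod p)ˣ)
      obtain ⟨n, hn⟩ : k ∈ φ.toHomUnits.range := by rw [Subgroup.index_eq_one.1 h1]; exact Subgroup.mem_top _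
      obtain ⟨k', b, hk'⟩ := hN n n.2
      have hkk : (k : ZMod p) = k' := by
        have := congrArg Units.val hn
        simpa [φ, hk'] using this.symm
      obtain ⟨t, htm, ht'⟩ := he (-b)
      obtain ⟨g', hg'⟩ := (Γ.mul_mem (hΛΓ htm) (n : Γ).2 : t * ((n : Γ) : Perm R) ∈ Γ)
      set π : Perm (ZMod p) := e.trans ((t * ((n : Γ) : Perm R)).trans e.symm) with hπdef
      have hπ : ∀ i, π i = k * i := fun i => by simp [π, hk', ht', hkk]
      have hs1 := sign_mul_generator hp2 k hk π hπ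
      have hs2 : Perm.sign π = Perm.sign (t * ((n : Γ) : Perm R)) := by
        have h := Perm.sign_symm_trans_trans (t * ((n : Γ) : Perm R)) e.symm
        rwa [Equiv.symm_symm] at h
      have hs3 : Perm.sign (t * ((n : Γ) : Perm R)) = 1 := by
        rw [← hg']
        show Perm.sign ((g' : Perm Ω).subtypePerm (fixPoint_pres (g' : Perm Ω) g'.2)) = 1
        refine Eq.trans ?_ (heven _ g'.2.1)
        convert Perm.sign_subtypePerm (p := fun x => x ≠ a) (g' : Perm Ω) (fixPoint_pres (g' : Perm Ω) g'.2) ?_ using 2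
        intro x hx h
        subst h
        exact hx g'.2.2
      rw [hs2, hs3] at hs1
      exact absurd hs1 (by decide)
    have hidx2 : 2 ≤ φ.toHomUnits.range.index := by
      have := Subgroup.index_ne_zero_of_finite (H := φ.toHomUnits.range); omega
    refine le_antisymm ?_ hNlow
    rw [← hprod, ← hI]
    calc 2 * (Nat.card φ.toHomUnits.ker * Nat.card φ.toHomUnits.range)
        ≤ φ.toHomUnits.range.index * (p * Nat.card φ.toHomUnits.range) :=
          Nat.mul_le_mul hidx2 (Nat.mul_le_mul_right _ hker)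
      _ = p * (Nat.card φ.toHomUnits.range * φ.toHomUnits.range.index) := by ring
  have hns : ¬ Group.IsSolvable Γ := by
    intro hs
    obtain ⟨e', he'⟩ := Cfsg.Agent.PrimeDegree.affine_of_isSolvable hR Γ hs
    have hsmall : Nat.card Γ ≤ p * (p - 1) := by
      let F : Γ → {q : ZMod p × ZMod p // q.1 ≠ q.2} := fun g =>
        ⟨(e'.symm ((g : Perm R) (e' 1)), e'.symm ((g : Perm R) (e' 0))),
          fun h => zero_ne_one (e'.injective ((g : Perm R).injective (e'.symm.injective h))).symm⟩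
      have hF : Function.Injective F := by
        intro g h hgh
        have h1 := congrArg (fun q : {q : ZMod p × ZMod p // q.1 ≠ q.2} => q.1) hgh
        simp only [F, Prod.mk.injEq] at h1
        refine Subtype.ext (Equiv.ext fun x => ?_)
        obtain ⟨i, rfl⟩ := e'.surjective x
        apply e'.symm.injective
        rw [he' g g.2, he' h h.2, h1.1, h1.2]
      refine (Nat.card_le_card_of_injective F hF).trans (le_of_eq ?_)
      rw [Nat.card_eq_fintype_card, Fintype.card_of_subtype (Finset.univ.offDiag : Finset (ZMod p × ZMod p))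
        (fun q => by simp), Finset.offDiag_card, Finset.card_univ, ZMod.card, Nat.mul_sub_one]
    have h1 := Subgroup.card_mul_index N
    have h2 : Nat.card (Sylow p Γ) = N.index := P.card_eq_index_normalizer
    have h3 := card_sylow_modEq_one p Γ
    rw [h2] at h3
    have hidx : N.index ≤ 2 := by
      by_contra h
      have : Nat.card N * 3 ≤ Nat.card N * N.index := Nat.mul_le_mul_left _ (by omega)
      have : 0 < Nat.card N := Nat.card_pos
      omega
    rw [Nat.ModEq, Nat.mod_eq_of_lt (by omega : N.index < p), Nat.mod_eq_of_lt hp.one_lt] at h3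
    rw [h3, mul_one] at h1
    have hΓΛ : Nat.card Γ = Nat.card Λ := by omega
    apply hne
    refine Subgroup.eq_of_le_of_card_ge hLX ?_
    rw [← card_fixPoint X (fun x y => by obtain ⟨g, hg, h⟩ := htr x y; exact ⟨g, hLX hg, h⟩) a,
      ← card_fixPoint L htr a]
    refine Nat.mul_le_mul_left _ (le_of_eq ?_)
    have e1 : Nat.card Γ = Nat.card (fixPoint X a) :=
      Nat.card_congr (MonoidHom.ofInjective hψ).toEquiv.symm
    have e2 : Nat.card Λ = Nat.card (fixPoint L a) := by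
      rw [Subgroup.card_map_of_injective (f := ψ) hψ]
      exact Nat.card_congr (Subgroup.subgroupOfEquivOfLe hLa).toEquiv
    omega
  refine ⟨Γ, P, e, hΓtr, hns, hNeq, fun g => ⟨?_, ?_⟩, ?_⟩
  · rintro ⟨g', rfl⟩; exact ⟨g', g'.2.1, g'.2.2, fun x => rfl⟩
  · rintro ⟨g', hg', ga, h⟩
    exact ⟨⟨g', hg', ga⟩, Equiv.ext fun x => Subtype.ext ((h x).symm)⟩
  · intro g hg ga
    obtain ⟨g', hg', h⟩ := hmemΛ g hg ga
    obtain ⟨k, t, hkt⟩ := haff g' (hnorm g' hg' c (Subgroup.mem_zpowers c))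
    exact ⟨k, t, fun i => (h (e i)).symm.trans (congrArg Subtype.val (hkt i))⟩

/-- The main result. -/
theorem four_transitive (hΩ : Fintype.card Ω = p + 1) (hp7 : 7 < p) (X : Subgroup (Perm Ω))
    (heven : ∀ g ∈ X, Perm.sign g = 1) (L : Subgroup (Perm Ω)) (hLX : L ≤ X) (hne : L ≠ X)
    (hL : 2 * Nat.card L = (p + 1) * (p * (p - 1)))
    (hL2 : ∀ x y x' y' : Ω, x ≠ y → x' ≠ y' → ∃ g ∈ L, g x = x' ∧ g y = y')
    (hcent : p % 4 = 3 → ∀ w ∈ L, w * w = 1 → w ≠ 1 → ∀ c ∈ L, c * w = w * c →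
      c ^ ((p - 1) / 2) = 1 → c = 1) :
    ∀ x y : Fin 4 ↪ Ω, ∃ g ∈ X, ∀ i, g (x i) = y i := by
  classical
  have hp : p.Prime := Fact.out
  have hp2 : p ≠ 2 := by omega
  suffices key : ∀ a : Ω, ∀ b c d f : {x // x ≠ a}, b ≠ c → d ≠ b → d ≠ c → f ≠ b → f ≠ c →
      ∃ g ∈ X, g a = a ∧ g b.1 = b.1 ∧ g c.1 = c.1 ∧ g d.1 = f.1 by
    intro x y
    obtain ⟨Γ, P, e, hΓtr, hns, hN, hmem, -⟩ := half_normalizer hΩ hp2 X heven L hLX hne hL hL2 (y 0)
    haveI := hΓtr
    have hR : Fintype.card {z // z ≠ y 0} = p := by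
      rw [Fintype.card_subtype_compl, Fintype.card_subtype_eq, hΩ]; omega
    have h2 : MulAction.IsMultiplyPretransitive Γ {z // z ≠ y 0} 2 :=
      (Cfsg.Agent.PrimeDegree.two_transitive_or_affine hR Γ).resolve_right
        (fun ⟨e', h'⟩ => hns (Cfsg.Agent.PrimeDegree.isSolvable_of_affine Γ e' h'))
    obtain ⟨g1, hg1, h10, h11⟩ := hL2 (x 0) (x 1) (y 0) (y 1) (x.injective.ne (by decide)) (y.injective.ne (by decide))
    have hn : ∀ i : Fin 4, i ≠ 0 → g1 (x i) ≠ y 0 ∧ y i ≠ y 0 := fun i hi =>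
      ⟨h10 ▸ g1.injective.ne (x.injective.ne hi), y.injective.ne hi⟩
    obtain ⟨k0, hk1, hk2⟩ := (MulAction.is_two_pretransitive_iff.mp h2)
      (show (⟨g1 (x 1), (hn 1 (by decide)).1⟩ : {z // z ≠ y 0}) ≠ ⟨g1 (x 2), (hn 2 (by decide)).1⟩ from
        fun h => absurd (g1.injective (congrArg Subtype.val h)) (x.injective.ne (by decide)))
      (show (⟨y 1, (hn 1 (by decide)).2⟩ : {z // z ≠ y 0}) ≠ ⟨y 2, (hn 2 (by decide)).2⟩ from
        fun h => absurd (congrArg Subtype.val h) (y.injective.ne (by decide)))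
    obtain ⟨k, hk, ka, hkv⟩ := (hmem k0.1).1 k0.2
    have e1 : k (g1 (x 1)) = y 1 := (hkv ⟨_, (hn 1 (by decide)).1⟩).symm.trans (congrArg Subtype.val hk1)
    have e2 : k (g1 (x 2)) = y 2 := (hkv ⟨_, (hn 2 (by decide)).1⟩).symm.trans (congrArg Subtype.val hk2)
    have e0 : k (g1 (x 0)) = y 0 := by rw [h10, ka]
    have hne3 : ∀ i : Fin 4, i ≠ 3 → k (g1 (x 3)) ≠ k (g1 (x i)) := fun i hi =>
      k.injective.ne (g1.injective.ne (x.injective.ne (Ne.symm hi)))
    obtain ⟨l, hl, la, lb, lc, ld⟩ := key (y 0) ⟨y 1, (hn 1 (by decide)).2⟩ ⟨y 2, (hn 2 (by decide)).2⟩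
      ⟨k (g1 (x 3)), by rw [← e0]; exact hne3 0 (by decide)⟩ ⟨y 3, (hn 3 (by decide)).2⟩
      (fun h => absurd (congrArg Subtype.val h) (y.injective.ne (by decide)))
      (fun h => hne3 1 (by decide) ((congrArg Subtype.val h).trans e1.symm))
      (fun h => hne3 2 (by decide) ((congrArg Subtype.val h).trans e2.symm))
      (fun h => absurd (congrArg Subtype.val h) (y.injective.ne (by decide)))
      (fun h => absurd (congrArg Subtype.val h) (y.injective.ne (by decide)))
    refine ⟨l * k * g1, X.mul_mem (X.mul_mem hl hk) (hLX hg1), fun i => ?_⟩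
    simp only [Perm.mul_apply]
    fin_cases i
    exacts [(congrArg l e0).trans la, (congrArg l e1).trans lb, (congrArg l e2).trans lc, ld]
  intro a b c d f hbc hdb hdc hfb hfc
  obtain ⟨Γ, P, e0, hΓtr, hns, hN, hmem, haff⟩ := half_normalizer hΩ hp2 X heven L hLX hne hL hL2 a
  haveI := hΓtr
  have hR : Fintype.card {z // z ≠ a} = p := by
    rw [Fintype.card_subtype_compl, Fintype.card_subtype_eq, hΩ]; omega
  rcases (show p % 4 = 1 ∨ p % 4 = 3 by obtain ⟨j, hj⟩ := hp.odd_of_ne_two hp2; omega) with hp4 | hp4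
  · have heven' : Even (Nat.card (Subgroup.normalizer ((P : Subgroup Γ) : Set Γ))) := by
      refine ⟨p * ((p - 1) / 4), ?_⟩
      have h4 : p - 1 = 4 * ((p - 1) / 4) := by omega
      have : p * (p - 1) = 4 * (p * ((p - 1) / 4)) := by
        calc p * (p - 1) = p * (4 * ((p - 1) / 4)) := by rw [← h4]
          _ = _ := by ring
      omega
    have h3 := Cfsg.Agent.S0676.result hR Γ hns P heven'
    have hinj : ∀ z : {z // z ≠ a}, z ≠ b → z ≠ c → Function.Injective ![b, c, z] := fun z h1 h2 i j hij => by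
      fin_cases i <;> fin_cases j <;> revert hij <;> simp [hbc, hbc.symm, h1, h1.symm, h2, h2.symm]
    obtain ⟨g, hg⟩ := h3.exists_smul_eq ⟨_, hinj d hdb hdc⟩ ⟨_, hinj f hfb hfc⟩
    obtain ⟨g', hg', ga, hgv⟩ := (hmem g.1).1 g.2
    exact ⟨g', hg', ga, (hgv b).symm.trans (congrArg Subtype.val (DFunLike.congr_fun hg 0)),
      (hgv c).symm.trans (congrArg Subtype.val (DFunLike.congr_fun hg 1)),
      (hgv d).symm.trans (congrArg Subtype.val (DFunLike.congr_fun hg 2))⟩
  by_contra hcon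
  -- the graph of the smaller suborbit of the pair
  have hN' : p * (p - 1) ≤ 2 * Nat.card (Subgroup.normalizer ((P : Subgroup Γ) : Set Γ)) := hN.ge
  let V : Ω → Prop := fun z => z ≠ a ∧ z ≠ b.1
  let Rel : Ω → Ω → Ω → Prop := fun u v v' => ∃ g ∈ X, g a = a ∧ g b.1 = b.1 ∧ g u = u ∧ g v = v'
  have hrefl : ∀ u v, Rel u v v := fun u v => ⟨1, X.one_mem, rfl, rfl, rfl, rfl⟩
  have hsymm : ∀ {u v v'}, Rel u v v' → Rel u v' v := by
    rintro u v v' ⟨g, hg, ga, gb, gu, gv⟩
    exact ⟨g⁻¹, X.inv_mem hg, Perm.inv_eq_iff_eq.2 ga.symm, Perm.inv_eq_iff_eq.2 gb.symm,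
      Perm.inv_eq_iff_eq.2 gu.symm, Perm.inv_eq_iff_eq.2 gv.symm⟩
  have htrans : ∀ {u v v' v''}, Rel u v v' → Rel u v' v'' → Rel u v v'' := by
    rintro u v v' v'' ⟨g, hg, ga, gb, gu, gv⟩ ⟨k, hk, ka, kb, ku, kv⟩
    exact ⟨k * g, X.mul_mem hk hg, by simp [ga, ka], by simp [gb, kb], by simp [gu, ku], by simp [gv, kv]⟩
  -- transitivity of the stabiliser of the pair
  have h2Γ : MulAction.IsMultiplyPretransitive Γ {z // z ≠ a} 2 :=
    (Cfsg.Agent.PrimeDegree.two_transitive_or_affine hR Γ).resolve_right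
      (fun ⟨e', h'⟩ => hns (Cfsg.Agent.PrimeDegree.isSolvable_of_affine Γ e' h'))
  have hVtr : ∀ u u', V u → V u' → ∃ g ∈ X, g a = a ∧ g b.1 = b.1 ∧ g u = u' := by
    intro u u' hu hu'
    obtain ⟨g, g1, g2⟩ := (MulAction.is_two_pretransitive_iff.mp h2Γ)
      (show b ≠ ⟨u, hu.1⟩ from fun h => hu.2 (congrArg Subtype.val h).symm)
      (show b ≠ ⟨u', hu'.1⟩ from fun h => hu'.2 (congrArg Subtype.val h).symm)
    obtain ⟨g', hg', ga, hgv⟩ := (hmem g.1).1 g.2
    exact ⟨g', hg', ga, (hgv b).symm.trans (congrArg Subtype.val g1),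
      (hgv ⟨u, hu.1⟩).symm.trans (congrArg Subtype.val g2)⟩
  have hthree : ∀ u v v' v'', V u → V v → V v' → V v'' → v ≠ u → v' ≠ u → v'' ≠ u →
      Rel u v v' ∨ Rel u v v'' ∨ Rel u v' v'' := by
    intro u v v' v'' hu hv hv' hv'' h1 h2 h3
    obtain ⟨g, hg, gb, gc, h⟩ := Cfsg.Lib.Perm.PrimeHalf.two_orbits hR Γ hns P hN'
      (show b ≠ ⟨u, hu.1⟩ from fun h => hu.2 (congrArg Subtype.val h).symm)
      (show (⟨v, hv.1⟩ : {z // z ≠ a}) ≠ b from fun h => hv.2 (congrArg Subtype.val h))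
      (show (⟨v, hv.1⟩ : {z // z ≠ a}) ≠ ⟨u, hu.1⟩ from fun h => h1 (congrArg Subtype.val h))
      (show (⟨v', hv'.1⟩ : {z // z ≠ a}) ≠ b from fun h => hv'.2 (congrArg Subtype.val h))
      (show (⟨v', hv'.1⟩ : {z // z ≠ a}) ≠ ⟨u, hu.1⟩ from fun h => h2 (congrArg Subtype.val h))
      (show (⟨v'', hv''.1⟩ : {z // z ≠ a}) ≠ b from fun h => hv''.2 (congrArg Subtype.val h))
      (show (⟨v'', hv''.1⟩ : {z // z ≠ a}) ≠ ⟨u, hu.1⟩ from fun h => h3 (congrArg Subtype.val h))
    obtain ⟨g', hg', ga, hgv⟩ := (hmem g).1 hg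
    have eb : g' b.1 = b.1 := (hgv b).symm.trans (congrArg Subtype.val gb)
    have eu : g' u = u := (hgv ⟨u, hu.1⟩).symm.trans (congrArg Subtype.val gc)
    rcases h with h | h | h
    · exact Or.inl ⟨g', hg', ga, eb, eu, (hgv ⟨v, hv.1⟩).symm.trans (congrArg Subtype.val h)⟩
    · exact Or.inr (Or.inl ⟨g', hg', ga, eb, eu, (hgv ⟨v, hv.1⟩).symm.trans (congrArg Subtype.val h)⟩)
    · exact Or.inr (Or.inr ⟨g', hg', ga, eb, eu, (hgv ⟨v', hv'.1⟩).symm.trans (congrArg Subtype.val h)⟩)
  let O : Ω → Ω → Finset Ω := fun u v => Finset.univ.filter (Rel u v)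
  have hO : ∀ u v z, z ∈ O u v ↔ Rel u v z := fun u v z => by simp [O]
  have hOinv : ∀ h ∈ X, (∀ z, V (h z) ↔ V z) → ∀ u v, (O (h u) (h v)).card = (O u v).card := by
    intro h hh hV u v
    have hfix : ∀ z, ¬ V z → h⁻¹ z = a ∨ h⁻¹ z = b.1 := fun z hz => by
      by_contra hn; push Not at hn
      exact hz (by simpa using (hV (h⁻¹ z)).2 hn)
    have hfix' : ∀ z, ¬ V z → h z = a ∨ h z = b.1 := fun z hz => by
      by_contra hn; push Not at hn
      exact hz ((hV z).1 hn)
    have hva : ¬ V a := fun hh => hh.1 rfl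
    have hvb : ¬ V b.1 := fun hh => hh.2 rfl
    refine Finset.card_bij (fun z _ => h⁻¹ z) (fun z hz => ?_) (fun z _ z' _ e => h⁻¹.injective e) (fun z hz => ⟨h z, ?_, by simp⟩)
    · obtain ⟨g, hg, ga, gb, gu, gv⟩ := (hO _ _ _).1 hz
      have hg0 : ∀ z, (z = a ∨ z = b.1) → g z = z := by rintro z (rfl | rfl); exacts [ga, gb]
      refine (hO _ _ _).2 ⟨h⁻¹ * g * h, X.mul_mem (X.mul_mem (X.inv_mem hh) hg) hh, ?_, ?_, ?_, ?_⟩
      · rw [Perm.mul_apply, Perm.mul_apply, hg0 _ (hfix' a hva)]; simp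
      · rw [Perm.mul_apply, Perm.mul_apply, hg0 _ (hfix' _ hvb)]; simp
      · rw [Perm.mul_apply, Perm.mul_apply, gu]; simp
      · rw [Perm.mul_apply, Perm.mul_apply, gv]
    · obtain ⟨g, hg, ga, gb, gu, gv⟩ := (hO _ _ _).1 hz
      have hg0 : ∀ z, (z = a ∨ z = b.1) → g z = z := by rintro z (rfl | rfl); exacts [ga, gb]
      refine (hO _ _ _).2 ⟨h * g * h⁻¹, X.mul_mem (X.mul_mem hh hg) (X.inv_mem hh), ?_, ?_, ?_, ?_⟩
      · rw [Perm.mul_apply, Perm.mul_apply, hg0 _ (hfix a hva)]; simp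
      · rw [Perm.mul_apply, Perm.mul_apply, hg0 _ (hfix _ hvb)]; simp
      · rw [Perm.mul_apply, Perm.mul_apply]; simp [gu]
      · rw [Perm.mul_apply, Perm.mul_apply]; simp [gv]
  have hpres : ∀ g : Perm Ω, g a = a → g b.1 = b.1 → ∀ z, V (g z) ↔ V z := fun g ga gb z =>
    and_congr (not_congr ⟨fun h => g.injective (h.trans ga.symm), fun h => h ▸ ga⟩)
      (not_congr ⟨fun h => g.injective (h.trans gb.symm), fun h => h ▸ gb⟩)
  have hcV : V c.1 := ⟨c.2, fun h => hbc (Subtype.ext h.symm)⟩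
  have hdV : V d.1 := ⟨d.2, fun h => hdb (Subtype.ext h)⟩
  have hfV : V f.1 := ⟨f.2, fun h => hfb (Subtype.ext h)⟩
  have hdc' : d.1 ≠ c.1 := fun h => hdc (Subtype.ext h)
  have hfc' : f.1 ≠ c.1 := fun h => hfc (Subtype.ext h)
  have hndf : ¬ Rel c.1 d.1 f.1 := fun ⟨g, hg, ga, gb, gu, gv⟩ => hcon ⟨g, hg, ga, gb, gu, gv⟩
  set A := (O c.1 d.1).card with hA
  set B := (O c.1 f.1).card with hB
  have hVcard : (Finset.univ.filter V).card = p - 1 := by
    rw [show Finset.univ.filter V = (Finset.univ.erase a).erase b.1 by ext z; simp [V, and_comm],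
      Finset.card_erase_of_mem (by simp [b.2]), Finset.card_erase_of_mem (Finset.mem_univ a), Finset.card_univ, hΩ]
    omega
  have hOV : ∀ u v, V v → v ≠ u → ∀ z ∈ O u v, V z ∧ z ≠ u := by
    intro u v hv hvu z hz
    obtain ⟨g, hg, ga, gb, gu, rfl⟩ := (hO _ _ _).1 hz
    exact ⟨(hpres g ga gb v).2 hv, fun h => hvu (g.injective (h.trans gu.symm))⟩
  have hAB : A + B = p - 2 ∧ A ≠ B := by
    have hdisj : Disjoint (O c.1 d.1) (O c.1 f.1) := Finset.disjoint_left.2 fun z h1 h2 =>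
      hndf (htrans ((hO _ _ _).1 h1) (hsymm ((hO _ _ _).1 h2)))
    have hun : O c.1 d.1 ∪ O c.1 f.1 = (Finset.univ.filter V).erase c.1 := by
      ext z
      rw [Finset.mem_union, Finset.mem_erase, Finset.mem_filter (p := V) (s := Finset.univ)]
      constructor
      · rintro (h | h)
        · exact ⟨(hOV _ _ hdV hdc' z h).2, Finset.mem_univ _, (hOV _ _ hdV hdc' z h).1⟩
        · exact ⟨(hOV _ _ hfV hfc' z h).2, Finset.mem_univ _, (hOV _ _ hfV hfc' z h).1⟩
      · rintro ⟨hzc, -, hz⟩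
        rcases hthree c.1 d.1 f.1 z hcV hdV hfV hz hdc' hfc' hzc with h | h | h
        · exact absurd h hndf
        · exact Or.inl ((hO _ _ _).2 h)
        · exact Or.inr ((hO _ _ _).2 h)
    have hs : A + B = p - 2 := by
      rw [hA, hB, ← Finset.card_union_of_disjoint hdisj, hun,
        Finset.card_erase_of_mem (Finset.mem_filter.2 ⟨Finset.mem_univ _, hcV⟩), hVcard]
      omega
    refine ⟨hs, fun he => ?_⟩
    omega
  let adj : Ω → Ω → Prop := fun u v => V u ∧ V v ∧ v ≠ u ∧ (O u v).card = A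
  have hadj_inv : ∀ h ∈ X, (∀ z, V (h z) ↔ V z) → ∀ u v, adj (h u) (h v) ↔ adj u v := fun h hh hV u v => by
    simp only [adj, hV, hOinv h hh hV, ne_eq, h.injective.eq_iff]
  -- two kinds of pairs, each conjugate
  have hclass : ∀ u v, V u → V v → v ≠ u → ∃ g ∈ X, g a = a ∧ g b.1 = b.1 ∧ g u = c.1 ∧
      (Rel c.1 d.1 (g v) ∨ Rel c.1 f.1 (g v)) := by
    intro u v hu hv hvu
    obtain ⟨g, hg, ga, gb, gu⟩ := hVtr u c.1 hu hcV
    refine ⟨g, hg, ga, gb, gu, ?_⟩
    rcases hthree c.1 d.1 f.1 (g v) hcV hdV hfV ((hpres g ga gb v).2 hv) hdc' hfc'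
      (fun h => hvu (g.injective (h.trans gu.symm))) with h | h | h
    exacts [absurd h hndf, Or.inl h, Or.inr h]
  have hOeq : ∀ {u v v'}, Rel u v v' → (O u v').card = (O u v).card := fun {u v v'} h => by
    congr 1; ext z; rw [hO, hO]; exact ⟨fun h' => htrans h h', fun h' => htrans (hsymm h) h'⟩
  have hcase : ∀ u v, V u → V v → v ≠ u → ∀ g ∈ X, g a = a → g b.1 = b.1 → g u = c.1 →
      (Rel c.1 d.1 (g v) → adj u v) ∧ (Rel c.1 f.1 (g v) → ¬ adj u v) := by
    intro u v hu hv hvu g hg ga gb gu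
    have h1 := hOinv g hg (hpres g ga gb) u v
    rw [gu] at h1
    refine ⟨fun h => ⟨hu, hv, hvu, ?_⟩, fun h h' => hAB.2 ?_⟩
    · rw [← h1, hOeq h]
    · rw [hB, ← hOeq h, h1, h'.2.2.2]
  have hconj : ∀ u v u' v', V u → V v → v ≠ u → V u' → V v' → v' ≠ u' → (adj u v ↔ adj u' v') →
      ∃ h ∈ X, h a = a ∧ h b.1 = b.1 ∧ h u = u' ∧ h v = v' := by
    intro u v u' v' hu hv hvu hu' hv' hvu' hiff
    obtain ⟨g, hg, ga, gb, gu, gv⟩ := hclass u v hu hv hvu
    obtain ⟨g', hg', ga', gb', gu', gv'⟩ := hclass u' v' hu' hv' hvu'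
    obtain ⟨h1, h2⟩ := hcase u v hu hv hvu g hg ga gb gu
    obtain ⟨h1', h2'⟩ := hcase u' v' hu' hv' hvu' g' hg' ga' gb' gu'
    obtain ⟨k, hk, ka, kb, ku, kv⟩ : Rel c.1 (g v) (g' v') := by
      rcases gv with h | h <;> rcases gv' with h' | h'
      · exact htrans (hsymm h) h'
      · exact absurd (hiff.1 (h1 h)) (h2' h')
      · exact absurd (hiff.2 (h1' h')) (h2 h)
      · exact htrans (hsymm h) h'
    refine ⟨g'⁻¹ * k * g, X.mul_mem (X.mul_mem (X.inv_mem hg') hk) hg, ?_, ?_, ?_, ?_⟩ <;>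
      simp only [Perm.mul_apply]
    · rw [ga, ka, Perm.inv_eq_iff_eq, ga']
    · rw [gb, kb, Perm.inv_eq_iff_eq, gb']
    · rw [gu, ku, Perm.inv_eq_iff_eq, gu']
    · rw [kv, Perm.inv_eq_iff_eq]
  have hsymA : ∀ u v, adj u v → adj v u := by
    intro u v huv
    obtain ⟨hu, hv, hvu, hc1⟩ := huv
    by_contra hn
    -- the out-neighbours and the in-neighbours of a vertex
    have hout : ∀ u, V u → (Finset.univ.filter (adj u)).card = A := by
      intro u hu
      obtain ⟨g, hg, ga, gb, gu⟩ := hVtr u c.1 hu hcV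
      refine Finset.card_bij (fun z _ => g z) (fun z hz => ?_) (fun z _ z' _ e => g.injective e) (fun z hz => ?_)
      · obtain ⟨-, h⟩ := Finset.mem_filter.1 hz
        rcases hthree c.1 d.1 f.1 (g z) hcV hdV hfV ((hpres g ga gb z).2 h.2.1) hdc' hfc'
          (fun e => h.2.2.1 (g.injective (e.trans gu.symm))) with h' | h' | h'
        · exact absurd h' hndf
        · exact (hO _ _ _).2 h'
        · exact absurd h ((hcase u z hu h.2.1 h.2.2.1 g hg ga gb gu).2 h')
      · have hzV := hOV _ _ hdV hdc' z hz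
        refine ⟨g⁻¹ z, Finset.mem_filter.2 ⟨Finset.mem_univ _, ?_⟩, by simp⟩
        refine (hcase u (g⁻¹ z) hu ?_ ?_ g hg ga gb gu).1 (by simpa using (hO _ _ _).1 hz)
        · simpa using (hpres g ga gb (g⁻¹ z)).1 (by simpa using hzV.1)
        · intro e; exact hzV.2 (by rw [← gu, ← e]; simp)
    have hin : ∀ u, V u → (Finset.univ.filter (fun z => adj z u)).card = A := by
      intro u hu
      have hconst : ∀ u', V u' → (Finset.univ.filter (fun z => adj z u')).card =
          (Finset.univ.filter (fun z => adj z u)).card := by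
        intro u' hu'
        obtain ⟨g, hg, ga, gb, gu⟩ := hVtr u' u hu' hu
        refine Finset.card_bij (fun z _ => g z) (fun z hz => ?_) (fun z _ z' _ e => g.injective e) (fun z hz => ⟨g⁻¹ z, ?_, by simp⟩)
        · rw [Finset.mem_filter] at hz ⊢
          exact ⟨Finset.mem_univ _, gu ▸ (hadj_inv g hg (hpres g ga gb) z u').2 hz.2⟩
        · rw [Finset.mem_filter] at hz ⊢
          refine ⟨Finset.mem_univ _, (hadj_inv g hg (hpres g ga gb) _ _).1 ?_⟩
          rw [gu]; simpa using hz.2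
      have hs := Finset.sum_card_bipartiteAbove_eq_sum_card_bipartiteBelow (s := Finset.univ.filter V)
        (t := Finset.univ.filter V) adj
      have e1 : ∀ z, (Finset.univ.filter V).bipartiteAbove adj z = Finset.univ.filter (adj z) := fun z => by
        ext x; simp [Finset.bipartiteAbove]; exact fun h => h.2.1
      have e2 : ∀ z, (Finset.univ.filter V).bipartiteBelow adj z = Finset.univ.filter (fun x => adj x z) := fun z => by
        ext x; simp [Finset.bipartiteBelow]; exact fun h => h.1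
      simp only [e1, e2] at hs
      rw [Finset.sum_congr rfl (fun z hz => hout z (Finset.mem_filter.1 hz).2),
        Finset.sum_congr rfl (fun z hz => hconst z (Finset.mem_filter.1 hz).2)] at hs
      simp only [Finset.sum_const, smul_eq_mul] at hs
      exact (Nat.eq_of_mul_eq_mul_left (by rw [hVcard]; omega) hs).symm
    -- every in-neighbour of `v` fails to be an out-neighbour
    have hall : ∀ z, adj z v → ∀ z', V z' → z' ≠ v → ¬ adj v z' → adj z' v := by
      intro z hz z' hz' hzv' hn'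
      by_cases hzz : adj v z
      · -- then all the out-neighbours are in-neighbours
        have hsub : Finset.univ.filter (adj v) ⊆ Finset.univ.filter (fun x => adj x v) := by
          intro x hx
          rw [Finset.mem_filter] at hx ⊢
          obtain ⟨h, hh, ha', hb', hv', hz''⟩ := hconj v z v x hv hz.1 hz.2.2.1.symm hx.2.1 hx.2.2.1
            hx.2.2.2.1 (iff_of_true hzz hx.2)
          exact ⟨Finset.mem_univ _, by rw [← hv', ← hz'']; exact (hadj_inv h hh (hpres h ha' hb') _ _).2 hz⟩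
        have heq := Finset.eq_of_subset_of_card_le hsub (by rw [hout v hv, hin v hv])
        have : u ∈ Finset.univ.filter (adj v) := by
          rw [heq]; exact Finset.mem_filter.2 ⟨Finset.mem_univ _, hu, hv, hvu, hc1⟩
        exact absurd (Finset.mem_filter.1 this).2 hn
      · obtain ⟨h, hh, ha', hb', hv', hz''⟩ := hconj v z v z' hv hz.1 hz.2.2.1.symm hv hz' hzv'
          (iff_of_false hzz hn')
        rw [← hv', ← hz'']
        exact (hadj_inv h hh (hpres h ha' hb') _ _).2 hz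
    have hsub : ((Finset.univ.filter V).erase v) \ Finset.univ.filter (adj v) ⊆ Finset.univ.filter (fun x => adj x v) := by
      intro x hx
      simp only [Finset.mem_sdiff, Finset.mem_erase, Finset.mem_filter, Finset.mem_univ, true_and] at hx
      exact Finset.mem_filter.2 ⟨Finset.mem_univ _, hall u ⟨hu, hv, hvu, hc1⟩ x hx.1.2 hx.1.1 hx.2⟩
    have hle := Finset.card_le_card hsub
    rw [Finset.card_sdiff_of_subset (fun x hx => by
      rw [Finset.mem_filter] at hx
      exact Finset.mem_erase.2 ⟨hx.2.2.2.1, Finset.mem_filter.2 ⟨Finset.mem_univ _, hx.2.2.1⟩⟩),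
      Finset.card_erase_of_mem (Finset.mem_filter.2 ⟨Finset.mem_univ _, hv⟩), hVcard, hout v hv, hin v hv] at hle
    have hsub2 : Finset.univ.filter (fun x => adj x v) ⊆ ((Finset.univ.filter V).erase v) \ Finset.univ.filter (adj v) := by
      intro x hx
      rw [Finset.mem_filter] at hx
      simp only [Finset.mem_sdiff, Finset.mem_erase, Finset.mem_filter, Finset.mem_univ, true_and]
      refine ⟨⟨hx.2.2.2.1.symm, hx.2.1⟩, fun hxv => ?_⟩
      obtain ⟨h, hh, ha', hb', hv', hz''⟩ := hconj v x v x hv hx.2.1 hx.2.2.2.1.symm hv hx.2.1 hx.2.2.2.1.symm Iff.rfl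
      have hsub3 : Finset.univ.filter (adj v) ⊆ Finset.univ.filter (fun z => adj z v) := by
        intro z hz
        rw [Finset.mem_filter] at hz ⊢
        obtain ⟨k, hk, ka, kb, kv, kx⟩ := hconj v x v z hv hx.2.1 hx.2.2.2.1.symm hv hz.2.2.1 hz.2.2.2.1
          (iff_of_true hxv hz.2)
        exact ⟨Finset.mem_univ _, by rw [← kv, ← kx]; exact (hadj_inv k hk (hpres k ka kb) _ _).2 hx.2⟩
      have heq := Finset.eq_of_subset_of_card_le hsub3 (by rw [hout v hv, hin v hv])
      have : u ∈ Finset.univ.filter (adj v) := by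
        rw [heq]; exact Finset.mem_filter.2 ⟨Finset.mem_univ _, hu, hv, hvu, hc1⟩
      exact hn (Finset.mem_filter.1 this).2
    have hle2 := Finset.card_le_card hsub2
    rw [Finset.card_sdiff_of_subset (fun x hx => by
      rw [Finset.mem_filter] at hx
      exact Finset.mem_erase.2 ⟨hx.2.2.2.1, Finset.mem_filter.2 ⟨Finset.mem_univ _, hx.2.2.1⟩⟩),
      Finset.card_erase_of_mem (Finset.mem_filter.2 ⟨Finset.mem_univ _, hv⟩), hVcard, hout v hv, hin v hv] at hle2
    omega
  -- the cyclic group and the involution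
  let C := fixPair L a b.1
  have hab : a ≠ b.1 := b.2.symm
  have he : Odd ((p - 1) / 2) := ⟨(p - 1) / 4, by omega⟩
  have hCcard : Nat.card C = (p - 1) / 2 := by
    have h := card_fixPair L hL2 a b.1 hab
    rw [hΩ] at h
    have e1 : (p + 1) * (p + 1) - (p + 1) = (p + 1) * p := by rw [← Nat.mul_sub_one]; simp
    rw [e1] at h
    have : (p + 1) * p * (2 * Nat.card C) = (p + 1) * p * (p - 1) := by
      rw [mul_left_comm, h, hL]; ring
    have := Nat.eq_of_mul_eq_mul_left (Nat.mul_pos (by omega) hp.pos) this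
    omega
  let e : ZMod p ≃ {z // z ≠ a} := (Equiv.addRight (e0.symm b)).trans e0
  have heb : e 0 = b := by simp [e]
  have hlin : ∀ g ∈ C, ∃ k : ZMod p, ∀ i, g (e i).1 = (e (k * i)).1 := by
    rintro g ⟨hg, ga, gb⟩
    obtain ⟨k, t, hkt⟩ := haff g hg ga
    refine ⟨k, fun i => ?_⟩
    have h0 : k * e0.symm b + t = e0.symm b := by
      have h := hkt (e0.symm b)
      rw [e0.apply_symm_apply, gb] at h
      exact e0.injective ((Subtype.ext h.symm).trans (e0.apply_symm_apply b).symm)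
    have h := hkt (i + e0.symm b)
    simp only [e, Equiv.trans_apply, Equiv.coe_addRight]
    rw [h, show k * (i + e0.symm b) + t = k * i + e0.symm b by linear_combination h0]
  choose κ hκ using hlin
  have hsemi : ∀ (g) (hg : g ∈ C) (z : Ω), V z → g z = z → g = 1 := by
    intro g hg z hz hgz
    obtain ⟨i, hi⟩ := e.surjective ⟨z, hz.1⟩
    have hi0 : i ≠ 0 := fun h => hz.2 (by rw [← heb, ← h, hi])
    have h := hκ g hg i
    rw [hi] at h
    have h' : κ g hg * i = i := e.injective (Subtype.ext (by rw [← h, hgz, hi]))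
    have hk : κ g hg = 1 := mul_right_cancel₀ hi0 (h'.trans (one_mul i).symm)
    refine Equiv.ext fun x => ?_
    by_cases hx : x = a
    · subst hx; exact hg.2.1
    · obtain ⟨j, hj⟩ := e.surjective ⟨x, hx⟩
      have h := hκ g hg j
      rw [hk, one_mul, hj] at h
      exact h
  have hcomm : ∀ g ∈ C, ∀ h ∈ C, g * h = h * g := by
    intro g hg h hh
    refine Equiv.ext fun x => ?_
    simp only [Perm.mul_apply]
    by_cases hx : x = a
    · subst hx; rw [hh.2.1, hg.2.1, hh.2.1]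
    · obtain ⟨j, hj⟩ := e.surjective ⟨x, hx⟩
      rw [show x = (e j).1 by rw [hj], hκ h hh, hκ g hg, hκ g hg, hκ h hh, mul_left_comm]
  letI : CommGroup C := { (inferInstance : Group C) with mul_comm := fun g h => Subtype.ext (hcomm _ g.2 _ h.2) }
  haveI : IsCyclic C := by
    let φ : C →* ZMod p :=
      { toFun := fun g => κ g.1 g.2
        map_one' := by
          have h := hκ 1 C.one_mem 1
          rw [Perm.one_apply, mul_one] at h
          exact (e.injective (Subtype.ext h)).symm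
        map_mul' := fun g h => by
          have h1 := hκ (g.1 * h.1) (C.mul_mem g.2 h.2) 1
          rw [Perm.mul_apply, hκ h.1 h.2, hκ g.1 g.2, mul_one, mul_one] at h1
          exact (e.injective (Subtype.ext h1)).symm }
    refine isCyclic_of_subgroup_isDomain φ fun g h hgh => Subtype.ext ?_
    refine Equiv.ext fun x => ?_
    by_cases hx : x = a
    · subst hx; rw [g.2.2.1, h.2.2.1]
    · obtain ⟨j, hj⟩ := e.surjective ⟨x, hx⟩
      have hgh' : κ g.1 g.2 = κ h.1 h.2 := hgh
      rw [show x = (e j).1 by rw [hj], hκ g.1 g.2, hκ h.1 h.2, hgh']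
  have hCodd : Odd (Fintype.card C) := by rw [← Nat.card_eq_fintype_card, hCcard]; exact he
  have hpowC : ∀ g ∈ C, g ^ ((p - 1) / 2) = 1 := fun g hg => by
    have h := pow_card_eq_one' (x := (⟨g, hg⟩ : C))
    rw [hCcard] at h
    exact congrArg Subtype.val h
  -- an involution exchanging the two points
  obtain ⟨g0, hg0, g0a, g0b⟩ := hL2 a b.1 b.1 a hab hab.symm
  have hg02 : g0 * g0 ∈ C := ⟨L.mul_mem hg0 hg0, by simp [g0a, g0b], by simp [g0a, g0b]⟩
  set w := g0 ^ ((p - 1) / 2) with hw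
  have hwL : w ∈ L := L.pow_mem hg0 _
  have hww : w * w = 1 := by
    rw [hw, ← (Commute.refl g0).mul_pow]; exact hpowC _ hg02
  have hwab : w a = b.1 ∧ w b.1 = a := by
    obtain ⟨j, hj⟩ := he
    have hfix : ∀ i : ℕ, ((g0 * g0) ^ i) a = a ∧ ((g0 * g0) ^ i) b.1 = b.1 := fun i => (C.pow_mem hg02 i).2
    have hw' : w = g0 * (g0 * g0) ^ j := by
      rw [hw, hj, ← pow_two, ← pow_mul, ← pow_succ']
    rw [hw']
    simp only [Perm.mul_apply, (hfix j).1, (hfix j).2, g0a, g0b, and_self]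
  have hw1 : w ≠ 1 := fun h => hab (by rw [h] at hwab; exact hwab.1)
  have hwinv : w⁻¹ = w := inv_eq_of_mul_eq_one_right hww
  have hwfix : ∀ z, w z ≠ z := by
    intro z hz
    have htr : ∀ x y : Ω, ∃ g ∈ L, g x = y := fun x y => by
      haveI : Nontrivial Ω := Fintype.one_lt_card_iff_nontrivial.1 (by omega)
      obtain ⟨x', hx'⟩ := exists_ne x
      obtain ⟨y', hy'⟩ := exists_ne y
      obtain ⟨g, hg, h, -⟩ := hL2 x x' y y' hx'.symm hy'.symm
      exact ⟨g, hg, h⟩
    have h1 := card_fixPoint L htr z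
    rw [hΩ] at h1
    have h2 : Nat.card (fixPoint L z) = p * ((p - 1) / 2) := by
      have hh : p - 1 = 2 * ((p - 1) / 2) := by omega
      have : (p + 1) * (2 * Nat.card (fixPoint L z)) = (p + 1) * (p * (p - 1)) := by
        rw [mul_left_comm, h1, hL]
      have := Nat.eq_of_mul_eq_mul_left (by omega) this
      have e1 : p * (p - 1) = 2 * (p * ((p - 1) / 2)) := by
        calc p * (p - 1) = p * (2 * ((p - 1) / 2)) := by rw [← hh]
          _ = _ := by ring
      omega
    have hord : orderOf (⟨w, hwL, hz⟩ : fixPoint L z) = 2 :=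
      orderOf_eq_prime (Subtype.ext (by rw [pow_two]; exact hww)) (fun h => hw1 (congrArg Subtype.val h))
    have := orderOf_dvd_natCard (⟨w, hwL, hz⟩ : fixPoint L z)
    rw [hord, h2] at this
    have hoddp : Odd (p * ((p - 1) / 2)) := (hp.odd_of_ne_two hp2).mul he
    exact Nat.not_even_iff_odd.2 hoddp (even_iff_two_dvd.2 this)
  have hwV : ∀ z, V (w z) ↔ V z := fun z => by
    have e1 : w z = a ↔ z = b.1 := ⟨fun h => w.injective (h.trans hwab.2.symm), fun h => h ▸ hwab.2⟩
    have e2 : w z = b.1 ↔ z = a := ⟨fun h => w.injective (h.trans hwab.1.symm), fun h => h ▸ hwab.1⟩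
    simp only [V, ne_eq, e1, e2, and_comm]
  have hwC : ∀ g ∈ C, w * g * w = g⁻¹ := by
    intro g hg
    have hmem' : w * g * w ∈ C := by
      refine ⟨L.mul_mem (L.mul_mem hwL hg.1) hwL, ?_, ?_⟩
      · simp only [Perm.mul_apply, hwab.1, hg.2.2, hwab.2]
      · simp only [Perm.mul_apply, hwab.2, hg.2.1, hwab.1]
    have hd : g * (w * g * w) = 1 := by
      refine hcent hp4 w hwL hww hw1 _ (C.mul_mem hg hmem').1 ?_ (hpowC _ (C.mul_mem hg hmem'))
      calc g * (w * g * w) * w = (g * w) * g * (w * w) := by group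
        _ = w * ((w * g * w) * g) := by rw [hww]; simp only [← mul_assoc, hww]; group
        _ = w * (g * (w * g * w)) := by rw [hcomm _ hmem' _ hg]
    exact eq_inv_of_mul_eq_one_right hd
  -- the two orbits of the cyclic group
  set u0 := c.1 with hu0
  set v0 := w c.1 with hv0
  have hv0V : V v0 := (hwV _).2 hcV
  have hCV : ∀ g ∈ C, ∀ z, V (g z) ↔ V z := fun g hg => hpres g hg.2.1 hg.2.2
  have hCX : ∀ g ∈ C, g ∈ X := fun g hg => hLX hg.1
  have hsep : ∀ g h : C, g.1 u0 ≠ h.1 v0 := by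
    intro g h he'
    set k : C := h⁻¹ * g with hk
    have hkv : k.1 u0 = v0 := by
      rw [hk, Subgroup.coe_mul, Subgroup.coe_inv, Perm.mul_apply, he', Perm.inv_eq_iff_eq]
    obtain ⟨j, hj⟩ := hCodd
    have hkpow : k ^ (2 * j + 1) = 1 := hj ▸ pow_card_eq_one
    apply hwfix ((k ^ (j + 1) : C).1 u0)
    have h1 : w * (k ^ (j + 1) : C).1 = ((k ^ (j + 1))⁻¹ : C).1 * w := by
      rw [Subgroup.coe_inv, ← hwC _ (k ^ (j + 1) : C).2]
      simp only [mul_assoc, hww, mul_one]
    rw [← Perm.mul_apply, h1, Perm.mul_apply, ← hv0, ← hkv, ← Perm.mul_apply, ← Subgroup.coe_mul]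
    refine congrArg (fun x : C => x.1 u0) ?_
    rw [inv_mul_eq_iff_eq_mul, ← pow_add, show j + 1 + (j + 1) = (2 * j + 1) + 1 by omega, pow_succ, hkpow, one_mul]
  have hinj : ∀ (z : Ω), V z → ∀ g h : C, g.1 z = h.1 z → g = h := by
    intro z hz g h he'
    have := hsemi (h⁻¹ * g : C).1 (h⁻¹ * g).2 z hz
      (by rw [Subgroup.coe_mul, Subgroup.coe_inv, Perm.mul_apply, he', Perm.inv_eq_iff_eq])
    exact (inv_mul_eq_one.1 (Subtype.ext this : h⁻¹ * g = 1)).symm
  set I1 := (Finset.univ : Finset C).image (fun g => g.1 u0) with hI1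
  set I2 := (Finset.univ : Finset C).image (fun g => g.1 v0) with hI2
  have hIdisj : Disjoint I1 I2 := Finset.disjoint_left.2 fun z h1 h2 => by
    obtain ⟨g, -, rfl⟩ := Finset.mem_image.1 h1
    obtain ⟨h, -, he'⟩ := Finset.mem_image.1 h2
    exact hsep g h he'.symm
  have hIall : I1 ∪ I2 = Finset.univ.filter V := by
    refine Finset.eq_of_subset_of_card_le (fun z hz => ?_) ?_
    · rw [Finset.mem_filter]
      refine ⟨Finset.mem_univ _, ?_⟩
      rcases Finset.mem_union.1 hz with h | h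
      · obtain ⟨g, -, rfl⟩ := Finset.mem_image.1 h; exact (hCV g g.2 _).2 hcV
      · obtain ⟨g, -, rfl⟩ := Finset.mem_image.1 h; exact (hCV g g.2 _).2 hv0V
    · rw [hVcard, Finset.card_union_of_disjoint hIdisj, hI1, hI2,
        Finset.card_image_of_injective _ (fun g h => hinj u0 hcV g h),
        Finset.card_image_of_injective _ (fun g h => hinj v0 hv0V g h), Finset.card_univ, ← Nat.card_eq_fintype_card, hCcard]
      omega
  -- the equations for a relation
  have mk : ∀ r : Ω → Ω → Prop, (∀ u v, r u v → V u ∧ V v ∧ v ≠ u) → (∀ u v, r u v → r v u) →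
      (∀ h ∈ X, (∀ z, V (h z) ↔ V z) → ∀ u v, r (h u) (h v) ↔ r u v) →
      (∀ u v u' v', V u → V v → v ≠ u → V u' → V v' → v' ≠ u' → (r u v ↔ r u' v') →
        ∃ h ∈ X, h a = a ∧ h b.1 = b.1 ∧ h u = u' ∧ h v = v') →
      (∃ u v, r u v) → (∃ u v, V u ∧ V v ∧ v ≠ u ∧ ¬ r u v) →
      ∃ (X1 Y1 : Finset C) (l μ : ℕ), DihGraph.Srg X1 Y1 l μ ∧ 0 < μ ∧
        (∀ g, g ∈ X1 ↔ r u0 (g.1 u0)) ∧ (∀ g, g ∈ Y1 ↔ r u0 (g.1 v0)) := by
    intro r hrV hrsymm hrinv hrconj hrex hrnex
    obtain ⟨u1, v1, hr1⟩ := hrex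
    obtain ⟨u2, v2, hu2, hv2, hvu2, hr2⟩ := hrnex
    let cn : Ω → Ω → ℕ := fun u v => (Finset.univ.filter (fun z => r u z ∧ r v z)).card
    have hcn : ∀ h ∈ X, (∀ z, V (h z) ↔ V z) → ∀ u v, cn (h u) (h v) = cn u v := by
      intro h hh hV u v
      refine (Finset.card_bij (fun z _ => h z) (fun z hz => ?_) (fun z _ z' _ e => h.injective e) (fun z hz => ⟨h⁻¹ z, ?_, by simp⟩)).symm
      · simp only [Finset.mem_filter, Finset.mem_univ, true_and] at hz ⊢
        exact ⟨(hrinv h hh hV _ _).2 hz.1, (hrinv h hh hV _ _).2 hz.2⟩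
      · simp only [Finset.mem_filter, Finset.mem_univ, true_and] at hz ⊢
        exact ⟨(hrinv h hh hV _ _).1 (by simpa using hz.1), (hrinv h hh hV _ _).1 (by simpa using hz.2)⟩
    have hcval : ∀ u v, V u → V v → v ≠ u → cn u v = if r u v then cn u1 v1 else cn u2 v2 := by
      intro u v hu hv hvu
      split_ifs with hr
      · obtain ⟨h, hh, ha', hb', e1, e2⟩ := hrconj u1 v1 u v (hrV _ _ hr1).1 (hrV _ _ hr1).2.1 (hrV _ _ hr1).2.2
          hu hv hvu (iff_of_true hr1 hr)
        rw [← e1, ← e2, hcn h hh (hpres h ha' hb')]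
      · obtain ⟨h, hh, ha', hb', e1, e2⟩ := hrconj u2 v2 u v hu2 hv2 hvu2 hu hv hvu (iff_of_false hr2 hr)
        rw [← e1, ← e2, hcn h hh (hpres h ha' hb')]
    let X1 := (Finset.univ : Finset C).filter (fun g => r u0 (g.1 u0))
    let Y1 := (Finset.univ : Finset C).filter (fun g => r u0 (g.1 v0))
    have hX1 : ∀ g, g ∈ X1 ↔ r u0 (g.1 u0) := fun g => by simp [X1]
    have hY1 : ∀ g, g ∈ Y1 ↔ r u0 (g.1 v0) := fun g => by simp [Y1]
    have hshift : ∀ g h : C, ∀ z, r (g.1 u0) (h.1 z) ↔ r u0 ((g⁻¹ * h : C).1 z) := fun g h z => by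
      rw [Subgroup.coe_mul, Subgroup.coe_inv, Perm.mul_apply]
      conv_rhs => rw [← hrinv g.1 (hCX _ g.2) (hCV _ g.2)]
      simp
    have hflip : ∀ g h : C, r (g.1 v0) (h.1 v0) ↔ h⁻¹ * g ∈ X1 := fun g h => by
      have hwx : ∀ k : C, w (k.1 v0) = (k⁻¹ : C).1 u0 := fun k => by
        rw [hv0, ← Perm.mul_apply, ← Perm.mul_apply, hwC _ k.2, Subgroup.coe_inv]
      rw [← hrinv w (hLX hwL) hwV, hwx, hwx, hshift, hX1, inv_inv, mul_comm]
    have hsplit : ∀ v, cn u0 v = (X1.filter (fun x => r v (x.1 u0))).card + (Y1.filter (fun x => r v (x.1 v0))).card := by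
      intro v
      have hset : Finset.univ.filter (fun z => r u0 z ∧ r v z) =
          I1.filter (fun z => r u0 z ∧ r v z) ∪ I2.filter (fun z => r u0 z ∧ r v z) := by
        rw [← Finset.filter_union, hIall, Finset.filter_filter]
        refine Finset.filter_congr fun z _ => ⟨fun h => ⟨(hrV _ _ h.1).2.1, h⟩, fun h => h.2⟩
      show (Finset.univ.filter (fun z => r u0 z ∧ r v z)).card = _
      rw [hset, Finset.card_union_of_disjoint (hIdisj.mono (Finset.filter_subset _ _) (Finset.filter_subset _ _)),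
        hI1, hI2, Finset.filter_image, Finset.filter_image,
        Finset.card_image_of_injective _ (fun g h => hinj u0 hcV g h),
        Finset.card_image_of_injective _ (fun g h => hinj v0 hv0V g h)]
      simp only [X1, Y1, Finset.filter_filter]
    have hsymX : ∀ g ∈ X1, g⁻¹ ∈ X1 := fun g hg => by
      have := hrsymm _ _ ((hX1 g).1 hg)
      have h' := (hshift g 1 u0).1 (by simpa using this)
      rw [hX1]; simpa using h'
    refine ⟨X1, Y1, cn u1 v1, cn u2 v2, ⟨?_, hsymX, ?_, ?_⟩, ?_, hX1, hY1⟩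
    · rw [hX1]; intro h; exact (hrV _ _ h).2.2 (by simp)
    · intro g
      by_cases hg : g = 1
      · subst hg
        rw [if_pos rfl, Finset.filter_true_of_mem (fun x hx => by simpa using hsymX x hx),
          Finset.filter_true_of_mem (fun x hx => by simpa using hx)]
      · rw [if_neg hg]
        have hne1 : g.1 u0 ≠ u0 := fun h => hg (hinj u0 hcV g 1 (by simpa using h))
        have := hcval u0 (g.1 u0) hcV ((hCV _ g.2 _).2 hcV) hne1
        rw [hsplit] at this
        simp only [hX1] at this ⊢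
        rw [← this]
        congr 2
        · refine Finset.filter_congr fun x _ => ?_
          rw [hshift]
          constructor
          · intro h; have := (hX1 _).1 (hsymX _ ((hX1 _).2 h)); simpa [mul_comm] using this
          · intro h; have := (hX1 _).1 (hsymX _ ((hX1 _).2 h)); simpa [mul_comm] using this
        · refine Finset.filter_congr fun x _ => ?_
          rw [hshift, hY1]
    · intro g
      have hne1 : g.1 v0 ≠ u0 := fun h => hsep 1 g (by simpa using h.symm)
      have := hcval u0 (g.1 v0) hcV ((hCV _ g.2 _).2 hv0V) hne1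
      rw [hsplit] at this
      simp only [hY1] at this ⊢
      rw [← this, two_mul]
      have e1 : X1.filter (fun x => r (g.1 v0) (x.1 u0)) = X1.filter (fun x => x⁻¹ * g ∈ Y1) := by
        refine Finset.filter_congr fun x _ => ?_
        rw [hY1]
        exact ⟨fun h => (hshift x g v0).1 (hrsymm _ _ h), fun h => hrsymm _ _ ((hshift x g v0).2 h)⟩
      have e2 : (Y1.filter (fun x => r (g.1 v0) (x.1 v0))).card = (X1.filter (fun x => x⁻¹ * g ∈ Y1)).card := by
        refine Finset.card_bij (fun x _ => x⁻¹ * g) (fun x hx => ?_) (fun x _ y _ e => inv_injective (mul_right_cancel e))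
          (fun y hy => ⟨y⁻¹ * g, ?_, by simp [mul_assoc]⟩)
        · rw [Finset.mem_filter, hflip] at hx
          rw [Finset.mem_filter]
          exact ⟨hx.2, by simpa [mul_assoc] using hx.1⟩
        · rw [Finset.mem_filter] at hy
          rw [Finset.mem_filter, hflip]
          exact ⟨hy.2, by simpa [mul_assoc] using hy.1⟩
      rw [e2, e1]
      simp only [hY1]
    · -- otherwise the relation yields a block
      by_contra h0
      have hzero : cn u2 v2 = 0 := Nat.eq_zero_of_not_pos h0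
      have hrtrans : ∀ u v z, r u v → r v z → u = z ∨ r u z := by
        intro u v z h1 h2
        by_cases huz : u = z
        · exact Or.inl huz
        right
        by_contra hn
        have hval := hcval u z (hrV _ _ h1).1 (hrV _ _ h2).2.1 (Ne.symm huz)
        rw [if_neg hn, hzero] at hval
        have hmem' : v ∈ Finset.univ.filter (fun x => r u x ∧ r z x) :=
          Finset.mem_filter.2 ⟨Finset.mem_univ _, h1, hrsymm _ _ h2⟩
        exact Finset.notMem_empty v (Finset.card_eq_zero.1 hval ▸ hmem')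
      haveI : MulAction.IsPretransitive Γ {z // z ≠ a} := hΓtr
      have hprim := Cfsg.Agent.S3612.result (G := Γ) (Ω := {z // z ≠ a}) p hp
        (by rw [Nat.card_eq_fintype_card, hR]) hΓtr hns P hN hp7 b
      let Z := SubMulAction.ofStabilizer Γ b
      have hZV : ∀ z : Z, V z.1.1 := fun z =>
        ⟨z.1.2, fun h => (SubMulAction.mem_ofStabilizer_iff Γ b).1 z.2 (Subtype.ext h)⟩
      have hact : ∀ k : MulAction.stabilizer Γ b, ∃ h ∈ X, (∀ z, V (h z) ↔ V z) ∧ ∀ z : Z, (k • z).1.1 = h z.1.1 := by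
        intro k
        obtain ⟨h, hh, ha', hv'⟩ := (hmem k.1.1).1 k.1.2
        have hb' : h b.1 = b.1 := (hv' b).symm.trans (congrArg Subtype.val k.2)
        exact ⟨h, hh, hpres h ha' hb', fun z => hv' z.1⟩
      let r' : Z → Z → Prop := fun x y => x.1.1 = y.1.1 ∨ r x.1.1 y.1.1
      have hr't : ∀ x y z, r' x y → r' y z → r' x z := by
        intro x y z hxy hyz
        rcases hxy with hxy | hxy
        · rcases hyz with h | h
          · exact Or.inl (hxy.trans h)
          · exact Or.inr (hxy ▸ h)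
        rcases hyz with hyz | hyz
        · exact Or.inr (hyz ▸ hxy)
        exact hrtrans _ _ _ hxy hyz
      have hr'i : ∀ (k : MulAction.stabilizer Γ b) x y, r' x y → r' (k • x) (k • y) := by
        intro k x y h
        obtain ⟨k', hk', hkV, hkv⟩ := hact k
        rcases h with h | h
        · exact Or.inl (by rw [hkv, hkv, h])
        · exact Or.inr (by rw [hkv, hkv]; exact (hrinv k' hk' hkV _ _).2 h)
      have hr's : ∀ x y, r' x y → r' y x := fun x y h => h.imp Eq.symm (hrsymm _ _)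
      have hV1 := hrV _ _ hr1
      let x0 : Z := ⟨⟨u1, hV1.1.1⟩, (SubMulAction.mem_ofStabilizer_iff Γ b).2 fun h => hV1.1.2 (congrArg Subtype.val h)⟩
      have hblock : MulAction.IsBlock (MulAction.stabilizer Γ b) {x : Z | r' x0 x} := by
        rw [MulAction.isBlock_iff_smul_eq_of_nonempty]
        intro k hne'
        obtain ⟨z, hz1, hz2⟩ := hne'
        obtain ⟨z0, hz0, rfl⟩ := hz1
        have hx : r' x0 (k • x0) := hr't _ _ _ hz2 (hr'i k _ _ (hr's _ _ hz0))
        ext y
        constructor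
        · rintro ⟨y0, hy0, rfl⟩; exact hr't _ _ _ hx (hr'i k _ _ hy0)
        · intro hy
          refine ⟨k⁻¹ • y, ?_, smul_inv_smul k y⟩
          have := hr'i k⁻¹ _ _ (hr't _ _ _ (hr's _ _ hx) hy)
          rwa [inv_smul_smul] at this
      rcases hprim.isTrivialBlock_of_isBlock hblock with h | h
      · let y1 : Z := ⟨⟨v1, hV1.2.1.1⟩, (SubMulAction.mem_ofStabilizer_iff Γ b).2 fun h => hV1.2.1.2 (congrArg Subtype.val h)⟩
        have := h (show x0 ∈ {x : Z | r' x0 x} from Or.inl rfl) (show y1 ∈ {x : Z | r' x0 x} from Or.inr hr1)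
        exact hV1.2.2 (congrArg (fun z : Z => z.1.1) this).symm
      · let p2 : Z := ⟨⟨u2, hu2.1⟩, (SubMulAction.mem_ofStabilizer_iff Γ b).2 fun h => hu2.2 (congrArg Subtype.val h)⟩
        let q2 : Z := ⟨⟨v2, hv2.1⟩, (SubMulAction.mem_ofStabilizer_iff Γ b).2 fun h => hv2.2 (congrArg Subtype.val h)⟩
        have hp' : r' x0 p2 := (h ▸ Set.mem_univ p2 : p2 ∈ {x : Z | r' x0 x})
        have hq' : r' x0 q2 := (h ▸ Set.mem_univ q2 : q2 ∈ {x : Z | r' x0 x})
        rcases hr't _ _ _ (hr's _ _ hp') hq' with h' | h'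
        · exact hvu2 h'.symm
        · exact hr2 h'
  have hc_d : adj c.1 d.1 :=
    (hcase c.1 d.1 hcV hdV hdc' 1 X.one_mem rfl rfl rfl).1 (hrefl _ _)
  have hc_f : ¬ adj c.1 f.1 :=
    (hcase c.1 f.1 hcV hfV hfc' 1 X.one_mem rfl rfl rfl).2 (hrefl _ _)
  obtain ⟨X1, Y1, l, μ, hs1, hμ1, hX1, hY1⟩ := mk adj (fun u v h => ⟨h.1, h.2.1, h.2.2.1⟩) hsymA hadj_inv hconj
    ⟨_, _, hc_d⟩ ⟨_, _, hcV, hfV, hfc', hc_f⟩
  obtain ⟨X2, Y2, l', μ', hs2, hμ2, hX2, hY2⟩ := mk (fun u v => V u ∧ V v ∧ v ≠ u ∧ ¬ adj u v)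
    (fun u v h => ⟨h.1, h.2.1, h.2.2.1⟩)
    (fun u v h => ⟨h.2.1, h.1, h.2.2.1.symm, fun h' => h.2.2.2 (hsymA _ _ h')⟩)
    (fun h hh hV u v => by simp only [hV, ne_eq, h.injective.eq_iff, hadj_inv h hh hV])
    (fun u v u' v' hu hv hvu hu' hv' hvu' hiff => hconj u v u' v' hu hv hvu hu' hv' hvu'
      (by simpa [hu, hv, hvu, hu', hv', hvu', not_iff_not] using hiff))
    ⟨_, _, hcV, hfV, hfc', hc_f⟩ ⟨_, _, hcV, hdV, hdc', fun h => h.2.2.2 hc_d⟩
  refine DihGraph.no_dihedral_srg hCodd hs1 hs2 hμ1 hμ2 (fun g => ?_) (fun g => ?_)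
  · rw [hX2, hX1]
    have hgV := (hCV _ g.2 u0).2 hcV
    constructor
    · rintro ⟨-, -, h1, h2⟩
      exact ⟨fun h => h1 (by rw [h]; rfl), h2⟩
    · rintro ⟨h1, h2⟩
      exact ⟨hcV, hgV, fun h => h1 (hinj u0 hcV g 1 (by simpa using h)), h2⟩
  · rw [hY2, hY1]
    constructor
    · rintro ⟨-, -, -, h2⟩; exact h2
    · intro h2
      exact ⟨hcV, (hCV _ g.2 _).2 hv0V, fun h => hsep 1 g (by simpa using h.symm), h2⟩

end Cfsg.Lib.Perm.ProjOver
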