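import Cfsg.Agent.Lib.Perm.PermCharacter
import Cfsg.Agent.Lib.Char.Linear
import Cfsg.Agent.Lib.Char.Galois

/-! Scalars attached to the orbitals of a transitive group and to the irreducible characters:
the eigenvalue of an orbital on a constituent, and the two trace relations. -/

set_option autoImplicit false
set_option linter.unusedSectionVars false

namespace Cfsg.Agent.OrbitalScalars

open Cfsg Cfsg.Lib.Char Cfsg.Agent.CentralizerRing Cfsg.Agent.PermCharacter Module
open scoped ComplexConjugate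

universe u v

variable {G : Type u} [Group G] [Fintype G]

/-- Mixed convolution of two irreducible characters. -/
theorem conv_irr {χ ψ : G → ℂ} (hχ : IsIrrCharacter G χ) (hψ : IsIrrCharacter G ψ) (u : G) :
    ∑ t, conj (χ t) * ψ (t * u) =
      classInner ψ χ * (Nat.card G : ℂ) * ψ u / ψ 1 := by
  obtain ⟨n, σ, hσ, rfl⟩ := hψ
  have h1 : ∑ t, conj (χ t) * σ.character (t * u) =
      LinearMap.trace ℂ (Fin n → ℂ) (avg σ χ * σ u) := by
    simp only [avg, averageOp, Finset.sum_mul, map_sum, smul_mul_assoc, map_smul, smul_eq_mul,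
      ← map_mul]
    rfl
  rw [h1, averageOp_irr σ hχ, smul_mul_assoc, map_smul, smul_eq_mul,
    show LinearMap.id * σ u = σ u from LinearMap.id_comp _, σ.char_one]
  change _ * σ.character u = _
  ring

theorem avg_comp {V : Type v} [AddCommGroup V] [Module ℂ V] (ρ : Representation ℂ G V)
    {χ ψ : G → ℂ} (hχ : IsIrrCharacter G χ) (hψ : IsIrrCharacter G ψ) :
    avg ρ χ ∘ₗ avg ρ ψ = (classInner χ ψ * (Nat.card G : ℂ) / ψ 1) • avg ρ ψ := by
  refine LinearMap.ext fun v => ?_
  simp only [LinearMap.comp_apply, LinearMap.smul_apply, avg, averageOp_apply, map_sum, map_smul,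
    Finset.smul_sum, smul_smul]
  have h0 : conj (ψ 1) = ψ 1 := by
    obtain ⟨d, hd⟩ := hψ.isCharacter.exists_degree
    simp [hd]
  calc ∑ g, ∑ h, (conj (ψ g) * conj (χ h)) • ρ h (ρ g v) = ∑ h, ∑ g, (conj (χ h) * conj (ψ g)) • ρ (h * g) v := by
        rw [Finset.sum_comm]
        simp [map_mul, mul_comm]
    _ = ∑ h, ∑ u, (conj (χ h) * conj (ψ (h⁻¹ * u))) • ρ u v :=
        Finset.sum_congr rfl fun h _ => Fintype.sum_equiv (Equiv.mulLeft h) _ _ fun g => by simp
    _ = _ := by
        rw [Finset.sum_comm]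
        refine Finset.sum_congr rfl fun u _ => ?_
        rw [← Finset.sum_smul]
        congr 1
        have h1 : ∑ h, conj (χ h) * conj (ψ (h⁻¹ * u)) = conj (∑ t, conj (χ t) * ψ (t * u)) := by
          rw [map_sum]
          refine Fintype.sum_equiv (Equiv.inv G) _ _ fun h => ?_
          obtain ⟨n, ρ', rfl⟩ := hχ.isCharacter
          simp [character_inv]
        rw [h1, conv_irr hχ hψ u, map_div₀, map_mul, map_mul, classInner_conj_symm,
          Complex.conj_natCast, h0]
        ring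

variable (Ω : Type v) [Fintype Ω] [MulAction G Ω]

/-- The number of points that `g` moves along the orbital of `(a, b)`. -/
noncomputable def orbCount (a b : Ω) (g : G) : ℕ :=
  Nat.card {y : Ω // ∃ h : G, h • a = y ∧ h • b = g • y}

/-- The eigenvalue of the orbital of `(a, b)` on the constituent `ψ`. -/
noncomputable def eig (a b : Ω) (ψ : G → ℂ) : ℂ :=
  classInner (fun g => (orbCount Ω a b g : ℂ)) ψ

theorem trace_comp_rho (a b : Ω) (g : G) :
    LinearMap.trace ℂ (Ω → ℂ) (orbitalOp (G := G) Ω a b ∘ₗ permRep ℂ G Ω g) =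
      (orbCount Ω a b g : ℂ) := by
  classical
  rw [LinearMap.trace_eq_matrix_trace ℂ (Pi.basisFun ℂ Ω), Matrix.trace]
  simp only [Matrix.diag, LinearMap.toMatrix_apply, Pi.basisFun_apply, Pi.basisFun_repr,
    LinearMap.comp_apply, permRep_single, orbitalOp_apply, Pi.single_apply]
  rw [orbCount, Nat.card_eq_fintype_card, Fintype.card_subtype,
    ← Finset.sum_boole]
  refine Finset.sum_congr rfl fun y _ => ?_
  rw [Finset.sum_eq_single (g • y)]
  · simp
  · intro z _ hz
    simp [hz]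
  · simp

theorem orbCount_conj (a b : Ω) (g h : G) : orbCount Ω a b (h * g * h⁻¹) = orbCount Ω a b g := by
  refine Nat.card_congr (Equiv.subtypeEquiv (MulAction.toPerm h⁻¹) fun y => ?_)
  simp only [MulAction.toPerm_apply]
  constructor
  · rintro ⟨k, h1, h2⟩
    refine ⟨h⁻¹ * k, by rw [mul_smul, h1], ?_⟩
    rw [mul_smul, h2, mul_smul, mul_smul, inv_smul_smul]
  · rintro ⟨k, h1, h2⟩
    refine ⟨h * k, by rw [mul_smul, h1, smul_inv_smul], ?_⟩
    rw [mul_smul, h2, mul_smul, mul_smul]

theorem orbCount_swap (a b : Ω) (g : G) : orbCount Ω b a g = orbCount Ω a b g⁻¹ := by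
  refine Nat.card_congr (Equiv.subtypeEquiv (MulAction.toPerm g) fun y => ?_)
  simp only [MulAction.toPerm_apply]
  constructor
  · rintro ⟨k, h1, h2⟩
    exact ⟨k, h2, by rw [h1, inv_smul_smul]⟩
  · rintro ⟨k, h1, h2⟩
    exact ⟨k, by rw [h2, inv_smul_smul], h1⟩

theorem eig_swap (a b : Ω) {ψ : G → ℂ} (hψ : IsCharacter G ψ) :
    eig Ω b a ψ = conj (eig Ω a b ψ) := by
  simp only [eig, classInner, map_mul, map_inv₀, map_sum, Complex.conj_natCast, Complex.conj_conj]
  congr 1
  refine Fintype.sum_equiv (Equiv.inv G) _ _ fun g => ?_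
  obtain ⟨n, ρ, rfl⟩ := hψ
  simp [orbCount_swap Ω a b g, character_inv]

/-- `|G| · eig` is a trace. -/
theorem trace_comp_avg (a b : Ω) (ψ : G → ℂ) :
    LinearMap.trace ℂ (Ω → ℂ) (orbitalOp (G := G) Ω a b ∘ₗ avg (permRep ℂ G Ω) ψ) =
      (Nat.card G : ℂ) * eig Ω a b ψ := by
  rw [eig, classInner, ← mul_assoc, mul_inv_cancel₀ card_cast_ne_zero, one_mul]
  have : orbitalOp (G := G) Ω a b ∘ₗ avg (permRep ℂ G Ω) ψ =
      ∑ g, conj (ψ g) • (orbitalOp (G := G) Ω a b ∘ₗ permRep ℂ G Ω g) := by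
    refine LinearMap.ext fun v => ?_
    simp [avg, averageOp_apply, map_sum, map_smul]
  rw [this, map_sum]
  refine Finset.sum_congr rfl fun g _ => ?_
  rw [map_smul, trace_comp_rho, smul_eq_mul, mul_comm]

theorem eig_eq_zero (a b : Ω) {ψ : G → ℂ} (hψ : IsIrrCharacter G ψ)
    (h : classInner (permRep ℂ G Ω).character ψ = 0) : eig Ω a b ψ = 0 := by
  have h1 := trace_comp_avg Ω a b ψ
  rw [avg_eq_zero _ hψ h, LinearMap.comp_zero, map_zero] at h1
  exact (mul_eq_zero.1 h1.symm).resolve_left card_cast_ne_zero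

/-- An orbital in the basis of averaging operators, for a multiplicity free action. -/
theorem orbitalOp_expand (hm : ∀ χ : G → ℂ, IsIrrCharacter G χ →
      classInner (permRep ℂ G Ω).character χ = 0 ∨ classInner (permRep ℂ G Ω).character χ = 1)
    (a b : Ω) :
    orbitalOp (G := G) Ω a b = ∑ χ : IrrCharacter G,
      (eig Ω a b (χ : G → ℂ) * (χ : G → ℂ) 1 / (Nat.card G : ℂ)) • avg (permRep ℂ G Ω) (χ : G → ℂ) := by
  classical
  obtain ⟨c, hc⟩ := exists_sum_avg _ hm (orbitalOp_commutes (G := G) Ω a b)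
  conv_lhs => rw [hc]
  refine Finset.sum_congr rfl fun ψ _ => ?_
  rcases hm ψ ψ.2 with h | h
  · rw [avg_eq_zero _ ψ.2 h, smul_zero, smul_zero]
  congr 1
  have h1 := trace_comp_avg Ω a b (ψ : G → ℂ)
  rw [hc] at h1
  have h2 : (∑ χ : IrrCharacter G, c χ • avg (permRep ℂ G Ω) (χ : G → ℂ)) ∘ₗ
      avg (permRep ℂ G Ω) (ψ : G → ℂ) =
      (c ψ * ((Nat.card G : ℂ) / (ψ : G → ℂ) 1)) • avg (permRep ℂ G Ω) (ψ : G → ℂ) := by
    refine LinearMap.ext fun v => ?_
    simp only [LinearMap.comp_apply, LinearMap.sum_apply, LinearMap.smul_apply]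
    rw [Finset.sum_eq_single ψ]
    · have := LinearMap.congr_fun (avg_comp (permRep ℂ G Ω) ψ.2 ψ.2) v
      rw [LinearMap.comp_apply, LinearMap.smul_apply, classInner_irr_self ψ.2, one_mul] at this
      rw [this, smul_smul]
    · intro χ _ hne
      have := LinearMap.congr_fun (avg_comp (permRep ℂ G Ω) χ.2 ψ.2) v
      rw [LinearMap.comp_apply, LinearMap.smul_apply,
        classInner_irr_ne χ.2 ψ.2 fun he => hne (Subtype.ext he), zero_mul, zero_div, zero_smul] at this
      rw [this, smul_zero]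
    · simp
  rw [h2, map_smul, trace_avg, h, smul_eq_mul, mul_one] at h1
  have h3 := ψ.2.apply_one_ne_zero
  have h4 : (Nat.card G : ℂ) ≠ 0 := card_cast_ne_zero
  field_simp at h1 ⊢
  linear_combination h1

/-- The eigenvalues are algebraic integers. -/
theorem eig_isIntegral (hm : ∀ χ : G → ℂ, IsIrrCharacter G χ →
      classInner (permRep ℂ G Ω).character χ = 0 ∨ classInner (permRep ℂ G Ω).character χ = 1)
    (a b : Ω) {ψ : G → ℂ} (hψ : IsIrrCharacter G ψ) : IsIntegral ℤ (eig Ω a b ψ) := by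
  classical
  rcases hm ψ hψ with h | h
  · rw [eig_eq_zero Ω a b hψ h]
    exact isIntegral_zero
  set A := orbitalOp (G := G) Ω a b with hA
  set E := avg (permRep ℂ G Ω) ψ
  have hAE : A ∘ₗ E = eig Ω a b ψ • E := by
    rw [hA, orbitalOp_expand Ω hm a b]
    refine LinearMap.ext fun v => ?_
    simp only [LinearMap.comp_apply, LinearMap.sum_apply, LinearMap.smul_apply]
    rw [Finset.sum_eq_single (⟨ψ, hψ⟩ : IrrCharacter G)]
    · have := LinearMap.congr_fun (avg_comp (permRep ℂ G Ω) hψ hψ) v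
      rw [LinearMap.comp_apply, LinearMap.smul_apply, classInner_irr_self hψ, one_mul] at this
      rw [this, smul_smul]
      congr 1
      have h3 := hψ.apply_one_ne_zero
      have h4 : (Nat.card G : ℂ) ≠ 0 := card_cast_ne_zero
      field_simp
    · intro χ _ hne
      have := LinearMap.congr_fun (avg_comp (permRep ℂ G Ω) χ.2 hψ) v
      rw [LinearMap.comp_apply, LinearMap.smul_apply,
        classInner_irr_ne χ.2 hψ fun he => hne (Subtype.ext he), zero_mul, zero_div, zero_smul] at this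
      rw [this, smul_zero]
    · simp
  obtain ⟨v, hv⟩ : ∃ v, E v ≠ 0 := by
    by_contra hcon
    push Not at hcon
    have h0 := trace_avg (permRep ℂ G Ω) ψ
    rw [show avg (permRep ℂ G Ω) ψ = 0 from LinearMap.ext hcon, map_zero, h, mul_one] at h0
    exact card_cast_ne_zero h0.symm
  obtain ⟨P, hP, hPA⟩ := orbitalOp_aeval (G := G) Ω a b
  have hev : Module.End.HasEigenvector (A : Module.End ℂ (Ω → ℂ)) (eig Ω a b ψ) (E v) :=
    ⟨Module.End.mem_eigenspace_iff.2 (LinearMap.congr_fun hAE v), hv⟩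
  have h5 := Module.End.aeval_apply_of_hasEigenvector (p := P.map (Int.castRingHom ℂ)) hev
  rw [hPA, LinearMap.zero_apply, Polynomial.eval_map] at h5
  refine ⟨P, hP, ?_⟩
  exact (smul_eq_zero.1 h5.symm).resolve_right hv

variable [MulAction.IsPretransitive G Ω]

theorem stabilizer_card_mul (a : Ω) :
    Nat.card (MulAction.stabilizer G a) * Fintype.card Ω = Nat.card G := by
  rw [← Nat.card_eq_fintype_card, ← MulAction.index_stabilizer_of_transitive G a,
    Subgroup.card_mul_index]

open Classical in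
theorem sum_orbitalMatrix (a b : Ω) (x : Ω) :
    ∑ y, (if ∃ h : G, h • a = x ∧ h • b = y then (1 : ℂ) else 0) =
      (Nat.card (MulAction.orbit (MulAction.stabilizer G a) b) : ℂ) := by
  have h := congrFun (orbitalOp_one (G := G) Ω a b) x
  rw [orbitalOp_apply] at h
  rw [← h]

theorem trace_sq (a b : Ω) :
    LinearMap.trace ℂ (Ω → ℂ) (orbitalOp (G := G) Ω b a ∘ₗ orbitalOp (G := G) Ω a b) =
      (Fintype.card Ω : ℂ) * (Nat.card (MulAction.orbit (MulAction.stabilizer G a) b) : ℂ) := by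
  classical
  rw [LinearMap.trace_eq_matrix_trace ℂ (Pi.basisFun ℂ Ω), Matrix.trace]
  simp only [Matrix.diag, LinearMap.toMatrix_apply, Pi.basisFun_apply, Pi.basisFun_repr,
    LinearMap.comp_apply, orbitalOp_apply, Pi.single_apply]
  have h1 : ∀ y x : Ω, (∑ z, if ∃ h : G, h • a = x ∧ h • b = z then
      (if z = y then (1 : ℂ) else 0) else 0) =
      if ∃ h : G, h • a = x ∧ h • b = y then 1 else 0 := by
    intro y x
    rw [Finset.sum_eq_single y]
    · simp
    · intro z _ hz
      simp [hz]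
    · simp
  simp only [h1]
  have h2 : ∀ y x : Ω, (if ∃ h : G, h • b = y ∧ h • a = x then
      (if ∃ h : G, h • a = x ∧ h • b = y then (1 : ℂ) else 0) else 0) =
      if ∃ h : G, h • a = x ∧ h • b = y then 1 else 0 := by
    intro y x
    by_cases h : ∃ h : G, h • a = x ∧ h • b = y
    · rw [if_pos h, if_pos]
      obtain ⟨k, k1, k2⟩ := h
      exact ⟨k, k2, k1⟩
    · rw [if_neg h, ite_self]
  simp only [h2]
  rw [Finset.sum_comm, Finset.sum_congr rfl fun x _ => sum_orbitalMatrix Ω a b x]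
  simp

/-- The squared relation. -/
theorem sum_eig_sq (hm : ∀ χ : G → ℂ, IsIrrCharacter G χ →
      classInner (permRep ℂ G Ω).character χ = 0 ∨ classInner (permRep ℂ G Ω).character χ = 1)
    (a b : Ω) :
    ∑ χ : IrrCharacter G, (χ : G → ℂ) 1 * ((Complex.normSq (eig Ω a b (χ : G → ℂ)) : ℝ) : ℂ) =
      (Fintype.card Ω : ℂ) * (Nat.card (MulAction.orbit (MulAction.stabilizer G a) b) : ℂ) := by
  classical
  rw [← trace_sq (G := G) Ω a b]
  conv_rhs => arg 2; arg 2; rw [orbitalOp_expand Ω hm a b]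
  have : ∀ T : (Ω → ℂ) →ₗ[ℂ] (Ω → ℂ), T ∘ₗ (∑ χ : IrrCharacter G,
      (eig Ω a b (χ : G → ℂ) * (χ : G → ℂ) 1 / (Nat.card G : ℂ)) • avg (permRep ℂ G Ω) (χ : G → ℂ)) =
      ∑ χ : IrrCharacter G, (eig Ω a b (χ : G → ℂ) * (χ : G → ℂ) 1 / (Nat.card G : ℂ)) •
        (T ∘ₗ avg (permRep ℂ G Ω) (χ : G → ℂ)) := fun T => by
    refine LinearMap.ext fun v => ?_
    simp [map_sum, map_smul]
  rw [this, map_sum]
  refine Finset.sum_congr rfl fun χ _ => ?_
  rw [map_smul, trace_comp_avg, eig_swap Ω a b χ.2.isCharacter, ← Complex.mul_conj, smul_eq_mul]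
  have h4 : (Nat.card G : ℂ) ≠ 0 := card_cast_ne_zero
  field_simp

theorem orbCount_one (a b : Ω) (hab : b ≠ a) : orbCount Ω a b (1 : G) = 0 := by
  rw [orbCount, Nat.card_eq_zero]
  left
  refine ⟨fun ⟨y, h, h1, h2⟩ => hab (MulAction.injective h ?_)⟩
  show h • b = h • a
  rw [h2, h1, one_smul]

theorem isClassFunction_orbCount (a b : Ω) :
    IsClassFunction G (fun g => (orbCount Ω a b g : ℂ)) := fun g h => by
  simp [orbCount_conj Ω a b g h]

/-- The linear relation. -/
theorem sum_eig (a b : Ω) (hab : b ≠ a) :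
    ∑ χ : IrrCharacter G, (χ : G → ℂ) 1 * eig Ω a b (χ : G → ℂ) = 0 := by
  have h := congrFun (eq_sum_classInner (isClassFunction_orbCount (G := G) Ω a b)) 1
  simp only [Finset.sum_apply, Pi.smul_apply, smul_eq_mul, orbCount_one Ω a b hab, Nat.cast_zero] at h
  rw [h]
  exact Finset.sum_congr rfl fun χ _ => mul_comm _ _

/-- The value on the trivial character is the subdegree. -/
theorem eig_one (a b : Ω) :
    eig (G := G) Ω a b (fun _ => 1) =
      (Nat.card (MulAction.orbit (MulAction.stabilizer G a) b) : ℂ) := by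
  classical
  rw [eig, classInner_one_right]
  have h1 : ∀ g : G, (orbCount Ω a b g : ℂ) =
      ∑ y, ∑ z, if g • y = z then (if ∃ h : G, h • a = y ∧ h • b = z then (1 : ℂ) else 0) else 0 := by
    intro g
    rw [orbCount, Nat.card_eq_fintype_card, Fintype.card_subtype, ← Finset.sum_boole]
    refine Finset.sum_congr rfl fun y _ => ?_
    simp
  simp only [h1]
  rw [Finset.sum_comm]
  simp only [Finset.sum_comm (s := (Finset.univ : Finset G))]
  have h2 : ∀ y z : Ω, (∑ g : G, if g • y = z then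
      (if ∃ h : G, h • a = y ∧ h • b = z then (1 : ℂ) else 0) else 0) =
      (Nat.card (MulAction.stabilizer G y) : ℂ) *
        (if ∃ h : G, h • a = y ∧ h • b = z then (1 : ℂ) else 0) := by
    intro y z
    obtain ⟨g₀, hg₀⟩ := MulAction.exists_smul_eq G y z
    rw [← Finset.sum_filter, Finset.sum_const, nsmul_eq_mul]
    congr 2
    rw [Nat.card_eq_fintype_card, ← Fintype.card_subtype]
    refine Fintype.card_congr (Equiv.subtypeEquiv (Equiv.mulLeft g₀⁻¹) fun g => ?_)
    simp [MulAction.mem_stabilizer_iff, mul_smul, inv_smul_eq_iff, hg₀]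
  simp only [h2, ← Finset.mul_sum, sum_orbitalMatrix]
  have h3 : ∀ y, (Nat.card (MulAction.stabilizer G y) : ℂ) * (Fintype.card Ω : ℂ) = Nat.card G :=
    fun y => by exact_mod_cast stabilizer_card_mul (G := G) Ω y
  have h4 : (Nat.card G : ℂ) ≠ 0 := card_cast_ne_zero
  have h5 : (Fintype.card Ω : ℂ) ≠ 0 := by
    exact_mod_cast (Fintype.card_pos_iff.2 ⟨a⟩).ne'
  have h6 : ∀ y, (Nat.card (MulAction.stabilizer G y) : ℂ) = Nat.card G / Fintype.card Ω :=
    fun y => by rw [eq_div_iff h5, h3 y]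
  simp only [h6, Finset.sum_const, Finset.card_univ, nsmul_eq_mul]
  field_simp

/-- The rank is the norm of the permutation character. -/
theorem classInner_perm_self (a : Ω) :
    classInner (permRep ℂ G Ω).character (permRep ℂ G Ω).character =
      (Nat.card (MulAction.orbitRel.Quotient (MulAction.stabilizer G a) Ω) : ℂ) := by
  classical
  haveI : Fintype (MulAction.orbitRel.Quotient G (Ω × Ω)) := Fintype.ofFinite _
  have hbij : Nat.card (MulAction.orbitRel.Quotient (MulAction.stabilizer G a) Ω) =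
      Nat.card (MulAction.orbitRel.Quotient G (Ω × Ω)) := by
    refine Nat.card_eq_of_bijective (Quotient.map' (fun y => (a, y)) ?_) ⟨?_, ?_⟩
    · rintro y z ⟨g, hg⟩
      exact ⟨g.1, Prod.ext g.2 hg⟩
    · rintro q r
      induction q using Quotient.inductionOn' with
      | _ y =>
        induction r using Quotient.inductionOn' with
        | _ z =>
          intro h
          obtain ⟨g, hg⟩ := Quotient.eq''.1 h
          exact Quotient.eq''.2 ⟨⟨g, (Prod.ext_iff.1 hg).1⟩, (Prod.ext_iff.1 hg).2⟩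
    · intro q
      induction q using Quotient.inductionOn' with
      | _ w =>
        obtain ⟨g, hg⟩ := MulAction.exists_smul_eq G a w.1
        refine ⟨Quotient.mk'' (g⁻¹ • w.2), Quotient.eq''.2 ?_⟩
        exact ⟨g⁻¹, Prod.ext (inv_smul_eq_iff.2 hg.symm) rfl⟩
  rw [hbij, classInner, character_permRep]
  have h := MulAction.sum_card_fixedBy_eq_card_orbits_mul_card_group G (Ω × Ω)
  have h' : ∀ g : G, Fintype.card (MulAction.fixedBy (Ω × Ω) g) =
      Nat.card (MulAction.fixedBy Ω g) * Nat.card (MulAction.fixedBy Ω g) := fun g => by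
    rw [← Nat.card_eq_fintype_card, ← Nat.card_prod]
    exact Nat.card_congr ⟨fun w => (⟨w.1.1, congrArg Prod.fst w.2⟩, ⟨w.1.2, congrArg Prod.snd w.2⟩),
      fun w => ⟨(w.1.1, w.2.1), Prod.ext w.1.2 w.2.2⟩, fun _ => rfl, fun _ => rfl⟩
  simp only [h', ← Nat.card_eq_fintype_card] at h
  simp only [Complex.conj_natCast]
  have h'' : ∑ g : G, (Nat.card (MulAction.fixedBy Ω g) : ℂ) * (Nat.card (MulAction.fixedBy Ω g) : ℂ) =
      (Nat.card (MulAction.orbitRel.Quotient G (Ω × Ω)) : ℂ) * Nat.card G := by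
    exact_mod_cast h
  rw [h'', ← mul_assoc, mul_comm ((Nat.card G : ℂ))⁻¹, mul_assoc,
    inv_mul_cancel₀ card_cast_ne_zero, mul_one]

end Cfsg.Agent.OrbitalScalars
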