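import Mathlib
import Cfsg.Agent.Lib.Perm.ThompsonWielandt

/-!
# The second core of a point stabilizer in a primitive group

Index bound `d! * ((d-1)!)^d`, and consequences of the Thompson-Wielandt theorem.
-/

namespace Cfsg.Lib.Perm.TW

open Subgroup Cfsg.Lib.Core
open scoped Pointwise

variable {G : Type*} [Group G] [Finite G]

theorem card_stabilizer_perm (α : Type*) [Finite α] (a : α) :
    Nat.card (MulAction.stabilizer (Equiv.Perm α) a) = (Nat.card α - 1).factorial := by
  classical
  have : Fintype α := Fintype.ofFinite α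
  have h := MulAction.index_stabilizer_of_transitive (G := Equiv.Perm α) a
  have h2 := (MulAction.stabilizer (Equiv.Perm α) a).card_mul_index
  rw [h, Nat.card_perm] at h2
  have hpos : 0 < Nat.card α := Nat.card_pos_iff.2 ⟨⟨a⟩, inferInstance⟩
  obtain ⟨k, hk⟩ : ∃ k, Nat.card α = k + 1 := ⟨Nat.card α - 1, by omega⟩
  rw [hk, Nat.factorial_succ, mul_comm (k + 1) k.factorial] at h2
  rw [hk, Nat.add_sub_cancel]
  exact Nat.eq_of_mul_eq_mul_right (by omega) h2

theorem normalCore_index_dvd {A : Type*} [Group A] [Finite A] (H : Subgroup A) :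
    H.normalCore.index ∣ H.index.factorial := by
  rw [normalCore_eq_ker, index_ker]
  refine (card_subgroup_dvd_card _).trans ?_
  rw [Nat.card_perm]
  rfl

/-- The second core has index dividing `d! * ((d-1)!)^d`. -/
theorem second_core_relIndex_dvd (A B : Subgroup G) (d : ℕ) (hdA : (A ⊓ B).relIndex A = d)
    (hdB : (A ⊓ B).relIndex B = d) :
    (coreIn (coreIn (A ⊓ B) A ⊓ coreIn (A ⊓ B) B) A).relIndex A ∣
      d.factorial * ((d - 1).factorial) ^ d := by
  set A1 := coreIn (A ⊓ B) A with hA1
  set B1 := coreIn (A ⊓ B) B with hB1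
  set A2 := coreIn (A1 ⊓ B1) A with hA2
  have hA2A1 : A2 ≤ A1 := (coreIn_le_left _ _).trans inf_le_left
  have hA1A : A1 ≤ A := coreIn_le_right _ _
  rw [← relIndex_mul_relIndex A2 A1 A hA2A1 hA1A, mul_comm d.factorial]
  refine Nat.mul_dvd_mul ?_ ?_
  · set HA := (A ⊓ B).subgroupOf A with hHA
    set HB := (A ⊓ B).subgroupOf B with hHB
    let r : A ⧸ HA → A := Quotient.out
    have hin : ∀ (x : A1) (t : A ⧸ HA), (r t : G)⁻¹ * x * (r t : G) ∈ A1 := by
      intro x t
      have := (mem_normalizer_iff.1 (le_normalizer_coreIn (A ⊓ B) A (A.inv_mem (r t).2)) x).1 x.2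
      rwa [inv_inv] at this
    let Ψ : A1 →* ((A ⧸ HA) → MulAction.stabilizer (Equiv.Perm (B ⧸ HB))
        ((1 : B) : B ⧸ HB)) :=
      MonoidHom.mk' (fun x t => ⟨MulAction.toPermHom B (B ⧸ HB)
          ⟨(r t : G)⁻¹ * x * (r t : G), ((coreIn_le_left _ _).trans inf_le_right) (hin x t)⟩, by
          rw [MulAction.mem_stabilizer_iff, Equiv.Perm.smul_def, MulAction.toPermHom_apply,
            MulAction.toPerm_apply, MulAction.Quotient.smul_coe, QuotientGroup.eq]
          simp only [smul_eq_mul, mul_one]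
          exact HB.inv_mem (coreIn_le_left (A ⊓ B) A (hin x t))⟩)
        (fun x y => by
          funext t
          apply Subtype.ext
          show MulAction.toPermHom B (B ⧸ HB) _ =
            MulAction.toPermHom B (B ⧸ HB) _ * MulAction.toPermHom B (B ⧸ HB) _
          rw [← map_mul]
          congr 1
          apply Subtype.ext
          simp [mul_assoc])
    have hker : Ψ.ker ≤ A2.subgroupOf A1 := by
      intro x hx
      refine ⟨⟨x, hA1A x.2⟩, fun a => ?_, rfl⟩
      set t : A ⧸ HA := ((a⁻¹ : A) : A ⧸ HA)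
      obtain ⟨h, hh⟩ : ∃ h : HA, r t = a⁻¹ * h := QuotientGroup.mk_out_eq_mul HA a⁻¹
      have h1 : MulAction.toPermHom B (B ⧸ HB)
          ⟨(r t : G)⁻¹ * x * (r t : G), ((coreIn_le_left _ _).trans inf_le_right) (hin x t)⟩ = 1 :=
        congrArg Subtype.val (congrFun hx t)
      have h2 : (r t : G)⁻¹ * x * (r t : G) ∈ A1 ⊓ B1 := by
        refine ⟨hin x t, ?_⟩
        rw [← MonoidHom.mem_ker, ← normalCore_eq_ker] at h1
        exact ⟨_, h1, rfl⟩
      have hn : A ⊓ B ≤ normalizer ((A1 ⊓ B1 : Subgroup G) : Set G) :=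
        le_normalizer_inf' (inf_le_left.trans (le_normalizer_coreIn _ _))
          (inf_le_right.trans (le_normalizer_coreIn _ _))
      have h3 := (mem_normalizer_iff.1 (hn h.2) _).1 h2
      show ((a * ⟨(x : G), hA1A x.2⟩ * a⁻¹ : A) : G) ∈ A1 ⊓ B1
      rw [hh] at h3
      simpa [mul_assoc] using h3
    refine (index_dvd_of_le hker).trans ?_
    rw [index_ker]
    refine (card_subgroup_dvd_card _).trans ?_
    rw [Nat.card_fun, card_stabilizer_perm]
    show (HB.index - 1).factorial ^ HA.index ∣ _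
    rw [show HA.index = d from hdA, show HB.index = d from hdB]
  · have h := normalCore_index_dvd ((A ⊓ B).subgroupOf A)
    rw [show ((A ⊓ B).subgroupOf A).index = d from hdA] at h
    show (A1.subgroupOf A).index ∣ _
    rwa [hA1, coreIn, ← comap_subtype, comap_map_eq_self_of_injective A.subtype_injective]

/-- Conjugate subgroups: `SelfLocal` transfers. -/
theorem selfLocal_map {A : Subgroup G} (φ : G ≃* G) (hA : SelfLocal A) :
    SelfLocal (A.map φ.toMonoidHom) := by
  intro X hX hn hne
  have hback : ∀ Y : Subgroup G, (Y.map φ.toMonoidHom).comap φ.toMonoidHom = Y := fun Y =>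
    comap_map_eq_self_of_injective φ.injective Y
  set Y := X.comap φ.toMonoidHom with hY
  have hXY : Y.map φ.toMonoidHom = X := map_comap_eq_self_of_surjective φ.surjective X
  have hNY : normalizer (X : Set G) = (normalizer (Y : Set G)).map φ.toMonoidHom := by
    rw [← hXY]; exact (map_equiv_normalizer_eq Y φ).symm
  rw [hNY] at hn ⊢
  refine map_mono (hA Y ?_ ?_ ?_)
  · rw [← hback A]; exact comap_mono hX
  · exact (map_le_map_iff_of_injective φ.injective).1 hn
  · intro h; exact hne (by rw [← hXY, h, Subgroup.map_bot])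

/-- The data of a nontrivial suborbit in a primitive group. -/
theorem stabilizer_pair_setup {Ω : Type*} [MulAction G Ω] [FaithfulSMul G Ω]
    (hprim : MulAction.IsPreprimitive G Ω) (a b : Ω) (d : ℕ)
    (hd : Nat.card (MulAction.orbit (MulAction.stabilizer G a) b) = d) (h2 : 2 ≤ d) :
    ∃ g : G, MulAction.stabilizer G b = (MulAction.stabilizer G a).map (MulAut.conj g).toMonoidHom ∧
      SelfLocal (MulAction.stabilizer G a) ∧ SelfLocal (MulAction.stabilizer G b) ∧
      MulAction.stabilizer G a ≠ MulAction.stabilizer G b ∧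
      (MulAction.stabilizer G a ⊓ MulAction.stabilizer G b).relIndex (MulAction.stabilizer G a) = d ∧
      (MulAction.stabilizer G a ⊓ MulAction.stabilizer G b).relIndex (MulAction.stabilizer G b) = d := by
  have := hprim.toIsPretransitive
  set A := MulAction.stabilizer G a with hA
  set B := MulAction.stabilizer G b with hB
  obtain ⟨g, hg⟩ := MulAction.exists_smul_eq G a b
  have hmap : B = A.map (MulAut.conj g).toMonoidHom := by
    rw [hB, ← hg]; exact MulAction.stabilizer_smul_eq_stabilizer_map_conj g a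
  have hdA : (A ⊓ B).relIndex A = d := by
    rw [relIndex, inf_subgroupOf_left]
    have : MulAction.stabilizer A b = B.subgroupOf A := rfl
    rw [← this, MulAction.index_stabilizer, ← hd, Nat.card_coe_set_eq]
  have hcard : Nat.card B = Nat.card A := by
    rw [hmap, card_map_of_injective (MulAut.conj g).injective]
  have hdB : (A ⊓ B).relIndex B = d := by
    have h1 := card_mul_index ((A ⊓ B).subgroupOf A)
    have h2 := card_mul_index ((A ⊓ B).subgroupOf B)
    rw [Nat.card_congr (subgroupOfEquivOfLe (inf_le_left : A ⊓ B ≤ A)).toEquiv] at h1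
    rw [Nat.card_congr (subgroupOfEquivOfLe (inf_le_right : A ⊓ B ≤ B)).toEquiv, hcard, ← h1] at h2
    rw [relIndex, Nat.eq_of_mul_eq_mul_left Nat.card_pos h2]
    exact hdA
  have hAB : A ≠ B := fun h => by
    rw [← h, inf_idem, relIndex_self] at hdA; omega
  have hab : a ≠ b := fun h => hAB (by rw [hA, hB, h])
  have : Nontrivial Ω := ⟨a, b, hab⟩
  have hco : IsCoatom A := (MulAction.isCoatom_stabilizer_iff_preprimitive G a).2 hprim
  have hc : A.normalCore = ⊥ := by
    refine (eq_bot_iff_forall _).2 fun x hx => ?_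
    refine eq_of_smul_eq_smul (α := Ω) fun ω => ?_
    obtain ⟨k, rfl⟩ := MulAction.exists_smul_eq G a ω
    have := hx k⁻¹
    rw [hA, MulAction.mem_stabilizer_iff, inv_inv, mul_smul, mul_smul, inv_smul_eq_iff] at this
    rw [one_smul]; exact this
  have hsA : SelfLocal A := selfLocal_of_isCoatom hco hc
  exact ⟨g, hmap, hsA, hmap ▸ selfLocal_map _ hsA, hAB, hdA, hdB⟩

/-- If one of the second cores is trivial, the point stabilizer has order dividing `d! (d-1)!^d`. -/
theorem card_dvd_of_core_eq_bot {A B : Subgroup G} {d : ℕ} (e : A ≃* B)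
    (hdA : (A ⊓ B).relIndex A = d) (hdB : (A ⊓ B).relIndex B = d)
    (h : coreIn (coreIn (A ⊓ B) A ⊓ coreIn (A ⊓ B) B) A = ⊥ ∨
      coreIn (coreIn (A ⊓ B) A ⊓ coreIn (A ⊓ B) B) B = ⊥) :
    Nat.card A ∣ d.factorial * ((d - 1).factorial) ^ d := by
  rcases h with h | h
  · have h' := second_core_relIndex_dvd A B d hdA hdB
    rwa [h, relIndex_bot_left] at h'
  · have h' := second_core_relIndex_dvd B A d (by rwa [inf_comm]) (by rwa [inf_comm])
    rw [inf_comm B A, inf_comm (coreIn (A ⊓ B) B), h, relIndex_bot_left] at h'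
    rwa [Nat.card_congr e.toEquiv]

/-- Knapp: if all normal nilpotent subgroups of `A ⊓ B` lie in the first core of `A`, then there
are none. -/
theorem pc_inf_eq_bot {A B : Subgroup G} (hA : SelfLocal A) (hB : SelfLocal B) (hne : A ≠ B)
    {g : G} (hg : B = A.map (MulAut.conj g).toMonoidHom) (p : ℕ) [Fact p.Prime]
    (hQ : pc p (A ⊓ B) ≤ coreIn (A ⊓ B) A) : pc p (A ⊓ B) = ⊥ := by
  by_contra hQne
  set Q := pc p (A ⊓ B) with hQd
  have hA1n := le_normalizer_coreIn (A ⊓ B) A
  have hA1H : coreIn (A ⊓ B) A ≤ A ⊓ B := coreIn_le_left _ _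
  have hQeq : Q = pc p (coreIn (A ⊓ B) A) :=
    le_antisymm (le_pc hQ (hA1H.trans (le_normalizer_pc _ _)) (isPGroup_pc _ _))
      (le_pc ((pc_le _ _).trans hA1H) (inf_le_left.trans (pc_normalizer_mono hA1n))
        (isPGroup_pc _ _))
  have hQn : A ≤ normalizer (Q : Set G) := by rw [hQeq]; exact pc_normalizer_mono hA1n
  set Q' := Q.map (MulAut.conj g).toMonoidHom with hQ'
  have hQ'B : Q' ≤ B := by
    rw [hg]; exact map_mono ((pc_le _ _).trans inf_le_left)
  have hQ'n : B ≤ normalizer (Q' : Set G) := by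
    rw [hQ', ← map_equiv_normalizer_eq Q (MulAut.conj g), hg]
    exact map_mono hQn
  have hcap : Q' ⊓ A ≤ Q :=
    le_pc (le_inf inf_le_right (inf_le_left.trans hQ'B))
      (le_normalizer_inf' (inf_le_right.trans hQ'n) (inf_le_left.trans le_normalizer))
      (((isPGroup_pc p (A ⊓ B)).map _).to_le inf_le_left)
  set T := Q ⊔ Q' with hT
  have hQQ' : Q ≤ normalizer (Q' : Set G) := ((pc_le _ _).trans inf_le_right).trans hQ'n
  have hTp : IsPGroup p T :=
    (isPGroup_pc p (A ⊓ B)).to_sup_of_normal_right' ((isPGroup_pc p (A ⊓ B)).map _) hQQ'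
  have hTQ : T ≤ Q := by
    refine le_of_normalizer_inf_le hTp le_sup_left ?_
    rintro t ⟨ht1, ht2⟩
    have htA : t ∈ A := hA Q ((pc_le _ _).trans inf_le_left) hQn hQne ht1
    have ht' : t ∈ ((Q : Set G) * (Q' : Set G)) := by
      rw [← coe_mul_of_left_le_normalizer_right Q Q' hQQ']; exact ht2
    obtain ⟨x, hx, y, hy, rfl⟩ := ht'
    refine Q.mul_mem hx (hcap ⟨hy, ?_⟩)
    have := A.mul_mem (A.inv_mem ((pc_le _ _).trans inf_le_left hx)) htA
    rwa [inv_mul_cancel_left] at this
  have heq : Q' = Q := eq_of_le_of_card_ge (le_sup_right.trans hTQ)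
    (card_map_of_injective (MulAut.conj g).injective).ge
  exact hQne (eq_bot_of_both hA hB hne ((pc_le _ _).trans inf_le_left) hQn
    ((pc_le _ _).trans inf_le_right) (heq ▸ hQ'n))

end Cfsg.Lib.Perm.TW
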