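import Cfsg.Agent.S0683
import Cfsg.Agent.S0266

/-!
# Sharply triply transitive groups with abelian two-point stabilisers

Such a group, in which the elements swapping two points invert their two-point stabiliser, is `PGL₂(F)`;
the proof follows `Cfsg.Agent.Lib.Perm.SharpThreeOdd`, without the parity assumption.
-/

set_option autoImplicit false
set_option linter.style.haveILetI false

namespace Cfsg.Agent.Lib.Perm.SharpThreeComm

open Cfsg

/-- A finite near-field with commutative multiplication is a finite field. -/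
theorem exists_field_model {K : Type*} [Fintype K] [N : Cfsg.NearField K] (hc : ∀ a b : K, a * b = b * a) :
    ∃ (F : Type) (_ : Field F) (_ : Fintype F), Fintype.card F = Fintype.card K ∧ ∃ φ : K ≃ F,
      (∀ a b, φ (a + b) = φ a + φ b) ∧ (∀ a b, φ (a * b) = φ a * φ b) ∧ φ 0 = 0 ∧ φ 1 = 1 := by
  have hl : ∀ a b c : K, a * (b + c) = a * b + a * c := fun a b c => by
    rw [hc, NearField.right_distrib, hc b a, hc c a]
  have hadd : ∀ a b : K, a + b = b + a := by
    intro a b
    have e1 : (1 + 1) * (a + b) = a + a + (b + b) := by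
      rw [hl, NearField.right_distrib, NearField.right_distrib, one_mul, one_mul]
    rw [NearField.right_distrib, one_mul] at e1
    have e2 : a + (b + (a + b)) = a + (a + (b + b)) := by rwa [← add_assoc, ← add_assoc a a]
    have e3 := add_left_cancel e2
    rw [← add_assoc, ← add_assoc] at e3
    exact (add_right_cancel e3).symm
  let R : CommRing K :=
    { N.toAddGroup, N.toMonoid with
      add_comm := hadd
      left_distrib := hl
      right_distrib := NearField.right_distrib
      mul_zero := NearField.mul_zero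
      zero_mul := fun a => (hc 0 a).trans (NearField.mul_zero a)
      mul_comm := hc }
  have hF : @IsField K R.toSemiring :=
    ⟨⟨0, 1, NearField.zero_ne_one⟩, hc, fun {a} ha => (NearField.exists_inv a ha).imp fun b h => h.1⟩
  letI FK : Field K := hF.toField
  obtain ⟨p, hp⟩ := CharP.exists K
  obtain ⟨k, hpp, hk⟩ := FiniteField.card K p
  haveI := Fact.mk hpp
  haveI : Fintype (GaloisField p k) := Fintype.ofFinite _
  have hcard' : Fintype.card (GaloisField p k) = Fintype.card K := by
    rw [← Nat.card_eq_fintype_card, GaloisField.card p k k.ne_zero, hk]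
  let φ : K ≃+* GaloisField p k := FiniteField.ringEquivOfCardEq hcard'.symm
  exact ⟨GaloisField p k, inferInstance, inferInstance, hcard', φ.toEquiv, fun a b => map_add φ a b, fun a b => map_mul φ a b, map_zero φ, map_one φ⟩

variable {α : Type*} [Fintype α] [DecidableEq α] (G : Subgroup (Equiv.Perm α))

/-- A sharply triply transitive group with abelian two-point stabilisers, inverted by the swaps, is `PGL₂`. -/
theorem recognition_comm (h3 : 3 ≤ Fintype.card α)
    (htr : MulAction.IsMultiplyPretransitive G α 3)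
    (hsharp : ∀ g : G, ∀ a b c : α, a ≠ b → a ≠ c → b ≠ c → g • a = a → g • b = b → g • c = c → g = 1)
    (hab : ∀ a b : α, a ≠ b → ∀ g g' : G, g • a = a → g • b = b → g' • a = a → g' • b = b → g * g' = g' * g)
    (hinvert : ∀ a b : α, a ≠ b → ∀ s g : G, s • a = b → s • b = a → g • a = a → g • b = b →
      s * g * s⁻¹ = g⁻¹) :
    ∃ (F : Type) (_ : Field F) (_ : Fintype F),
      Fintype.card F + 1 = Fintype.card α ∧ Nonempty (G ≃* Matrix.ProjGenLinGroup (Fin 2) F) := by
  classical
  have three : ∀ {a b c x y z : α}, a ≠ b → a ≠ c → b ≠ c → x ≠ y → x ≠ z → y ≠ z →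
      ∃ g : G, g • a = x ∧ g • b = y ∧ g • c = z := by
    intro a b c x y z h1 h2 h3 k1 k2 k3
    obtain ⟨g, hg⟩ := MulAction.isMultiplyPretransitive_iff.mp htr
      ⟨![a, b, c], by
        intro i j h
        fin_cases i <;> fin_cases j <;> first | rfl | exact absurd h h1 | exact absurd h h2 | exact absurd h h3 | exact absurd h h1.symm | exact absurd h h2.symm | exact absurd h h3.symm⟩
      ⟨![x, y, z], by
        intro i j h
        fin_cases i <;> fin_cases j <;> first | rfl | exact absurd h k1 | exact absurd h k2 | exact absurd h k3 | exact absurd h k1.symm | exact absurd h k2.symm | exact absurd h k3.symm⟩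
    exact ⟨g, DFunLike.congr_fun hg 0, DFunLike.congr_fun hg 1, DFunLike.congr_fun hg 2⟩
  have uniq : ∀ {g h : G} {a b c : α}, a ≠ b → a ≠ c → b ≠ c → g • a = h • a → g • b = h • b → g • c = h • c →
      g = h := by
    intro g h a b c h1 h2 h3 e1 e2 e3
    exact (inv_mul_eq_one.mp (hsharp (h⁻¹ * g) a b c h1 h2 h3 (by rw [mul_smul, e1, inv_smul_smul])
      (by rw [mul_smul, e2, inv_smul_smul]) (by rw [mul_smul, e3, inv_smul_smul]))).symm
  obtain ⟨I⟩ : Nonempty α := Fintype.card_pos_iff.mp (by omega)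
  -- the stabiliser of a point as a group of permutations of the other points
  let β : Type _ := {x : α // x ≠ I}
  let r : MulAction.stabilizer G I →* Equiv.Perm β :=
    { toFun := fun g => Equiv.Perm.subtypePerm (((g : G) : Equiv.Perm α)) (fun x => by
        have h1 : (g : G) • I = I := g.2
        constructor
        · intro hx hI
          exact hx (hI ▸ h1)
        · intro hx hI
          exact hx (MulAction.injective (g : G) (show (g : G) • x = (g : G) • I from hI.trans h1.symm)))
      map_one' := Equiv.ext fun x => Subtype.ext rfl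
      map_mul' := fun g h => Equiv.ext fun x => Subtype.ext rfl }
  have hr : ∀ (g : MulAction.stabilizer G I) (x : β), (r g x : α) = (g : G) • (x : α) := fun _ _ => rfl
  have htr2 : MulAction.IsMultiplyPretransitive r.range β 2 := by
    refine MulAction.is_two_pretransitive_iff.mpr fun {a b c d} hab hcd => ?_
    obtain ⟨g, g1, g2, g3⟩ := three (Ne.symm a.2) (Ne.symm b.2) (Subtype.coe_ne_coe.mpr hab) (Ne.symm c.2)
      (Ne.symm d.2) (Subtype.coe_ne_coe.mpr hcd)
    exact ⟨⟨r ⟨g, g1⟩, _, rfl⟩, Subtype.ext g2, Subtype.ext g3⟩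
  have hsh2 : ∀ x : Fin 2 ↪ β, MulAction.stabilizer r.range x = ⊥ := by
    refine fun x => (Subgroup.eq_bot_iff_forall _).mpr fun σ hσ => ?_
    obtain ⟨g, hg⟩ := σ.2
    have hx : ∀ i, (g : G) • ((x i : β) : α) = x i := fun i => by
      rw [← hr, hg]
      exact congrArg Subtype.val (DFunLike.congr_fun hσ i)
    have : g = 1 := Subtype.ext (hsharp (g : G) I (x 0 : β) (x 1 : β) (Ne.symm (x 0).2) (Ne.symm (x 1).2)
      (Subtype.coe_ne_coe.mpr (x.injective.ne (by decide))) g.2 (hx 0) (hx 1))
    exact Subtype.ext (by rw [← hg, this, map_one]; rfl)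
  have hcardβ : Fintype.card β = Fintype.card α - 1 := by
    rw [Fintype.card_subtype_compl, Fintype.card_subtype_eq]
  haveI := htr2
  obtain ⟨N, hN⟩ := Cfsg.Agent.S0683.result r.range hsh2 (by omega)
  letI := N
  set z : β := (0 : β) with hz
  set u : β := (1 : β) with hu
  have hzu : (z : α) ≠ (u : α) := Subtype.coe_ne_coe.mpr NearField.zero_ne_one
  obtain ⟨s, sI, sz, su⟩ := three (Ne.symm z.2) (Ne.symm u.2) hzu z.2 hzu (Ne.symm u.2)
  have hs2 : s * s = 1 := hsharp _ I z u (Ne.symm z.2) (Ne.symm u.2) hzu (by rw [mul_smul, sI, sz])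
    (by rw [mul_smul, sz, sI]) (by rw [mul_smul, su, su])
  -- the two point stabiliser is inverted by `s`
  set S : Subgroup G := MulAction.stabilizer G I ⊓ MulAction.stabilizer G (z : α) with hS
  have hsinv : s⁻¹ = s := inv_eq_of_mul_eq_one_right hs2
  have hθmem : ∀ g ∈ S, s * g * s⁻¹ ∈ S := by
    intro g ⟨g1, g2⟩
    refine ⟨?_, ?_⟩
    · show (s * g * s⁻¹) • I = I
      rw [hsinv, mul_smul, mul_smul, sI, show g • (z : α) = z from g2, sz]
    · show (s * g * s⁻¹) • (z : α) = z
      rw [hsinv, mul_smul, mul_smul, sz, show g • I = I from g1, sI]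
  have mulMap : ∀ a : β, a ≠ 0 → ∃ g : S, ∀ x : β, (g : G) • (x : α) = ((x * a : β) : α) := by
    intro a ha
    have hbij : Function.Bijective (fun x : β => x * a) := by
      obtain ⟨b, hb, hb'⟩ := NearField.exists_inv a ha
      exact ⟨fun x y e => by simpa [mul_assoc, hb] using congrArg (· * b) e,
        fun x => ⟨x * b, by simp [mul_assoc, hb']⟩⟩
    obtain ⟨g, hg⟩ := (hN (Equiv.ofBijective _ hbij)).mpr ⟨a, 0, ha, fun x => (add_zero _).symm⟩
    have hgx : ∀ x : β, (g : G) • (x : α) = ((x * a : β) : α) := fun x => by rw [← hr, hg]; rfl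
    refine ⟨⟨g, g.2, ?_⟩, hgx⟩
    have h0 : z * a = z := by
      have h1 := NearField.right_distrib (0 : β) 0 a
      rw [add_zero] at h1
      exact left_eq_add.mp h1
    show (g : G) • (z : α) = z
    rw [hgx, h0]
  have hcomm : ∀ a b : β, a * b = b * a := by
    intro a b
    by_cases ha : a = 0
    · have h1 := NearField.right_distrib (0 : β) 0 b
      rw [add_zero] at h1
      rw [ha, left_eq_add.mp h1, NearField.mul_zero]
    by_cases hb : b = 0
    · have h1 := NearField.right_distrib (0 : β) 0 a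
      rw [add_zero] at h1
      rw [hb, left_eq_add.mp h1, NearField.mul_zero]
    obtain ⟨g, hg⟩ := mulMap a ha
    obtain ⟨h, hh⟩ := mulMap b hb
    have e := congrArg (fun k : S => (k : G) • (u : α))
      (Subtype.ext (hab I z (Ne.symm z.2) g.1 h.1 g.2.1 g.2.2 h.2.1 h.2.2) : g * h = h * g)
    simp only [Subgroup.coe_mul, mul_smul, hg, hh, hu, one_mul] at e
    exact (Subtype.ext e).symm
  have hinv' : ∀ a : β, a ≠ 0 → ∃ b : β, s • (a : α) = b ∧ a * b = 1 := by
    intro a ha
    obtain ⟨g, hg⟩ := mulMap a ha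
    obtain ⟨b, hb, hb'⟩ := NearField.exists_inv a ha
    refine ⟨b, ?_, hb⟩
    have e : s * (g : G) * s⁻¹ = ((g : G))⁻¹ := by
      exact hinvert I z (Ne.symm z.2) s g.1 sI sz g.2.1 g.2.2
    have h1 : (g : G) • (u : α) = a := by rw [hg, hu, one_mul]
    rw [← h1, ← mul_smul, show s * (g : G) = (g : G)⁻¹ * s from mul_inv_eq_iff_eq_mul.mp e, mul_smul, su,
      inv_smul_eq_iff, hg, hb', ← hu]
  -- transport to a field in the lowest universe
  obtain ⟨F, _, _, hFcard, φ, φadd, φmul, φzero, φone⟩ := exists_field_model hcomm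
  refine ⟨F, inferInstance, inferInstance, by omega, ?_⟩
  let vec : F → Fin 2 → F := fun x => ![x, 1]
  have hvec : ∀ x, vec x ≠ 0 := fun x h => one_ne_zero (congrFun h 1)
  have hinf : (![1, 0] : Fin 2 → F) ≠ 0 := fun h => one_ne_zero (congrFun h 0)
  let j : α → Projectivization F (Fin 2 → F) := fun x =>
    if hx : x = I then Projectivization.mk F _ hinf else Projectivization.mk F _ (hvec (φ ⟨x, hx⟩))
  have jI : j I = Projectivization.mk F _ hinf := dif_pos rfl
  have jx : ∀ x : β, j (x : α) = Projectivization.mk F _ (hvec (φ x)) := fun x => dif_neg x.2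
  have hj : Function.Bijective j := by
    constructor
    · intro x y h
      by_cases hx : x = I <;> by_cases hy : y = I
      · rw [hx, hy]
      · exfalso
        rw [hx, jI, show j y = _ from jx ⟨y, hy⟩, Projectivization.mk_eq_mk_iff'] at h
        obtain ⟨c, hc⟩ := h
        have h0 := congrFun hc 0
        have h1 := congrFun hc 1
        simp [vec] at h0 h1
        simp [h1] at h0
      · exfalso
        rw [hy, jI, show j x = _ from jx ⟨x, hx⟩, Projectivization.mk_eq_mk_iff'] at h
        obtain ⟨c, hc⟩ := h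
        have h1 := congrFun hc 1
        simp [vec] at h1
      · rw [show j x = _ from jx ⟨x, hx⟩, show j y = _ from jx ⟨y, hy⟩, Projectivization.mk_eq_mk_iff'] at h
        obtain ⟨c, hc⟩ := h
        have h0 := congrFun hc 0
        have h1 := congrFun hc 1
        simp [vec] at h0 h1
        rw [h1, one_mul] at h0
        exact (congrArg Subtype.val (φ.injective h0)).symm
    · intro P
      induction P using Projectivization.ind with | h v hv =>
      by_cases h1 : v 1 = 0
      · refine ⟨I, jI.trans ?_⟩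
        rw [Projectivization.mk_eq_mk_iff']
        have h0 : v 0 ≠ 0 := fun e => hv (funext fun i => by fin_cases i <;> simp [e, h1])
        exact ⟨(v 0)⁻¹, funext fun i => by fin_cases i <;> simp [inv_mul_cancel₀ h0, h1]⟩
      · refine ⟨(φ.symm (v 0 / v 1) : β), (jx _).trans ?_⟩
        rw [Projectivization.mk_eq_mk_iff']
        refine ⟨(v 1)⁻¹, funext fun i => ?_⟩
        fin_cases i <;> simp [vec, inv_mul_cancel₀ h1, div_eq_inv_mul]
  let e : α ≃ Projectivization F (Fin 2 → F) := Equiv.ofBijective j hj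
  let Φ : Matrix.ProjGenLinGroup (Fin 2) F →* Equiv.Perm α :=
    e.symm.permCongrHom.toMonoidHom.comp (MulAction.toPermHom _ _)
  have hΦ : ∀ (m : Matrix.ProjGenLinGroup (Fin 2) F) (g : G), (∀ x, m • j x = j (g • x)) → (g : Equiv.Perm α) ∈ Φ.range := by
    intro m g h
    refine ⟨m, Equiv.ext fun x => ?_⟩
    show e.symm (m • e x) = _
    rw [show m • e x = e (g • x) from h x, Equiv.symm_apply_apply]
    rfl
  -- members fixing `I`
  have haff : ∀ g : G, g • I = I → (g : Equiv.Perm α) ∈ Φ.range := by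
    intro g hg
    obtain ⟨a, b, ha, hab⟩ := (hN (r ⟨g, hg⟩)).mp ⟨_, rfl⟩
    have ha' : φ a ≠ 0 := fun e0 => ha (φ.injective (e0.trans φzero.symm))
    have hdet : (!![φ a, φ b; 0, 1] : Matrix (Fin 2) (Fin 2) F).det ≠ 0 := by simp [Matrix.det_fin_two, ha']
    refine hΦ (Matrix.ProjGenLinGroup.mk (Matrix.GeneralLinearGroup.mkOfDetNeZero _ hdet)) g fun x => ?_
    by_cases hx : x = I
    · rw [hx, hg, jI, Projectivization.PGL.mk_smul_mk, Projectivization.mk_eq_mk_iff']
      refine ⟨φ a, funext fun i => ?_⟩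
      show _ = ((!![φ a, φ b; 0, 1] : Matrix (Fin 2) (Fin 2) F).mulVec ![1, 0]) i
      fin_cases i <;> simp [Matrix.mulVec, dotProduct, Fin.sum_univ_two]
    · have e1 : g • x = ((r ⟨g, hg⟩ ⟨x, hx⟩ : β) : α) := rfl
      rw [e1, show j x = _ from jx ⟨x, hx⟩, jx, hab, Projectivization.PGL.mk_smul_mk,
        Projectivization.mk_eq_mk_iff']
      refine ⟨1, funext fun i => ?_⟩
      show _ = ((!![φ a, φ b; 0, 1] : Matrix (Fin 2) (Fin 2) F).mulVec _) i
      rw [φadd, φmul]
      fin_cases i <;> simp [vec, Matrix.mulVec, dotProduct, Fin.sum_univ_two, mul_comm]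
  have hsmem : (s : Equiv.Perm α) ∈ Φ.range := by
    have hdet : (!![0, 1; 1, 0] : Matrix (Fin 2) (Fin 2) F).det ≠ 0 := by simp [Matrix.det_fin_two]
    refine hΦ (Matrix.ProjGenLinGroup.mk (Matrix.GeneralLinearGroup.mkOfDetNeZero _ hdet)) s fun x => ?_
    by_cases hx : x = I
    · rw [hx, sI, jI, jx, Projectivization.PGL.mk_smul_mk, Projectivization.mk_eq_mk_iff']
      refine ⟨1, funext fun i => ?_⟩
      show _ = ((!![0, 1; 1, 0] : Matrix (Fin 2) (Fin 2) F).mulVec ![1, 0]) i
      fin_cases i <;> simp [vec, Matrix.mulVec, dotProduct, Fin.sum_univ_two, hz, φzero]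
    · rw [show j x = _ from jx ⟨x, hx⟩, Projectivization.PGL.mk_smul_mk]
      by_cases hx0 : (⟨x, hx⟩ : β) = z
      · rw [show s • x = I from (congrArg (s • ·) (congrArg Subtype.val hx0)).trans sz, jI,
          Projectivization.mk_eq_mk_iff']
        refine ⟨1, funext fun i => ?_⟩
        show _ = ((!![0, 1; 1, 0] : Matrix (Fin 2) (Fin 2) F).mulVec _) i
        fin_cases i <;> simp [vec, Matrix.mulVec, dotProduct, Fin.sum_univ_two, hx0, hz, φzero]
      · obtain ⟨b, hsb, hab⟩ := hinv' ⟨x, hx⟩ hx0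
        rw [show s • x = (b : α) from hsb, jx, Projectivization.mk_eq_mk_iff']
        have hne : φ ⟨x, hx⟩ ≠ 0 := fun e0 => hx0 (φ.injective (e0.trans φzero.symm))
        have hfb : φ ⟨x, hx⟩ * φ b = 1 := by rw [← φmul, hab, φone]
        refine ⟨φ ⟨x, hx⟩, funext fun i => ?_⟩
        show _ = ((!![0, 1; 1, 0] : Matrix (Fin 2) (Fin 2) F).mulVec _) i
        fin_cases i <;> simp [vec, Matrix.mulVec, dotProduct, Fin.sum_univ_two, hfb, mul_comm]
  have hle : G ≤ Φ.range := by
    intro σ hσ
    let g : G := ⟨σ, hσ⟩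
    show (g : Equiv.Perm α) ∈ Φ.range
    by_cases hg : g • I = I
    · exact haff g hg
    obtain ⟨t, tI, ty, -⟩ : ∃ t : G, t • I = I ∧ t • (g • I) = (z : α) ∧ True := by
      obtain ⟨w, hw1, hw2⟩ : ∃ w, w ≠ I ∧ w ≠ g • I := by
        by_cases h : (z : α) = g • I
        · exact ⟨u, u.2, fun e => hzu (h.trans e.symm)⟩
        · exact ⟨z, z.2, h⟩
      obtain ⟨t, t1, t2, -⟩ := three (Ne.symm hg) (Ne.symm hw1) (Ne.symm hw2) (Ne.symm z.2) (Ne.symm u.2) hzu
      exact ⟨t, t1, t2, trivial⟩
    have h1 := haff t tI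
    have h2 := haff (s * t * g) (by rw [mul_smul, mul_smul, ty, sz])
    have h3 : (g : Equiv.Perm α) = (t : Equiv.Perm α)⁻¹ * (s : Equiv.Perm α)⁻¹ * ((s * t * g : G) : Equiv.Perm α) := by
      simp [mul_assoc]
    rw [h3]
    exact mul_mem (mul_mem (inv_mem h1) (inv_mem hsmem)) h2
  have hge : Φ.range ≤ G := by
    rintro _ ⟨m, rfl⟩
    have hne : ∀ {a b : α}, a ≠ b → Φ m a ≠ Φ m b := fun h => (Φ m).injective.ne h
    obtain ⟨g, g1, g2, g3⟩ := three (Ne.symm z.2) (Ne.symm u.2) hzu (hne (Ne.symm z.2)) (hne (Ne.symm u.2)) (hne hzu)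
    obtain ⟨m', hm'⟩ := hle g.2
    have : m'⁻¹ * m = 1 := by
      refine (Cfsg.Agent.S0266.result (F := F)).2 _ (e I) (e z) (e u) (e.injective.ne (Ne.symm z.2))
        (e.injective.ne (Ne.symm u.2)) (e.injective.ne hzu) ?_ ?_ ?_ <;>
      · rw [mul_smul, inv_smul_eq_iff, ← e.apply_symm_apply (m • e _), ← e.apply_symm_apply (m' • e _)]
        refine congrArg e (?_ : Φ m _ = Φ m' _)
        rw [hm']
        first | exact g1.symm | exact g2.symm | exact g3.symm
    rw [← inv_mul_eq_one.mp this, hm']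
    exact g.2
  have hinj : Function.Injective Φ := fun m m' h => by
    have key : ∀ a, m • e a = m' • e a := fun a => e.symm.injective (Equiv.ext_iff.mp h a)
    refine (inv_mul_eq_one.mp ((Cfsg.Agent.S0266.result (F := F)).2 (m'⁻¹ * m) (e I) (e z) (e u)
      (e.injective.ne (Ne.symm z.2)) (e.injective.ne (Ne.symm u.2)) (e.injective.ne hzu) ?_ ?_ ?_)).symm <;>
    rw [mul_smul, key, inv_smul_smul]
  exact ⟨((MonoidHom.ofInjective hinj).trans (MulEquiv.subgroupCongr (le_antisymm hge hle))).symm⟩


end Cfsg.Agent.Lib.Perm.SharpThreeComm
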