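import Cfsg.Agent.Lib.Perm.NearFieldIndexTwo
import Cfsg.Agent.Lib.Perm.SharpTwo
import Cfsg.Agent.S0728

/-!
# Sharply triply transitive groups of even degree are not simple

The two-point stabilizer has a subgroup of index two invariant under an involution swapping the two
points; the corresponding character extends to the whole group.
-/

set_option autoImplicit false
set_option linter.style.haveILetI false

namespace Cfsg.Lib.Perm.SharpThreeHom

/-- A sign-valued homomorphism on a point stabilizer which is invariant under a swap of two points extends to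
the group, when the two-point stabilizer is transitive on the other points. -/
theorem exists_hom_extension {G Ω : Type*} [Group G] [MulAction G Ω] {a b c : Ω} (hab : a ≠ b) (hca : c ≠ a)
    (hcb : c ≠ b)
    (h2 : ∀ x : Ω, x ≠ a → ∃ g : G, g • a = a ∧ g • b = x)
    (hD : ∀ x y : Ω, x ≠ a → x ≠ b → y ≠ a → y ≠ b → ∃ g : G, g • a = a ∧ g • b = b ∧ g • x = y)
    (s : G) (hsa : s • a = b) (hsb : s • b = a) (hs2 : s * s = 1)
    (μ : MulAction.stabilizer G a →* ℤˣ)
    (hμ : ∀ (h : G) (h₁ : h • a = a) (h₂ : (s * h * s) • a = a), h • b = b → μ ⟨s * h * s, h₂⟩ = μ ⟨h, h₁⟩) :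
    ∃ φ : G →* ℤˣ, ∀ x : MulAction.stabilizer G a, φ x = μ x := by
  classical
  have hinv : ∀ u : ℤˣ, u * u = 1 := Int.units_mul_self
  let M : G → ℤˣ := fun g => if hg : g • a = a then μ ⟨g, hg⟩ else 1
  have hM : ∀ x y : G, x • a = a → y • a = a → M (x * y) = M x * M y := by
    intro x y hx hy
    have hxy : (x * y) • a = a := by rw [mul_smul, hy, hx]
    simp only [M, dif_pos hx, dif_pos hy, dif_pos hxy]
    rw [← map_mul]
    rfl
  have hM1 : M 1 = 1 := by
    have := hM 1 1 (one_smul G a) (one_smul G a)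
    rw [one_mul] at this
    exact (mul_eq_left.1 this.symm)
  have hMinv : ∀ x : G, x • a = a → M x⁻¹ = M x := by
    intro x hx
    have hx' : x⁻¹ • a = a := inv_smul_eq_iff.2 hx.symm
    have h1 := hM x⁻¹ x hx' hx
    rw [inv_mul_cancel, hM1] at h1
    calc M x⁻¹ = M x⁻¹ * (M x * M x) := by rw [hinv, mul_one]
      _ = M x := by rw [← mul_assoc, ← h1, one_mul]
  have hss : ∀ x : G, s * (s * x) = x := fun x => by rw [← mul_assoc, hs2, one_mul]
  have hconj : ∀ h : G, h • a = a → h • b = b →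
      (s * h * s) • a = a ∧ (s * h * s) • b = b ∧ M (s * h * s) = M h := by
    intro h ha hb
    have h₂ : (s * h * s) • a = a := by rw [mul_smul, mul_smul, hsa, hb, hsb]
    refine ⟨h₂, by rw [mul_smul, mul_smul, hsb, ha, hsa], ?_⟩
    simp only [M, dif_pos ha, dif_pos h₂]
    exact hμ h ha h₂ hb
  -- decomposition of the elements moving `a`
  have hdec : ∀ g : G, g • a ≠ a → ∃ x y : G, x • a = a ∧ y • a = a ∧ g = x * s * y := by
    intro g hg
    obtain ⟨x, hxa, hxb⟩ := h2 (g • a) hg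
    refine ⟨x, s * (x⁻¹ * g), hxa, ?_, by rw [mul_assoc, hss, mul_inv_cancel_left]⟩
    rw [mul_smul, mul_smul, ← hxb, inv_smul_smul, hsb]
  have hndec : ∀ x y : G, x • a = a → y • a = a → (x * s * y) • a ≠ a := by
    intro x y hx hy h
    rw [mul_smul, mul_smul, hy, hsa] at h
    exact hab (MulAction.injective x (hx.trans h.symm))
  have huniq : ∀ x y x' y' : G, x • a = a → y • a = a → x' • a = a → y' • a = a → x * s * y = x' * s * y' →
      M x * M y = M x' * M y' := by
    intro x y x' y' hx hy hx' hy' he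
    have hb : x • b = x' • b := by
      have := congrArg (· • a) he
      simpa only [mul_smul, hy, hy', hsa] using this
    have hha : (x'⁻¹ * x) • a = a := by rw [mul_smul, hx, inv_smul_eq_iff, hx']
    have hhb : (x'⁻¹ * x) • b = b := by rw [mul_smul, hb, inv_smul_smul]
    obtain ⟨h1, -, h3⟩ := hconj _ hha hhb
    have hy'' : y' = s * (x'⁻¹ * x) * s * y := by
      calc y' = s * (x'⁻¹ * (x' * s * y')) := by rw [mul_assoc x', inv_mul_cancel_left, hss]
        _ = s * (x'⁻¹ * (x * s * y)) := by rw [he]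
        _ = s * (x'⁻¹ * x) * s * y := by group
    rw [hy'', hM _ _ h1 hy, h3, hM _ _ (inv_smul_eq_iff.2 hx'.symm) hx, hMinv x' hx']
    rw [← mul_assoc, ← mul_assoc, hinv, one_mul]
  obtain ⟨v₀, hv₀a, hv₀b⟩ := h2 c hca
  have hv₀ : (s * v₀ * s) • a ≠ a := by
    rw [mul_smul, mul_smul, hsa, hv₀b]
    intro h
    exact hcb (MulAction.injective s (h.trans hsb.symm))
  obtain ⟨x₀, y₀, hx₀, hy₀, he₀⟩ := hdec _ hv₀
  set ε : ℤˣ := M x₀ * M v₀ * M y₀ with hε
  let F : G → ℤˣ := fun g =>
    if hg : g • a = a then M g else M (hdec g hg).choose * M (hdec g hg).choose_spec.choose * ε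
  have hFa : ∀ g : G, g • a = a → F g = M g := fun g hg => dif_pos hg
  have hFx : ∀ x y : G, x • a = a → y • a = a → F (x * s * y) = M x * M y * ε := by
    intro x y hx hy
    have hne := hndec x y hx hy
    simp only [F, dif_neg hne]
    obtain ⟨h1, h2', h3⟩ := (hdec _ hne).choose_spec.choose_spec
    rw [huniq _ _ x y h1 h2' hx hy h3.symm]
  have hFy : ∀ g y : G, y • a = a → F (g * y) = F g * M y := by
    intro g y hy
    by_cases hg : g • a = a
    · rw [hFa g hg, hFa _ (by rw [mul_smul, hy, hg]), hM g y hg hy]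
    · obtain ⟨u, v, hu, hv, rfl⟩ := hdec g hg
      rw [mul_assoc (u * s), hFx u (v * y) hu (by rw [mul_smul, hy, hv]), hFx u v hu hv, hM v y hv hy]
      ac_rfl
  have hFs : ∀ g : G, F (g * s) = F g * ε := by
    intro g
    by_cases hg : g • a = a
    · conv_lhs => rw [← mul_one (g * s)]
      rw [hFx g 1 hg (one_smul G a), hM1, mul_one, hFa g hg]
    · obtain ⟨u, v, hu, hv, rfl⟩ := hdec g hg
      rw [hFx u v hu hv, mul_assoc (M u * M v), hinv, mul_one]
      by_cases hvb : v • b = b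
      · obtain ⟨h1, -, h3⟩ := hconj v hv hvb
        rw [show u * s * v * s = u * (s * v * s) by group, hFa _ (by rw [mul_smul, h1, hu]), hM u _ hu h1, h3]
      · obtain ⟨k, hka, hkb, hkc⟩ := hD c (v • b) hca hcb
          (fun h => hab (MulAction.injective v (hv.trans h.symm))) hvb
        set l := v₀⁻¹ * (k⁻¹ * v) with hl
        have hka' : k⁻¹ • a = a := inv_smul_eq_iff.2 hka.symm
        have hla : l • a = a := by rw [hl, mul_smul, mul_smul, hv, hka', inv_smul_eq_iff, hv₀a]
        have hlb : l • b = b := by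
          rw [hl, mul_smul, mul_smul, ← hkc, inv_smul_smul, inv_smul_eq_iff, hv₀b]
        have hvk : v = k * v₀ * l := by rw [hl]; group
        obtain ⟨hk1, -, hk3⟩ := hconj k hka hkb
        obtain ⟨hl1, -, hl3⟩ := hconj l hla hlb
        have he : u * s * v * s = (u * (s * k * s) * x₀) * s * (y₀ * (s * l * s)) := by
          calc u * s * v * s = u * s * (k * v₀ * l) * s := by rw [← hvk]
            _ = u * (s * (k * (s * s) * v₀ * (s * s) * l) * s) := by rw [hs2]; group
            _ = u * ((s * k * s) * (s * v₀ * s) * (s * l * s)) := by group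
            _ = _ := by rw [he₀]; group
        have h4 : (u * (s * k * s)) • a = a := by rw [mul_smul, hk1, hu]
        rw [he, hFx _ _ (by rw [mul_smul, hx₀, h4]) (by rw [mul_smul, hl1, hy₀]), hM _ _ h4 hx₀,
          hM _ _ hu hk1, hk3, hM _ _ hy₀ hl1, hl3]
        have hMv : M v = M k * M v₀ * M l := by
          rw [hvk, hM _ _ (by rw [mul_smul, hv₀a, hka]) hla, hM _ _ hka hv₀a]
        rw [hMv, hε]
        calc M u * M k * M x₀ * (M y₀ * M l) * (M x₀ * M v₀ * M y₀)
            = M u * (M k * M v₀ * M l) * ((M x₀ * M x₀) * (M y₀ * M y₀)) := by ac_rfl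
          _ = M u * (M k * M v₀ * M l) := by rw [hinv, hinv, mul_one, mul_one]
  refine ⟨MonoidHom.mk' F fun g₁ g₂ => ?_, fun x => ?_⟩
  · by_cases hg : g₂ • a = a
    · rw [hFy g₁ g₂ hg, hFa g₂ hg]
    · obtain ⟨u, v, hu, hv, rfl⟩ := hdec g₂ hg
      rw [hFx u v hu hv, ← mul_assoc, ← mul_assoc, hFy _ v hv, hFs, hFy _ u hu]
      ac_rfl
  · show F (x : G) = μ x
    have hx : (x : G) • a = a := x.2
    rw [hFa _ hx]
    simp only [M, dif_pos hx]

variable {α : Type*} [Fintype α] [DecidableEq α] (G : Subgroup (Equiv.Perm α))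
  (h3 : MulAction.IsMultiplyPretransitive G α 3) (hsharp : ∀ x : Fin 3 ↪ α, MulAction.stabilizer G x = ⊥)

include hsharp in
theorem eq_one_of_fix_three {g : G} {a b c : α} (hab : a ≠ b) (hac : a ≠ c) (hbc : b ≠ c)
    (ha : g • a = a) (hb : g • b = b) (hc : g • c = c) : g = 1 := by
  have h : g ∈ MulAction.stabilizer G (Cfsg.Agent.S0728.tri a b c hab hac hbc) := by
    rw [MulAction.mem_stabilizer_iff]
    ext i
    fin_cases i
    · exact ha
    · exact hb
    · exact hc
  rwa [hsharp, Subgroup.mem_bot] at h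

include h3 in
theorem exists_smul_three {a b c x y z : α} (hab : a ≠ b) (hac : a ≠ c) (hbc : b ≠ c)
    (hxy : x ≠ y) (hxz : x ≠ z) (hyz : y ≠ z) : ∃ g : G, g • a = x ∧ g • b = y ∧ g • c = z := by
  obtain ⟨g, hg⟩ := h3.exists_smul_eq (Cfsg.Agent.S0728.tri a b c hab hac hbc)
    (Cfsg.Agent.S0728.tri x y z hxy hxz hyz)
  exact ⟨g, DFunLike.congr_fun hg 0, DFunLike.congr_fun hg 1, DFunLike.congr_fun hg 2⟩

include h3 hsharp

/-- The regular elementary abelian normal subgroup of a point stabilizer. -/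
theorem exists_kernel {a b c : α} (hab : a ≠ b) (hac : a ≠ c) (hbc : b ≠ c) :
    ∃ p : ℕ, p.Prime ∧ ∃ U : Subgroup G, U ≤ MulAction.stabilizer G a ∧
      (∀ g : G, g • a = a → ∀ u ∈ U, g * u * g⁻¹ ∈ U) ∧
      (∀ u ∈ U, ∀ v ∈ U, u * v = v * u) ∧ (∀ u ∈ U, u ^ p = 1) ∧
      ∀ y z : α, y ≠ a → z ≠ a → ∃! u : U, (u : G) • y = z := by
  classical
  set A := MulAction.stabilizer G a with hA
  have hne : ∀ (g : A) (x : α), ((g : G) : Equiv.Perm α) x ≠ a ↔ x ≠ a := by
    intro g x
    have hga : ((g : G) : Equiv.Perm α) a = a := g.2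
    conv_lhs => rw [← hga]
    exact ((g : G) : Equiv.Perm α).injective.ne_iff
  let ρ : A →* Equiv.Perm {x : α // x ≠ a} :=
    { toFun := fun g => ((g : G) : Equiv.Perm α).subtypePerm (hne g)
      map_one' := Equiv.ext fun x => Subtype.ext rfl
      map_mul' := fun g h => Equiv.ext fun x => Subtype.ext rfl }
  have hρ : ∀ (g : A) (x : {x : α // x ≠ a}), ((ρ g x : {x : α // x ≠ a}) : α) = (g : G) • (x : α) :=
    fun g x => rfl
  have hinj : Function.Injective ρ := by
    rw [injective_iff_map_eq_one]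
    intro g hg
    have h : ∀ x : α, x ≠ a → (g : G) • x = x := fun x hx => by
      have := congrArg Subtype.val (Equiv.congr_fun hg ⟨x, hx⟩)
      exact this
    exact Subtype.ext (eq_one_of_fix_three G hsharp hab hac hbc g.2 (h b hab.symm) (h c hac.symm))
  set G' := ρ.range with hG'
  haveI : MulAction.IsMultiplyPretransitive G' {x : α // x ≠ a} 2 := by
    rw [MulAction.is_two_pretransitive_iff]
    intro x y z w hxy hzw
    obtain ⟨g, hga, hgx, hgy⟩ := exists_smul_three G h3 (Ne.symm x.2) (Ne.symm y.2)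
      (fun e => hxy (Subtype.ext e)) (Ne.symm z.2) (Ne.symm w.2) (fun e => hzw (Subtype.ext e))
    exact ⟨⟨ρ ⟨g, hga⟩, ⟨_, rfl⟩⟩, Subtype.ext hgx, Subtype.ext hgy⟩
  have hsharp' : ∀ x : Fin 2 ↪ {x : α // x ≠ a}, MulAction.stabilizer G' x = ⊥ := by
    intro x
    rw [Subgroup.eq_bot_iff_forall]
    rintro ⟨_, g, rfl⟩ hg
    rw [MulAction.mem_stabilizer_iff] at hg
    have hg0 : (g : G) • (x 0 : α) = x 0 := congrArg Subtype.val (DFunLike.congr_fun hg 0)
    have hg1 : (g : G) • (x 1 : α) = x 1 := congrArg Subtype.val (DFunLike.congr_fun hg 1)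
    have hg' : g = 1 := Subtype.ext (eq_one_of_fix_three G hsharp (Ne.symm (x 0).2) (Ne.symm (x 1).2)
      (fun e => x.injective.ne (by decide : (0 : Fin 2) ≠ 1) (Subtype.ext e)) g.2 hg0 hg1)
    exact Subtype.ext ((congrArg ρ hg').trans (map_one ρ))
  have h2 : 2 ≤ Fintype.card {x : α // x ≠ a} :=
    Fintype.one_lt_card_iff.2 ⟨⟨b, hab.symm⟩, ⟨c, hac.symm⟩, fun e => hbc (congrArg Subtype.val e)⟩
  obtain ⟨p, j, hp, -, -, T, hTn, -, -, hTc, hTp, hTt, hTfree, -⟩ :=
    Cfsg.Agent.Perm.sharpTwo_kernel G' hsharp' h2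
  haveI := hTn
  haveI := hTt
  refine ⟨p, hp, (T.comap ρ.rangeRestrict).map A.subtype, Subgroup.map_subtype_le _, ?_, ?_, ?_, ?_⟩
  · rintro g hg _ ⟨u, hu, rfl⟩
    exact ⟨⟨g, hg⟩ * u * ⟨g, hg⟩⁻¹, (hTn.comap ρ.rangeRestrict).conj_mem u hu ⟨g, hg⟩, rfl⟩
  · rintro _ ⟨u, hu, rfl⟩ _ ⟨v, hv, rfl⟩
    have := hTc _ hu _ hv
    rw [← map_mul, ← map_mul] at this
    rw [← map_mul, ← map_mul, hinj (congrArg Subtype.val this)]
  · rintro _ ⟨u, hu, rfl⟩
    have := hTp _ hu
    rw [← map_pow] at this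
    rw [← map_pow, hinj ((congrArg Subtype.val this).trans (map_one ρ).symm), map_one]
  · intro y z hy hz
    obtain ⟨⟨⟨_, u, rfl⟩, ht⟩, htyz⟩ := MulAction.exists_smul_eq T (⟨y, hy⟩ : {x : α // x ≠ a}) ⟨z, hz⟩
    have hu : (u : G) • y = z := congrArg Subtype.val htyz
    refine ⟨⟨(u : G), u, ht, rfl⟩, hu, ?_⟩
    rintro ⟨_, w, hw, rfl⟩ hwy
    have hm : ρ.rangeRestrict (u⁻¹ * w) ∈ T := by
      rw [map_mul, map_inv]
      exact T.mul_mem (T.inv_mem ht) hw
    have hstab : (⟨_, hm⟩ : T) ∈ MulAction.stabilizer T (⟨y, hy⟩ : {x : α // x ≠ a}) := by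
      rw [MulAction.mem_stabilizer_iff]
      apply Subtype.ext
      show ((u⁻¹ * w : A) : G) • y = y
      rw [Subgroup.coe_mul, Subgroup.coe_inv, mul_smul]
      rw [show (w : G) • y = z from hwy, ← hu, inv_smul_smul]
    rw [hTfree, Subgroup.mem_bot] at hstab
    have : ρ (u⁻¹ * w) = ρ 1 := (congrArg Subtype.val (congrArg Subtype.val hstab)).trans (map_one ρ).symm
    exact Subtype.ext (congrArg (fun q : A => (q : G)) (inv_mul_eq_one.1 (hinj this)).symm)

/-- The two-point stabilizer acts regularly on the other points. -/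
theorem card_two_point_stabilizer {a b c : α} (hab : a ≠ b) (hac : a ≠ c) (hbc : b ≠ c) :
    Nat.card ↥(MulAction.stabilizer G a ⊓ MulAction.stabilizer G b : Subgroup G) = Fintype.card α - 2 := by
  classical
  set D : Subgroup G := MulAction.stabilizer G a ⊓ MulAction.stabilizer G b with hD
  have hb : Function.Bijective (fun h : D => (⟨(h : G) • c,
      fun e => hac ((MulAction.injective (h : G) (e.trans h.2.1.symm)).symm),
      fun e => hbc ((MulAction.injective (h : G) (e.trans h.2.2.symm)).symm)⟩ : {x : α // x ≠ a ∧ x ≠ b})) := by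
    refine ⟨fun h k e => ?_, fun x => ?_⟩
    · have hm := D.mul_mem (D.inv_mem k.2) h.2
      refine Subtype.ext (inv_mul_eq_one.1 (eq_one_of_fix_three G hsharp hab hac hbc hm.1 hm.2 ?_)).symm
      rw [mul_smul, show (h : G) • c = (k : G) • c from congrArg Subtype.val e, inv_smul_smul]
    · obtain ⟨g, hga, hgb, hgc⟩ := exists_smul_three G h3 hab hac hbc hab x.2.1.symm x.2.2.symm
      exact ⟨⟨g, hga, hgb⟩, Subtype.ext hgc⟩
  rw [Nat.card_eq_of_bijective _ hb, Nat.card_eq_fintype_card, Fintype.card_subtype]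
  rw [show (Finset.univ.filter fun x => x ≠ a ∧ x ≠ b) = (Finset.univ.erase a).erase b by
    ext x; simp [and_comm]]
  rw [Finset.card_erase_of_mem (by simp [hab.symm]), Finset.card_erase_of_mem (Finset.mem_univ _),
    Finset.card_univ]
  omega

/-- The two-point stabilizer of a sharply triply transitive group of even degree has a subgroup of index
two. -/
theorem exists_index_two (heven : Even (Fintype.card α)) {a b c : α} (hab : a ≠ b) (hac : a ≠ c)
    (hbc : b ≠ c) :
    ∃ K : Subgroup ↥(MulAction.stabilizer G a ⊓ MulAction.stabilizer G b : Subgroup G), K.index = 2 := by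
  classical
  obtain ⟨p, hp, U, hUle, hUn, hUc, hUp, hreg⟩ := exists_kernel G h3 hsharp hab hac hbc
  haveI := Fact.mk hp
  have hcard := card_two_point_stabilizer G h3 hsharp hab hac hbc
  set D : Subgroup G := MulAction.stabilizer G a ⊓ MulAction.stabilizer G b with hD
  letI : CommGroup U :=
    { (inferInstance : Group U) with mul_comm := fun u v => Subtype.ext (hUc _ u.2 _ v.2) }
  have hpu : ∀ u : Additive U, p • u = 0 := fun u => by
    apply Additive.toMul.injective
    exact Subtype.ext (hUp _ u.toMul.2)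
  obtain ⟨_instMod⟩ : Nonempty (Module (ZMod p) (Additive U)) := ⟨AddCommGroup.zmodModule hpu⟩
  let conj : ∀ h : D, Additive U ≃ₗ[ZMod p] Additive U := fun h =>
    let f : U ≃* U :=
      { toFun := fun u => ⟨(h : G) * u * (h : G)⁻¹, hUn _ h.2.1 _ u.2⟩
        invFun := fun u => ⟨(h : G)⁻¹ * u * (h : G), by
          have := hUn _ (show (h : G)⁻¹ • a = a from inv_smul_eq_iff.2 h.2.1.symm) _ u.2
          rwa [inv_inv] at this⟩
        left_inv := fun u => Subtype.ext (by group)
        right_inv := fun u => Subtype.ext (by group)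
        map_mul' := fun u v => Subtype.ext (by
          show (h : G) * ((u : G) * v) * (h : G)⁻¹ = _ * _
          group) }
    (MulEquiv.toAdditive f).toLinearEquiv fun t u =>
      ZMod.map_smul (MulEquiv.toAdditive f).toAddMonoidHom t u
  have hconjmul : ∀ g h : D, conj (g * h) = conj g * conj h := by
    intro g h
    refine LinearEquiv.ext fun u => ?_
    rw [LinearEquiv.mul_apply]
    apply Additive.toMul.injective
    apply Subtype.ext
    show ((g * h : D) : G) * (u.toMul : G) * ((g * h : D) : G)⁻¹ =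
      (g : G) * ((h : G) * (u.toMul : G) * (h : G)⁻¹) * (g : G)⁻¹
    rw [Subgroup.coe_mul]
    group
  let ρ : D →* (Additive U ≃ₗ[ZMod p] Additive U) := MonoidHom.mk' conj hconjmul
  have hρ : ∀ (h : D) (u : Additive U), (((ρ h) u).toMul : G) = (h : G) * (u.toMul : G) * (h : G)⁻¹ :=
    fun h u => rfl
  have hub : ∀ u : U, (u : G) • b ≠ a := fun u e => hab
    ((MulAction.injective (u : G) (e.trans (MulAction.mem_stabilizer_iff.1 (hUle u.2)).symm)).symm)
  have hub' : ∀ u : Additive U, u ≠ 0 → (u.toMul : G) • b ≠ b := by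
    intro u hu e
    obtain ⟨w, -, hw⟩ := hreg b b hab.symm hab.symm
    exact hu (Additive.toMul.injective ((hw u.toMul e).trans (hw 1 (one_smul _ _)).symm))
  have key : ∀ v w : Additive U, v ≠ 0 → w ≠ 0 → ∃! h : D, ρ h v = w := by
    intro v w hv hw
    obtain ⟨g, hga, hgb, hgv⟩ := exists_smul_three G h3 hab (Ne.symm (hub v.toMul)) (Ne.symm (hub' v hv))
      hab (Ne.symm (hub w.toMul)) (Ne.symm (hub' w hw))
    have happ : ∀ h : D, (((ρ h) v).toMul : G) • b = (h : G) • ((v.toMul : G) • b) := by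
      intro h
      rw [hρ, mul_smul, mul_smul, inv_smul_eq_iff.2 (show b = (h : G) • b from h.2.2.symm)]
    refine ⟨⟨g, hga, hgb⟩, ?_, ?_⟩
    · obtain ⟨x, -, hx⟩ := hreg b ((w.toMul : G) • b) hab.symm (hub _)
      exact Additive.toMul.injective ((hx _ ((happ ⟨g, hga, hgb⟩).trans hgv)).trans (hx _ rfl).symm)
    · intro h hh
      have h1 : (h : G) • ((v.toMul : G) • b) = g • ((v.toMul : G) • b) := by rw [← happ, hh, hgv]
      have hm := D.mul_mem (D.inv_mem (show g ∈ D from ⟨hga, hgb⟩)) h.2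
      refine Subtype.ext (inv_mul_eq_one.1 (eq_one_of_fix_three G hsharp hab (Ne.symm (hub v.toMul))
        (Ne.symm (hub' v hv)) hm.1 hm.2 ?_)).symm
      rw [mul_smul, h1, inv_smul_smul]
  have hinj : Function.Injective ρ := by
    obtain ⟨u₀, hu₀, -⟩ := hreg b c hab.symm hac.symm
    have hne : Additive.ofMul u₀ ≠ 0 := fun e => hbc (by
      have : u₀ = 1 := Additive.ofMul.injective e
      rw [this] at hu₀
      simpa using hu₀)
    intro h k e
    have hk0 : ρ k (Additive.ofMul u₀) ≠ 0 := by simpa using hne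
    obtain ⟨x, -, hx⟩ := key _ _ hne hk0
    exact (hx h (LinearEquiv.congr_fun e _)).trans (hx k rfl).symm
  have hregR : ∀ v w : Additive U, v ≠ 0 → w ≠ 0 →
      ∃! h : ρ.range, (h : Additive U ≃ₗ[ZMod p] Additive U) v = w := by
    intro v w hv hw
    obtain ⟨h, hh, hu⟩ := key v w hv hw
    refine ⟨⟨ρ h, h, rfl⟩, hh, ?_⟩
    rintro ⟨_, k, rfl⟩ hk
    exact Subtype.ext (congrArg ρ (hu k hk))
  let e : D ≃* ρ.range := MonoidHom.ofInjective hinj
  have hceq : Nat.card ρ.range = Fintype.card α - 2 := by rw [← Nat.card_congr e.toEquiv, hcard]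
  have hT : ∀ A B : Subgroup ρ.range, Nat.card A = 3 → Nat.card B = 3 → A = B := by
    intro A B hA hB
    have h6 : 6 ≤ Fintype.card α := by
      have h3d : 3 ∣ Fintype.card α - 2 := hceq ▸ hA ▸ A.card_subgroup_dvd_card
      have : 3 ≤ Fintype.card α :=
        Fintype.two_lt_card_iff.2 ⟨a, b, c, hab, hac, hbc⟩
      obtain ⟨m, hm⟩ := heven
      omega
    have hm : ∀ X : Subgroup ρ.range, Nat.card X = 3 →
        Nat.card ((X.map e.symm.toMonoidHom).map D.subtype) = 3 := fun X hX => by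
      rw [Subgroup.card_map_of_injective D.subtype_injective,
        Subgroup.card_map_of_injective (f := e.symm.toMonoidHom) e.symm.injective, hX]
    exact Subgroup.map_injective (f := e.symm.toMonoidHom) e.symm.injective
      (Subgroup.map_injective D.subtype_injective
        (Cfsg.Agent.S0728.result heven h6 G h3 hsharp hab _ _ (Subgroup.map_subtype_le _)
          (Subgroup.map_subtype_le _) (hm A hA) (hm B hB)))
  have heven' : 2 ∣ Nat.card ρ.range := by
    rw [hceq]
    exact Nat.dvd_sub (even_iff_two_dvd.1 heven) (dvd_refl 2)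
  obtain ⟨K, hK⟩ := Cfsg.Lib.Perm.NearFieldAb.exists_index_two hregR heven' hT
  exact ⟨K.comap e.toMonoidHom,
    (Subgroup.index_comap_of_surjective (f := e.toMonoidHom) _ e.surjective).trans hK⟩

/-- A nontrivial swap-invariant sign on the two-point stabilizer, extended to the point stabilizer. -/
theorem exists_swap_invariant_hom (heven : Even (Fintype.card α)) {a b c : α} (hab : a ≠ b) (hac : a ≠ c)
    (hbc : b ≠ c) (s : G) (hsa : s • a = b) (hsb : s • b = a) (hs2 : s * s = 1) :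
    ∃ μ : MulAction.stabilizer G a →* ℤˣ,
      (∀ (h : G) (h₁ : h • a = a) (h₂ : (s * h * s) • a = a), h • b = b →
        μ ⟨s * h * s, h₂⟩ = μ ⟨h, h₁⟩) ∧
      ∃ x : MulAction.stabilizer G a, (x : G) • b = b ∧ μ x ≠ 1 := by
  classical
  obtain ⟨p, hp, U, hUle, hUn, -, -, hreg⟩ := exists_kernel G h3 hsharp hab hac hbc
  set D : Subgroup G := MulAction.stabilizer G a ⊓ MulAction.stabilizer G b with hD
  obtain ⟨K, hK⟩ : ∃ K : Subgroup D, K.index = 2 := exists_index_two G h3 hsharp heven hab hac hbc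
  let lam₀ : D →* ℤˣ := MonoidHom.mk' (fun x => if x ∈ K then 1 else -1) fun x y => by
    have := Subgroup.mul_mem_iff_of_index_two hK (a := x) (b := y)
    by_cases hx : x ∈ K <;> by_cases hy : y ∈ K <;> simp_all
  have hcm : ∀ h : D, s * (h : G) * s ∈ D := fun h => by
    refine ⟨?_, ?_⟩
    · show (s * (h : G) * s) • a = a
      rw [mul_smul, mul_smul, hsa, show (h : G) • b = b from h.2.2, hsb]
    · show (s * (h : G) * s) • b = b
      rw [mul_smul, mul_smul, hsb, show (h : G) • a = a from h.2.1, hsa]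
  let σ : D →* D := MonoidHom.mk' (fun h => ⟨s * (h : G) * s, hcm h⟩) fun g h => Subtype.ext (by
    show s * ((g : G) * h) * s = (s * g * s) * (s * h * s)
    calc s * ((g : G) * h) * s = s * g * (s * s) * h * s := by rw [hs2]; group
      _ = _ := by group)
  have hσσ : ∀ h : D, σ (σ h) = h := fun h => Subtype.ext (by
    show s * (s * (h : G) * s) * s = h
    calc s * (s * (h : G) * s) * s = (s * s) * h * (s * s) := by group
      _ = h := by rw [hs2, one_mul, mul_one])
  have hne₀ : ∃ h : D, lam₀ h ≠ 1 := by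
    obtain ⟨h, hh⟩ : ∃ h : D, h ∉ K := by
      by_contra hall
      push Not at hall
      have h1 := Subgroup.index_eq_one.2 ((Subgroup.eq_top_iff' K).2 hall)
      omega
    refine ⟨h, ?_⟩
    show (if h ∈ K then (1 : ℤˣ) else -1) ≠ 1
    rw [if_neg hh]
    decide
  obtain ⟨lam, hlam, hlne⟩ : ∃ lam : D →* ℤˣ, (∀ h : D, lam (σ h) = lam h) ∧ ∃ h : D, lam h ≠ 1 := by
    by_cases hall : ∀ h : D, lam₀ (σ h) = lam₀ h
    · exact ⟨lam₀, hall, hne₀⟩
    · push Not at hall
      obtain ⟨h, hh⟩ := hall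
      refine ⟨lam₀ * lam₀.comp σ, fun x => ?_, h, fun e => hh ?_⟩
      · show lam₀ (σ x) * lam₀ (σ (σ x)) = lam₀ x * lam₀ (σ x)
        rw [hσσ, mul_comm]
      · have e' : lam₀ h * lam₀ (σ h) = 1 := e
        calc lam₀ (σ h) = lam₀ h * lam₀ h * lam₀ (σ h) := by rw [Int.units_mul_self, one_mul]
          _ = lam₀ h := by rw [mul_assoc, e', mul_one]
  -- projection onto the two-point stabilizer
  set A := MulAction.stabilizer G a with hA
  have hyb : ∀ y : A, (y : G) • b ≠ a := fun y e => hab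
    ((MulAction.injective (y : G) (e.trans (MulAction.mem_stabilizer_iff.1 y.2).symm)).symm)
  choose t ht htu using fun y : A => hreg b ((y : G) • b) hab.symm (hyb y)
  have hπ : ∀ y : A, ((t y : G))⁻¹ * (y : G) ∈ D := fun y => by
    refine ⟨A.mul_mem (A.inv_mem (hUle (t y).2)) y.2, ?_⟩
    show (((t y : G))⁻¹ * (y : G)) • b = b
    rw [mul_smul, ← ht y, inv_smul_smul]
  let π : A →* D := MonoidHom.mk' (fun y => ⟨((t y : G))⁻¹ * (y : G), hπ y⟩) fun x y => Subtype.ext (by
    show ((t (x * y) : G))⁻¹ * ((x : G) * y) = ((t x : G))⁻¹ * x * (((t y : G))⁻¹ * y)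
    set d : G := ((t x : G))⁻¹ * x with hd
    have hda : d • a = a := (hπ x).1
    have hdb : d • b = b := (hπ x).2
    have hw : (⟨(t x : G) * (d * (t y : G) * d⁻¹), U.mul_mem (t x).2 (hUn d hda _ (t y).2)⟩ : U) = t (x * y) := by
      refine htu (x * y) _ ?_
      show ((t x : G) * (d * (t y : G) * d⁻¹)) • b = ((x * y : A) : G) • b
      rw [Subgroup.coe_mul, mul_smul (x : G), ← ht y, mul_smul, mul_smul, mul_smul,
        inv_smul_eq_iff.2 hdb.symm, ← mul_smul (t x : G), hd, mul_inv_cancel_left]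
    rw [← hw]
    show ((t x : G) * (d * (t y : G) * d⁻¹))⁻¹ * ((x : G) * y) = d * (((t y : G))⁻¹ * y)
    rw [hd]
    group)
  have hπD : ∀ (h : D), π ⟨(h : G), h.2.1⟩ = h := fun h => by
    have h1 : (1 : U) = t ⟨(h : G), h.2.1⟩ := htu _ 1 (by
      show ((1 : U) : G) • b = (h : G) • b
      rw [OneMemClass.coe_one, one_smul]; exact h.2.2.symm)
    refine Subtype.ext ?_
    show ((t ⟨(h : G), h.2.1⟩ : G))⁻¹ * (h : G) = h
    rw [← h1, OneMemClass.coe_one, inv_one, one_mul]
  refine ⟨lam.comp π, fun h h₁ h₂ hb => ?_, ?_⟩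
  · have h1 : π ⟨h, h₁⟩ = ⟨h, h₁, hb⟩ := hπD ⟨h, h₁, hb⟩
    have h2' : π ⟨s * h * s, h₂⟩ = σ ⟨h, h₁, hb⟩ := hπD (σ ⟨h, h₁, hb⟩)
    show lam (π _) = lam (π _)
    rw [h1, h2', hlam]
  · obtain ⟨h, hh⟩ := hlne
    refine ⟨⟨(h : G), h.2.1⟩, h.2.2, ?_⟩
    show lam (π _) ≠ 1
    rwa [hπD]

omit hsharp in
/-- A sharply triply transitive group of even degree has a nontrivial sign character. -/
theorem exists_sign_hom (hsharp : ∀ x : Fin 3 ↪ α, MulAction.stabilizer G x = ⊥)
    (heven : Even (Fintype.card α)) (hcard : 3 ≤ Fintype.card α) : ∃ φ : G →* ℤˣ, ∃ g, φ g ≠ 1 := by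
  classical
  obtain ⟨a, b, c, hab, hac, hbc⟩ := Fintype.two_lt_card_iff.1 hcard
  obtain ⟨s, hsa, hsb, hsc⟩ := exists_smul_three G h3 hab hac hbc hab.symm hbc hac
  have hs2 : s * s = 1 := eq_one_of_fix_three G hsharp hab hac hbc
    (by rw [mul_smul, hsa, hsb]) (by rw [mul_smul, hsb, hsa]) (by rw [mul_smul, hsc, hsc])
  obtain ⟨μ, hμ, x, -, hx⟩ := exists_swap_invariant_hom G h3 hsharp heven hab hac hbc s hsa hsb hs2
  obtain ⟨φ, hφ⟩ := exists_hom_extension hab hac.symm hbc.symm (fun y hy => by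
      obtain ⟨z, hz⟩ : ∃ z, z ≠ a ∧ z ≠ y := by
        rcases eq_or_ne c y with h | h
        · exact ⟨b, hab.symm, h ▸ hbc⟩
        · exact ⟨c, hac.symm, h⟩
      obtain ⟨g, hga, hgb, -⟩ := exists_smul_three G h3 hab hac hbc (Ne.symm hy) (Ne.symm hz.1) (Ne.symm hz.2)
      exact ⟨g, hga, hgb⟩)
    (fun y z hya hyb hza hzb => exists_smul_three G h3 hab hya.symm hyb.symm hab hza.symm hzb.symm)
    s hsa hsb hs2 μ hμ
  exact ⟨φ, (x : G), by rw [hφ]; exact hx⟩

end Cfsg.Lib.Perm.SharpThreeHom
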