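import Cfsg.Agent.Lib.Perm.SmallSupportMain

/-!
# Transitive groups with quasisimple `F*` containing a four-group on four points
-/

set_option autoImplicit false

namespace Cfsg.Lib.Perm.SmallSupp

open Subgroup Pointwise

variable {α : Type*} [Fintype α] [DecidableEq α] {H F : Subgroup (Equiv.Perm α)}

/-- An element either fixes or complements each member of the family. -/
def FixOrSwap (S : Finset (Finset α)) (x : Equiv.Perm α) : Prop :=
  ∀ B ∈ S, (∀ t, x t ∈ B ↔ t ∈ B) ∨ (∀ t, x t ∈ B ↔ t ∉ B)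

namespace Trans

theorem isMultiplyPretransitive_two (hT : Trans H F) (h8 : 8 ≤ Fintype.card α) {D : Finset α}
    (hD : V4In H D) : MulAction.IsMultiplyPretransitive H α 2 := by
  have hcard : ((Dᶜ : Finset α) : Set α).ncard = (Fintype.card α - 5) + 1 := by
    rw [Set.ncard_coe_finset, Finset.card_compl, hD.1]; omega
  refine (hT.isPreprimitive_of_four hD).is_two_pretransitive hcard
    (by rw [Nat.card_eq_fintype_card]; omega) ⟨fun u v => ?_⟩
  rcases u with ⟨u, hu⟩
  rcases v with ⟨v, hv⟩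
  rw [SubMulAction.mem_ofFixingSubgroup_iff, Finset.mem_coe, Finset.mem_compl, not_not] at hu hv
  by_cases huv : u = v
  · exact ⟨1, Subtype.ext (by simpa using huv)⟩
  obtain ⟨x, hx, hs, hxu, -⟩ := hD.2 u hu v hv huv
  refine ⟨⟨⟨x, hx⟩, ?_⟩, Subtype.ext hxu⟩
  rw [mem_fixingSubgroup_iff]
  intro t ht
  rw [Finset.mem_coe, Finset.mem_compl, ← hs, Equiv.Perm.notMem_support] at ht
  exact ht

set_option maxHeartbeats 1600000 in
/-- A primitive group of degree at least eight with a four-group on four points and no `3`-cycle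
has degree eight and contains a nontrivial element fixing or complementing each such four-set. -/
theorem exists_fixOrSwap (hT : Trans H F) (h8 : 8 ≤ Fintype.card α) {D : Finset α} (hD : V4In H D)
    (h3 : ∀ x ∈ H, ¬ x.IsThreeCycle) :
    ∃ S : Finset (Finset α), (∀ g ∈ H, ∀ B ∈ S, B.image g ∈ S) ∧
      (∀ t u : α, t ≠ u → ∃ B ∈ S, t ∈ B ∧ u ∉ B) ∧
      ∃ E ∈ H, E ≠ 1 ∧ FixOrSwap S E := by
  classical
  have htwo : ∀ {a b c d : α}, a ≠ b → c ≠ d → ∃ g : H, g • a = c ∧ g • b = d :=
    fun h h' => MulAction.is_two_pretransitive_iff.1 (hT.isMultiplyPretransitive_two h8 hD) h h'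
  set S : Finset (Finset α) := Finset.univ.filter (fun B => V4In H B) with hS
  have memS : ∀ B, B ∈ S ↔ V4In H B := fun B => by simp [hS]
  have hinv : ∀ g ∈ H, ∀ B ∈ S, B.image g ∈ S := fun g hg B hB =>
    (memS _).2 (((memS B).1 hB).conj hg)
  have hev : ∀ B ∈ S, ∀ B' ∈ S, (B ∩ B').card ≠ 1 ∧ (B ∩ B').card ≠ 3 := fun B hB B' hB' =>
    inter_even_or_three h3 ((memS B).1 hB) ((memS B').1 hB')
  have h4 : ∀ B ∈ S, B.card = 4 := fun B hB => ((memS B).1 hB).1
  let P : α → α → Finset (Finset α) := fun a b => S.filter (fun B => a ∈ B ∧ b ∈ B)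
  have hPle : ∀ a b c d, a ≠ b → c ≠ d → (P a b).card ≤ (P c d).card := by
    intro a b c d hab hcd
    obtain ⟨g, hga, hgb⟩ := htwo hab hcd
    refine Finset.card_le_card_of_injOn (fun B => B.image (g : Equiv.Perm α)) ?_ ?_
    · intro B hB
      rw [Finset.mem_coe] at hB ⊢
      simp only [P, Finset.mem_filter] at hB ⊢
      exact ⟨hinv _ g.2 B hB.1, Finset.mem_image.2 ⟨a, hB.2.1, hga⟩, Finset.mem_image.2 ⟨b, hB.2.2, hgb⟩⟩
    · intro B _ B' _ h
      exact Finset.image_injective (g : Equiv.Perm α).injective h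
  obtain ⟨a, ha, b, hb, hab⟩ := Finset.one_lt_card.1 (by rw [hD.1]; norm_num : 1 < D.card)
  set l := (P a b).card with hl
  have hconst : ∀ c d, c ≠ d → (P c d).card = l := fun c d hcd =>
    le_antisymm (hPle _ _ _ _ hcd hab) (hPle _ _ _ _ hab hcd)
  have hDS : D ∈ S := (memS D).2 hD
  have hl1 : 1 ≤ l := Finset.card_pos.2 ⟨D, by simp [P, hDS, ha, hb]⟩
  have pair : ∀ {c d : α}, c ≠ d → ∀ B ∈ P c d, ∀ B' ∈ P c d, B ≠ B' → B ∩ B' = {c, d} := by
    intro c d hcd B hB B' hB' hne
    simp only [P, Finset.mem_filter] at hB hB'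
    have hsub : ({c, d} : Finset α) ⊆ B ∩ B' := by
      intro t ht
      simp only [Finset.mem_insert, Finset.mem_singleton] at ht
      rcases ht with rfl | rfl <;> simp [hB.2.1, hB.2.2, hB'.2.1, hB'.2.2]
    symm
    refine Finset.eq_of_subset_of_card_le hsub ?_
    rw [Finset.card_pair hcd]
    have h1 := (hev B hB.1 B' hB'.1).2
    have h2 : (B ∩ B').card ≤ 4 := (Finset.card_le_card Finset.inter_subset_left).trans (h4 B hB.1).le
    by_contra hlt
    have hBeq : B ∩ B' = B := Finset.eq_of_subset_of_card_le Finset.inter_subset_left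
      (by rw [h4 B hB.1]; omega)
    have hBsub : B ⊆ B' := Finset.inter_eq_left.1 hBeq
    exact hne (Finset.eq_of_subset_of_card_le hBsub (by rw [h4 B hB.1, h4 B' hB'.1]))
  -- counting
  set T := S.filter (fun B => a ∈ B) with hTdef
  have hsum : ∀ U : Finset α, a ∉ U → ∑ B ∈ T, (B ∩ U).card = U.card * l := by
    intro U haU
    calc ∑ B ∈ T, (B ∩ U).card = ∑ B ∈ T, ∑ t ∈ U, if t ∈ B then 1 else 0 := by
          refine Finset.sum_congr rfl fun B _ => ?_
          rw [Finset.inter_comm, ← Finset.filter_mem_eq_inter, Finset.card_filter]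
      _ = ∑ t ∈ U, ∑ B ∈ T, if t ∈ B then 1 else 0 := Finset.sum_comm
      _ = ∑ t ∈ U, l := by
          refine Finset.sum_congr rfl fun t ht => ?_
          rw [← Finset.card_filter, hTdef, Finset.filter_filter]
          exact hconst a t (fun h => haU (h ▸ ht))
      _ = U.card * l := by rw [Finset.sum_const, smul_eq_mul]
  have e1 : 3 * T.card = (Fintype.card α - 1) * l := by
    rw [← Finset.card_univ (α := α), ← Finset.card_erase_of_mem (Finset.mem_univ a),
      ← hsum _ (Finset.notMem_erase a _), Finset.sum_const_nat (m := 3), Nat.mul_comm]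
    intro B hB
    simp only [hTdef, Finset.mem_filter] at hB
    rw [Finset.inter_erase, Finset.inter_univ, Finset.card_erase_of_mem hB.2, h4 B hB.1]
  have e2 : T.card + 2 = 3 * l := by
    have h := hsum (D.erase a) (Finset.notMem_erase a _)
    rw [Finset.card_erase_of_mem ha, hD.1] at h
    have hDT : D ∈ T := by simp [hTdef, hDS, ha]
    rw [← Finset.add_sum_erase _ _ hDT] at h
    rw [Finset.sum_const_nat (m := 1)] at h
    · rw [Finset.card_erase_of_mem hDT, Finset.inter_eq_right.2 (Finset.erase_subset _ _),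
        Finset.card_erase_of_mem ha, hD.1] at h
      have := Finset.card_pos.2 ⟨D, hDT⟩
      omega
    intro B hB
    simp only [hTdef, Finset.mem_erase, Finset.mem_filter] at hB
    obtain ⟨hBD, hBS, haB⟩ := hB
    rw [Finset.inter_erase, Finset.card_erase_of_mem (Finset.mem_inter.2 ⟨haB, ha⟩)]
    have h1 := hev B hBS D hDS
    have h2 : (B ∩ D).card ≤ 4 := (Finset.card_le_card Finset.inter_subset_left).trans (h4 B hBS).le
    have h0 : 1 ≤ (B ∩ D).card := Finset.card_pos.2 ⟨a, Finset.mem_inter.2 ⟨haB, ha⟩⟩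
    have h5 : (B ∩ D).card ≠ 4 := fun h => by
      have hBeq : B ∩ D = B := Finset.eq_of_subset_of_card_le Finset.inter_subset_left (by rw [h, h4 B hBS])
      exact hBD (Finset.eq_of_subset_of_card_le (Finset.inter_eq_left.1 hBeq) (by rw [h4 B hBS, hD.1]))
    omega
  have hpairs : 2 * l ≤ Fintype.card α - 2 ∧
      ((2 * l = Fintype.card α - 2) → ∀ t, t ≠ a → t ≠ b → ∃ B ∈ P a b, t ∈ B) := by
    set W := (P a b).biUnion (fun B => B \ {a, b}) with hW
    have hWc : W.card = 2 * l := by
      rw [hW, Finset.card_biUnion, Finset.sum_const_nat (m := 2), ← hl, Nat.mul_comm]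
      · intro B hB
        simp only [P, Finset.mem_filter] at hB
        rw [Finset.card_sdiff_of_subset (by
          intro t ht
          simp only [Finset.mem_insert, Finset.mem_singleton] at ht
          rcases ht with rfl | rfl <;> simp [hB.2.1, hB.2.2]), h4 B hB.1, Finset.card_pair hab]
      · intro B hB B' hB' hne
        rw [Function.onFun, Finset.disjoint_left]
        intro t ht ht'
        rw [Finset.mem_sdiff] at ht ht'
        exact ht.2 (pair hab B hB B' hB' hne ▸ Finset.mem_inter.2 ⟨ht.1, ht'.1⟩)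
    have hWs : W ⊆ Finset.univ \ {a, b} := by
      intro t ht
      simp only [hW, Finset.mem_biUnion, Finset.mem_sdiff] at ht
      obtain ⟨B, _, _, ht⟩ := ht
      exact Finset.mem_sdiff.2 ⟨Finset.mem_univ t, ht⟩
    have hWu : (Finset.univ \ ({a, b} : Finset α)).card = Fintype.card α - 2 := by
      rw [Finset.card_sdiff_of_subset (Finset.subset_univ _), Finset.card_pair hab, Finset.card_univ]
    refine ⟨hWc ▸ hWu ▸ Finset.card_le_card hWs, fun heq t hta htb => ?_⟩
    have hWe := Finset.eq_of_subset_of_card_le hWs (by rw [hWc, hWu, heq])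
    have ht : t ∈ W := by rw [hWe]; simp [hta, htb]
    simp only [hW, Finset.mem_biUnion, Finset.mem_sdiff] at ht
    obtain ⟨B, hB, htB, -⟩ := ht
    exact ⟨B, hB, htB⟩
  obtain ⟨hm, hlv⟩ : Fintype.card α = 8 ∧ l = 3 := by
    have h9 : (Fintype.card α - 1) * l + 6 = 9 * l := by omega
    have hlt : Fintype.card α - 1 < 9 := by
      by_contra hge
      have := Nat.mul_le_mul_right l (Nat.le_of_not_lt hge)
      omega
    have hc : Fintype.card α = 8 ∨ Fintype.card α = 9 := by omega
    have := hpairs.1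
    rcases hc with hc | hc <;> rw [hc] at h9 this <;> omega
  have hcov := hpairs.2 (by omega)
  have hsep : ∀ t u : α, t ≠ u → ∃ B ∈ S, t ∈ B ∧ u ∉ B := by
    intro t u htu
    obtain ⟨w, hw⟩ : (Finset.univ \ ({t, u} : Finset α)).Nonempty := by
      rw [← Finset.card_pos, Finset.card_sdiff_of_subset (Finset.subset_univ _), Finset.card_pair htu,
        Finset.card_univ]; omega
    simp only [Finset.mem_sdiff, Finset.mem_insert, Finset.mem_singleton, not_or] at hw
    obtain ⟨B, hB, B', hB', hne⟩ := Finset.one_lt_card.1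
      (by rw [hconst t w (Ne.symm hw.2.1)]; omega : 1 < (P t w).card)
    by_cases hu : u ∈ B
    · have hu' : u ∉ B' := fun h => by
        have := pair (Ne.symm hw.2.1) B hB B' hB' hne ▸ Finset.mem_inter.2 ⟨hu, h⟩
        simp [htu.symm, Ne.symm hw.2.2] at this
      simp only [P, Finset.mem_filter] at hB'
      exact ⟨B', hB'.1, hB'.2.1, hu'⟩
    · simp only [P, Finset.mem_filter] at hB
      exact ⟨B, hB.1, hB.2.1, hu⟩
  refine ⟨S, hinv, hsep, ?_⟩
  -- the element `(ab)(cd)(ef)(gh)`
  obtain ⟨c, d, hac, had, hbc, hbd, hcd, hDe⟩ := exists_four hD.1 ha hb hab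
  have notD : ∀ t, t ∉ D → t ≠ a ∧ t ≠ b ∧ t ≠ c ∧ t ≠ d := fun t ht => by
    rw [hDe] at ht; simpa using ht
  have hDP : D ∈ P a b := by simp [P, hDS, ha, hb]
  have mk : ∀ t, t ∉ D → ∃ B ∈ P a b, ∃ u, u ∉ D ∧ t ≠ u ∧ B = {a, b, t, u} ∧ B ≠ D := by
    intro t ht
    obtain ⟨t1, t2, -⟩ := notD t ht
    obtain ⟨B, hB, htB⟩ := hcov t t1 t2
    have hB' := hB
    simp only [P, Finset.mem_filter] at hB'
    have hBD : B ≠ D := fun h => ht (h ▸ htB)
    have hi := pair hab B hB D hDP hBD
    obtain ⟨p, q, hap, haq, hbp, hbq, hpq, hBe⟩ := exists_four (h4 B hB'.1) hB'.2.1 hB'.2.2 hab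
    have hout : ∀ u ∈ B, u ≠ a → u ≠ b → u ∉ D := fun u hu u1 u2 hu' => by
      have := hi ▸ Finset.mem_inter.2 ⟨hu, hu'⟩
      simp [u1, u2] at this
    rw [hBe] at htB
    simp only [Finset.mem_insert, Finset.mem_singleton] at htB
    rcases htB with h | h | h | h
    · exact absurd h t1
    · exact absurd h t2
    · subst h
      exact ⟨B, hB, q, hout q (by rw [hBe]; simp) haq.symm hbq.symm, hpq, hBe, hBD⟩
    · subst h
      refine ⟨B, hB, p, hout p (by rw [hBe]; simp) hap.symm hbp.symm, hpq.symm, ?_, hBD⟩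
      rw [hBe, Finset.pair_comm p]
  obtain ⟨e, he⟩ : (Finset.univ \ D).Nonempty := by
    rw [← Finset.card_pos, Finset.card_sdiff_of_subset (Finset.subset_univ _), hD.1, Finset.card_univ]; omega
  rw [Finset.mem_sdiff] at he
  obtain ⟨B1, hB1, f, hf, hef, hB1e, hB1D⟩ := mk e he.2
  obtain ⟨g, hg⟩ : (Finset.univ \ (D ∪ B1)).Nonempty := by
    rw [← Finset.card_pos, Finset.card_sdiff_of_subset (Finset.subset_univ _), Finset.card_univ]
    have h1 := Finset.card_union_add_card_inter D B1
    have h2 := pair hab D hDP B1 hB1 hB1D.symm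
    simp only [P, Finset.mem_filter] at hB1
    rw [h2, Finset.card_pair hab, hD.1, h4 B1 hB1.1] at h1
    omega
  simp only [Finset.mem_sdiff, Finset.mem_union, not_or] at hg
  obtain ⟨B2, hB2, k, hk, hgk, hB2e, hB2D⟩ := mk g hg.2.1
  have hB12 : B1 ≠ B2 := fun h => hg.2.2 (by rw [h, hB2e]; simp)
  have hi12 := pair hab B1 hB1 B2 hB2 hB12
  obtain ⟨na, nb, nc, nd⟩ := notD e he.2
  obtain ⟨fa, fb, fc, fd⟩ := notD f hf
  obtain ⟨ga, gb, gc, gd⟩ := notD g hg.2.1
  obtain ⟨ka, kb, kc, kd⟩ := notD k hk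
  have hge : g ≠ e ∧ g ≠ f := by rw [hB1e] at hg; simpa [ga, gb] using hg.2.2
  have hke : k ≠ e ∧ k ≠ f := by
    constructor <;> intro h
    · have : k ∈ B1 ∩ B2 := Finset.mem_inter.2 ⟨by rw [hB1e, h]; simp, by rw [hB2e]; simp⟩
      rw [hi12] at this; simp [ka, kb] at this
    · have : k ∈ B1 ∩ B2 := Finset.mem_inter.2 ⟨by rw [hB1e, h]; simp, by rw [hB2e]; simp⟩
      rw [hi12] at this; simp [ka, kb] at this
  simp only [P, Finset.mem_filter] at hB1 hB2
  have all : ∀ t : α, t = a ∨ t = b ∨ t = c ∨ t = d ∨ t = e ∨ t = f ∨ t = g ∨ t = k := by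
    have huniv : ({a, b, c, d, e, f, g, k} : Finset α) = Finset.univ := by
      refine Finset.eq_univ_of_card _ ?_
      rw [hm]
      simp [hab, hac, had, hbc, hbd, hcd, hef, hgk, na.symm, nb.symm, nc.symm, nd.symm, fa.symm, fb.symm,
        fc.symm, fd.symm, ga.symm, gb.symm, gc.symm, gd.symm, ka.symm, kb.symm, kc.symm, kd.symm,
        hge.1.symm, hge.2.symm, hke.1.symm, hke.2.symm]
    intro t
    simpa using (huniv.symm ▸ Finset.mem_univ t : t ∈ ({a, b, c, d, e, f, g, k} : Finset α))
  -- the complement of `D`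
  obtain ⟨y, hy, hys, hye, hyy⟩ := ((memS B1).1 hB1.1).2 a hB1.2.1 e (by rw [hB1e]; simp) na.symm
  obtain ⟨hyea, hybf, hyfb⟩ := apply_eq_of_support (a := a) (b := e) (c := b) (d := f) hab nb
    (by rw [hys, hB1e, Finset.insert_comm b e]) hye hyy
  have hDc : ({e, f, g, k} : Finset α) ∈ S := by
    have h := hinv y hy B2 hB2.1
    have e' : B2.image y = {e, f, g, k} := by
      have hyg : y g = g := Equiv.Perm.notMem_support.1 (hys ▸ hg.2.2)
      have hyk : y k = k := Equiv.Perm.notMem_support.1 (by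
        rw [hys, hB1e]; simp [ka, kb, hke.1, hke.2])
      rw [hB2e]
      simp [hye, hybf, hyg, hyk]
    rwa [e'] at h
  obtain ⟨v, hv, hvs, hva, hvv⟩ := hD.2 a ha b hb hab
  obtain ⟨hvb, hvc, hvd⟩ := apply_eq_of_support hac hbc (hvs.trans hDe) hva hvv
  obtain ⟨w, hw, hws, hwe, hww⟩ := ((memS _).1 hDc).2 e (by simp) f (by simp) hef
  obtain ⟨hwf, hwg, hwk⟩ := apply_eq_of_support (a := e) (b := f) (c := g) (d := k) hge.1.symm hge.2.symm
    hws hwe hww
  have hvfix : ∀ t, t ∉ D → v t = t := fun t ht => Equiv.Perm.notMem_support.1 (hvs ▸ ht)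
  have hwfix : ∀ t ∈ D, w t = t := fun t ht => Equiv.Perm.notMem_support.1 (by
    rw [hws]
    simp only [Finset.mem_insert, Finset.mem_singleton, not_or]
    refine ⟨?_, ?_, ?_, ?_⟩ <;> rintro rfl <;> first | exact he.2 ht | exact hf ht | exact hg.2.1 ht | exact hk ht)
  have hcD : c ∈ D := by rw [hDe]; simp
  have hdD : d ∈ D := by rw [hDe]; simp
  have Ea : (v * w) a = b := by simp [hwfix a ha, hva]
  have Eb : (v * w) b = a := by simp [hwfix b hb, hvb]
  have Ec : (v * w) c = d := by simp [hwfix c hcD, hvc]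
  have Ed : (v * w) d = c := by simp [hwfix d hdD, hvd]
  have Ee : (v * w) e = f := by simp [hwe, hvfix f hf]
  have Ef : (v * w) f = e := by simp [hwf, hvfix e he.2]
  have Eg : (v * w) g = k := by simp [hwg, hvfix k hk]
  have Ek : (v * w) k = g := by simp [hwk, hvfix g hg.2.1]
  refine ⟨v * w, mul_mem hv hw, fun h => hab (by rw [h] at Ea; simpa using Ea), ?_⟩
  intro B hB
  let i : α → ℕ := fun t => if t ∈ B then 1 else 0
  have hi1 : ∀ t, i t ≤ 1 := fun t => by simp only [i]; split_ifs <;> norm_num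
  have hpar : ∀ {p q r s : α}, p ≠ q → p ≠ r → p ≠ s → q ≠ r → q ≠ s → r ≠ s →
      ({p, q, r, s} : Finset α) ∈ S → (i p + i q + i r + i s) % 2 = 0 := by
    intro p q r s h1 h2 h3' h4' h5 h6 hX
    have he1 : (B ∩ {p, q, r, s}).card = i p + i q + i r + i s := by
      rw [Finset.inter_comm, ← Finset.filter_mem_eq_inter, Finset.card_filter,
        Finset.sum_insert (by simp [h1, h2, h3']), Finset.sum_insert (by simp [h4', h5]),
        Finset.sum_insert (by simp [h6]), Finset.sum_singleton]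
      simp only [i]; ring
    have h7 := hev B hB _ hX
    have h8' : (B ∩ {p, q, r, s}).card ≤ 4 :=
      (Finset.card_le_card Finset.inter_subset_left).trans (h4 B hB).le
    rw [he1] at h7 h8'
    omega
  have p1 := hpar hab hac had hbc hbd hcd (hDe ▸ hDS)
  have p2 := hpar hab na.symm fa.symm nb.symm fb.symm hef (hB1e ▸ hB1.1)
  have p3 := hpar hab ga.symm ka.symm gb.symm kb.symm hgk (hB2e ▸ hB2.1)
  have := hi1 a; have := hi1 b; have := hi1 c; have := hi1 d
  have := hi1 e; have := hi1 f; have := hi1 g; have := hi1 k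
  have key : ∀ {p q : α}, i p = i q → (q ∈ B ↔ p ∈ B) := fun {p q} h => by
    by_cases h1 : p ∈ B <;> by_cases h2 : q ∈ B <;> simp [i, h1, h2] at h ⊢
  have key' : ∀ {p q : α}, i p ≠ i q → (q ∈ B ↔ p ∉ B) := fun {p q} h => by
    by_cases h1 : p ∈ B <;> by_cases h2 : q ∈ B <;> simp [i, h1, h2] at h ⊢
  by_cases hiab : i a = i b
  · left
    intro t
    have q1 : i c = i d := by omega
    have q2 : i e = i f := by omega
    have q3 : i g = i k := by omega
    rcases all t with rfl | rfl | rfl | rfl | rfl | rfl | rfl | rfl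
    · rw [Ea]; exact key hiab
    · rw [Eb]; exact key hiab.symm
    · rw [Ec]; exact key q1
    · rw [Ed]; exact key q1.symm
    · rw [Ee]; exact key q2
    · rw [Ef]; exact key q2.symm
    · rw [Eg]; exact key q3
    · rw [Ek]; exact key q3.symm
  · right
    intro t
    have q1 : i c ≠ i d := by omega
    have q2 : i e ≠ i f := by omega
    have q3 : i g ≠ i k := by omega
    rcases all t with rfl | rfl | rfl | rfl | rfl | rfl | rfl | rfl
    · rw [Ea]; exact key' hiab
    · rw [Eb]; exact key' (Ne.symm hiab)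
    · rw [Ec]; exact key' q1
    · rw [Ed]; exact key' q1.symm
    · rw [Ee]; exact key' q2
    · rw [Ef]; exact key' q2.symm
    · rw [Eg]; exact key' q3
    · rw [Ek]; exact key' q3.symm

/-- A transitive group of degree at least eight with quasisimple `F*` and a four-group on four points. -/
theorem eq_alternating_of_four (hT : Trans H F) (h8 : 8 ≤ Fintype.card α) {D : Finset α} (hD : V4In H D) :
    F = alternatingGroup α := by
  classical
  by_cases h3 : ∃ x ∈ H, x.IsThreeCycle
  · obtain ⟨x, hx, h⟩ := h3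
    exact hT.eq_alternating_of_three hx h
  push Not at h3
  exfalso
  obtain ⟨S, hinv, hsep, E, hEH, hE1, hE⟩ := hT.exists_fixOrSwap h8 hD h3
  let K : Subgroup (Equiv.Perm α) :=
    { carrier := {x | FixOrSwap S x}
      one_mem' := fun B _ => Or.inl fun t => Iff.rfl
      mul_mem' := by
        intro x y hx hy B hB
        rcases hx B hB with h | h <;> rcases hy B hB with h' | h'
        · exact Or.inl fun t => (h (y t)).trans (h' t)
        · exact Or.inr fun t => (h (y t)).trans (h' t)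
        · exact Or.inr fun t => (h (y t)).trans (not_congr (h' t))
        · exact Or.inl fun t => (h (y t)).trans ((not_congr (h' t)).trans not_not)
      inv_mem' := by
        intro x hx B hB
        rcases hx B hB with h | h
        · exact Or.inl fun t => by have := h (x⁻¹ t); simp at this ⊢; exact this.symm
        · refine Or.inr fun t => ?_
          have := h (x⁻¹ t)
          simp at this ⊢
          tauto }
  have hsq : ∀ x ∈ K, x * x = 1 := by
    intro x hx
    ext t
    by_contra hne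
    obtain ⟨B, hB, htB, huB⟩ := hsep _ _ (Ne.symm hne)
    apply huB
    rw [Equiv.Perm.mul_apply]
    rcases hx B hB with h | h
    · exact (h _).2 ((h t).2 htB)
    · exact (h _).2 (fun h' => (h t).1 h' htB)
  have hcomm : ∀ x ∈ K, ∀ y ∈ K, x * y = y * x := by
    intro x hx y hy
    have h1 : x⁻¹ = x := inv_eq_of_mul_eq_one_left (hsq x hx)
    have h2 : y⁻¹ = y := inv_eq_of_mul_eq_one_left (hsq y hy)
    have h4 : (x * y)⁻¹ = x * y := inv_eq_of_mul_eq_one_left (hsq _ (K.mul_mem hx hy))
    rw [mul_inv_rev, h1, h2] at h4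
    exact h4.symm
  have hnorm : ∀ g ∈ H, ∀ x ∈ K, g * x * g⁻¹ ∈ K := by
    intro g hg x hx B hB
    have hB' := hinv g⁻¹ (inv_mem hg) B hB
    have hm : ∀ t, g⁻¹ t ∈ B.image (g⁻¹ : Equiv.Perm α) ↔ t ∈ B := fun t => by simp
    rcases hx _ hB' with h | h
    · refine Or.inl fun t => ?_
      rw [← hm, ← hm t]
      simpa using h (g⁻¹ t)
    · refine Or.inr fun t => ?_
      rw [← hm, ← hm t]
      simpa using h (g⁻¹ t)
  have hcen : ∀ x ∈ H, x ∈ K → ∀ f ∈ F, f * x = x * f := by
    intro x hx hxK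
    by_contra hne
    have hle := hT.toSetup.le_of_commutators hx hne (fun f hf => hnorm f (hT.le hf))
      (fun f hf => K.mul_mem (hnorm f (hT.le hf) x hxK) (K.inv_mem hxK))
    exact hT.toSetup.not_commutative fun p hp q hq => hcomm p (hle hp) q (hle hq)
  haveI hN : (K.subgroupOf H).Normal := ⟨fun n hn g => by
    rw [mem_subgroupOf] at hn ⊢
    exact hnorm _ g.2 _ hn⟩
  obtain ⟨a, hEa⟩ : ∃ a, E a ≠ a := by
    by_contra h
    push Not at h
    exact hE1 (Equiv.ext h)
  have hprim := hT.isPreprimitive_of_four hD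
  rcases hprim.isTrivialBlock_of_isBlock (MulAction.IsBlock.orbit_of_normal (N := K.subgroupOf H) a) with h | h
  · exact hEa (h ⟨⟨⟨E, hEH⟩, hE⟩, rfl⟩ (MulAction.mem_orbit_self a))
  · have horb : ∀ t, ∃ z : H, (z : Equiv.Perm α) ∈ K ∧ (z : Equiv.Perm α) a = t := fun t => by
      obtain ⟨z, hz⟩ : t ∈ MulAction.orbit (K.subgroupOf H) a := h ▸ Set.mem_univ t
      exact ⟨z, z.2, hz⟩
    refine hT.toSetup.not_commutative fun p hp q hq => ?_
    have hmem : ∀ f ∈ F, f ∈ K := by
      intro f hf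
      obtain ⟨z, hzK, hz⟩ := horb (f a)
      have : f = (z : Equiv.Perm α) := by
        ext t
        obtain ⟨z', hz'K, rfl⟩ := horb t
        calc f ((z' : Equiv.Perm α) a) = (z' : Equiv.Perm α) (f a) := by
              rw [← Equiv.Perm.mul_apply, hcen _ z'.2 hz'K f hf, Equiv.Perm.mul_apply]
          _ = (z : Equiv.Perm α) ((z' : Equiv.Perm α) a) := by
              rw [← hz, ← Equiv.Perm.mul_apply, hcomm _ hz'K _ hzK, Equiv.Perm.mul_apply]
      rw [this]; exact hzK
    exact hcomm p (hmem p hp) q (hmem q hq)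

end Trans

end Cfsg.Lib.Perm.SmallSupp
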