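import Cfsg.Agent.Lib.Perm.SmallSupportSetup
import Mathlib.GroupTheory.Perm.Cycle.Type

/-!
# Transitive groups with quasisimple `F*` containing elements of support three, or four-groups of support four
-/

set_option autoImplicit false

namespace Cfsg.Lib.Perm.SmallSupp

open Subgroup Pointwise

variable {α : Type*} [Fintype α] [DecidableEq α] {H F : Subgroup (Equiv.Perm α)}

/-- `H` contains a four-group regular on `D` and fixing the other points. -/
def V4In (H : Subgroup (Equiv.Perm α)) (D : Finset α) : Prop :=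
  D.card = 4 ∧ ∀ a ∈ D, ∀ b ∈ D, a ≠ b → ∃ x ∈ H, x.support = D ∧ x a = b ∧ x * x = 1

theorem support_conj (g x : Equiv.Perm α) : (g * x * g⁻¹).support = x.support.image g := by
  ext a
  simp only [Equiv.Perm.mem_support, Finset.mem_image, Equiv.Perm.mul_apply]
  constructor
  · intro h
    refine ⟨g⁻¹ a, fun h' => h ?_, by simp⟩
    rw [h']; simp
  · rintro ⟨b, hb, rfl⟩
    simpa using hb

theorem V4In.conj {D : Finset α} (hD : V4In H D) {g : Equiv.Perm α} (hg : g ∈ H) :
    V4In H (D.image g) := by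
  refine ⟨(Finset.card_image_of_injective _ g.injective).trans hD.1, ?_⟩
  intro a ha b hb hab
  obtain ⟨a', ha', rfl⟩ := Finset.mem_image.1 ha
  obtain ⟨b', hb', rfl⟩ := Finset.mem_image.1 hb
  obtain ⟨x, hx, hs, hxa, hxx⟩ := hD.2 a' ha' b' hb' fun h => hab (congrArg g h)
  refine ⟨g * x * g⁻¹, mul_mem (mul_mem hg hx) (inv_mem hg), by rw [support_conj, hs], by simp [hxa], ?_⟩
  calc g * x * g⁻¹ * (g * x * g⁻¹) = g * (x * x) * g⁻¹ := by group
    _ = 1 := by rw [hxx, mul_one, mul_inv_cancel]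

/-- The values of an involution regular on a four-set. -/
theorem apply_eq_of_support {x : Equiv.Perm α} {a b c d : α} (hac : a ≠ c) (hbc : b ≠ c)
    (hs : x.support = {a, b, c, d}) (hxa : x a = b) (hxx : x * x = 1) :
    x b = a ∧ x c = d ∧ x d = c := by
  have h2 : ∀ t, x (x t) = t := fun t => by rw [← Equiv.Perm.mul_apply, hxx, Equiv.Perm.one_apply]
  have hb : x b = a := hxa ▸ h2 a
  have hcm : c ∈ x.support := by rw [hs]; simp
  have hxc : x c ∈ x.support := Equiv.Perm.apply_mem_support.2 hcm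
  rw [hs] at hxc
  simp only [Finset.mem_insert, Finset.mem_singleton] at hxc
  have hcd : x c = d := by
    rcases hxc with h | h | h | h
    · exact absurd (by rw [← h2 c, h, hxa]) hbc.symm
    · exact absurd (by rw [← h2 c, h, hb]) hac.symm
    · exact absurd h (Equiv.Perm.mem_support.1 hcm)
    · exact h
  exact ⟨hb, hcd, hcd ▸ h2 c⟩

theorem exists_four {D : Finset α} (hD : D.card = 4) {a b : α} (ha : a ∈ D) (hb : b ∈ D) (hab : a ≠ b) :
    ∃ c d, a ≠ c ∧ a ≠ d ∧ b ≠ c ∧ b ≠ d ∧ c ≠ d ∧ D = {a, b, c, d} := by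
  have h2 : ((D.erase a).erase b).card = 2 := by
    rw [Finset.card_erase_of_mem (Finset.mem_erase.2 ⟨hab.symm, hb⟩), Finset.card_erase_of_mem ha, hD]
  obtain ⟨c, d, hcd, he⟩ := Finset.card_eq_two.1 h2
  have hc : c ∈ (D.erase a).erase b := by rw [he]; simp
  have hd : d ∈ (D.erase a).erase b := by rw [he]; simp
  simp only [Finset.mem_erase] at hc hd
  refine ⟨c, d, hc.2.1.symm, hd.2.1.symm, hc.1.symm, hd.1.symm, hcd, ?_⟩
  rw [← Finset.insert_erase ha, ← Finset.insert_erase (Finset.mem_erase.2 ⟨hab.symm, hb⟩), he]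

/-- The data of a transitive situation. -/
structure Trans (H F : Subgroup (Equiv.Perm α)) : Prop extends Setup H F where
  trans : ∀ u v : α, ∃ f ∈ F, f u = v

namespace Trans

theorem moved (hT : Trans H F) (a : α) : ∃ f ∈ F, f a ≠ a := by
  obtain ⟨b, f, hf, hfb⟩ := hT.toSetup.exists_moved
  by_cases h : b = a
  · exact ⟨f, hf, h ▸ hfb⟩
  · obtain ⟨g, hg, hga⟩ := hT.trans a b
    exact ⟨g, hg, hga ▸ h⟩

theorem five_le (hT : Trans H F) : 5 ≤ Fintype.card α := by
  obtain ⟨b, hb⟩ := hT.toSetup.exists_moved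
  refine (hT.toSetup.five_le_orbit hb).trans ?_
  rw [← Nat.card_eq_fintype_card]
  exact Finite.card_subtype_le _

theorem isPretransitive (hT : Trans H F) : MulAction.IsPretransitive H α :=
  ⟨fun u v => by obtain ⟨f, hf, h⟩ := hT.trans u v; exact ⟨⟨f, hT.le hf⟩, h⟩⟩

/-- An element of small support moves some translate of a proper block off itself. -/
theorem exists_moved_piece (hT : Trans H F) {B : Set α} (hB : MulAction.IsBlock H B) (hne : B.Nonempty)
    (hu : B ≠ Set.univ) {x : Equiv.Perm α} (hx : x ∈ H) (hx1 : x ≠ 1) (hc : x.support.card ≤ 4) :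
    ∃ h : H, ((⟨x, hx⟩ * h : H) • B : Set α) ≠ h • B := by
  by_contra hall
  push Not at hall
  let M : Subgroup (Equiv.Perm α) := ⨅ h : H, MulAction.stabilizer (Equiv.Perm α) (h • B : Set α)
  have hxM : x ∈ M := by
    rw [mem_iInf]
    intro h
    rw [MulAction.mem_stabilizer_iff]
    have := hall h
    rwa [mul_smul] at this
  have hconj : ∀ f ∈ F, ∀ m ∈ M, f * m * f⁻¹ ∈ M := by
    intro f hf m hm
    rw [mem_iInf] at hm ⊢
    intro h
    have h1 := MulAction.mem_stabilizer_iff.1 (hm ((⟨f, hT.le hf⟩ : H)⁻¹ * h))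
    rw [mul_smul] at h1
    rw [MulAction.mem_stabilizer_iff, mul_smul, mul_smul]
    change f • (m • ((⟨f, hT.le hf⟩ : H)⁻¹ • (h • B))) = h • B
    rw [h1]
    change (⟨f, hT.le hf⟩ : H) • ((⟨f, hT.le hf⟩ : H)⁻¹ • (h • B)) = h • B
    rw [smul_inv_smul]
  have hle := hT.toSetup.le_of_commutators hx (hT.toSetup.not_centralizes hx hx1 hc) hconj
    fun f hf => mul_mem (hconj f hf x hxM) (inv_mem hxM)
  refine hu (Set.eq_univ_of_forall fun v => ?_)
  obtain ⟨u, hu'⟩ := hne
  obtain ⟨f, hf, hfu⟩ := hT.trans u v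
  have hfM : f ∈ ⨅ h : H, MulAction.stabilizer (Equiv.Perm α) (h • B : Set α) := hle hf
  rw [mem_iInf] at hfM
  have := MulAction.mem_stabilizer_iff.1 (hfM 1)
  rw [one_smul] at this
  rw [← this]
  exact ⟨u, hu', hfu⟩

theorem piece_bound {B : Set α} (hB : MulAction.IsBlock H B) {x : Equiv.Perm α} (hx : x ∈ H) {h : H}
    (hne : ((⟨x, hx⟩ * h : H) • B : Set α) ≠ h • B) :
    (h • B : Set α) ⊆ x.support ∧ ((⟨x, hx⟩ * h : H) • B : Set α) ⊆ x.support ∧
      2 * B.ncard ≤ x.support.card := by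
  have hd : Disjoint ((⟨x, hx⟩ * h : H) • B : Set α) (h • B) := hB hne
  have h1 : (h • B : Set α) ⊆ x.support := by
    intro c hc
    rw [Finset.mem_coe, Equiv.Perm.mem_support]
    intro hxc
    refine Set.disjoint_left.1 hd ?_ hc
    rw [mul_smul]
    exact ⟨c, hc, hxc⟩
  have h2 : ((⟨x, hx⟩ * h : H) • B : Set α) ⊆ x.support := by
    rw [mul_smul]
    rintro _ ⟨c, hc, rfl⟩
    exact Equiv.Perm.apply_mem_support.2 (h1 hc)
  refine ⟨h1, h2, ?_⟩
  calc 2 * B.ncard = ((⟨x, hx⟩ * h : H) • B : Set α).ncard + (h • B : Set α).ncard := by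
        rw [Set.ncard_smul_set, Set.ncard_smul_set, two_mul]
    _ = (((⟨x, hx⟩ * h : H) • B) ∪ (h • B) : Set α).ncard := (Set.ncard_union_eq hd).symm
    _ ≤ (x.support : Set α).ncard := Set.ncard_le_ncard (Set.union_subset h2 h1)
    _ = x.support.card := Set.ncard_coe_finset _

theorem isPreprimitive_of_three (hT : Trans H F) {x : Equiv.Perm α} (hx : x ∈ H)
    (h3 : x.IsThreeCycle) : MulAction.IsPreprimitive H α := by
  haveI := hT.isPretransitive
  refine ⟨fun {B} hB => ?_⟩
  by_contra hnt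
  rw [MulAction.IsTrivialBlock, not_or, Set.not_subsingleton_iff] at hnt
  obtain ⟨h, hh⟩ := hT.exists_moved_piece hB hnt.1.nonempty hnt.2 hx
    (fun h => by simp [h, Equiv.Perm.IsThreeCycle] at h3) (by rw [h3.card_support]; norm_num)
  have := (piece_bound hB hx hh).2.2
  have h2 : 2 ≤ B.ncard := (Set.one_lt_ncard_iff_nontrivial).2 hnt.1
  rw [h3.card_support] at this
  omega

theorem isPreprimitive_of_four (hT : Trans H F) {D : Finset α} (hD : V4In H D) :
    MulAction.IsPreprimitive H α := by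
  haveI := hT.isPretransitive
  refine ⟨fun {B} hB => ?_⟩
  by_contra hnt
  rw [MulAction.IsTrivialBlock, not_or, Set.not_subsingleton_iff] at hnt
  have h2 : 2 ≤ B.ncard := (Set.one_lt_ncard_iff_nontrivial).2 hnt.1
  have key : ∀ x (hx : x ∈ H), x.support = D → ∀ h : H, ((⟨x, hx⟩ * h : H) • B : Set α) ≠ h • B →
      (D : Set α) = ((⟨x, hx⟩ * h : H) • B) ∪ (h • B) := by
    intro x hx hs h hh
    obtain ⟨h1, h1', h3⟩ := piece_bound hB hx hh
    rw [hs] at h1 h1' h3
    rw [hD.1] at h3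
    refine (Set.eq_of_subset_of_ncard_le (Set.union_subset h1' h1) ?_).symm
    rw [Set.ncard_union_eq (hB hh), Set.ncard_smul_set, Set.ncard_smul_set, Set.ncard_coe_finset, hD.1]
    omega
  obtain ⟨a, ha, b, hb, hab⟩ := Finset.one_lt_card.1 (by rw [hD.1]; norm_num : 1 < D.card)
  obtain ⟨x0, hx0, hs0, hx0a, -⟩ := hD.2 a ha b hb hab
  have hne1 : ∀ x : Equiv.Perm α, x.support = D → x ≠ 1 := fun x hs h => by
    have := hD.1
    rw [← hs, h, Equiv.Perm.support_one] at this
    simp at this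
  obtain ⟨h0, hh0⟩ := hT.exists_moved_piece hB hnt.1.nonempty hnt.2 hx0 (hne1 _ hs0) (by rw [hs0, hD.1])
  obtain ⟨c, hc, c', hc', hcc⟩ : (h0 • B : Set α).Nontrivial := by
    rw [← Set.one_lt_ncard_iff_nontrivial, Set.ncard_smul_set]; omega
  have hD0 := key x0 hx0 hs0 h0 hh0
  have hcD : c ∈ D := by rw [← Finset.mem_coe, hD0]; exact Or.inr hc
  have hc'D : c' ∈ D := by rw [← Finset.mem_coe, hD0]; exact Or.inr hc'
  obtain ⟨x, hx, hs, hxc, hxx⟩ := hD.2 c hcD c' hc'D hcc
  obtain ⟨h1, hh1⟩ := hT.exists_moved_piece hB hnt.1.nonempty hnt.2 hx (hne1 _ hs) (by rw [hs, hD.1])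
  have hD1 := key x hx hs h1 hh1
  -- the piece of `c` is fixed by `x`
  have hfix : ((⟨x, hx⟩ * h0 : H) • B : Set α) = h0 • B := by
    by_contra hne
    refine Set.disjoint_left.1 (hB hne) ?_ hc'
    rw [mul_smul]
    exact ⟨c, hc, hxc⟩
  have heq : ∀ k : H, c ∈ (k • B : Set α) → (k • B : Set α) = h0 • B := fun k hk => by
    by_contra hne
    exact Set.disjoint_left.1 (hB hne) hk hc
  rcases (hD1 ▸ Finset.mem_coe.2 hcD : c ∈ ((⟨x, hx⟩ * h1 : H) • B) ∪ (h1 • B)) with hm | hm
  · have e1 := heq _ hm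
    apply hh1
    rw [e1]
    have h2' : (⟨x, hx⟩ : H) * ⟨x, hx⟩ = 1 := Subtype.ext hxx
    calc (h0 • B : Set α) = (⟨x, hx⟩ * h0 : H) • B := hfix.symm
      _ = (⟨x, hx⟩ : H) • (⟨x, hx⟩ * h1 : H) • B := by rw [mul_smul, ← e1]
      _ = h1 • B := by rw [smul_smul, ← mul_assoc, h2', one_mul]
  · have e1 := heq _ hm
    apply hh1
    rw [e1, mul_smul, e1, ← mul_smul, hfix]

/-- If `H` is transitive and contains the alternating group, `F` is the alternating group. -/
theorem eq_alternating (hT : Trans H F) (hA : alternatingGroup α ≤ H) : F = alternatingGroup α := by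
  have h5 : 5 ≤ Nat.card α := by rw [Nat.card_eq_fintype_card]; exact hT.five_le
  haveI := alternatingGroup.isSimpleGroup h5
  haveI hn : (F.subgroupOf (alternatingGroup α)).Normal := ⟨fun n hn g => by
    rw [mem_subgroupOf] at hn ⊢
    exact hT.normalizes _ (hA g.2) _ hn⟩
  haveI hAn : (alternatingGroup α).Normal := Equiv.Perm.sign.normal_ker
  rcases hn.eq_bot_or_eq_top with h | h
  · exfalso
    have hle : alternatingGroup α ≤ F := by
      intro a ha
      refine hT.cent a (hA ha) fun f hf => ?_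
      have hmF : a * f * a⁻¹ * f⁻¹ ∈ F := mul_mem (hT.normalizes a (hA ha) f hf) (inv_mem hf)
      have hmA : a * f * a⁻¹ * f⁻¹ ∈ alternatingGroup α := by
        have := mul_mem ha (hAn.conj_mem _ (inv_mem ha) f)
        simpa [mul_assoc] using this
      have h1 : (⟨_, hmA⟩ : alternatingGroup α) = 1 := by
        rw [← Subgroup.mem_bot, ← h, mem_subgroupOf]; exact hmF
      have h2 : a * f * a⁻¹ * f⁻¹ = 1 := congrArg Subtype.val h1
      calc f * a = (a * f * a⁻¹ * f⁻¹) * (f * a) := by rw [h2, one_mul]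
        _ = a * f := by group
    rw [subgroupOf_eq_bot] at h
    have h' : alternatingGroup α = ⊥ := h.symm.eq_bot_of_le hle
    exact (nontrivial_iff_ne_bot _).1 inferInstance h'
  · have hle := subgroupOf_eq_top.1 h
    haveI : ((alternatingGroup α).subgroupOf F).Normal := hAn.subgroupOf F
    rcases Core.quasisimple_normal hT.quasi (N := (alternatingGroup α).subgroupOf F) with hc | hc
    · exfalso
      have hsub : ∀ a : alternatingGroup α, a ∈ Subgroup.center (alternatingGroup α) := fun a =>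
        Subgroup.mem_center_iff.2 fun b => by
          have := Subgroup.mem_center_iff.1 (hc (x := ⟨a, hle a.2⟩) a.2) ⟨b, hle b.2⟩
          have h2 := congrArg Subtype.val this
          exact Subtype.ext h2
      have := alternatingGroup.center_eq_bot (α := α) (by omega)
      obtain ⟨a, ha⟩ := exists_ne (1 : alternatingGroup α)
      exact ha (by simpa [this] using hsub a)
    · exact le_antisymm (subgroupOf_eq_top.1 hc) hle

theorem eq_alternating_of_three (hT : Trans H F) {x : Equiv.Perm α} (hx : x ∈ H)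
    (h3 : x.IsThreeCycle) : F = alternatingGroup α :=
  hT.eq_alternating
    (Equiv.Perm.alternatingGroup_le_of_isPreprimitive_of_isThreeCycle_mem
      (hT.isPreprimitive_of_three hx h3) h3 hx)

theorem inter_even_or_three (hD : ∀ x ∈ H, ¬ x.IsThreeCycle) {D D' : Finset α}
    (h : V4In H D) (h' : V4In H D') : (D ∩ D').card ≠ 1 ∧ (D ∩ D').card ≠ 3 := by
  constructor
  · intro h1
    obtain ⟨a, ha⟩ := Finset.card_eq_one.1 h1
    have haD : a ∈ D ∧ a ∈ D' := Finset.mem_inter.1 (by rw [ha]; simp)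
    obtain ⟨p, hp, hpa⟩ := Finset.exists_mem_ne (by rw [h.1]; norm_num : 1 < D.card) a
    obtain ⟨b, hb, hba⟩ := Finset.exists_mem_ne (by rw [h'.1]; norm_num : 1 < D'.card) a
    obtain ⟨q, r, haq, har, hpq, hpr, hqr, hDe⟩ := exists_four h.1 haD.1 hp hpa.symm
    obtain ⟨c, d, hac, had, hbc, hbd, hcd, hD'e⟩ := exists_four h'.1 haD.2 hb hba.symm
    obtain ⟨x, hx, hxs, hxa, hxx⟩ := h.2 a haD.1 p hp hpa.symm
    obtain ⟨y, hy, hys, hya, hyy⟩ := h'.2 a haD.2 b hb hba.symm
    obtain ⟨hxp, hxq, hxr⟩ := apply_eq_of_support haq hpq (hxs.trans hDe) hxa hxx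
    obtain ⟨hyb, hyc, hyd⟩ := apply_eq_of_support hac hbc (hys.trans hD'e) hya hyy
    have out : ∀ t ∈ D', t ≠ a → t ∉ D := fun t ht hta htD => hta (by
      have : t ∈ D ∩ D' := Finset.mem_inter.2 ⟨htD, ht⟩
      rwa [ha, Finset.mem_singleton] at this)
    have hpb : p ≠ b := fun e => out b hb hba (e ▸ hp)
    set A := Equiv.swap a p
    set Q := Equiv.swap q r
    set B := Equiv.swap a b
    set C := Equiv.swap c d
    have hx' : x = A * Q := by
      ext t
      by_cases ht : t ∈ D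
      · rw [hDe] at ht
        simp only [Finset.mem_insert, Finset.mem_singleton] at ht
        rcases ht with rfl | rfl | rfl | rfl <;>
          simp [A, Q, hxa, hxp, hxq, hxr, Equiv.swap_apply_def, haq, har, hpq, hpr, hqr, haq.symm, har.symm,
            hpq.symm, hpr.symm, hqr.symm, hpa, hpa.symm]
      · rw [← hxs, Equiv.Perm.notMem_support] at ht
        rw [ht]
        have hne : t ≠ a ∧ t ≠ p ∧ t ≠ q ∧ t ≠ r := by
          refine ⟨?_, ?_, ?_, ?_⟩ <;> (rintro rfl; simp_all)
        simp [A, Q, Equiv.swap_apply_def, hne.1, hne.2.1, hne.2.2.1, hne.2.2.2]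
    have hy' : y = B * C := by
      ext t
      by_cases ht : t ∈ D'
      · rw [hD'e] at ht
        simp only [Finset.mem_insert, Finset.mem_singleton] at ht
        rcases ht with rfl | rfl | rfl | rfl <;>
          simp [B, C, hya, hyb, hyc, hyd, Equiv.swap_apply_def, hac, had, hbc, hbd, hcd, hac.symm, had.symm,
            hbc.symm, hbd.symm, hcd.symm, hba, hba.symm]
      · rw [← hys, Equiv.Perm.notMem_support] at ht
        rw [ht]
        have hne : t ≠ a ∧ t ≠ b ∧ t ≠ c ∧ t ≠ d := by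
          refine ⟨?_, ?_, ?_, ?_⟩ <;> (rintro rfl; simp_all)
        simp [B, C, Equiv.swap_apply_def, hne.1, hne.2.1, hne.2.2.1, hne.2.2.2]
    have hc' : c ∈ D' := by rw [hD'e]; simp
    have hd' : d ∈ D' := by rw [hD'e]; simp
    have hq' : q ∈ D := by rw [hDe]; simp
    have hr' : r ∈ D := by rw [hDe]; simp
    have sep : ∀ {s t : α}, s ∈ D → t ∈ D' → t ≠ a → s ≠ t := fun hs ht hta e => out _ ht hta (e ▸ hs)
    have comm : ∀ {s t u v : α}, s ≠ u → s ≠ v → t ≠ u → t ≠ v →
        Commute (Equiv.swap s t) (Equiv.swap u v) := fun h1 h2 h3 h4 => by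
      refine Equiv.Perm.Disjoint.commute fun w => ?_
      simp only [Equiv.swap_apply_def]
      grind
    have c1 : Commute A C := comm hac had (sep hp hc' hac.symm) (sep hp hd' had.symm)
    have c2 : Commute Q B := comm haq.symm (sep hq' hb hba) har.symm (sep hr' hb hba)
    have c3 : Commute Q C := comm (sep hq' hc' hac.symm) (sep hq' hd' had.symm) (sep hr' hc' hac.symm)
      (sep hr' hd' had.symm)
    have c4 : Commute A Q := comm haq har hpq hpr
    have c5 : Commute B C := comm hac had hbc hbd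
    have hQ : Q * Q = 1 := Equiv.swap_mul_self _ _
    have hC : C * C = 1 := Equiv.swap_mul_self _ _
    have e : (x * y) ^ 2 = (A * B) ^ 2 := by
      have hxy : x * y = A * B * (Q * C) := by
        rw [hx', hy']
        calc A * Q * (B * C) = A * (Q * B) * C := by simp only [mul_assoc]
          _ = A * (B * Q) * C := by rw [c2.eq]
          _ = A * B * (Q * C) := by simp only [mul_assoc]
      have hcm : Commute (A * B) (Q * C) :=
        ((c4.mul_right c1).mul_left (c2.symm.mul_right c5))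
      rw [hxy, hcm.mul_pow, pow_two (Q * C)]
      rw [show Q * C * (Q * C) = Q * Q * (C * C) by
        calc Q * C * (Q * C) = Q * (C * Q) * C := by simp only [mul_assoc]
          _ = Q * (Q * C) * C := by rw [c3.eq]
          _ = Q * Q * (C * C) := by simp only [mul_assoc]]
      rw [hQ, hC, one_mul, mul_one]
    refine hD ((x * y) ^ 2) (pow_mem (mul_mem hx hy) 2) ?_
    rw [e, pow_two]
    exact (Equiv.Perm.isThreeCycle_swap_mul_swap_same hpa.symm hba.symm hpb).isThreeCycle_sq
  · intro h3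
    obtain ⟨e, he⟩ : (D' \ D).Nonempty := by
      rw [← Finset.card_pos]
      have := Finset.card_sdiff_add_card_inter D' D
      rw [Finset.inter_comm, h3, h'.1] at this
      omega
    obtain ⟨a, b, c, hab, hac, hbc, habc⟩ := Finset.card_eq_three.1 h3
    have mem : ∀ t ∈ ({a, b, c} : Finset α), t ∈ D ∧ t ∈ D' := fun t ht =>
      Finset.mem_inter.1 (habc ▸ ht)
    obtain ⟨d, hd⟩ : (D \ D').Nonempty := by
      rw [← Finset.card_pos]
      have := Finset.card_sdiff_add_card_inter D D'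
      rw [h3, h.1] at this
      omega
    rw [Finset.mem_sdiff] at hd he
    have hda : a ≠ d ∧ b ≠ d ∧ c ≠ d := by
      refine ⟨?_, ?_, ?_⟩ <;> (rintro rfl; exact hd.2 (mem _ (by simp)).2)
    have hea : a ≠ e ∧ b ≠ e ∧ c ≠ e := by
      refine ⟨?_, ?_, ?_⟩ <;> (rintro rfl; exact he.2 (mem _ (by simp)).1)
    have hde : d ≠ e := fun h => hd.2 (h ▸ he.1)
    have full : ∀ (E : Finset α) (t : α), E.card = 4 → a ∈ E → b ∈ E → c ∈ E → t ∈ E → a ≠ t → b ≠ t →
        c ≠ t → E = {a, b, c, t} := by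
      intro E t hE h1 h2 h3 h4 n1 n2 n3
      symm
      refine Finset.eq_of_subset_of_card_le ?_ ?_
      · intro u hu; simp at hu; rcases hu with rfl | rfl | rfl | rfl <;> assumption
      · rw [hE]; simp [hab, hac, n1, hbc, n2, n3]
    have hDe := full D d h.1 (mem a (by simp)).1 (mem b (by simp)).1 (mem c (by simp)).1 hd.1
      hda.1 hda.2.1 hda.2.2
    have hD'e := full D' e h'.1 (mem a (by simp)).2 (mem b (by simp)).2 (mem c (by simp)).2 he.1
      hea.1 hea.2.1 hea.2.2
    obtain ⟨x, hx, hxs, hxa, hxx⟩ := h.2 a (mem a (by simp)).1 b (mem b (by simp)).1 hab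
    obtain ⟨y, hy, hys, hya, hyy⟩ := h'.2 a (mem a (by simp)).2 b (mem b (by simp)).2 hab
    obtain ⟨hxb, hxc, hxd⟩ := apply_eq_of_support hac hbc (hxs.trans hDe) hxa hxx
    obtain ⟨hyb, hyc, hye⟩ := apply_eq_of_support hac hbc (hys.trans hD'e) hya hyy
    refine hD (x * y) (mul_mem hx hy) ?_
    have e1 : x * y = Equiv.swap c d * Equiv.swap c e := by
      ext t
      have hout : ∀ u, u ≠ a → u ≠ b → u ≠ c → u ≠ d → x u = u := fun u u1 u2 u3 u4 =>
        Equiv.Perm.notMem_support.1 (by rw [hxs, hDe]; simp [u1, u2, u3, u4])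
      have hout' : ∀ u, u ≠ a → u ≠ b → u ≠ c → u ≠ e → y u = u := fun u u1 u2 u3 u4 =>
        Equiv.Perm.notMem_support.1 (by rw [hys, hD'e]; simp [u1, u2, u3, u4])
      simp only [Equiv.Perm.mul_apply]
      have hxe : x e = e := hout e hea.1.symm hea.2.1.symm hea.2.2.symm (Ne.symm hde)
      have hyd : y d = d := hout' d hda.1.symm hda.2.1.symm hda.2.2.symm hde
      by_cases ta : t = a
      · subst ta; rw [hya, hxb, Equiv.swap_apply_of_ne_of_ne hac hea.1, Equiv.swap_apply_of_ne_of_ne hac hda.1]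
      by_cases tb : t = b
      · subst tb; rw [hyb, hxa, Equiv.swap_apply_of_ne_of_ne hbc hea.2.1, Equiv.swap_apply_of_ne_of_ne hbc hda.2.1]
      by_cases tc : t = c
      · subst tc; rw [hyc, hxe, Equiv.swap_apply_left, Equiv.swap_apply_of_ne_of_ne hea.2.2.symm hde.symm]
      by_cases te : t = e
      · subst te; rw [hye, hxc, Equiv.swap_apply_right, Equiv.swap_apply_left]
      rw [Equiv.swap_apply_of_ne_of_ne tc te, hout' t ta tb tc te]
      by_cases td : t = d
      · subst td; rw [hxd, Equiv.swap_apply_right]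
      rw [hout t ta tb tc td, Equiv.swap_apply_of_ne_of_ne tc td]
    rw [e1]
    exact Equiv.Perm.isThreeCycle_swap_mul_swap_same hda.2.2 hea.2.2 hde

end Trans

end Cfsg.Lib.Perm.SmallSupp
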