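import Cfsg.Agent.Lib.Core.Layer
import Cfsg.Agent.Lib.Dickson.Solvable
import Mathlib.GroupTheory.Perm.ViaEmbedding
import Mathlib.GroupTheory.GroupAction.Jordan
import Mathlib.GroupTheory.SpecificGroups.Alternating.Simple

/-!
# Permutation groups with quasisimple generalized Fitting subgroup and elements of small support
-/

set_option autoImplicit false

namespace Cfsg.Lib.Perm.SmallSupp

open Subgroup

variable {α : Type*} [Fintype α] [DecidableEq α]

/-- `F` is a quasisimple normal subgroup of `H` containing its centralizer in `H`. -/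
structure Setup (H F : Subgroup (Equiv.Perm α)) : Prop where
  le : F ≤ H
  normalizes : ∀ h ∈ H, ∀ f ∈ F, h * f * h⁻¹ ∈ F
  quasi : Cfsg.IsQuasisimple ↥F
  cent : ∀ h ∈ H, (∀ f ∈ F, f * h = h * f) → h ∈ F

variable {H F : Subgroup (Equiv.Perm α)}

theorem setup_generalizedFitting (H : Subgroup (Equiv.Perm α))
    (hF : Cfsg.IsQuasisimple ↥(Cfsg.generalizedFittingSubgroup ↥H)) :
    Setup H ((Cfsg.generalizedFittingSubgroup ↥H).map H.subtype) := by
  refine ⟨map_subtype_le _, ?_, Core.quasisimple_congr hF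
    (equivMapOfInjective _ _ H.subtype_injective), ?_⟩
  · rintro h hh _ ⟨f, hf, rfl⟩
    haveI : (Cfsg.generalizedFittingSubgroup ↥H).Normal := inferInstance
    exact ⟨⟨h, hh⟩ * f * ⟨h, hh⟩⁻¹, Normal.conj_mem inferInstance f hf _, rfl⟩
  · intro h hh hc
    exact ⟨⟨h, hh⟩, Core.centralizer_generalizedFitting_le
      (mem_centralizer_iff.2 fun f hf => Subtype.ext (hc _ ⟨f, hf, rfl⟩)), rfl⟩

namespace Setup

theorem exists_ne_one (hS : Setup H F) : ∃ f ∈ F, f ≠ 1 := by
  haveI := Core.quasisimple_nontrivial hS.quasi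
  obtain ⟨f, hf⟩ := exists_ne (1 : F)
  exact ⟨f, f.2, fun h => hf (Subtype.ext h)⟩

theorem not_commutative (hS : Setup H F) : ¬ ∀ a ∈ F, ∀ b ∈ F, a * b = b * a := fun h =>
  Core.quasisimple_not_solvable hS.quasi
    (Group.isSolvable_of_comm fun a b => Subtype.ext (h _ a.2 _ b.2))

/-- An `F`-invariant subgroup containing all commutators with a non-centralizing element contains `F`. -/
theorem le_of_commutators (hS : Setup H F) {x : Equiv.Perm α} (hx : x ∈ H)
    (hne : ¬ ∀ f ∈ F, f * x = x * f) {M : Subgroup (Equiv.Perm α)}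
    (hM : ∀ f ∈ F, ∀ m ∈ M, f * m * f⁻¹ ∈ M) (hc : ∀ f ∈ F, f * x * f⁻¹ * x⁻¹ ∈ M) : F ≤ M := by
  haveI : (M.subgroupOf F).Normal := ⟨fun n hn g => by
    rw [mem_subgroupOf] at hn ⊢
    exact hM _ g.2 _ hn⟩
  rcases Core.quasisimple_normal hS.quasi (N := M.subgroupOf F) with h | h
  swap
  · exact subgroupOf_eq_top.1 h
  exfalso
  have hmem : ∀ f : F, (f : Equiv.Perm α) * x * (f : Equiv.Perm α)⁻¹ * x⁻¹ ∈ F := fun f => by
    have h1 := mul_mem f.2 (hS.normalizes x hx _ (inv_mem f.2))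
    simpa [mul_assoc] using h1
  let w : F → F := fun f => ⟨_, hmem f⟩
  have hw : ∀ f, w f ∈ Subgroup.center F := fun f => h (mem_subgroupOf.2 (hc _ f.2))
  have hwmul : ∀ f g : F, w (f * g) = w g * w f := by
    intro f g
    have h1 := Subgroup.mem_center_iff.1 (hw g) f
    apply Subtype.ext
    have h2 : (f : Equiv.Perm α) * ((g : Equiv.Perm α) * x * (g : Equiv.Perm α)⁻¹ * x⁻¹) =
        ((g : Equiv.Perm α) * x * (g : Equiv.Perm α)⁻¹ * x⁻¹) * f := congrArg Subtype.val h1
    show ((f * g : F) : Equiv.Perm α) * x * ((f * g : F) : Equiv.Perm α)⁻¹ * x⁻¹ =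
      ((g : Equiv.Perm α) * x * (g : Equiv.Perm α)⁻¹ * x⁻¹) *
        ((f : Equiv.Perm α) * x * (f : Equiv.Perm α)⁻¹ * x⁻¹)
    calc ((f * g : F) : Equiv.Perm α) * x * ((f * g : F) : Equiv.Perm α)⁻¹ * x⁻¹
        = (f : Equiv.Perm α) * ((g : Equiv.Perm α) * x * (g : Equiv.Perm α)⁻¹ * x⁻¹) *
            (x * (f : Equiv.Perm α)⁻¹ * x⁻¹) := by rw [Subgroup.coe_mul]; group
      _ = _ := by rw [h2]; group
  let ψ : F →* F := MonoidHom.mk' w fun f g => by
    rw [hwmul f g]; exact Subgroup.mem_center_iff.1 (hw f) _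
  have hker : commutator F ≤ ψ.ker := by
    rw [commutator_def, commutator_le]
    intro a _ b _
    rw [MonoidHom.mem_ker, map_commutatorElement, commutatorElement_eq_one_iff_mul_comm]
    exact Subgroup.mem_center_iff.1 (hw b) _
  rw [Core.quasisimple_commutator hS.quasi] at hker
  apply hne
  intro f hf
  have h1 : f * x * f⁻¹ * x⁻¹ = 1 := congrArg Subtype.val (hker (mem_top (⟨f, hf⟩ : F)))
  calc f * x = f * x * f⁻¹ * x⁻¹ * (x * f) := by group
    _ = x * f := by rw [h1, one_mul]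

/-- A point moved by `F` has an orbit of at least five points. -/
theorem five_le_orbit (hS : Setup H F) {a : α} (ha : ∃ f ∈ F, f a ≠ a) :
    5 ≤ Nat.card (MulAction.orbit F a) := by
  classical
  by_contra hlt
  obtain ⟨ι⟩ : Nonempty (MulAction.orbit F a ↪ Fin 4) := by
    refine Function.Embedding.nonempty_of_card_le ?_
    rw [Fintype.card_fin, ← Nat.card_eq_fintype_card]
    omega
  let φ : F →* Equiv.Perm (Fin 4) :=
    (Equiv.Perm.viaEmbeddingHom ι).comp (MulAction.toPermHom F (MulAction.orbit F a))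
  haveI := Cfsg.Lib.Dickson.isSolvable_perm_four
  haveI hsol : Group.IsSolvable φ.range :=
    Group.isSolvable_of_isSolvable_injective (f := φ.range.subtype) φ.range.subtype_injective
  haveI := hS.quasi.1
  haveI hperf : Group.IsPerfect φ.range :=
    Group.IsPerfect.ofSurjective (f := φ.rangeRestrict) φ.rangeRestrict_surjective
  haveI : Nontrivial φ.range := by
    obtain ⟨f, hf, hfa⟩ := ha
    refine ⟨⟨φ ⟨f, hf⟩, ⟨_, rfl⟩⟩, 1, fun h => hfa ?_⟩
    have h1 : φ ⟨f, hf⟩ = 1 := congrArg Subtype.val h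
    have h2 := Equiv.Perm.viaEmbeddingHom_injective ι
      (h1.trans (map_one (Equiv.Perm.viaEmbeddingHom ι)).symm)
    exact congrArg Subtype.val (Equiv.Perm.congr_fun h2 ⟨a, MulAction.mem_orbit_self a⟩)
  exact Group.IsPerfect.not_isSolvable φ.range hsol

/-- A nontrivial element of support at most four does not centralize `F`. -/
theorem not_centralizes (hS : Setup H F) {x : Equiv.Perm α} (hx : x ∈ H) (hx1 : x ≠ 1)
    (hc : x.support.card ≤ 4) : ¬ ∀ f ∈ F, f * x = x * f := by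
  intro h
  obtain ⟨b, hb⟩ : ∃ b, x b ≠ b := by
    by_contra h'
    push Not at h'
    exact hx1 (Equiv.ext h')
  have h5 := hS.five_le_orbit ⟨x, hS.cent x hx h, hb⟩
  have hsub : MulAction.orbit F b ⊆ (x.support : Set α) := by
    rintro _ ⟨f, rfl⟩
    rw [Finset.mem_coe, Equiv.Perm.mem_support]
    intro h1
    apply hb
    have h2 : x ((f : Equiv.Perm α) b) = (f : Equiv.Perm α) (x b) :=
      (Equiv.Perm.congr_fun (h f f.2) b).symm
    have h1' : x ((f : Equiv.Perm α) b) = (f : Equiv.Perm α) b := h1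
    exact (f : Equiv.Perm α).injective (h2.symm.trans h1')
  have := Nat.card_mono x.support.finite_toSet hsub
  rw [Nat.card_coe_set_eq (x.support : Set α), Set.ncard_coe_finset] at this
  omega

/-- An element of small support maps each nontrivial orbit to itself and moves one of its points. -/
theorem orbit_invariant (hS : Setup H F) {x : Equiv.Perm α} (hx : x ∈ H) (hc : x.support.card ≤ 4)
    {a b : α} (ha : ∃ f ∈ F, f a ≠ a) (hb : b ∈ MulAction.orbit F a) :
    x b ∈ MulAction.orbit F a := by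
  by_contra hxb
  have hsub : MulAction.orbit F a ⊆ (x.support : Set α) := by
    intro c hc'
    rw [Finset.mem_coe, Equiv.Perm.mem_support]
    intro hxc
    apply hxb
    obtain ⟨g, hg⟩ : ∃ g : F, g • c = b := by
      rw [← MulAction.orbit_eq_iff.2 hc'] at hb
      exact hb
    have hg' : (g : Equiv.Perm α) c = b := hg
    have e : x b = (x * g * x⁻¹) c := by
      rw [Equiv.Perm.mul_apply, Equiv.Perm.mul_apply,
        show x⁻¹ c = c from Equiv.Perm.inv_eq_iff_eq.2 hxc.symm, hg']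
    rw [e, ← MulAction.orbit_eq_iff.2 hc']
    exact ⟨⟨_, hS.normalizes x hx _ g.2⟩, rfl⟩
  have h5 := hS.five_le_orbit ha
  have := Nat.card_mono x.support.finite_toSet hsub
  rw [Nat.card_coe_set_eq (x.support : Set α), Set.ncard_coe_finset] at this
  omega

theorem exists_moved_in_orbit (hS : Setup H F) {x : Equiv.Perm α} (hx : x ∈ H) (hx1 : x ≠ 1)
    (hc : x.support.card ≤ 4) {a : α} (ha : ∃ f ∈ F, f a ≠ a) :
    ∃ b ∈ MulAction.orbit F a, x b ≠ b := by
  by_contra h
  push Not at h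
  have hinv : ∀ f ∈ F, ∀ b ∈ MulAction.orbit F a, f b ∈ MulAction.orbit F a := by
    intro f hf b hb
    rw [← MulAction.orbit_eq_iff.2 hb]
    exact ⟨⟨f, hf⟩, rfl⟩
  have hle : F ≤ fixingSubgroup (Equiv.Perm α) (MulAction.orbit F a) := by
    refine hS.le_of_commutators hx (hS.not_centralizes hx hx1 hc) ?_ ?_
    · intro f hf m hm
      rw [mem_fixingSubgroup_iff] at hm ⊢
      intro b hb
      have := hm _ (hinv _ (inv_mem hf) b hb)
      simp only [Equiv.Perm.smul_def] at this ⊢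
      rw [Equiv.Perm.mul_apply, Equiv.Perm.mul_apply, this]
      simp
    · intro f hf
      rw [mem_fixingSubgroup_iff]
      intro b hb
      simp only [Equiv.Perm.smul_def, Equiv.Perm.mul_apply]
      rw [show x⁻¹ b = b from Equiv.Perm.inv_eq_iff_eq.2 (h b hb).symm, h _ (hinv _ (inv_mem hf) b hb)]
      simp
  obtain ⟨f, hf, hfa⟩ := ha
  exact hfa ((mem_fixingSubgroup_iff _).1 (hle hf) a (MulAction.mem_orbit_self a))

theorem exists_moved (hS : Setup H F) : ∃ a, ∃ f ∈ F, f a ≠ a := by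
  obtain ⟨f, hf, hf1⟩ := hS.exists_ne_one
  by_contra h
  push Not at h
  exact hf1 (Equiv.ext fun a => h a f hf)

/-- Restriction to the unique nontrivial orbit. -/
theorem reduce (hS : Setup H F) {a : α} (honly : ∀ c, (∃ f ∈ F, f c ≠ c) → c ∈ MulAction.orbit F a)
    (ha : ∃ f ∈ F, f a ≠ a) :
    ∃ (U : Set α) (_ : DecidablePred (· ∈ U)) (φ : H →* Equiv.Perm U),
      U = MulAction.orbit F a ∧ Function.Injective φ ∧
      (∀ (h : H) (u : U), (φ h u : α) = (h : Equiv.Perm α) u) ∧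
      Setup φ.range ((F.subgroupOf H).map φ) ∧
      Nonempty (F ≃* ↥((F.subgroupOf H).map φ)) ∧
      (∀ u v : U, ∃ f ∈ (F.subgroupOf H).map φ, f u = v) := by
  classical
  set U : Set α := MulAction.orbit F a with hU
  have hmoved : ∀ c, c ∈ U → ∃ f ∈ F, f c ≠ c := by
    intro c hc
    by_contra h
    push Not at h
    have : MulAction.orbit F c = {c} := by
      refine Set.eq_singleton_iff_unique_mem.2 ⟨MulAction.mem_orbit_self c, ?_⟩
      rintro _ ⟨f, rfl⟩
      exact h _ f.2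
    have h5 := hS.five_le_orbit ha
    rw [← MulAction.orbit_eq_iff.2 (show c ∈ MulAction.orbit F a from hU ▸ hc), this] at h5
    simp at h5
  have hinv : ∀ h ∈ H, ∀ c ∈ U, h c ∈ U := by
    intro h hh c hc
    obtain ⟨f, hf, hfc⟩ := hmoved c hc
    refine honly _ ⟨h * f * h⁻¹, hS.normalizes h hh f hf, ?_⟩
    simp [hfc]
  have hiff : ∀ (h : H) (c : α), c ∈ U ↔ (h : Equiv.Perm α) c ∈ U := fun h c =>
    ⟨hinv _ h.2 c, fun hc => by simpa using hinv _ (inv_mem h.2) _ hc⟩
  let φ : H →* Equiv.Perm U :=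
    { toFun := fun h => (h : Equiv.Perm α).subtypePerm (fun c => (hiff h c).symm)
      map_one' := by ext; rfl
      map_mul' := fun g h => by ext; rfl }
  have hval : ∀ (h : H) (u : U), (φ h u : α) = (h : Equiv.Perm α) u := fun h u => rfl
  have hinj : Function.Injective φ := by
    rw [injective_iff_map_eq_one]
    intro h hh
    have hfix : ∀ c ∈ U, (h : Equiv.Perm α) c = c := fun c hc =>
      (hval h ⟨c, hc⟩).symm.trans (congrArg Subtype.val (Equiv.Perm.congr_fun hh ⟨c, hc⟩))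
    have hout : ∀ f ∈ F, ∀ c ∉ U, f c = c := fun f hf c hc => by
      by_contra h'
      exact hc (honly c ⟨f, hf, h'⟩)
    have hcomm : ∀ f ∈ F, f * (h : Equiv.Perm α) = h * f := by
      intro f hf
      ext c
      simp only [Equiv.Perm.mul_apply]
      by_cases hc : c ∈ U
      · rw [hfix c hc, hfix _ (hinv f (hS.le hf) c hc)]
      · have : (h : Equiv.Perm α) c ∉ U := fun hc' => hc ((hiff h c).2 hc')
        rw [hout f hf _ this, hout f hf c hc]
    have hF := hS.cent _ h.2 hcomm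
    refine Subtype.ext (Equiv.ext fun c => ?_)
    by_cases hc : c ∈ U
    · exact hfix c hc
    · exact hout _ hF c hc
  have e : F ≃* ↥((F.subgroupOf H).map φ) :=
    (subgroupOfEquivOfLe hS.le).symm.trans (equivMapOfInjective _ _ hinj)
  refine ⟨U, inferInstance, φ, rfl, hinj, hval, ⟨?_, ?_, Core.quasisimple_congr hS.quasi e, ?_⟩, ⟨e⟩, ?_⟩
  · exact (map_le_range _ _)
  · rintro _ ⟨h, rfl⟩ _ ⟨f, hf, rfl⟩
    exact ⟨h * f * h⁻¹, hS.normalizes _ h.2 _ hf, by simp⟩
  · rintro _ ⟨h, rfl⟩ hc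
    refine ⟨h, hS.cent _ h.2 fun f hf => ?_, rfl⟩
    have h1 := hc _ ⟨⟨f, hS.le hf⟩, hf, rfl⟩
    rw [← map_mul, ← map_mul] at h1
    exact congrArg Subtype.val (hinj h1)
  · rintro ⟨u, hu⟩ ⟨v, hv⟩
    have hv' := hv
    rw [hU, ← MulAction.orbit_eq_iff.2 hu] at hv'
    obtain ⟨f, hf⟩ := hv'
    exact ⟨φ ⟨f, hS.le f.2⟩, ⟨_, f.2, rfl⟩, Subtype.ext ((hval _ _).trans hf)⟩

end Setup

end Cfsg.Lib.Perm.SmallSupp
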