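import Cfsg.Agent.Lib.Perm.SmallSupportFour
import Mathlib.Data.ZMod.Basic
import Mathlib.GroupTheory.Sylow

/-!
# Overgroups of Sylow `2`- and `3`-subgroups of symmetric groups with quasisimple `F*`
-/

set_option autoImplicit false

namespace Cfsg.Lib.Perm.SmallSupp

open Subgroup

section restrict

variable {α : Type*} [Fintype α] [DecidableEq α] {H F : Subgroup (Equiv.Perm α)}

theorem only_orbit (hS : Setup H F) {S : Finset α} (hne : S.Nonempty)
    (hsub : ∀ a, (∃ f ∈ F, f a ≠ a) → ∀ s ∈ S, s ∈ MulAction.orbit F a) {a : α} (ha : ∃ f ∈ F, f a ≠ a) :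
    ∀ c, (∃ f ∈ F, f c ≠ c) → c ∈ MulAction.orbit F a := by
  intro c hc
  obtain ⟨s, hs⟩ := hne
  rw [← MulAction.orbit_eq_iff.2 (hsub a ha s hs), MulAction.orbit_eq_iff.2 (hsub c hc s hs)]
  exact MulAction.mem_orbit_self c

theorem orbit_three (hS : Setup H F) {x : Equiv.Perm α} (hx : x ∈ H) (h3 : x.IsThreeCycle) {a : α}
    (ha : ∃ f ∈ F, f a ≠ a) : ∀ s ∈ x.support, s ∈ MulAction.orbit F a := by
  have hc : x.support.card ≤ 4 := by rw [h3.card_support]; norm_num
  obtain ⟨b, hb, hxb⟩ := hS.exists_moved_in_orbit hx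
    (fun h => by simp [h, Equiv.Perm.IsThreeCycle] at h3) hc ha
  have h1 := hS.orbit_invariant hx hc ha hb
  have h2 := hS.orbit_invariant hx hc ha h1
  have hne2 : x (x b) ≠ x b := fun h => hxb (x.injective h)
  have hne3 : x (x b) ≠ b := fun h => by
    have ho : x ^ 3 = 1 := h3.orderOf ▸ pow_orderOf_eq_one x
    have he : x (x (x b)) = b := by
      rw [← Equiv.Perm.mul_apply, ← Equiv.Perm.mul_apply]
      rw [show x * x * x = 1 by rw [← ho, pow_succ, pow_two]]; rfl
    rw [h] at he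
    exact hxb he
  have heq : x.support = {b, x b, x (x b)} := by
    refine (Finset.eq_of_subset_of_card_le ?_ ?_).symm
    · intro t ht
      simp only [Finset.mem_insert, Finset.mem_singleton] at ht
      rcases ht with rfl | rfl | rfl
      · simpa using hxb
      · simpa [Equiv.Perm.apply_mem_support] using hxb
      · simpa [Equiv.Perm.apply_mem_support] using hxb
    · rw [h3.card_support]
      simp [Ne.symm hxb, hne2.symm, hne3.symm]
  intro s hs
  rw [heq] at hs
  simp only [Finset.mem_insert, Finset.mem_singleton] at hs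
  rcases hs with rfl | rfl | rfl <;> assumption

theorem orbit_four (hS : Setup H F) {D : Finset α} (hD : V4In H D) {a : α}
    (ha : ∃ f ∈ F, f a ≠ a) : ∀ s ∈ D, s ∈ MulAction.orbit F a := by
  obtain ⟨p, hp, q, hq, hpq⟩ := Finset.one_lt_card.1 (by rw [hD.1]; norm_num : 1 < D.card)
  obtain ⟨x, hx, hs, hxp, -⟩ := hD.2 p hp q hq hpq
  obtain ⟨b, hb, hxb⟩ := hS.exists_moved_in_orbit hx
    (fun h => hpq (by rw [h] at hxp; exact hxp)) (by rw [hs, hD.1]) ha
  have hbD : b ∈ D := by rw [← hs, Equiv.Perm.mem_support]; exact hxb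
  intro s hs'
  by_cases h : b = s
  · exact h ▸ hb
  obtain ⟨y, hy, hys, hyb, -⟩ := hD.2 b hbD s hs' h
  exact hyb ▸ hS.orbit_invariant hy (by rw [hys, hD.1]) ha hb

theorem support_restrict {U : Set α} [DecidablePred (· ∈ U)] {g : Equiv.Perm α} {g' : Equiv.Perm U}
    (h : ∀ u : U, (g' u : α) = g u) (hsub : ∀ s ∈ g.support, s ∈ U) :
    g'.support.map (Function.Embedding.subtype _) = g.support := by
  ext t
  simp only [Finset.mem_map, Equiv.Perm.mem_support, Function.Embedding.coe_subtype]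
  constructor
  · rintro ⟨u, hu, rfl⟩
    intro h'
    exact hu (Subtype.ext ((h u).trans h'))
  · intro ht
    exact ⟨⟨t, hsub t (Equiv.Perm.mem_support.2 ht)⟩,
      fun h' => ht ((h _).symm.trans (congrArg Subtype.val h')), rfl⟩

theorem nonempty_equiv_alt {U : Set α} [DecidablePred (· ∈ U)] :
    Nonempty (alternatingGroup U ≃* alternatingGroup (Fin (Nat.card U))) :=
  ⟨Equiv.altCongrHom ((Fintype.equivFin U).trans (finCongr Nat.card_eq_fintype_card.symm))⟩

/-- The conclusion for a family of `3`-cycles. -/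
theorem alternating_of_three (H : Subgroup (Equiv.Perm α))
    (hF : Cfsg.IsQuasisimple ↥(Cfsg.generalizedFittingSubgroup ↥H)) {S : Set α} (hne : S.Nonempty)
    (hS3 : ∀ s ∈ S, ∃ x ∈ H, x.IsThreeCycle ∧ s ∈ x.support) :
    ∃ m, S.ncard ≤ m ∧ m ≤ Fintype.card α ∧
      Nonempty (↥(Cfsg.generalizedFittingSubgroup ↥H) ≃* ↥(alternatingGroup (Fin m))) := by
  classical
  have hS := setup_generalizedFitting H hF
  obtain ⟨a, ha⟩ := hS.exists_moved
  obtain ⟨s, hs⟩ := hne
  obtain ⟨x, hx, h3, hsx⟩ := hS3 s hs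
  obtain ⟨U, _, φ, hU, -, hval, hS', ⟨e⟩, htr⟩ :=
    hS.reduce (only_orbit hS ⟨s, hsx⟩ (fun a ha => orbit_three hS hx h3 ha) ha) ha
  have hT : Trans φ.range _ := ⟨hS', htr⟩
  have h3' : (φ ⟨x, hx⟩).IsThreeCycle := by
    rw [← card_support_eq_three_iff, ← Finset.card_map (Function.Embedding.subtype _),
      support_restrict (g := x) (hval ⟨x, hx⟩) (fun t ht => hU ▸ orbit_three hS hx h3 ha t ht)]
    exact h3.card_support
  have heq := hT.eq_alternating_of_three ⟨⟨x, hx⟩, rfl⟩ h3'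
  obtain ⟨e'⟩ := nonempty_equiv_alt (U := U)
  refine ⟨Nat.card U, ?_, ?_, ⟨((equivMapOfInjective _ _ H.subtype_injective).trans e).trans
    ((MulEquiv.subgroupCongr heq).trans e')⟩⟩
  · rw [← Nat.card_coe_set_eq]
    refine Nat.card_mono U.toFinite fun t ht => ?_
    obtain ⟨y, hy, hy3, hty⟩ := hS3 t ht
    exact hU ▸ orbit_three hS hy hy3 ha t hty
  · rw [← Nat.card_eq_fintype_card]; exact Finite.card_subtype_le _

/-- The conclusion for a family of four-groups. -/
theorem alternating_of_four (H : Subgroup (Equiv.Perm α))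
    (hF : Cfsg.IsQuasisimple ↥(Cfsg.generalizedFittingSubgroup ↥H)) {S : Set α} (h8 : 8 ≤ S.ncard)
    (hS4 : ∀ s ∈ S, ∃ D, V4In H D ∧ s ∈ D) :
    ∃ m, S.ncard ≤ m ∧ m ≤ Fintype.card α ∧
      Nonempty (↥(Cfsg.generalizedFittingSubgroup ↥H) ≃* ↥(alternatingGroup (Fin m))) := by
  classical
  have hS := setup_generalizedFitting H hF
  obtain ⟨a, ha⟩ := hS.exists_moved
  obtain ⟨s, hs⟩ := Set.nonempty_of_ncard_ne_zero (by omega : S.ncard ≠ 0)
  obtain ⟨D, hD, hsD⟩ := hS4 s hs
  obtain ⟨U, _, φ, hU, -, hval, hS', ⟨e⟩, htr⟩ :=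
    hS.reduce (only_orbit hS ⟨s, hsD⟩ (fun a ha => orbit_four hS hD ha) ha) ha
  have hT : Trans φ.range _ := ⟨hS', htr⟩
  have hle : S.ncard ≤ Nat.card U := by
    rw [← Nat.card_coe_set_eq]
    refine Nat.card_mono U.toFinite fun t ht => ?_
    obtain ⟨E, hE, htE⟩ := hS4 t ht
    exact hU ▸ orbit_four hS hE ha t htE
  set D' : Finset U := D.subtype (· ∈ U) with hD'
  have hDU : ∀ t ∈ D, t ∈ U := fun t ht => hU ▸ orbit_four hS hD ha t ht
  have hmap : D'.map (Function.Embedding.subtype _) = D := Finset.subtype_map_of_mem hDU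
  have hV : V4In φ.range D' := by
    refine ⟨by rw [← Finset.card_map (Function.Embedding.subtype _), hmap, hD.1], ?_⟩
    intro p hp q hq hpq
    rw [hD', Finset.mem_subtype] at hp hq
    obtain ⟨x, hx, hxs, hxp, hxx⟩ := hD.2 _ hp _ hq (fun h => hpq (Subtype.ext h))
    refine ⟨φ ⟨x, hx⟩, ⟨_, rfl⟩, ?_, Subtype.ext ((hval _ _).trans hxp), ?_⟩
    · apply Finset.map_injective (Function.Embedding.subtype _)
      rw [support_restrict (g := x) (hval ⟨x, hx⟩) (fun t ht => hDU t (hxs ▸ ht)), hxs, hmap]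
    · rw [← map_mul, show (⟨x, hx⟩ : H) * ⟨x, hx⟩ = 1 from Subtype.ext hxx, map_one]
  have heq := hT.eq_alternating_of_four (by rw [← Nat.card_eq_fintype_card]; omega) hV
  obtain ⟨e'⟩ := nonempty_equiv_alt (U := U)
  refine ⟨Nat.card U, hle, ?_, ⟨((equivMapOfInjective _ _ H.subtype_injective).trans e).trans
    ((MulEquiv.subgroupCongr heq).trans e')⟩⟩
  rw [← Nat.card_eq_fintype_card]; exact Finite.card_subtype_le _

end restrict

/-! ### Translations on disjoint blocks -/

section translations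

variable {n k : ℕ} {A : Type} [AddCommGroup A] [Fintype A] [DecidableEq A]

/-- Blockwise translations. -/
def blockShift (k : ℕ) (A : Type) [AddCommGroup A] :
    Multiplicative (Fin k → A) →* Equiv.Perm (Fin k × A) where
  toFun w := Equiv.prodCongrRight fun i => Equiv.addLeft (w.toAdd i)
  map_one' := by ext ⟨i, u⟩ <;> simp
  map_mul' w w' := by ext ⟨i, u⟩ <;> simp [add_assoc]

/-- Blockwise translations inside `Fin n`. -/
noncomputable def shiftIn (ι : Fin k × A ↪ Fin n) : Multiplicative (Fin k → A) →* Equiv.Perm (Fin n) :=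
  (Equiv.Perm.viaEmbeddingHom ι).comp (blockShift k A)

theorem shiftIn_apply (ι : Fin k × A ↪ Fin n) (w : Multiplicative (Fin k → A)) (i : Fin k) (u : A) :
    shiftIn ι w (ι (i, u)) = ι (i, w.toAdd i + u) :=
  Equiv.Perm.viaEmbedding_apply _ ι (i, u)

theorem shiftIn_support (ι : Fin k × A ↪ Fin n) (i : Fin k) {u : A} (hu : u ≠ 0) :
    (shiftIn ι (Multiplicative.ofAdd (Pi.single i u))).support =
      Finset.univ.image fun v => ι (i, v) := by
  ext t
  simp only [Equiv.Perm.mem_support, Finset.mem_image, Finset.mem_univ, true_and]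
  constructor
  · intro ht
    by_cases h : t ∈ Set.range ι
    · obtain ⟨⟨j, v⟩, rfl⟩ := h
      by_cases hji : j = i
      · exact ⟨v, by rw [hji]⟩
      · exact absurd (by rw [shiftIn_apply]; simp [Pi.single_eq_of_ne hji]) ht
    · exact absurd (Equiv.Perm.viaEmbedding_apply_of_notMem _ ι t h) ht
  · rintro ⟨v, rfl⟩ h
    rw [shiftIn_apply] at h
    simpa [hu] using congrArg Prod.snd (ι.injective h)

theorem card_block (ι : Fin k × A ↪ Fin n) (i : Fin k) :
    (Finset.univ.image fun v => ι (i, v)).card = Fintype.card A := by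
  rw [Finset.card_image_of_injective _ fun v v' h => congrArg Prod.snd (ι.injective h), Finset.card_univ]

theorem isPGroup_range (ι : Fin k × A ↪ Fin n) {p : ℕ} (hA : ∀ a : A, p • a = 0) :
    IsPGroup p (shiftIn ι).range := by
  have h : IsPGroup p (Multiplicative (Fin k → A)) := fun w => by
    refine ⟨1, ?_⟩
    rw [pow_one]
    exact Multiplicative.toAdd.injective (funext fun i => hA (w.toAdd i))
  exact h.of_surjective _ (MonoidHom.rangeRestrict_surjective _)

theorem exists_embedding {q : ℕ} (hA : Fintype.card A = q) (hk : k * q ≤ n) :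
    Nonempty (Fin k × A ↪ Fin n) :=
  Function.Embedding.nonempty_of_card_le (by simpa [hA] using hk)

theorem v4In_shiftIn (ι : Fin k × A ↪ Fin n) (hA : Fintype.card A = 4) (h2 : ∀ a : A, a + a = 0)
    {H : Subgroup (Equiv.Perm (Fin n))} (hle : (shiftIn ι).range ≤ H) (i : Fin k) :
    V4In H (Finset.univ.image fun v => ι (i, v)) := by
  refine ⟨(card_block ι i).trans hA, ?_⟩
  intro a ha b hb hab
  simp only [Finset.mem_image, Finset.mem_univ, true_and] at ha hb
  obtain ⟨u, rfl⟩ := ha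
  obtain ⟨v, rfl⟩ := hb
  have huv : v - u ≠ 0 := fun h => hab (by rw [sub_eq_zero.1 h])
  refine ⟨_, hle ⟨Multiplicative.ofAdd (Pi.single i (v - u)), rfl⟩, shiftIn_support ι i huv, ?_, ?_⟩
  · rw [shiftIn_apply]; simp
  · rw [← map_mul, ← ofAdd_add, ← Pi.single_add, h2, Pi.single_zero, ofAdd_zero, map_one]

theorem shiftIn_even (ι : Fin k × A ↪ Fin n) (hA : ∀ a : A, Equiv.Perm.sign (Equiv.addLeft a) = 1) :
    (shiftIn ι).range ≤ alternatingGroup (Fin n) := by
  rintro _ ⟨w, rfl⟩
  rw [Equiv.Perm.mem_alternatingGroup]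
  classical
  rw [shiftIn, MonoidHom.comp_apply, Equiv.Perm.viaEmbeddingHom_apply, Equiv.Perm.viaEmbedding,
    Equiv.Perm.sign_extendDomain]
  show Equiv.Perm.sign (Equiv.prodCongrRight fun i => Equiv.addLeft (w.toAdd i)) = 1
  rw [Equiv.Perm.sign_prodCongrRight]
  exact Finset.prod_eq_one fun i _ => hA _

end translations

end Cfsg.Lib.Perm.SmallSupp
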