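import Mathlib

set_option autoImplicit false

namespace Cfsg.Agent.Perm

variable {G α : Type*} [Group G] [MulAction G α]

/-- If for every set `u` of fewer than `n` points any two points outside `u` are moved to one
another by an element fixing `u` pointwise, then the action is `n`-transitive. -/
theorem isMultiplyPretransitive_of_step {n : ℕ}
    (h : ∀ u : Finset α, u.card < n → ∀ x y : α, x ∉ u → y ∉ u →
      ∃ g : G, (∀ z ∈ u, g • z = z) ∧ g • x = y) :
    MulAction.IsMultiplyPretransitive G α n := by
  classical
  rw [MulAction.isMultiplyPretransitive_iff]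
  intro x y
  suffices ∀ k ≤ n, ∃ g : G, ∀ i : Fin n, (i : ℕ) < k → g • x i = y i by
    obtain ⟨g, hg⟩ := this n le_rfl
    exact ⟨g, Function.Embedding.ext fun i => hg i i.2⟩
  intro k hk
  induction k with
  | zero => exact ⟨1, fun i hi => absurd hi (Nat.not_lt_zero _)⟩
  | succ k ih =>
    obtain ⟨g, hg⟩ := ih (by omega)
    let j : Fin n := ⟨k, hk⟩
    let u : Finset α := (Finset.univ.filter fun i : Fin n => i < j).image y
    have hu : u.card < n := by
      refine lt_of_le_of_lt Finset.card_image_le ?_
      refine lt_of_lt_of_le (Finset.card_lt_card ?_) (le_of_eq (Finset.card_fin n))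
      exact ⟨Finset.subset_univ _, fun hs => by simpa using hs (Finset.mem_univ j)⟩
    have hx : g • x j ∉ u := by
      simp only [u, Finset.mem_image, Finset.mem_filter, Finset.mem_univ, true_and]
      rintro ⟨i, hi, he⟩
      rw [← hg i hi] at he
      exact (ne_of_lt hi) (x.injective (MulAction.injective g he))
    have hy : y j ∉ u := by
      simp only [u, Finset.mem_image, Finset.mem_filter, Finset.mem_univ, true_and]
      rintro ⟨i, hi, he⟩
      exact (ne_of_lt hi) (y.injective he)
    obtain ⟨c, hc, hc'⟩ := h u hu _ _ hx hy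
    refine ⟨c * g, fun i hi => ?_⟩
    rw [mul_smul]
    rcases Nat.lt_or_ge (i : ℕ) k with hik | hik
    · rw [hg i hik]
      exact hc _ (Finset.mem_image_of_mem _ (Finset.mem_filter.2 ⟨Finset.mem_univ _, hik⟩))
    · have : i = j := Fin.ext (by show (i : ℕ) = k; omega)
      rw [this, hc']

end Cfsg.Agent.Perm
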