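import Mathlib
import Cfsg.Agent.Lib.Perm.SecondCoreBound
import Cfsg.Agent.Lib.Perm.WindowVertex

/-!
# Suborbits of length three (Sims, Wong): the window sequence of a point stabilizer
-/

namespace Cfsg.Lib.Perm.SubThree

open Subgroup Cfsg.Lib.Perm.TW Cfsg.Lib.Perm.Window
open scoped Pointwise

variable {G : Type*} [Group G] [Finite G] {A B : Subgroup G}

theorem le_of_index_coprime {p : ℕ} [Fact p.Prime] {P X H : Subgroup G} (hP : IsPGroup p P)
    (hPH : P ≤ H) (hn : H ≤ normalizer (P : Set G)) (hX : IsPGroup p X) (hXH : X ≤ H)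
    (hidx : ¬ p ∣ P.relIndex H) : X ≤ P := by
  have hle : X ⊔ P ≤ H := sup_le hXH hPH
  have hp : IsPGroup p ↥(X ⊔ P) := hX.to_sup_of_normal_right' hP (hXH.trans hn)
  obtain ⟨k, hk⟩ := hp.exists_card_eq
  have h1 : P.relIndex (X ⊔ P) ∣ P.relIndex H :=
    ⟨(X ⊔ P).relIndex H, (relIndex_mul_relIndex P (X ⊔ P) H le_sup_right hle).symm⟩
  have h2 : P.relIndex (X ⊔ P) ∣ p ^ k := hk ▸ index_dvd_card _
  obtain ⟨j, -, hj⟩ := (Nat.dvd_prime_pow Fact.out).1 h2
  have hj0 : j = 0 := by
    by_contra h
    exact hidx ((dvd_pow_self p h).trans (hj ▸ h1))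
  rw [hj0, pow_zero, relIndex_eq_one] at hj
  exact le_sup_left.trans hj

/-- The two-point stabilizer of a suborbit of length three is a `2`-group. -/
theorem isPGroup_two_inf (hA : SelfLocal A) (hB : SelfLocal B) (hne : A ≠ B) (e : A ≃* B)
    (hdA : (A ⊓ B).relIndex A = 3) (hdB : (A ⊓ B).relIndex B = 3) : IsPGroup 2 ↥(A ⊓ B) := by
  have hcardA : Nat.card A = 3 * Nat.card ↥(A ⊓ B) := by
    rw [← card_mul_index ((A ⊓ B).subgroupOf A),
      Nat.card_congr (subgroupOfEquivOfLe (inf_le_left : A ⊓ B ≤ A)).toEquiv,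
      show ((A ⊓ B).subgroupOf A).index = 3 from hdA, mul_comm]
  have hfin : ∀ a : ℕ, Nat.card A ∣ 2 ^ a * 3 → IsPGroup 2 ↥(A ⊓ B) := by
    intro a h
    rw [hcardA, mul_comm (2 ^ a)] at h
    obtain ⟨j, -, hj⟩ := (Nat.dvd_prime_pow Nat.prime_two).1 (Nat.dvd_of_mul_dvd_mul_left (by norm_num) h)
    exact IsPGroup.of_card (n := j) hj
  set A1 := coreIn (A ⊓ B) A with hA1
  set B1 := coreIn (A ⊓ B) B with hB1
  by_cases h : coreIn (A1 ⊓ B1) A = ⊥ ∨ coreIn (A1 ⊓ B1) B = ⊥
  · refine hfin 4 ((card_dvd_of_core_eq_bot e hdA hdB h).trans ?_)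
    norm_num [Nat.factorial]
  push Not at h
  obtain ⟨p, hp, hpg, -⟩ := thompson_wielandt hA hB hne e h.1 h.2
  have : Fact p.Prime := ⟨hp⟩
  set A2 := coreIn (A1 ⊓ B1) A with hA2
  set B2 := coreIn (A1 ⊓ B1) B with hB2
  have hidxA : A2.relIndex A ∣ 48 := by
    have := second_core_relIndex_dvd A B 3 hdA hdB
    norm_num [Nat.factorial] at this
    exact this
  have hidxB : B2.relIndex B ∣ 48 := by
    have := second_core_relIndex_dvd B A 3 (by rwa [inf_comm]) (by rwa [inf_comm])
    rw [inf_comm B A, inf_comm (coreIn (A ⊓ B) B)] at this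
    norm_num [Nat.factorial] at this
    exact this
  have hA2p : IsPGroup p A2 := hpg.to_le le_sup_left
  have hB2p : IsPGroup p B2 := hpg.to_le le_sup_right
  by_cases hp2 : p = 2
  · subst hp2
    obtain ⟨a, ha⟩ := hA2p.exists_card_eq
    refine hfin (a + 4) ?_
    have h1 := card_mul_index (A2.subgroupOf A)
    rw [Nat.card_congr (subgroupOfEquivOfLe (coreIn_le_right _ _ : A2 ≤ A)).toEquiv, ha] at h1
    rw [← h1, pow_add, mul_assoc]
    exact Nat.mul_dvd_mul dvd_rfl (hidxA.trans (by norm_num))
  exfalso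
  have hA2H : A2 ≤ A ⊓ B := (coreIn_le_left _ _).trans (inf_le_left.trans (coreIn_le_left _ _))
  have hB2H : B2 ≤ A ⊓ B := (coreIn_le_left _ _).trans (inf_le_left.trans (coreIn_le_left _ _))
  have hsmall : ∀ (X Y : Subgroup G), X ≤ A ⊓ B → (A ⊓ B).relIndex Y = 3 → A ⊓ B ≤ Y →
      X.relIndex Y ∣ 48 → ¬ p ∣ X.relIndex (A ⊓ B) := by
    intro X Y hX hY hHY h48 hdvd
    rw [← relIndex_mul_relIndex X (A ⊓ B) Y hX hHY, hY, show 48 = 16 * 3 by norm_num] at h48
    have h16 := Nat.dvd_of_mul_dvd_mul_right (by norm_num) h48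
    have := hdvd.trans h16
    rw [show (16 : ℕ) = 2 ^ 4 by norm_num] at this
    exact hp2 ((Nat.prime_dvd_prime_iff_eq hp Nat.prime_two).1 (hp.dvd_of_dvd_pow this))
  have hAB : A2 = B2 := le_antisymm
    (le_of_index_coprime hB2p hB2H (inf_le_right.trans (le_normalizer_coreIn _ _)) hA2p hA2H
      (hsmall B2 B hB2H hdB inf_le_right hidxB))
    (le_of_index_coprime hA2p hA2H (inf_le_left.trans (le_normalizer_coreIn _ _)) hB2p hB2H
      (hsmall A2 A hA2H hdA inf_le_left hidxA))
  exact h.1 (eq_bot_of_both hA hB hne (coreIn_le_right _ _) (le_normalizer_coreIn _ _)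
    (hAB.le.trans (coreIn_le_right _ _)) (hAB.symm ▸ le_normalizer_coreIn (A1 ⊓ B1) B))

/-- A good translation: it moves the arc to a following arc on which the stabilizer moves. -/
theorem exists_step {g : G} (hB : SelfLocal B) (hne : A ≠ B)
    (hg : B = A.map (MulAut.conj g).toMonoidHom) (hdA : (A ⊓ B).relIndex A = 3)
    (h2 : IsPGroup 2 ↥(A ⊓ B)) (hH : A ⊓ B ≠ ⊥) :
    ∃ h : G, B = A.map (MulAut.conj h).toMonoidHom ∧
      Nat.card ↥(A ⊓ B) = 2 * Nat.card ↥((A ⊓ B) ⊓ (A ⊓ B).map (MulAut.conj h).toMonoidHom) := by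
  set H := A ⊓ B with hHd
  set K := H.map (MulAut.conj g).toMonoidHom with hK
  have hKB : K ≤ B := by rw [hg]; exact map_mono inf_le_left
  have hmapy : ∀ y ∈ B, B.map (MulAut.conj y).toMonoidHom = B := fun y hy =>
    Cfsg.Lib.Core.mem_normalizer_iff_map_conj.1 (le_normalizer hy)
  have hKidx : K.relIndex B = 3 := by
    rw [hK, hg, relIndex_map_map_of_injective _ _ (MulAut.conj g).injective]; exact hdA
  have hcomp : ∀ y : G, (MulAut.conj (y * g)).toMonoidHom =
      (MulAut.conj y).toMonoidHom.comp (MulAut.conj g).toMonoidHom := fun y => by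
    ext z; simp [mul_assoc]
  by_cases hall : ∀ y ∈ B, H ≤ K.map (MulAut.conj y).toMonoidHom
  · exfalso
    have heq : ∀ y ∈ B, H = K.map (MulAut.conj y).toMonoidHom := fun y hy =>
      eq_of_le_of_card_ge (hall y hy) (by
        rw [card_map_of_injective (MulAut.conj y).injective, hK,
          card_map_of_injective (MulAut.conj g).injective])
    have hKH : H = K := by
      have h := heq 1 B.one_mem
      rwa [show (MulAut.conj (1 : G)).toMonoidHom = MonoidHom.id G by ext z; simp, map_id] at h
    have hn : B ≤ normalizer (H : Set G) := fun y hy =>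
      Cfsg.Lib.Core.mem_normalizer_iff_map_conj.2 (by
        conv_lhs => rw [hKH]
        exact (heq y hy).symm)
    have hgB : g ∈ B := hB H inf_le_right hn hH
      (Cfsg.Lib.Core.mem_normalizer_iff_map_conj.2 hKH.symm)
    refine hne (map_injective (f := (MulAut.conj g).toMonoidHom) (MulAut.conj g).injective ?_)
    exact hg.symm.trans (hmapy g hgB).symm
  · push Not at hall
    obtain ⟨y, hy, hyH⟩ := hall
    refine ⟨y * g, ?_, ?_⟩
    · rw [hcomp, ← map_map, ← hg, hmapy y hy]
    · rw [hcomp, ← map_map, ← hK]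
      set K' := K.map (MulAut.conj y).toMonoidHom with hK'
      have hK'idx : K'.relIndex B = 3 := by
        conv_lhs => rw [← hmapy y hy]
        rw [hK', relIndex_map_map_of_injective _ _ (MulAut.conj y).injective]; exact hKidx
      have h1 : K'.relIndex H ≤ 3 :=
        hK'idx ▸ relIndex_le_of_le_right (inf_le_right : H ≤ B) (by omega)
      obtain ⟨k, hk⟩ := h2.exists_card_eq
      obtain ⟨j, -, hj⟩ := (Nat.dvd_prime_pow Nat.prime_two).1
        (hk ▸ index_dvd_card (K'.subgroupOf H))
      have hj1 : K'.relIndex H ≠ 1 := fun h => hyH (relIndex_eq_one.1 h)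
      have hj2 : K'.relIndex H = 2 := by
        rcases j with _ | _ | j
        · exact absurd (hj.trans (pow_zero 2)) hj1
        · exact hj.trans (pow_one 2)
        · exfalso
          have : 4 ≤ 2 ^ (j + 2) := by
            rw [pow_add]; have := Nat.two_pow_pos j; omega
          have hj' : K'.relIndex H = 2 ^ (j + 2) := hj
          omega
      have h3 := card_mul_index ((H ⊓ K').subgroupOf H)
      rw [Nat.card_congr (subgroupOfEquivOfLe (inf_le_left : H ⊓ K' ≤ H)).toEquiv,
        inf_subgroupOf_left, show (K'.subgroupOf H).index = 2 from hj2] at h3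
      omega

section Chain

variable (A) (h : G)

/-- The stabilizers of windows of `m + 1` consecutive vertices of the translated path. -/
def win : ℕ → ℤ → Subgroup G
  | 0, i => A.map (MulAut.conj (h ^ i)).toMonoidHom
  | m + 1, i => win m i ⊓ A.map (MulAut.conj (h ^ (i + m + 1))).toMonoidHom

omit [Finite G] in
theorem map_conj_zpow (X : Subgroup G) (a b : ℤ) :
    (X.map (MulAut.conj (h ^ a)).toMonoidHom).map (MulAut.conj (h ^ b)).toMonoidHom =
      X.map (MulAut.conj (h ^ (a + b))).toMonoidHom := by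
  rw [map_map]
  congr 1
  ext z
  simp only [MonoidHom.comp_apply, MulEquiv.coe_toMonoidHom, MulAut.conj_apply]
  rw [add_comm a b, zpow_add, mul_inv_rev]
  simp only [mul_assoc]

omit [Finite G] in
theorem win_shift (m : ℕ) (i d : ℤ) :
    (win A h m i).map (MulAut.conj (h ^ d)).toMonoidHom = win A h m (i + d) := by
  induction m generalizing i with
  | zero => exact map_conj_zpow h A i d
  | succ m ih =>
    show (win A h m i ⊓ A.map (MulAut.conj (h ^ (i + m + 1))).toMonoidHom).map _ =
      win A h m (i + d) ⊓ A.map (MulAut.conj (h ^ (i + d + m + 1))).toMonoidHom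
    rw [map_inf _ _ _ (MulAut.conj (h ^ d)).injective, ih, map_conj_zpow,
      show i + (m : ℤ) + 1 + d = i + d + m + 1 by ring]

omit [Finite G] in
theorem win_succ_left (m : ℕ) (i : ℤ) :
    win A h (m + 1) i = win A h 0 i ⊓ win A h m (i + 1) := by
  induction m generalizing i with
  | zero => simp only [win, Nat.cast_zero, add_zero]
  | succ m ih =>
    show win A h (m + 1) i ⊓ A.map (MulAut.conj (h ^ (i + (m + 1 : ℕ) + 1))).toMonoidHom =
      win A h 0 i ⊓ (win A h m (i + 1) ⊓ A.map (MulAut.conj (h ^ (i + 1 + m + 1))).toMonoidHom)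
    rw [ih, inf_assoc, show i + ((m + 1 : ℕ) : ℤ) + 1 = i + 1 + m + 1 by push_cast; ring]

omit [Finite G] in
theorem win_succ_inf (m : ℕ) (i : ℤ) :
    win A h (m + 2) i = win A h (m + 1) i ⊓ win A h (m + 1) (i + 1) := by
  conv_rhs => rw [win_succ_left A h m i, show win A h (m + 1) (i + 1) =
    win A h m (i + 1) ⊓ A.map (MulAut.conj (h ^ (i + 1 + m + 1))).toMonoidHom from rfl]
  rw [← inf_assoc, inf_assoc (win A h 0 i), inf_idem, ← win_succ_left,
    show win A h (m + 2) i = win A h (m + 1) i ⊓
      A.map (MulAut.conj (h ^ (i + (m + 1 : ℕ) + 1))).toMonoidHom from rfl]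
  congr 4
  push_cast
  ring

omit [Finite G] in
theorem win_antitone_right (m : ℕ) (i : ℤ) : win A h (m + 1) i ≤ win A h m i := inf_le_left

omit [Finite G] in
theorem win_antitone_left (m : ℕ) (i : ℤ) : win A h (m + 1) i ≤ win A h m (i + 1) :=
  (win_succ_left A h m i).le.trans inf_le_right

omit [Finite G] in
theorem card_win_shift (m : ℕ) (i j : ℤ) : Nat.card (win A h m i) = Nat.card (win A h m j) := by
  rw [show j = i + (j - i) by ring, ← win_shift,
    card_map_of_injective (MulAut.conj (h ^ (j - i))).injective]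

variable {A h} {n : ℕ}

/-- Two consecutive windows generate the shorter window between them. -/
theorem win_sup (hc0 : Nat.card A = 3 * 2 ^ n) (j : ℕ) (i : ℤ) (hj : j + 1 ≤ n)
    (hcard : ∀ (k : ℕ) (i : ℤ), k ≤ j + 1 → Nat.card (win A h (k + 1) i) = 2 ^ (n - k)) :
    win A h (j + 1) (i - 1) ⊔ win A h (j + 1) i = win A h j i := by
  have hle1 : win A h (j + 1) (i - 1) ≤ win A h j i := by
    have := win_antitone_left A h j (i - 1)
    rwa [sub_add_cancel] at this
  have hne : ¬ win A h (j + 1) (i - 1) ≤ win A h (j + 1) i := by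
    intro hle
    have h2 := win_succ_inf A h j (i - 1)
    rw [sub_add_cancel, inf_eq_left.2 hle] at h2
    have h3 := hcard (j + 1) (i - 1) le_rfl
    rw [h2, hcard j (i - 1) (by omega), show n - j = n - (j + 1) + 1 by omega, pow_succ] at h3
    have := Nat.two_pow_pos (n - (j + 1))
    omega
  set S := win A h (j + 1) (i - 1) ⊔ win A h (j + 1) i
  have hS1 : win A h (j + 1) i ≤ S := le_sup_right
  have hSle : S ≤ win A h j i := sup_le hle1 (win_antitone_right A h j i)
  have hne' : S ≠ win A h (j + 1) i := fun h => hne (h ▸ le_sup_left)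
  obtain ⟨a, ha⟩ := card_dvd_of_le hS1
  obtain ⟨b, hb⟩ := card_dvd_of_le hSle
  have ha1 : a ≠ 1 := fun h => hne' (eq_of_le_of_card_ge hS1 (by rw [ha, h, mul_one])).symm
  rw [ha, mul_assoc, hcard j i (by omega)] at hb
  have hab : ∃ r : ℕ, r.Prime ∧ a * b = r := by
    rcases j with _ | j
    · refine ⟨3, Nat.prime_three, ?_⟩
      have : Nat.card (win A h 0 i) = 3 * 2 ^ n := by
        rw [← hc0]; exact card_map_of_injective (MulAut.conj _).injective
      rw [this, Nat.sub_zero, mul_comm 3] at hb
      exact (Nat.eq_of_mul_eq_mul_left (Nat.two_pow_pos n) hb).symm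
    · refine ⟨2, Nat.prime_two, ?_⟩
      rw [hcard j i (by omega), show n - j = n - (j + 1) + 1 by omega, pow_succ] at hb
      exact (Nat.eq_of_mul_eq_mul_left (Nat.two_pow_pos _) hb).symm
  obtain ⟨r, hr, hr'⟩ := hab
  have ha3 : a ∣ r := ⟨b, hr'.symm⟩
  rcases (Nat.dvd_prime hr).1 ha3 with rfl | rfl
  · exact absurd rfl ha1
  · have hb1 : b = 1 := (mul_eq_left₀ hr.ne_zero).1 hr'
    refine eq_of_le_of_card_ge hSle ?_
    obtain ⟨b', hb'⟩ := card_dvd_of_le hSle
    rw [ha, hcard j i (by omega)]
    rw [hb1, mul_one] at hb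
    exact hb.le

/-- The orders of the windows. -/
theorem card_win (hA : SelfLocal A) (hne : A ≠ A.map (MulAut.conj h).toMonoidHom)
    (hc0 : Nat.card A = 3 * 2 ^ n) (hc1 : Nat.card (win A h 1 0) = 2 ^ n)
    (hc2 : Nat.card (win A h 1 0) = 2 * Nat.card (win A h 2 0)) :
    ∀ (m : ℕ) (i : ℤ), m ≤ n → Nat.card (win A h (m + 1) i) = 2 ^ (n - m) := by
  intro m
  induction m using Nat.strong_induction_on with
  | _ m ih =>
    intro i hm
    rw [card_win_shift A h (m + 1) i 0]
    rcases m with _ | _ | m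
    · simpa using hc1
    · rw [hc1, show n = n - 1 + 1 by omega, pow_succ] at hc2
      show Nat.card (win A h 2 0) = 2 ^ (n - 1)
      omega
    · -- `W_{m+3} < W_{m+2}`, both of index at most two
      have hprev : ∀ (k : ℕ) (j : ℤ), k ≤ m + 1 → Nat.card (win A h (k + 1) j) = 2 ^ (n - k) :=
        fun k j hk => ih k (by omega) j (by omega)
      set X := win A h (m + 2) 0 with hX
      set Y := win A h (m + 2) (0 + 1) with hY
      set Z := win A h (m + 3) 0 with hZd
      have hZ : Z = X ⊓ Y := win_succ_inf A h (m + 1) 0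
      have hcX : Nat.card X = 2 ^ (n - (m + 1)) := hprev _ _ le_rfl
      have hcY : Nat.card Y = 2 ^ (n - (m + 1)) := hprev _ _ le_rfl
      have hcM : Nat.card (win A h (m + 1) (0 + 1)) = 2 ^ (n - (m + 1)) * 2 := by
        rw [hprev m _ (by omega), show n - m = n - (m + 1) + 1 by omega, pow_succ]
      have hXM : X ≤ win A h (m + 1) (0 + 1) := win_antitone_left A h (m + 1) 0
      have hYM : Y ≤ win A h (m + 1) (0 + 1) := win_antitone_right A h (m + 1) _
      have hYidx : Y.relIndex (win A h (m + 1) (0 + 1)) = 2 := by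
        have h1 := card_mul_index (Y.subgroupOf (win A h (m + 1) (0 + 1)))
        rw [Nat.card_congr (subgroupOfEquivOfLe hYM).toEquiv, hcY, hcM] at h1
        exact Nat.eq_of_mul_eq_mul_left (Nat.two_pow_pos _) h1
      have h2 : Y.relIndex X ≤ 2 := hYidx ▸ relIndex_le_of_le_right hXM (by omega)
      have hcZ := card_mul_index (Z.subgroupOf X)
      rw [Nat.card_congr (subgroupOfEquivOfLe (hZ.le.trans inf_le_left)).toEquiv, hcX,
        show Z.subgroupOf X = Y.subgroupOf X by rw [hZ, inf_subgroupOf_left],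
        show (Y.subgroupOf X).index = Y.relIndex X from rfl] at hcZ
      have hYX : Y.relIndex X ≠ 1 := by
        intro h1
        have hS : Y = X := (eq_of_le_of_card_ge (relIndex_eq_one.1 h1) (by rw [hcX, hcY])).symm
        have hnh : h ∈ normalizer (X : Set G) := by
          refine Cfsg.Lib.Core.mem_normalizer_iff_map_conj.2 ?_
          have := win_shift A h (m + 2) 0 1
          rw [zpow_one, ← hY, hS] at this
          exact this
        have hall : ∀ i : ℤ, win A h (m + 2) i = X := fun i => by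
          have hz : h ^ i ∈ normalizer (X : Set G) := zpow_mem hnh i
          have := win_shift A h (m + 2) 0 i
          rw [zero_add, ← hX, Cfsg.Lib.Core.mem_normalizer_iff_map_conj.1 hz] at this
          exact this.symm
        have hnorm : ∀ k j : ℕ, j + k = m + 1 → ∀ i : ℤ, win A h j i ≤ normalizer (X : Set G) := by
          intro k
          induction k with
          | zero =>
            intro j hj i
            rw [add_zero] at hj; subst hj
            refine normalizer_of_index_two (hall i ▸ win_antitone_right A h (m + 1) i) ?_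
            rw [hcX, hprev m i (by omega), show n - m = n - (m + 1) + 1 by omega, pow_succ, mul_comm]
          | succ k ihk =>
            intro j hj i
            rw [← win_sup hc0 j i (by omega) fun k' i' hk' => hprev k' i' (by omega)]
            exact sup_le (ihk (j + 1) (by omega) _) (ihk (j + 1) (by omega) _)
        have hA0 : win A h 0 0 = A := by
          show A.map (MulAut.conj (h ^ (0 : ℤ))).toMonoidHom = A
          rw [zpow_zero, show (MulAut.conj (1 : G)).toMonoidHom = MonoidHom.id G by ext z; simp,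
            map_id]
        have hXA : X ≤ A := by
          rw [← hA0, hX]
          clear_value X
          clear * -
          induction m with
          | zero => exact (win_antitone_right A h 1 0).trans (win_antitone_right A h 0 0)
          | succ m ih => exact (win_antitone_right A h (m + 2) 0).trans ih
        have hAN : A ≤ normalizer (X : Set G) := hA0 ▸ hnorm (m + 1) 0 (zero_add _) 0
        have hXne : X ≠ ⊥ := fun hb => by
          rw [hb, card_bot] at hcX
          exact absurd hcX.symm (Nat.one_lt_two_pow (by omega)).ne'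
        exact hne (Cfsg.Lib.Core.mem_normalizer_iff_map_conj.1
          (le_normalizer (hA X hXA hAN hXne hnh))).symm
      have h0 : Y.relIndex X ≠ 0 := fun h0 => by
        rw [h0, mul_zero] at hcZ
        exact (Nat.two_pow_pos _).ne hcZ
      have heq : Y.relIndex X = 2 := by omega
      rw [heq] at hcZ
      show Nat.card Z = 2 ^ (n - (m + 2))
      rw [show n - (m + 1) = n - (m + 2) + 1 by omega, pow_succ] at hcZ
      omega

/-- The window sequence. -/
theorem exists_vertex (hA : SelfLocal A) (hne : A ≠ A.map (MulAut.conj h).toMonoidHom)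
    (hn : 1 ≤ n) (hc0 : Nat.card A = 3 * 2 ^ n) (hc1 : Nat.card (win A h 1 0) = 2 ^ n)
    (hc2 : Nat.card (win A h 1 0) = 2 * Nat.card (win A h 2 0)) :
    ∃ t : ℤ → G, Vertex n t ∧ seg t (-(n : ℤ)) (n + 1) = A := by
  have hW := card_win hA hne hc0 hc1 hc2
  have htop : Nat.card (win A h n 0) = 2 := by
    have := hW (n - 1) 0 (by omega)
    rwa [show n - 1 + 1 = n by omega, show n - (n - 1) = 1 by omega, pow_one] at this
  obtain ⟨t0, ht0, ht0ne⟩ : ∃ x ∈ win A h n 0, x ≠ 1 := by
    by_contra hcon
    push Not at hcon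
    have : win A h n 0 = ⊥ := (eq_bot_iff_forall _).2 hcon
    rw [this, card_bot] at htop; omega
  have hz0 : zpowers t0 = win A h n 0 := by
    refine eq_of_le_of_card_ge (zpowers_le.2 ht0) ?_
    rw [htop, Nat.card_zpowers]
    have h1 : orderOf t0 ≠ 1 := fun h => ht0ne (orderOf_eq_one_iff.1 h)
    have := orderOf_pos t0
    omega
  set t : ℤ → G := fun k => h ^ k * t0 * (h ^ k)⁻¹ with ht
  have hzk : ∀ k : ℤ, zpowers (t k) = win A h n k := by
    intro k
    have := win_shift A h n 0 k
    rw [zero_add, ← hz0, MonoidHom.map_zpowers] at this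
    exact this
  have hseg : ∀ (l : ℕ), l ≤ n → ∀ s : ℤ, seg t s (l + 1) = win A h (n - l) (s + l) := by
    intro l
    induction l with
    | zero =>
      intro _ s
      rw [seg_split, seg_zero, bot_sup_eq, Nat.cast_zero, add_zero, hzk, Nat.sub_zero]
    | succ l ih =>
      intro hl s
      have h1 : seg t s (l + 2) = seg t s (l + 1) ⊔ seg t (s + 1) (l + 1) :=
        le_antisymm (seg_le fun k hk1 hk2 => by
          rcases le_or_gt k (s + l) with hk | hk
          · exact mem_sup_left (mem_seg t hk1 (by omega))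
          · exact mem_sup_right (mem_seg t (by omega) (by omega)))
          (sup_le (seg_mono t le_rfl (by omega)) (seg_mono t (by omega) (by omega)))
      rw [h1, ih (by omega), ih (by omega), show n - l = n - (l + 1) + 1 by omega,
        show s + (l : ℤ) = s + 1 + l - 1 by ring,
        show s + ((l + 1 : ℕ) : ℤ) = s + 1 + l by push_cast; ring]
      exact win_sup hc0 _ _ (by omega) fun k i hk => hW k i (by omega)
  have hmap0 : ∀ s : ℤ, seg t s (n + 1) = A.map (MulAut.conj (h ^ (s + n))).toMonoidHom :=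
    fun s => by rw [hseg n le_rfl, Nat.sub_self]; rfl
  refine ⟨t, ⟨⟨fun s l hl => ?_, fun k => ?_, fun i j s hij => ?_⟩, hn, fun s => ?_, fun s => ?_,
    fun s => ?_, h, fun k s => ?_⟩, ?_⟩
  · rcases l with _ | l
    · rw [seg_zero, card_bot, pow_zero]
    · rw [hseg l (by omega)]
      have := hW (n - l - 1) (s + l) (by omega)
      rwa [show n - l - 1 + 1 = n - l by omega, show n - (n - l - 1) = l + 1 by omega] at this
  · have h1 : t0 * t0 = 1 := by
      have := pow_card_eq_one' (G := win A h n 0) (x := ⟨t0, ht0⟩)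
      rw [htop] at this
      rw [← pow_two]; exact congrArg Subtype.val this
    show h ^ k * t0 * (h ^ k)⁻¹ * (h ^ k * t0 * (h ^ k)⁻¹) = 1
    simp only [mul_assoc, inv_mul_cancel_left]
    rw [← mul_assoc t0 t0, h1, one_mul, mul_inv_cancel]
  · have key : ∀ m : ℤ, t (m + s) = MulAut.conj (h ^ s) (t m) := fun m => by
      simp only [ht, MulAut.conj_apply]
      rw [add_comm, zpow_add, mul_inv_rev]
      simp only [mul_assoc]
    rw [key, key]
    exact hij.map (MulAut.conj (h ^ s)).toMonoidHom
  · rw [hmap0, card_map_of_injective (MulAut.conj _).injective, hc0]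
  · rw [hmap0]; exact selfLocal_map _ hA
  · rw [hmap0, hmap0]
    intro heq
    apply hne
    apply map_injective (f := (MulAut.conj (h ^ (s + n))).toMonoidHom) (MulAut.conj _).injective
    rw [heq, show s + 1 + (n : ℤ) = 1 + (s + n) by ring, ← map_conj_zpow, zpow_one]
  · simp only [ht]
    rw [add_comm, zpow_add, mul_inv_rev]
    simp only [mul_assoc]
  · rw [hmap0, neg_add_cancel, zpow_zero,
      show (MulAut.conj (1 : G)).toMonoidHom = MonoidHom.id G by ext z; simp, map_id]

end Chain

/-- **Sims, Wong.** A suborbit of length three of a primitive group: either the point stabilizer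
has order three, or it is the vertex group of an involution window sequence. -/
theorem card_three_or_vertex {Ω : Type*} [MulAction G Ω] [FaithfulSMul G Ω]
    (hprim : MulAction.IsPreprimitive G Ω) (a b : Ω)
    (h3 : Nat.card (MulAction.orbit (MulAction.stabilizer G a) b) = 3) :
    Nat.card (MulAction.stabilizer G a) = 3 ∨
      ∃ (n : ℕ) (t : ℤ → G), Vertex n t ∧ seg t (-(n : ℤ)) (n + 1) = MulAction.stabilizer G a := by
  obtain ⟨g, hg, hA, hB, hne, hdA, hdB⟩ := stabilizer_pair_setup hprim a b 3 h3 (by norm_num)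
  set A := MulAction.stabilizer G a
  set B := MulAction.stabilizer G b
  let e : A ≃* B := (A.equivMapOfInjective _ (MulAut.conj g).injective).trans
    (MulEquiv.subgroupCongr hg.symm)
  have h2 := isPGroup_two_inf hA hB hne e hdA hdB
  obtain ⟨n, hn⟩ := h2.exists_card_eq
  have hcard : Nat.card A = 3 * 2 ^ n := by
    rw [← hn, ← card_mul_index ((A ⊓ B).subgroupOf A),
      Nat.card_congr (subgroupOfEquivOfLe (inf_le_left : A ⊓ B ≤ A)).toEquiv,
      show ((A ⊓ B).subgroupOf A).index = 3 from hdA, mul_comm]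
  rcases Nat.eq_zero_or_pos n with rfl | hpos
  · left; simpa using hcard
  right
  have hH : A ⊓ B ≠ ⊥ := fun hb => by
    rw [hb, card_bot] at hn
    exact absurd hn.symm (Nat.one_lt_two_pow hpos.ne').ne'
  obtain ⟨h, hh, hh2⟩ := exists_step hB hne hg hdA h2 hH
  have hw1 : win A h 1 0 = A ⊓ B := by
    simp only [win, zpow_zero, zero_add, Nat.cast_zero, zpow_one]
    rw [show (MulAut.conj (1 : G)).toMonoidHom = MonoidHom.id G by ext z; simp, map_id, ← hh]
  have hw2 : win A h 2 0 = A ⊓ B ⊓ (A ⊓ B).map (MulAut.conj h).toMonoidHom := by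
    have h4 := win_shift A h 1 0 1
    rw [hw1, zpow_one] at h4
    rw [win_succ_inf A h 0 0, hw1, ← h4]
  exact ⟨n, exists_vertex hA (hh ▸ hne) hpos hcard (by rw [hw1, hn]) (by rw [hw1, hw2]; exact hh2)⟩

end Cfsg.Lib.Perm.SubThree
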