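import Mathlib

/-!
# Automorphisms of odd order of doubly transitive groups and invariant incidence matrices
-/

set_option autoImplicit false

namespace Cfsg.Lib.Perm.TwoTransAut

open MulAction Finset Matrix

variable {Ω : Type*} [Fintype Ω] {G : Subgroup (Equiv.Perm Ω)}

/-- Invariance of a matrix for a twist by `β`. -/
def Inv (β : MulAut G) (f : Matrix Ω Ω ℤ) : Prop := ∀ (g : G) (x y : Ω), f (g • x) (β g • y) = f x y

theorem exists_smul (h2 : IsMultiplyPretransitive G Ω 2) {a b c d : Ω} (hab : a ≠ b) (hcd : c ≠ d) :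
    ∃ g : G, g • a = c ∧ g • b = d :=
  is_two_pretransitive_iff.mp h2 hab hcd

theorem exists_smul_one (h2 : IsMultiplyPretransitive G Ω 2) (x y : Ω) : ∃ g : G, g • x = y := by
  by_cases h : x = y
  · exact ⟨1, by rw [h, one_smul]⟩
  · obtain ⟨g, hg, -⟩ := exists_smul h2 h (Ne.symm h)
    exact ⟨g, hg⟩

theorem inv_mul {β γ : MulAut G} {f f' : Matrix Ω Ω ℤ} (h : Inv β f) (h' : Inv γ f') : Inv (γ * β) (f * f') := by
  intro g x y
  rw [Matrix.mul_apply, Matrix.mul_apply, ← Equiv.sum_comp (toPerm (β g))]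
  refine Finset.sum_congr rfl fun z _ => ?_
  rw [toPerm_apply, h, MulAut.mul_apply, h']

theorem inv_transpose {β : MulAut G} {f : Matrix Ω Ω ℤ} (h : Inv β f) : Inv β⁻¹ fᵀ := by
  intro g x y
  have h' := h (β⁻¹ g) y x
  rwa [← MulAut.mul_apply, mul_inv_cancel, MulAut.one_apply] at h'

/-- The all-one matrix. -/
def J : Matrix Ω Ω ℤ := fun _ _ => 1

theorem inv_one [DecidableEq Ω] (h2 : IsMultiplyPretransitive G Ω 2) (o : Ω) {f : Matrix Ω Ω ℤ} (h : Inv (1 : MulAut G) f) :
    ∃ a b : ℤ, f = a • (1 : Matrix Ω Ω ℤ) + b • J := by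
  by_cases hex : ∃ z, z ≠ o
  · obtain ⟨z, hz⟩ := hex
    refine ⟨f o o - f o z, f o z, ?_⟩
    ext x y
    simp only [Matrix.add_apply, Matrix.smul_apply, smul_eq_mul, J, mul_one]
    by_cases hxy : x = y
    · subst hxy
      obtain ⟨g, rfl⟩ := exists_smul_one h2 o x
      have := h g o o
      rw [MulAut.one_apply] at this
      rw [Matrix.one_apply_eq, this]; ring
    · obtain ⟨g, rfl, rfl⟩ := exists_smul h2 (Ne.symm hz) hxy
      have := h g o z
      rw [MulAut.one_apply] at this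
      rw [Matrix.one_apply_ne hxy, this]; ring
  · push Not at hex
    refine ⟨f o o, 0, ?_⟩
    ext x y
    rw [hex x, hex y]
    simp only [Matrix.add_apply, Matrix.smul_apply, smul_eq_mul, J, mul_one, Matrix.one_apply_eq, add_zero]

theorem mul_J {f : Matrix Ω Ω ℤ} {k : ℤ} (h : ∀ x, ∑ y, f x y = k) : f * J = k • J := by
  ext x y
  simp [Matrix.mul_apply, J, h]

theorem J_mul {f : Matrix Ω Ω ℤ} {k : ℤ} (h : ∀ y, ∑ x, f x y = k) : J * f = k • J := by
  ext x y
  simp [Matrix.mul_apply, J, h]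

variable (o : Ω) (β : MulAut G) (O : Finset Ω)

/-- The incidence matrix of a block. -/
noncomputable def inc : Matrix Ω Ω ℤ := by
  classical
  exact fun x y => if ∃ g : G, g • o = x ∧ (β g)⁻¹ • y ∈ O then 1 else 0

/-- The hypothesis on a block. -/
def IsBlockFor : Prop := ∀ g : G, g • o = o → ∀ y, y ∈ O → β g • y ∈ O

variable {o β O}

open Classical in
theorem inc_apply (hO : IsBlockFor o β O) (g : G) (y : Ω) :
    inc o β O (g • o) y = if (β g)⁻¹ • y ∈ O then 1 else 0 := by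
  unfold inc
  refine if_congr ⟨fun ⟨g', hg', hy⟩ => ?_, fun h => ⟨g, rfl, h⟩⟩ rfl rfl
  have h := hO (g⁻¹ * g') (by rw [mul_smul, hg', inv_smul_smul]) _ hy
  rwa [map_mul, map_inv, mul_smul, smul_inv_smul] at h

theorem inc_inv (hO : IsBlockFor o β O) (h2 : IsMultiplyPretransitive G Ω 2) : Inv β (inc o β O) := by
  classical
  intro g x y
  obtain ⟨g₀, rfl⟩ := exists_smul_one h2 o x
  rw [← mul_smul, inc_apply hO, inc_apply hO, map_mul, _root_.mul_inv_rev, mul_smul, inv_smul_smul]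

theorem inc_row (hO : IsBlockFor o β O) (h2 : IsMultiplyPretransitive G Ω 2) (x : Ω) :
    ∑ y, inc o β O x y = O.card := by
  classical
  obtain ⟨g, rfl⟩ := exists_smul_one h2 o x
  rw [← Equiv.sum_comp (toPerm (β g))]
  simp only [toPerm_apply, inc_apply hO, inv_smul_smul]
  rw [Finset.sum_boole]
  simp

theorem inc_col (hO : IsBlockFor o β O) (h2 : IsMultiplyPretransitive G Ω 2) (y : Ω) :
    ∑ x, inc o β O x y = O.card := by
  classical
  have hconst : ∀ y', ∑ x, inc o β O x y' = ∑ x, inc o β O x y := by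
    intro y'
    obtain ⟨g, rfl⟩ := exists_smul_one h2 y y'
    obtain ⟨g₀, rfl⟩ := β.surjective g
    rw [← Equiv.sum_comp (toPerm g₀)]
    exact Finset.sum_congr rfl fun x _ => inc_inv hO h2 g₀ x y
  have hn : (Fintype.card Ω : ℤ) ≠ 0 := by
    haveI : Nonempty Ω := ⟨y⟩
    exact_mod_cast Fintype.card_ne_zero
  refine mul_left_cancel₀ hn ?_
  calc (Fintype.card Ω : ℤ) * ∑ x, inc o β O x y = ∑ y', ∑ x, inc o β O x y' := by
        simp [hconst, Finset.sum_const]
    _ = _ := by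
        rw [Finset.sum_comm]
        simp [inc_row hO h2, Finset.sum_const]

/-- The design equation. -/
theorem design [DecidableEq Ω] (hO : IsBlockFor o β O) (h2 : IsMultiplyPretransitive G Ω 2)
    (hn : 2 ≤ Fintype.card Ω) :
    ∃ u v : ℤ, inc o β O * (inc o β O)ᵀ = u • (1 : Matrix Ω Ω ℤ) + v • J ∧
      (inc o β O)ᵀ * inc o β O = u • (1 : Matrix Ω Ω ℤ) + v • J ∧
      u * ((Fintype.card Ω : ℤ) - 1) = (O.card : ℤ) * ((Fintype.card Ω : ℤ) - O.card) ∧ u ≤ O.card ∧
      u ≤ (Fintype.card Ω : ℤ) - O.card := by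
  classical
  set P := inc o β O with hP
  have hi := inc_inv hO h2
  obtain ⟨u, v, h1⟩ := inv_one h2 o (f := P * Pᵀ) (by simpa using inv_mul hi (inv_transpose hi))
  obtain ⟨u', v', h1'⟩ := inv_one h2 o (f := Pᵀ * P) (by simpa using inv_mul (inv_transpose hi) hi)
  have key : ∀ (Q : Matrix Ω Ω ℤ) (a b : ℤ), Q * Qᵀ = a • (1 : Matrix Ω Ω ℤ) + b • J →
      (∀ x y, Q x y = 0 ∨ Q x y = 1) → (∀ x, ∑ y, Q x y = O.card) → (∀ y, ∑ x, Q x y = O.card) →
      a + b = O.card ∧ a + b * Fintype.card Ω = (O.card : ℤ) * O.card := by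
    intro Q a b h h01 hr hc
    constructor
    · have e := congrFun (congrFun h o) o
      simp only [Matrix.mul_apply, Matrix.transpose_apply, Matrix.add_apply, Matrix.smul_apply, smul_eq_mul, J, mul_one,
        Matrix.one_apply_eq] at e
      rw [← e, ← hr o]
      exact Finset.sum_congr rfl fun y _ => by rcases h01 o y with h | h <;> rw [h] <;> norm_num
    · have e : ∑ y, (Q * Qᵀ) o y = ∑ y, ((a • (1 : Matrix Ω Ω ℤ) + b • J : Matrix Ω Ω ℤ)) o y := by rw [h]
      simp only [Matrix.mul_apply, Matrix.transpose_apply] at e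
      rw [Finset.sum_comm] at e
      simp only [← Finset.mul_sum, hc, ← Finset.sum_mul, hr] at e
      simp only [Matrix.add_apply, Matrix.smul_apply, smul_eq_mul, J, mul_one, Matrix.one_apply, mul_ite, mul_zero,
        Finset.sum_add_distrib, Finset.sum_ite_eq, Finset.mem_univ, if_true, Finset.sum_const, Finset.card_univ,
        nsmul_eq_mul] at e
      linarith
  have h01 : ∀ x y, P x y = 0 ∨ P x y = 1 := fun x y => by
    obtain ⟨g, rfl⟩ := exists_smul_one h2 o x
    rw [hP, inc_apply hO]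
    split_ifs <;> simp
  obtain ⟨e1, e2⟩ := key P u v h1 h01 (inc_row hO h2) (inc_col hO h2)
  obtain ⟨e1', e2'⟩ := key Pᵀ u' v' (by rwa [Matrix.transpose_transpose]) (fun x y => h01 y x) (inc_col hO h2)
    (inc_row hO h2)
  have hn' : (2 : ℤ) ≤ Fintype.card Ω := by exact_mod_cast hn
  have huv : v' = v := mul_right_cancel₀ (show (Fintype.card Ω : ℤ) - 1 ≠ 0 by omega) (by linear_combination e2' - e2 - e1' + e1)
  subst huv
  obtain rfl : u' = u := by linarith
  have heq : u' * ((Fintype.card Ω : ℤ) - 1) = (O.card : ℤ) * ((Fintype.card Ω : ℤ) - O.card) := by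
    linear_combination (Fintype.card Ω : ℤ) * e1 - e2
  have hk0 : (0 : ℤ) ≤ O.card := Int.natCast_nonneg _
  have hkn : (O.card : ℤ) ≤ Fintype.card Ω := by exact_mod_cast Finset.card_le_univ O
  refine ⟨u', v', h1, h1', heq, ?_, ?_⟩
  · rcases Nat.eq_zero_or_pos O.card with h | h
    · rw [h] at heq ⊢
      simp at heq
      rcases heq with h' | h' <;> omega
    · nlinarith
  · rcases eq_or_lt_of_le hkn with h | h
    · rw [h, sub_self, mul_zero] at heq
      rcases mul_eq_zero.mp heq with h' | h' <;> omega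
    · nlinarith

theorem row_col_mul {P Q : Matrix Ω Ω ℤ} {k l : ℤ} (hr : P * J = k • J) (hr' : Q * J = l • J) :
    P * Q * J = (k * l) • J := by
  rw [Matrix.mul_assoc, hr', Matrix.mul_smul, hr, smul_smul, mul_comm]

theorem pow_design [DecidableEq Ω] {P : Matrix Ω Ω ℤ} {k u v : ℤ} (hr : P * J = k • J) (hc : J * Pᵀ = k • J)
    (h : P * Pᵀ = u • (1 : Matrix Ω Ω ℤ) + v • J) : ∀ i : ℕ,
    ∃ w : ℤ, P ^ i * (P ^ i)ᵀ = u ^ i • (1 : Matrix Ω Ω ℤ) + w • J ∧ P ^ i * J = k ^ i • J := by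
  intro i
  induction i with
  | zero => exact ⟨0, by simp, by simp⟩
  | succ i ih =>
    obtain ⟨w, hw, hJ⟩ := ih
    refine ⟨u ^ i * v + w * k * k, ?_, by rw [pow_succ', pow_succ']; exact row_col_mul hr hJ⟩
    rw [pow_succ', Matrix.transpose_mul, Matrix.mul_assoc, ← Matrix.mul_assoc (P ^ i), hw, Matrix.add_mul,
      Matrix.smul_mul, Matrix.one_mul, Matrix.smul_mul, hc, Matrix.mul_add, Matrix.mul_smul, h, Matrix.mul_smul,
      Matrix.mul_smul, hr, smul_add, smul_smul, smul_smul, smul_smul, smul_smul, add_assoc, ← add_smul]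
    congr 2
    ring

theorem coeff_eq [DecidableEq Ω] (hn : 2 ≤ Fintype.card Ω) {a b a' b' : ℤ}
    (h : a • (1 : Matrix Ω Ω ℤ) + b • J = a' • (1 : Matrix Ω Ω ℤ) + b' • J) : a = a' ∧ b = b' := by
  obtain ⟨x, y, hxy⟩ := Fintype.exists_pair_of_one_lt_card (α := Ω) (by omega)
  have e1 := congrFun (congrFun h x) x
  have e2 := congrFun (congrFun h x) y
  simp only [Matrix.add_apply, Matrix.smul_apply, smul_eq_mul, J, mul_one, Matrix.one_apply_eq,
    Matrix.one_apply_ne hxy, mul_zero, zero_add] at e1 e2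
  exact ⟨by linarith, e2⟩

/-- Odd order forces a square. -/
theorem exists_sq [DecidableEq Ω] (hO : IsBlockFor o β O) (h2 : IsMultiplyPretransitive G Ω 2)
    (hn : 2 ≤ Fintype.card Ω) (hβ : Odd (orderOf β)) {u v : ℤ}
    (hu : inc o β O * (inc o β O)ᵀ = u • (1 : Matrix Ω Ω ℤ) + v • J) : ∃ s : ℤ, 0 ≤ s ∧ s ^ 2 = u := by
  classical
  set P := inc o β O with hP
  have hcol : J * Pᵀ = (O.card : ℤ) • J := J_mul fun y => inc_row hO h2 y
  have hpow : ∀ i : ℕ, Inv (β ^ i) (P ^ i) := by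
    intro i
    induction i with
    | zero =>
      intro g x y
      simp only [pow_zero, MulAut.one_apply, Matrix.one_apply]
      exact if_congr (MulAction.injective g).eq_iff rfl rfl
    | succ i ih => rw [pow_succ P, pow_succ' β]; exact inv_mul ih (inc_inv hO h2)
  obtain ⟨c, d, hcd⟩ := inv_one h2 o (f := P ^ orderOf β) (by simpa [pow_orderOf_eq_one] using hpow (orderOf β))
  obtain ⟨w, hw, -⟩ := pow_design (mul_J (inc_row hO h2)) hcol hu (orderOf β)
  have hJt : (J : Matrix Ω Ω ℤ)ᵀ = J := rfl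
  have hJJ : (J : Matrix Ω Ω ℤ) * J = (Fintype.card Ω : ℤ) • J := mul_J fun x => by simp [J]
  rw [hcd, Matrix.transpose_add, Matrix.transpose_smul, Matrix.transpose_smul, Matrix.transpose_one, hJt,
    Matrix.add_mul, Matrix.mul_add, Matrix.mul_add, Matrix.smul_mul, Matrix.smul_mul, Matrix.smul_mul, Matrix.smul_mul,
    Matrix.one_mul, Matrix.one_mul, Matrix.mul_smul, Matrix.mul_smul, Matrix.mul_one, hJJ, smul_smul, smul_smul,
    smul_smul, smul_smul, smul_smul, add_assoc, ← add_smul, ← add_smul] at hw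
  obtain ⟨hc2, -⟩ := coeff_eq hn hw
  obtain ⟨j, hj⟩ := hβ
  rw [hj] at hc2
  rcases eq_or_ne u 0 with rfl | hu0
  · exact ⟨0, le_rfl, by ring⟩
  have hd : u ^ j ∣ c := by
    refine (Int.pow_dvd_pow_iff two_ne_zero).mp ⟨u, ?_⟩
    rw [sq c, hc2]; ring
  obtain ⟨e, rfl⟩ := hd
  refine ⟨|e|, abs_nonneg _, ?_⟩
  rw [sq_abs]
  exact mul_left_cancel₀ (pow_ne_zero (2 * j) hu0) (by linear_combination hc2)

theorem isBlockFor_orbit (β : MulAut G) (o ω : Ω) (S : Finset Ω)
    (hS : ∀ y, y ∈ S ↔ y ∈ orbit ↥((stabilizer G o).map β.toMonoidHom) ω) : IsBlockFor o β S := by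
  intro g hg y hy
  rw [hS] at hy ⊢
  obtain ⟨⟨l, hl⟩, rfl⟩ := hy
  refine ⟨⟨β g * l, Subgroup.mul_mem _ ⟨g, mem_stabilizer_iff.mpr hg, rfl⟩ hl⟩, ?_⟩
  exact mul_smul (β g) l ω

theorem natCard_orbit (β : MulAut G) (o ω : Ω) :
    ∃ S : Finset Ω, (∀ y, y ∈ S ↔ y ∈ orbit ↥((stabilizer G o).map β.toMonoidHom) ω) ∧
      S.card = Nat.card (orbit ↥((stabilizer G o).map β.toMonoidHom) ω) := by
  classical
  refine ⟨(orbit ↥((stabilizer G o).map β.toMonoidHom) ω).toFinset, fun y => Set.mem_toFinset, ?_⟩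
  rw [Set.toFinset_card, Nat.card_eq_fintype_card]

set_option maxHeartbeats 1000000 in
/-- The image of a point stabiliser under the square of an automorphism of odd order is a point stabiliser. -/
theorem exists_fix (h2 : IsMultiplyPretransitive G Ω 2) (o ω : Ω) (α : MulAut G) (hα : Odd (orderOf α))
    (hk : (Nat.card (orbit ↥((stabilizer G o).map α.toMonoidHom) ω)).Coprime (Fintype.card Ω)) :
    ∃ z : Ω, (stabilizer G o).map (α * α).toMonoidHom ≤ stabilizer G z := by
  classical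
  by_cases hn : Fintype.card Ω ≤ 1
  · haveI := Fintype.card_le_one_iff_subsingleton.mp hn
    exact ⟨o, fun g _ => Subsingleton.elim _ _⟩
  push Not at hn
  have hsq : Odd (orderOf (α * α)) := by rw [← pow_two]; exact Odd.of_dvd_nat hα (orderOf_pow_dvd 2)
  obtain ⟨S, hS, hSc⟩ := natCard_orbit α o ω
  obtain ⟨S₂, hS₂, -⟩ := natCard_orbit (α * α) o ω
  have hB := isBlockFor_orbit α o ω S hS
  have hB₂ := isBlockFor_orbit (α * α) o ω S₂ hS₂
  obtain ⟨u, v, hu, -, heq, -, -⟩ := design hB h2 hn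
  obtain ⟨s, -, hs⟩ := exists_sq hB h2 hn hα hu
  obtain ⟨u₂, v₂, hu₂, hu₂', heq₂, hle₁, hle₂⟩ := design hB₂ h2 hn
  obtain ⟨s₂, hs₂0, hs₂⟩ := exists_sq hB₂ h2 hn hsq hu₂
  set P := inc o α S with hP
  set M := inc o (α * α) S₂ with hM
  set k : ℤ := (S.card : ℤ) with hkdef
  set l : ℤ := (S₂.card : ℤ) with hldef
  set N : ℤ := (Fintype.card Ω : ℤ) with hN
  have hcopk : IsCoprime k N := by
    rw [Int.isCoprime_iff_gcd_eq_one, hkdef, hN, Int.gcd_natCast_natCast, hSc]
    exact hk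
  have hcopu : IsCoprime u N := by
    have h1 : IsCoprime (k * k) N := hcopk.mul_left hcopk
    have e : u = k * k + (u - k) * N := by linear_combination -heq
    rw [e]
    exact IsCoprime.add_mul_right_left h1 _
  have hN2 : (2 : ℤ) ≤ N := by rw [hN]; exact_mod_cast hn
  have hu0 : u ≠ 0 := fun h => by
    rw [h, isCoprime_zero_left] at hcopu
    rcases Int.isUnit_iff.mp hcopu with h' | h' <;> omega
  obtain ⟨w, hw, hTJ⟩ := pow_design (mul_J (inc_row hB h2)) (J_mul fun y => inc_row hB h2 y) hu 2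
  have hT : Inv (α * α) (P ^ 2) := by rw [pow_two]; exact inv_mul (inc_inv hB h2) (inc_inv hB h2)
  obtain ⟨A, B, hAB⟩ := inv_one h2 o (f := P ^ 2 * Mᵀ) (by
    simpa using inv_mul hT (inv_transpose (inc_inv hB₂ h2)))
  have hkey : u₂ • P ^ 2 = A • M + (B * l - v₂ * k ^ 2) • J := by
    have h1 : P ^ 2 * (Mᵀ * M) = (P ^ 2 * Mᵀ) * M := (Matrix.mul_assoc _ _ _).symm
    rw [hu₂', hAB, Matrix.mul_add, Matrix.mul_smul, Matrix.mul_one, Matrix.mul_smul, hTJ, Matrix.add_mul,
      Matrix.smul_mul, Matrix.one_mul, Matrix.smul_mul, J_mul (inc_col hB₂ h2), smul_smul, smul_smul] at h1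
    rw [sub_smul, ← hldef] at *
    rw [← add_sub_assoc, eq_sub_iff_add_eq]
    exact h1
  have hu₂0 : u₂ ≠ 0 := by
    intro h0
    rw [h0, zero_smul] at hkey
    -- the orbit is everything, so `P ^ 2` is constant
    have hl : l = N := by
      rw [h0, zero_mul] at heq₂
      have hl0 : 0 < l := by
        rw [hldef, Int.natCast_pos]
        exact Finset.card_pos.mpr ⟨ω, (hS₂ ω).mpr (mem_orbit_self ω)⟩
      rcases mul_eq_zero.mp heq₂.symm with h | h <;> omega
    have hall : ∀ y, y ∈ orbit ↥((stabilizer G o).map (α * α).toMonoidHom) ω := fun y => (hS₂ y).mp (by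
      have : S₂ = Finset.univ := Finset.eq_univ_of_card S₂ (by rw [hldef, hN] at hl; exact_mod_cast hl)
      rw [this]; exact Finset.mem_univ y)
    have hconst : ∀ x y, (P ^ 2) x y = (P ^ 2) o ω := by
      have ho : ∀ y, (P ^ 2) o y = (P ^ 2) o ω := by
        intro y
        obtain ⟨⟨l', g, hg, rfl⟩, rfl⟩ := hall y
        have := hT g o ω
        rw [mem_stabilizer_iff.mp hg] at this
        exact this
      intro x y
      obtain ⟨g, rfl⟩ := exists_smul_one h2 o x
      have := hT g o ((α * α) g⁻¹ • y)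
      rw [map_inv, smul_inv_smul] at this
      rw [this, ho]
    have hP2 : P ^ 2 = ((P ^ 2) o ω) • J := by
      ext x y; simp [J, hconst x y]
    rw [hP2, Matrix.transpose_smul, Matrix.smul_mul, Matrix.mul_smul, smul_smul, show (J : Matrix Ω Ω ℤ)ᵀ = J from rfl,
      mul_J (f := (J : Matrix Ω Ω ℤ)) (k := N) (fun x => by simp [J, hN]), smul_smul] at hw
    have := coeff_eq hn (a := 0) (b := (P ^ 2) o ω * (P ^ 2) o ω * N) (a' := u ^ 2) (b' := w) (by rw [zero_smul, zero_add]; exact hw)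
    exact hu0 (pow_eq_zero_iff two_ne_zero |>.mp this.1.symm)
  -- integral coefficients
  obtain ⟨z, hz⟩ : ∃ z, z ∉ S₂ := by
    by_contra hno
    push Not at hno
    have hl : l = N := by rw [hldef, hN, Finset.eq_univ_iff_forall.mpr hno, Finset.card_univ]
    rw [hl, sub_self, mul_zero] at heq₂
    rcases mul_eq_zero.mp heq₂ with h | h
    · exact hu₂0 h
    · omega
  set C : ℤ := B * l - v₂ * k ^ 2 with hC
  set c' : ℤ := (P ^ 2) o z with hc'
  set a' : ℤ := (P ^ 2) o ω - c' with ha'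
  have hMo : ∀ y, M o y = if y ∈ S₂ then 1 else 0 := fun y => by
    have := inc_apply hB₂ (1 : G) y
    rw [one_smul, map_one, _root_.inv_one, one_smul] at this
    exact this
  have e1 := congrFun (congrFun hkey o) z
  have e2 := congrFun (congrFun hkey o) ω
  simp only [Matrix.smul_apply, Matrix.add_apply, smul_eq_mul, J, mul_one, hMo, if_neg hz,
    if_pos ((hS₂ ω).mpr (mem_orbit_self ω))] at e1 e2
  rw [mul_zero, zero_add, ← hc'] at e1
  have eA : A = u₂ * a' := by rw [ha']; linear_combination e1 - e2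
  have hT2 : P ^ 2 = a' • M + c' • J := by
    refine Matrix.ext fun x y => mul_left_cancel₀ hu₂0 ?_
    have e3 := congrFun (congrFun hkey x) y
    simp only [Matrix.smul_apply, Matrix.add_apply, smul_eq_mul, J, mul_one] at e3 ⊢
    rw [eA] at e3
    linear_combination e3 - e1
  -- the two equations
  have hrow : k ^ 2 = a' * l + c' * N := by
    have e := congrFun (congrFun hTJ o) o
    simp only [Matrix.mul_apply, J, mul_one, Matrix.smul_apply, smul_eq_mul] at e
    rw [hT2] at e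
    simp only [Matrix.add_apply, Matrix.smul_apply, smul_eq_mul, J, mul_one, Finset.sum_add_distrib, ← Finset.mul_sum,
      hM, inc_row hB₂ h2, Finset.sum_const, Finset.card_univ, nsmul_eq_mul] at e
    rw [hkdef, ← e, hldef, hN]; ring
  have hsqeq : a' ^ 2 * u₂ = u ^ 2 := by
    have hJt : (J : Matrix Ω Ω ℤ)ᵀ = J := rfl
    rw [hT2, Matrix.transpose_add, Matrix.transpose_smul, Matrix.transpose_smul, hJt, Matrix.add_mul, Matrix.mul_add,
      Matrix.mul_add, Matrix.smul_mul, Matrix.smul_mul, Matrix.smul_mul, Matrix.smul_mul, Matrix.mul_smul,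
      Matrix.mul_smul, Matrix.mul_smul, Matrix.mul_smul, hu₂, mul_J (inc_row hB₂ h2), J_mul (f := Mᵀ) (fun y => inc_row hB₂ h2 y),
      mul_J (f := (J : Matrix Ω Ω ℤ)) (k := N) (fun x => by simp [J, hN])] at hw
    simp only [smul_add, smul_smul, add_assoc, ← add_smul] at hw
    obtain ⟨h1, -⟩ := coeff_eq hn hw
    linear_combination h1
  have hsign : a' * s₂ = u ∨ a' * s₂ = -u := sq_eq_sq_iff_eq_or_eq_neg.mp (by rw [mul_pow, hs₂, hsqeq])
  have hmod : N ∣ k * k - u := ⟨k - u, by linear_combination heq⟩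
  obtain ⟨t, ht⟩ := hmod
  have hl1 : l = 1 ∨ l = N - 1 := by
    have hcan : ∀ x, N ∣ u * x → N ∣ x := fun x hx => hcopu.symm.dvd_of_dvd_mul_left hx
    have hl0 : 0 < l := by
      rw [hldef, Int.natCast_pos]
      exact Finset.card_pos.mpr ⟨ω, (hS₂ ω).mpr (mem_orbit_self ω)⟩
    have hlN : l < N := by
      rw [hldef, hN, Nat.cast_lt]
      exact Finset.card_lt_card (Finset.ssubset_iff_subset_ne.mpr ⟨Finset.subset_univ _, fun h => hz (h ▸ Finset.mem_univ z)⟩)
    have hs1 : s₂ ≤ l := by nlinarith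
    have hs1' : s₂ ≤ N - l := by nlinarith
    have hs₂1 : 1 ≤ s₂ := by
      rcases eq_or_lt_of_le hs₂0 with h | h
      · exact absurd (by rw [← hs₂, ← h]; ring) hu₂0
      · omega
    rcases hsign with hp | hn'
    · obtain ⟨d, hd⟩ := hcan (s₂ - l) ⟨c' * s₂ - t * s₂, by linear_combination s₂ * hrow - s₂ * ht + l * hp⟩
      have hd0 : d = 0 := by
        rcases lt_trichotomy d 0 with h | h | h
        · nlinarith
        · exact h
        · nlinarith
      subst hd0
      left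
      nlinarith
    · obtain ⟨d, hd⟩ := hcan (s₂ + l) ⟨c' * s₂ - t * s₂, by linear_combination s₂ * hrow - s₂ * ht + l * hn'⟩
      have hd1 : d = 1 := by
        rcases lt_trichotomy d 1 with h | h | h
        · nlinarith
        · exact h
        · nlinarith
      subst hd1
      right
      nlinarith
  rcases hl1 with h | h
  · refine ⟨ω, fun g hg => mem_stabilizer_iff.mpr ?_⟩
    have h1 : S₂.card = 1 := by rw [hldef] at h; exact_mod_cast h
    obtain ⟨a, ha⟩ := Finset.card_eq_one.mp h1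
    have hω : ω = a := Finset.mem_singleton.mp (ha ▸ (hS₂ ω).mpr (mem_orbit_self ω))
    have hgω : g • ω = a := Finset.mem_singleton.mp (ha ▸ (hS₂ (g • ω)).mpr ⟨⟨g, hg⟩, rfl⟩)
    rw [hgω, hω]
  · refine ⟨z, fun g hg => mem_stabilizer_iff.mpr ?_⟩
    have h1 : S₂ᶜ.card = 1 := by
      rw [Finset.card_compl]
      rw [hldef, hN] at h
      omega
    obtain ⟨a, ha⟩ := Finset.card_eq_one.mp h1
    have hzS : z ∈ S₂ᶜ := Finset.mem_compl.mpr hz
    have hgz : g • z ∈ S₂ᶜ := by
      rw [Finset.mem_compl]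
      intro hmem
      refine hz ((hS₂ z).mpr ?_)
      have := (hS₂ _).mp hmem
      obtain ⟨l', hl'⟩ := this
      refine ⟨⟨g, hg⟩⁻¹ * l', ?_⟩
      show (⟨g, hg⟩⁻¹ * l' : ↥((stabilizer G o).map (α * α).toMonoidHom)) • ω = z
      rw [mul_smul, inv_smul_eq_iff]
      exact hl'
    rw [ha, Finset.mem_singleton] at hzS hgz
    rw [hgz, hzS]

theorem natCard_stabilizer (h2 : IsMultiplyPretransitive G Ω 2) (x y : Ω) :
    Nat.card (stabilizer G x) = Nat.card (stabilizer G y) := by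
  obtain ⟨g, rfl⟩ := exists_smul_one h2 x y
  rw [stabilizer_smul_eq_stabilizer_map_conj, Subgroup.card_map_of_injective (MulEquiv.injective _)]

theorem conclusion (h2 : IsMultiplyPretransitive G Ω 2) (o : Ω) (α : MulAut G) (hα : Odd (orderOf α)) (ω : Ω)
    (hk : (Nat.card (orbit ↥((stabilizer G o).map α.toMonoidHom) ω)).Coprime (Fintype.card Ω)) :
    (∃ σ : Equiv.Perm Ω, σ ∈ Subgroup.normalizer (G : Set (Equiv.Perm Ω)) ∧
        ∀ g : G, ((α g : G) : Equiv.Perm Ω) = σ * (g : Equiv.Perm Ω) * σ⁻¹) ∧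
      (Nat.card (orbit ↥((stabilizer G o).map α.toMonoidHom) ω) = 1 ∨
        Nat.card (orbit ↥((stabilizer G o).map α.toMonoidHom) ω) = Fintype.card Ω - 1) := by
  classical
  obtain ⟨z, hz⟩ := exists_fix h2 o ω α hα hk
  have hz' : (stabilizer G o).map (α * α).toMonoidHom = stabilizer G z := by
    refine Subgroup.eq_of_le_of_card_ge hz ?_
    rw [Subgroup.card_map_of_injective (MulEquiv.injective _), natCard_stabilizer h2 o z]
  have hpow : ∀ j : ℕ, ∃ w : Ω, (stabilizer G o).map ((α * α) ^ j).toMonoidHom = stabilizer G w := by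
    intro j
    induction j with
    | zero => exact ⟨o, Subgroup.map_id _⟩
    | succ j ih =>
      obtain ⟨w, hw⟩ := ih
      obtain ⟨g, rfl⟩ := exists_smul_one h2 o w
      refine ⟨(α * α) g • z, ?_⟩
      rw [stabilizer_smul_eq_stabilizer_map_conj, ← hz', pow_succ']
      rw [stabilizer_smul_eq_stabilizer_map_conj] at hw
      rw [show ((α * α) * (α * α) ^ j).toMonoidHom = (α * α).toMonoidHom.comp ((α * α) ^ j).toMonoidHom from rfl,
        ← Subgroup.map_map, hw, Subgroup.map_map, Subgroup.map_map]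
      congr 1
      ext x
      simp
  obtain ⟨i, hi⟩ := hα
  obtain ⟨w, hw⟩ := hpow (i + 1)
  rw [show (α * α) ^ (i + 1) = α by
    rw [← pow_two, ← pow_mul, show 2 * (i + 1) = (2 * i + 1) + 1 by ring, pow_succ, ← hi, pow_orderOf_eq_one, one_mul]] at hw
  choose γ hγ using fun x => exists_smul_one h2 o x
  have hwd : ∀ g h : G, g • o = h • o → α g • w = α h • w := by
    intro g h hgh
    have h1 : h⁻¹ * g ∈ stabilizer G o := mem_stabilizer_iff.mpr (by rw [mul_smul, hgh, inv_smul_smul])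
    have h2' : α (h⁻¹ * g) ∈ stabilizer G w := hw ▸ Subgroup.mem_map_of_mem _ h1
    have h3 : α (h⁻¹ * g) • w = w := mem_stabilizer_iff.mp h2'
    rw [map_mul, map_inv, mul_smul] at h3
    exact inv_smul_eq_iff.mp h3
  let f : Ω → Ω := fun x => α (γ x) • w
  have hf : ∀ (g : G) x, f (g • x) = α g • f x := fun g x => by
    show α (γ (g • x)) • w = α g • α (γ x) • w
    rw [← mul_smul, ← map_mul]
    exact hwd _ _ (by rw [hγ, mul_smul, hγ])
  have hbij : Function.Bijective f := Finite.injective_iff_bijective.mp (Finite.injective_iff_surjective.mpr fun y => by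
    obtain ⟨g, rfl⟩ := exists_smul_one h2 (f o) y
    exact ⟨α.symm g • o, by rw [hf, MulEquiv.apply_symm_apply]⟩)
  let σ : Equiv.Perm Ω := Equiv.ofBijective f hbij
  have hσ : ∀ g : G, ((α g : G) : Equiv.Perm Ω) = σ * (g : Equiv.Perm Ω) * σ⁻¹ := fun g => by
    rw [eq_mul_inv_iff_mul_eq]
    exact Equiv.ext fun x => (hf g x).symm
  refine ⟨⟨σ, Subgroup.mem_normalizer_iff.mpr fun g => ⟨fun hg => ?_, fun hg => ?_⟩, hσ⟩, ?_⟩
  · have := (α ⟨g, hg⟩).2
    rwa [hσ] at this
  · have h1 := hσ (α.symm ⟨_, hg⟩)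
    rw [MulEquiv.apply_symm_apply] at h1
    have h2' : g = ((α.symm ⟨_, hg⟩ : G) : Equiv.Perm Ω) := mul_left_cancel (mul_right_cancel h1)
    rw [h2']
    exact SetLike.coe_mem _
  · rw [hw]
    by_cases hωw : ω = w
    · left
      subst hωw
      have : orbit ↥(stabilizer G ω) ω = {ω} := by
        refine Set.eq_singleton_iff_unique_mem.mpr ⟨mem_orbit_self ω, ?_⟩
        rintro y ⟨g, rfl⟩
        exact mem_stabilizer_iff.mp g.2
      rw [this]; simp
    · right
      have : orbit ↥(stabilizer G w) ω = {w}ᶜ := by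
        ext y
        refine ⟨?_, fun hy => ?_⟩
        · rintro ⟨g, rfl⟩ hgy
          refine hωw (MulAction.injective (g : G) ?_)
          exact (Set.mem_singleton_iff.mp hgy).trans (mem_stabilizer_iff.mp g.2).symm
        · obtain ⟨g, hg1, hg2⟩ := exists_smul h2 (Ne.symm hωw) (Ne.symm (show y ≠ w from hy))
          exact ⟨⟨g, mem_stabilizer_iff.mpr hg1⟩, hg2⟩
      rw [this, Nat.card_coe_set_eq, Set.ncard_compl, Nat.card_eq_fintype_card, Set.ncard_singleton]

end Cfsg.Lib.Perm.TwoTransAut
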