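import Mathlib
import Cfsg.Agent.S0713
import Cfsg.Agent.Lib.Fusion.Primes
import Cfsg.Agent.Lib.Perm.PrimeDegree
import Cfsg.Agent.Lib.Recog.Bochert
import Cfsg.Agent.Lib.Recog.DegreeTwoModFour

/-!
# Subgroups of alternating groups containing cycles of every large prime length

A proper transitive subgroup of `A_m` can contain elements of each prime order in `(m/2, m]` only for `m = 6`.
-/

set_option autoImplicit false
set_option linter.style.haveILetI false

namespace Cfsg.Lib.WindowCycle

open Equiv Equiv.Perm MulAction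
open scoped Pointwise

variable {m : ℕ}

/-- An element of prime order `p > m/2` is a `p`-cycle. -/
theorem cycle_of_order {p : ℕ} (hp : p.Prime) (hmp : m < 2 * p) {c : Perm (Fin m)} (hc : orderOf c = p) :
    c.IsCycle ∧ c.support.card = p := by
  have hct := cycleType_prime_order (σ := c) (hc.symm ▸ hp)
  obtain ⟨j, hj⟩ := hct
  rw [hc] at hj
  have hle := sum_cycleType_le c
  rw [hj, Multiset.sum_replicate, Fintype.card_fin, smul_eq_mul] at hle
  have hj0 : j = 0 := by nlinarith
  subst hj0
  have h1 : c.cycleType = {p} := by rw [hj]; rfl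
  exact ⟨card_cycleType_eq_one.1 (by rw [h1]; rfl), by rw [← sum_cycleType, h1]; simp⟩

/-- A set invariant under a cycle contains its support or misses it. -/
theorem support_subset_of_invariant {c : Perm (Fin m)} (hc : c.IsCycle) {B : Set (Fin m)}
    (hB : c • B = B) {x : Fin m} (hx : x ∈ B) (hxs : x ∈ c.support) : ∀ y ∈ c.support, y ∈ B := by
  intro y hy
  obtain ⟨i, rfl⟩ := hc.exists_pow_eq (mem_support.1 hxs) (mem_support.1 hy)
  have h : ∀ j : ℕ, (c ^ j) x ∈ B := by
    intro j
    induction j with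
    | zero => simpa using hx
    | succ j ih =>
      rw [pow_succ', Perm.mul_apply]
      have := Set.smul_mem_smul_set (a := c) ih
      rwa [hB] at this
  exact h i

/-- A transitive group containing a cycle of prime length `p > m/2` is primitive. -/
theorem preprimitive_of_transitive (K : Subgroup (Perm (Fin m))) (htr : IsPretransitive K (Fin m)) {p : ℕ}
    (hp : p.Prime) (hmp : m < 2 * p) {c : Perm (Fin m)} (hc : c ∈ K) (hcc : c.IsCycle)
    (hcs : c.support.card = p) : IsPreprimitive K (Fin m) := by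
  classical
  refine { toIsPretransitive := htr, isTrivialBlock_of_isBlock := fun {B} hB => ?_ }
  by_cases hsub : B.Subsingleton
  · exact Or.inl hsub
  obtain ⟨b, hb, b', hb', hne⟩ := Set.not_subsingleton_iff.1 hsub
  obtain ⟨x, hx⟩ : c.support.Nonempty := Finset.card_pos.1 (hcs ▸ hp.pos)
  obtain ⟨g, hg⟩ := htr.exists_smul_eq b x
  set B' := g • B with hB'def
  have hB' : IsBlock K B' := hB.translate g
  have hxB : x ∈ B' := hg ▸ Set.smul_mem_smul_set hb
  obtain ⟨y, hy, hyx⟩ : ∃ y ∈ B', y ≠ x :=
    ⟨g • b', Set.smul_mem_smul_set hb', fun h => hne (MulAction.injective g (h.trans hg.symm)).symm⟩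
  have key : ∀ d : Perm (Fin m), ∀ hd : d ∈ K, ∀ u ∈ B', d u ∈ B' → d • B' = B' := by
    intro d hd u hu hdu
    by_contra hn
    have h1 := hB' (g₁ := (⟨d, hd⟩ : K)) (g₂ := 1) (by rw [one_smul]; exact hn)
    rw [one_smul] at h1
    exact Set.disjoint_left.1 h1 (Set.smul_mem_smul_set (a := (⟨d, hd⟩ : K)) hu) hdu
  have hcB : c • B' = B' := by
    by_cases hys : y ∈ c.support
    · obtain ⟨i, hi⟩ := hcc.exists_pow_eq (mem_support.1 hx) (mem_support.1 hys)
      have h1 : (c ^ i) • B' = B' := key _ (K.pow_mem hc i) x hxB (hi ▸ hy)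
      have hne1 : c ^ i ≠ 1 := fun h => hyx (by rw [← hi, h]; rfl)
      have hord : orderOf c = p := hcc.orderOf.trans hcs
      have hcop : i.Coprime p := by
        rw [Nat.coprime_comm, hp.coprime_iff_not_dvd]
        intro hdi
        exact hne1 (orderOf_dvd_iff_pow_eq_one.1 (hord.symm ▸ hdi))
      obtain ⟨a, ha⟩ := exists_pow_eq_self_of_coprime (hord.symm ▸ hcop)
      have h2 : ∀ j : ℕ, ((c ^ i) ^ j) • B' = B' := by
        intro j
        induction j with
        | zero => simp
        | succ j ih => rw [pow_succ', mul_smul, ih, h1]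
      exact ha ▸ h2 a
    · exact key c hc y hy (by rw [notMem_support.1 hys]; exact hy)
  have hsup : ∀ z ∈ c.support, z ∈ B' := support_subset_of_invariant hcc hcB hxB hx
  have h3 : p ≤ B'.ncard := by
    rw [← hcs, ← Set.ncard_coe_finset]
    exact Set.ncard_le_ncard hsup (Set.toFinite _)
  have h4 : B' = Set.univ := hB'.eq_univ_of_card_lt (by rw [Nat.card_eq_fintype_card, Fintype.card_fin]; omega)
  refine Or.inr ?_
  have h5 := congrArg (fun s : Set (Fin m) => g⁻¹ • s) h4
  simpa [hB'def] using h5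

theorem zmod_seven_fifth : ∀ a : ZMod 7, a ^ 5 = 1 → a = 1 := by decide

theorem seven_false (K : Subgroup (Perm (Fin 7))) (hp : IsPreprimitive K (Fin 7))
    (hK : K ≤ alternatingGroup (Fin 7)) (hne : ¬ alternatingGroup (Fin 7) ≤ K)
    (h5 : 5 ∣ Nat.card K) (h7 : 7 ∣ Nat.card K) : False := by
  classical
  haveI : Fact (Nat.Prime 7) := ⟨by norm_num⟩
  have hnoaff : ∀ L : Subgroup (Perm (Fin 7)), 5 ∣ Nat.card L → IsPretransitive L (Fin 7) →
      42 ∣ Nat.card L := by
    intro L h5L htr
    rcases Cfsg.Agent.PrimeDegree.two_transitive_or_affine (α := Fin 7) (p := 7) (by simp) L with h | ⟨e, he⟩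
    · have hn : ({0, 1} : Set (Fin 7)).ncard = 2 := Set.ncard_pair (by decide)
      have h2 := MulAction.IsMultiplyPretransitive.index_of_fixingSubgroup_eq (G := L) (α := Fin 7)
        ({0, 1} : Set (Fin 7)) (hn.symm ▸ h)
      rw [hn, Nat.card_eq_fintype_card, Fintype.card_fin] at h2
      have := Subgroup.index_dvd_card (fixingSubgroup L ({0, 1} : Set (Fin 7)))
      rw [h2] at this
      exact this
    · exfalso
      haveI : Fact (Nat.Prime 5) := ⟨by norm_num⟩
      obtain ⟨g, hg⟩ := exists_prime_orderOf_dvd_card' 5 h5L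
      let f : L →* ZMod 7 :=
        { toFun := fun g => e.symm ((g : Perm (Fin 7)) (e 1)) - e.symm ((g : Perm (Fin 7)) (e 0))
          map_one' := by simp
          map_mul' := fun a b => by
            have h1 := he a a.2 (e.symm ((b : Perm (Fin 7)) (e 1)))
            have h0 := he a a.2 (e.symm ((b : Perm (Fin 7)) (e 0)))
            rw [e.apply_symm_apply] at h1 h0
            simp only [Subgroup.coe_mul, Perm.mul_apply]
            rw [h1, h0]; ring }
      have hfg : f g ^ 5 = 1 := by rw [← map_pow, ← hg, pow_orderOf_eq_one, map_one]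
      have hf1 : f g = 1 := by
        exact zmod_seven_fifth _ hfg
      have htr' : ∀ j, (g : Perm (Fin 7)) (e j) = e (j + e.symm ((g : Perm (Fin 7)) (e 0))) := fun j => by
        apply e.symm.injective
        rw [he g g.2 j, e.symm_apply_apply]
        rw [show e.symm ((g : Perm (Fin 7)) (e 1)) - e.symm ((g : Perm (Fin 7)) (e 0)) = 1 from hf1, one_mul]
      set b := e.symm ((g : Perm (Fin 7)) (e 0))
      have hk : ∀ (i : ℕ) j, ((g : Perm (Fin 7)) ^ i) (e j) = e (j + i * b) := by
        intro i
        induction i with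
        | zero => simp
        | succ i ih => intro j; rw [pow_succ, Perm.mul_apply, htr', ih]; push_cast; ring_nf
      have h7' : g ^ 7 = 1 := by
        refine Subtype.ext (Equiv.ext fun x => ?_)
        obtain ⟨j, rfl⟩ := e.surjective x
        rw [Subgroup.coe_pow, hk, show ((7 : ℕ) : ZMod 7) = 0 from rfl, zero_mul, add_zero]
        rfl
      have := orderOf_dvd_of_pow_eq_one h7'
      rw [hg] at this
      norm_num at this
  have h42 := hnoaff K h5 hp.toIsPretransitive
  have hb := Cfsg.Lib.Recog.bochert K hp hne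
  simp only [Fintype.card_fin] at hb
  rw [show (7 + 1) / 2 = 4 from rfl, show Nat.factorial 7 = 5040 from rfl, show Nat.factorial 4 = 24 from rfl] at hb
  have hpos : 0 < Nat.card K := Nat.card_pos
  have h210 : Nat.card K = 2 * 105 := by omega
  obtain ⟨ε, hε, q, hq⟩ := Cfsg.Lib.Recog.DegreeTwoModFour.exists_sign_hom (Q := K) (m := 105) (by decide) h210
  set L := ε.ker.map K.subtype with hL
  have hLc : Nat.card L = 105 := by
    rw [hL, Subgroup.card_map_of_injective K.subtype_injective]
    have h1 := ε.ker.card_mul_index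
    rw [Subgroup.index_ker, h210] at h1
    have h2 : Nat.card ε.range = 2 := by
      have hle : Nat.card ε.range ≤ 2 := (Subgroup.card_le_card_group _).trans (by simp)
      haveI : Nontrivial ε.range := ⟨⟨⟨ε q, q, rfl⟩, 1, fun h => hq (congrArg Subtype.val h)⟩⟩
      have := Finite.one_lt_card (α := ε.range)
      omega
    rw [h2] at h1
    omega
  have h7' : 7 ∣ Nat.card L := by rw [hLc]; norm_num
  obtain ⟨c, hc⟩ := exists_prime_orderOf_dvd_card' 7 h7'
  obtain ⟨hcc, hcs⟩ := cycle_of_order (m := 7) (by norm_num : (7:ℕ).Prime) (by norm_num)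
    (c := (c : Perm (Fin 7))) (by rw [Subgroup.orderOf_coe]; exact hc)
  have htrL : IsPretransitive L (Fin 7) := by
    refine ⟨fun x y => ?_⟩
    have hfull : ∀ z : Fin 7, (c : Perm (Fin 7)) z ≠ z := by
      intro z
      have : (c : Perm (Fin 7)).support = Finset.univ := Finset.eq_univ_of_card _ (by rw [hcs]; rfl)
      exact mem_support.1 (this ▸ Finset.mem_univ z)
    obtain ⟨i, hi⟩ := hcc.exists_pow_eq (hfull x) (hfull y)
    exact ⟨c ^ i, by rw [← hi]; rfl⟩
  have := hnoaff L (by rw [hLc]; norm_num) htrL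
  rw [hLc] at this
  norm_num at this

/-- A transitive subgroup of `A_m`, `m ≠ 6`, with elements of all prime orders in `(m/2, m]` is `A_m`. -/
theorem alt_le_of_transitive (hm : 5 ≤ m) (h6 : m ≠ 6) (K : Subgroup (Perm (Fin m)))
    (hK : K ≤ alternatingGroup (Fin m)) (htr : IsPretransitive K (Fin m))
    (hwin : ∀ p, p.Prime → m < 2 * p → p ≤ m → p ∣ Nat.card K) : alternatingGroup (Fin m) ≤ K := by
  classical
  have hcyc : ∀ p, p.Prime → m < 2 * p → p ≤ m → ∃ c ∈ K, c.IsCycle ∧ c.support.card = p := by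
    intro p hp h1 h2
    haveI := Fact.mk hp
    obtain ⟨c, hc⟩ := exists_prime_orderOf_dvd_card' p (hwin p hp h1 h2)
    exact ⟨c, c.2, cycle_of_order hp h1 (by rw [Subgroup.orderOf_coe]; exact hc)⟩
  by_cases h5 : m = 5
  · subst h5
    obtain ⟨c, hc, hcc, hcs⟩ := hcyc 3 (by norm_num) (by norm_num) (by norm_num)
    have hp := preprimitive_of_transitive K htr (by norm_num : (3:ℕ).Prime) (by norm_num) hc hcc hcs
    exact alternatingGroup_le_of_isPreprimitive_of_isThreeCycle_mem hp (card_support_eq_three_iff.1 hcs) hc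
  by_cases h7 : m = 7
  · subst h7
    obtain ⟨c, hc, hcc, hcs⟩ := hcyc 7 (by norm_num) (by norm_num) (by norm_num)
    have hp := preprimitive_of_transitive K htr (by norm_num : (7:ℕ).Prime) (by norm_num) hc hcc hcs
    by_contra hne
    exact seven_false K hp hK hne (hwin 5 (by norm_num) (by norm_num) (by norm_num))
      (hwin 7 (by norm_num) (by norm_num) (by norm_num))
  obtain ⟨p, hp, hp1, hp2⟩ : ∃ p : ℕ, p.Prime ∧ m < 2 * p ∧ p + 3 ≤ m := by
    by_cases h11 : 11 ≤ m ∧ m ≠ 14 ∧ m ≠ 15 ∧ m ≠ 16
    · obtain ⟨p, q, hp, -, h1, h2, h3⟩ := Cfsg.Lib.Fusion.exists_two_primes h11.1 h11.2.1 h11.2.2.1 h11.2.2.2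
      exact ⟨p, hp, h1, by omega⟩
    · rcases (show m = 8 ∨ m = 9 ∨ m = 10 ∨ m = 14 ∨ m = 15 ∨ m = 16 by omega) with h | h | h | h | h | h <;> subst h
      · exact ⟨5, by norm_num, by norm_num, by norm_num⟩
      · exact ⟨5, by norm_num, by norm_num, by norm_num⟩
      · exact ⟨7, by norm_num, by norm_num, by norm_num⟩
      · exact ⟨11, by norm_num, by norm_num, by norm_num⟩
      · exact ⟨11, by norm_num, by norm_num, by norm_num⟩
      · exact ⟨11, by norm_num, by norm_num, by norm_num⟩
  obtain ⟨c, hc, hcc, hcs⟩ := hcyc p hp hp1 (by omega)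
  exact Cfsg.Agent.S0713.result K (preprimitive_of_transitive K htr hp hp1 hc hcc hcs) hp
    (by rw [Fintype.card_fin]; omega) (by rw [Fintype.card_fin]; exact hp2) hcc hcs hc

end Cfsg.Lib.WindowCycle
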