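import Cfsg.Agent.S0713
import Mathlib.GroupTheory.GroupAction.Jordan
import Mathlib.GroupTheory.SpecificGroups.Alternating
import Mathlib.GroupTheory.Sylow
import Mathlib.Data.Fintype.CardEmbedding

/-!
# Alternating criterion from a Sylow subgroup with few orbits of prime length

If `Γ` is five times transitive of degree `k + m r` with `(k, m) = (3, 2)` or `(4, 3)` and `r > 4` prime,
Witt's lemma and a commutator give a nontrivial element moving at most four points.
-/

set_option autoImplicit false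
set_option linter.style.haveILetI false
set_option linter.unusedSectionVars false

open Equiv Equiv.Perm

namespace Cfsg.Lib.Perm.WittAlt

variable {α : Type*} [Fintype α] [DecidableEq α]

theorem inv_app {β : Type*} (f : Perm β) (x : β) : f⁻¹ (f x) = x := f.symm_apply_apply x

theorem app_inv {β : Type*} (f : Perm β) (x : β) : f (f⁻¹ x) = x := f.apply_symm_apply x

/-- An element moving at most four points in a five times transitive group. -/
theorem alternating_le_of_small (Γ : Subgroup (Perm α)) (hprim : MulAction.IsPreprimitive Γ α)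
    (h5 : ∀ x y : Fin 5 ↪ α, ∃ g ∈ Γ, ∀ i, g (x i) = y i) (hn : 5 ≤ Fintype.card α)
    {x : Perm α} (hx : x ∈ Γ) (hx1 : x ≠ 1) (hs : x.support.card ≤ 4) : alternatingGroup α ≤ Γ := by
  classical
  -- an element of prime order
  obtain ⟨s, hs', hsd⟩ := Nat.exists_prime_and_dvd (n := orderOf x) (fun h => hx1 (orderOf_eq_one_iff.1 h))
  set y := x ^ (orderOf x / s) with hy
  have hyord : orderOf y = s := orderOf_pow_orderOf_div (orderOf_pos x).ne' hsd
  have hyΓ : y ∈ Γ := Γ.pow_mem hx _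
  have hy1 : y ≠ 1 := fun h => hs'.one_lt.ne' (by rw [← hyord, h, orderOf_one])
  have hys : y.support.card ≤ 4 := (Finset.card_le_card (Equiv.Perm.support_pow_le x _)).trans hs
  obtain ⟨n, hn'⟩ := cycleType_prime_order (σ := y) (hyord.symm ▸ hs')
  have hcard : y.support.card = (n + 1) * s := by
    rw [← y.sum_cycleType, hn', Multiset.sum_replicate, hyord, smul_eq_mul]
  have h2 := two_le_card_support_of_ne_one hy1
  rcases (show y.support.card = 2 ∨ y.support.card = 3 ∨ y.support.card = 4 by omega) with h | h | h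
  · exact (Equiv.Perm.subgroup_eq_top_of_isPreprimitive_of_isSwap_mem hprim y (card_support_eq_two.1 h) hyΓ) ▸ le_top
  · exact alternatingGroup_le_of_isPreprimitive_of_isThreeCycle_mem hprim (card_support_eq_three_iff.1 h) hyΓ
  -- a product of two transpositions
  have hsq : ∀ u, y (y u) = u := by
    have h2s : s = 2 := (Nat.prime_dvd_prime_iff_eq hs' Nat.prime_two).1
      (hs'.dvd_of_dvd_pow (n := 2) ⟨n + 1, by rw [show (2 : ℕ) ^ 2 = 4 by norm_num, ← h, hcard, mul_comm]⟩)
    intro u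
    have h' := Equiv.congr_fun (pow_orderOf_eq_one y) u
    rwa [hyord, h2s, pow_two, Equiv.Perm.mul_apply] at h'
  obtain ⟨a, ha⟩ : y.support.Nonempty := Finset.card_pos.1 (by omega)
  have hab : y a ≠ a := mem_support.1 ha
  obtain ⟨c, hc⟩ : (y.support \ {a, y a}).Nonempty := Finset.card_pos.1 (by
    have := Finset.le_card_sdiff {a, y a} y.support
    have := Finset.card_le_two (a := a) (b := y a)
    omega)
  simp only [Finset.mem_sdiff, mem_support, Finset.mem_insert, Finset.mem_singleton, not_or] at hc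
  obtain ⟨hcd, hca, hcb⟩ := hc
  have hda : y c ≠ a := fun h' => hcb (by rw [← h', hsq])
  have hdb : y c ≠ y a := fun h' => hca (y.injective h')
  set b := y a with hb
  set d := y c with hd
  have hsupp : ({a, b, c, d} : Finset α) = y.support := by
    refine Finset.eq_of_subset_of_card_le ?_ ?_
    · intro u hu
      simp only [Finset.mem_insert, Finset.mem_singleton] at hu
      rw [mem_support]
      rcases hu with rfl | rfl | rfl | rfl
      · exact hab
      · rw [hb, hsq]; exact hab.symm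
      · exact hcd
      · rw [hd, hsq]; exact hcd.symm
    · rw [h, Finset.card_insert_of_notMem (by simp [hab.symm, Ne.symm hca, hda.symm]),
        Finset.card_eq_three.2 ⟨b, c, d, Ne.symm hcb, hdb.symm, hcd.symm, rfl⟩]
  have hyeq : y = swap a b * swap c d := by
    refine Equiv.ext fun u => ?_
    rw [Perm.mul_apply]
    by_cases hu : u ∈ y.support
    · rw [← hsupp] at hu
      simp only [Finset.mem_insert, Finset.mem_singleton] at hu
      rcases hu with rfl | rfl | rfl | rfl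
      · rw [swap_apply_of_ne_of_ne (Ne.symm hca) hda.symm, swap_apply_left]
      · rw [swap_apply_of_ne_of_ne (Ne.symm hcb) hdb.symm, swap_apply_right, hb, hsq]
      · rw [swap_apply_left, swap_apply_of_ne_of_ne hda hdb]
      · rw [swap_apply_right, swap_apply_of_ne_of_ne hca hcb, hd, hsq]
    · have hyu : y u = u := by simpa using hu
      rw [← hsupp] at hu
      simp only [Finset.mem_insert, Finset.mem_singleton, not_or] at hu
      rw [hyu, swap_apply_of_ne_of_ne hu.2.2.1 hu.2.2.2, swap_apply_of_ne_of_ne hu.1 hu.2.1]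
  obtain ⟨e, he⟩ : ∃ e, e ∉ y.support := by
    by_contra hall; push Not at hall
    have := Finset.card_le_card (fun u _ => hall u : (Finset.univ : Finset α) ⊆ y.support)
    rw [Finset.card_univ] at this; omega
  rw [← hsupp] at he
  simp only [Finset.mem_insert, Finset.mem_singleton, not_or] at he
  obtain ⟨hea, heb, hec, hed⟩ := he
  have i1 : Function.Injective ![a, b, c, d, e] := by
    intro i j hij
    fin_cases i <;> fin_cases j <;> revert hij <;>
      simp [hab, hab.symm, hca, Ne.symm hca, hcb, Ne.symm hcb, hda, hda.symm, hdb, hdb.symm, hcd, hcd.symm,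
        hea, Ne.symm hea, heb, Ne.symm heb, hec, Ne.symm hec, hed, Ne.symm hed]
  have i2 : Function.Injective ![a, b, c, e, d] := by
    intro i j hij
    fin_cases i <;> fin_cases j <;> revert hij <;>
      simp [hab, hab.symm, hca, Ne.symm hca, hcb, Ne.symm hcb, hda, hda.symm, hdb, hdb.symm, hcd, hcd.symm,
        hea, Ne.symm hea, heb, Ne.symm heb, hec, Ne.symm hec, hed, Ne.symm hed]
  obtain ⟨g, hg, hgi⟩ := h5 ⟨_, i1⟩ ⟨_, i2⟩
  have ga : g a = a := hgi 0
  have gb : g b = b := hgi 1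
  have gc : g c = c := hgi 2
  have gd : g d = e := hgi 3
  have hprod : y * (g * y * g⁻¹) = swap c d * swap c e := by
    have hconj : g * y * g⁻¹ = swap a b * swap c e := by
      rw [hyeq]
      calc g * (swap a b * swap c d) * g⁻¹ = (g * swap a b * g⁻¹) * (g * swap c d * g⁻¹) := by group
        _ = _ := by rw [← Equiv.swap_apply_apply, ← Equiv.swap_apply_apply, ga, gb, gc, gd]
    rw [hconj, hyeq]
    have hdis : Commute (swap a b) (swap c d) := (Perm.disjoint_iff_disjoint_support.2 (by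
      rw [Perm.support_swap (Ne.symm hab), Perm.support_swap (Ne.symm hcd)]
      simp [Finset.disjoint_left, hca, hcb, hda.symm, hdb.symm, Ne.symm hca, Ne.symm hcb])).commute
    rw [hdis.eq, mul_assoc, ← mul_assoc (swap a b) (swap a b), Equiv.swap_mul_self, one_mul]
  refine alternatingGroup_le_of_isPreprimitive_of_isThreeCycle_mem hprim
    (Equiv.Perm.isThreeCycle_swap_mul_swap_same (Ne.symm hcd) (Ne.symm hec) (Ne.symm hed)) ?_
  rw [← hprod]
  exact Γ.mul_mem hyΓ (Γ.mul_mem (Γ.mul_mem hg hyΓ) (Γ.inv_mem hg))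

/-- The alternating criterion. -/
theorem alternating_le (Γ : Subgroup (Perm α)) (hprim : MulAction.IsPreprimitive Γ α)
    (h5 : ∀ x y : Fin 5 ↪ α, ∃ g ∈ Γ, ∀ i, g (x i) = y i) {r k m : ℕ} (hr : r.Prime) (hr5 : 5 ≤ r)
    (hcases : (k = 3 ∧ m = 2) ∨ (k = 4 ∧ m = 3)) (hα : Fintype.card α = k + m * r) :
    alternatingGroup α ≤ Γ := by
  classical
  haveI := Fact.mk hr
  have hn : 5 ≤ Fintype.card α := by rcases hcases with ⟨rfl, rfl⟩ | ⟨rfl, rfl⟩ <;> omega
  by_contra hnA
  have hnocycle : ∀ v ∈ Γ, ∀ U : Finset α, orderOf v = r → v.support ⊆ U → U.card ≤ r → False := by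
    intro v hv U hord hU hUr
    have hcyc : v.IsCycle := isCycle_of_prime_order (hord ▸ hr)
      (lt_of_le_of_lt ((Finset.card_le_card hU).trans hUr) (by rw [hord]; omega))
    exact hnA (Cfsg.Agent.S0713.result Γ hprim hr hn
      (by rcases hcases with ⟨rfl, rfl⟩ | ⟨rfl, rfl⟩ <;> omega) hcyc (by rw [← hcyc.orderOf, hord]) hv)
  have hnsmall : ∀ v ∈ Γ, v.support.card ≤ 4 → v = 1 := fun v hv hs => by
    by_contra h; exact hnA (alternating_le_of_small Γ hprim h5 hn hv h hs)
  obtain ⟨F, -, hF⟩ := Finset.exists_subset_card_eq (s := (Finset.univ : Finset α)) (n := k)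
    (by rw [Finset.card_univ, hα]; omega)
  have hT : Fᶜ.card = m * r := by rw [Finset.card_compl, hF, hα]; omega
  -- pointwise stabiliser
  let S : Subgroup (Perm α) :=
    { carrier := {g | g ∈ Γ ∧ ∀ x ∈ F, g x = x}
      one_mem' := ⟨Γ.one_mem, fun x _ => rfl⟩
      mul_mem' := fun {g h} hg hh => ⟨Γ.mul_mem hg.1 hh.1, fun x hx => by
        rw [Perm.mul_apply, hh.2 x hx, hg.2 x hx]⟩
      inv_mem' := fun {g} hg => ⟨Γ.inv_mem hg.1, fun x hx => by rw [Perm.inv_eq_iff_eq, hg.2 x hx]⟩ }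
  -- transport of the fixed set with one further point
  have hmove : ∀ π : Perm {x // x ∈ F}, ∀ t t' : α, t ∉ F → t' ∉ F →
      ∃ g ∈ Γ, (∀ x : {x // x ∈ F}, g x.1 = (π x).1) ∧ g t = t' := by
    intro π t t' ht ht'
    let e := (Fintype.equivFinOfCardEq (show Fintype.card {x // x ∈ F} = k by rw [Fintype.card_coe, hF])).symm
    have hk : k + 1 ≤ 5 := by rcases hcases with ⟨rfl, -⟩ | ⟨rfl, -⟩ <;> omega
    -- extend both tuples to five points
    let f1 : Fin (k + 1) → α := Fin.snoc (fun i => (e i).1) t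
    let f2 : Fin (k + 1) → α := Fin.snoc (fun i => (π (e i)).1) t'
    have hf1 : Function.Injective f1 := Fin.snoc_injective_iff.2
      ⟨Subtype.val_injective.comp e.injective, fun ⟨i, hi⟩ => ht (hi ▸ (e i).2)⟩
    have hf2 : Function.Injective f2 := Fin.snoc_injective_iff.2
      ⟨Subtype.val_injective.comp (π.injective.comp e.injective), fun ⟨i, hi⟩ => ht' (hi ▸ (π (e i)).2)⟩
    have hext : ∀ f : Fin (k + 1) → α, Function.Injective f →
        ∃ F5 : Fin 5 ↪ α, ∀ i, F5 (Fin.castLE hk i) = f i := by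
      intro f hf
      obtain ⟨F5, hF5⟩ := Function.Embedding.exists_of_card_le_finset
        (α := Fin 5) (s := (Finset.univ : Finset α)) (by rw [Finset.card_univ, Fintype.card_fin]; exact hn)
      obtain ⟨σ, hσ⟩ := Equiv.Perm.exists_extending_pair (F5 ∘ Fin.castLE hk) f
        (F5.injective.comp (Fin.castLE_injective hk)) hf
      exact ⟨F5.trans σ.toEmbedding, fun i => hσ i⟩
    obtain ⟨F1, hF1⟩ := hext f1 hf1
    obtain ⟨F2, hF2⟩ := hext f2 hf2
    obtain ⟨g, hg, hgi⟩ := h5 F1 F2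
    refine ⟨g, hg, fun x => ?_, ?_⟩
    · have h' := hgi (Fin.castLE hk (e.symm x).castSucc)
      rw [hF1, hF2] at h'
      simpa [f1, f2] using h'
    · have h' := hgi (Fin.castLE hk (Fin.last k))
      rw [hF1, hF2] at h'
      simpa [f1, f2] using h'
  have hStr : ∀ t t', t ∉ F → t' ∉ F → ∃ g ∈ S, g t = t' := by
    intro t t' ht ht'
    obtain ⟨g, hg, hgF, hgt⟩ := hmove 1 t t' ht ht'
    exact ⟨g, ⟨hg, fun x hx => hgF ⟨x, hx⟩⟩, hgt⟩
  have hSF : ∀ g ∈ S, ∀ u, g u ∈ F ↔ u ∈ F := fun g hg u =>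
    ⟨fun h => by rw [← g.injective (hg.2 _ h)]; exact h, fun h => by rw [hg.2 u h]; exact h⟩
  obtain ⟨R⟩ : Nonempty (Sylow r S) := inferInstance
  let Rp : Subgroup (Perm α) := (R : Subgroup S).map S.subtype
  have hRS : Rp ≤ S := Subgroup.map_subtype_le _
  have hRpg : IsPGroup r Rp := R.2.map _
  let O : α → Finset α := fun t => Finset.univ.filter (fun u => ∃ v ∈ Rp, v t = u)
  have hO : ∀ t u, u ∈ O t ↔ ∃ v ∈ Rp, v t = u := fun t u => by simp [O]
  have hOsub : ∀ t, t ∉ F → O t ⊆ Fᶜ := by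
    intro t ht u hu
    obtain ⟨v, hv, rfl⟩ := (hO t u).1 hu
    exact Finset.mem_compl.2 fun h => ht ((hSF v (hRS hv) t).1 h)
  have hself : ∀ t, t ∈ O t := fun t => (hO t t).2 ⟨1, Rp.one_mem, rfl⟩
  have hOeq : ∀ t u, u ∈ O t → O u = O t := by
    intro t u hu
    obtain ⟨v, hv, rfl⟩ := (hO t u).1 hu
    ext w
    rw [hO, hO]
    constructor
    · rintro ⟨x, hx, rfl⟩; exact ⟨x * v, Rp.mul_mem hx hv, rfl⟩
    · rintro ⟨x, hx, rfl⟩; exact ⟨x * v⁻¹, Rp.mul_mem hx (Rp.inv_mem hv), by simp⟩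
  have hOcard : ∀ t, t ∉ F → (O t).card = r := by
    intro t ht
    have horb : (MulAction.orbit Rp t).ncard = (O t).card := by
      rw [← Set.ncard_coe_finset]; congr 1; ext u
      rw [Finset.mem_coe, hO, MulAction.mem_orbit_iff]
      exact ⟨fun ⟨⟨v, hv⟩, h⟩ => ⟨v, hv, h⟩, fun ⟨v, hv, h⟩ => ⟨⟨v, hv⟩, h⟩⟩
    obtain ⟨a, ha⟩ := hRpg.index (MulAction.stabilizer Rp t)
    rw [MulAction.index_stabilizer, horb] at ha
    have hle : (O t).card ≤ m * r := hT ▸ Finset.card_le_card (hOsub t ht)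
    -- the Sylow subgroup fixes no point off the fixed set
    have hne : a ≠ 0 := by
      intro ha0
      rw [ha0, pow_zero] at ha
      have horbS : (MulAction.orbit S t).ncard = m * r := by
        rw [← hT, ← Set.ncard_coe_finset]; congr 1; ext u
        rw [Finset.mem_coe, Finset.mem_compl, MulAction.mem_orbit_iff]
        constructor
        · rintro ⟨⟨g, hg⟩, rfl⟩; exact fun h => ht ((hSF g hg t).1 h)
        · intro hu; obtain ⟨g, hg, h⟩ := hStr t u ht hu; exact ⟨⟨g, hg⟩, h⟩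
      have hRle : (R : Subgroup S) ≤ MulAction.stabilizer S t := by
        intro g hg
        obtain ⟨u, hu⟩ := Finset.card_eq_one.1 ha
        have h1 : (g : Perm α) t ∈ O t := (hO _ _).2 ⟨g, Subgroup.mem_map_of_mem _ hg, rfl⟩
        have h2 := hself t
        rw [hu, Finset.mem_singleton] at h1 h2
        exact h1.trans h2.symm
      have := Subgroup.index_dvd_of_le hRle
      rw [MulAction.index_stabilizer, horbS] at this
      exact R.not_dvd_index ((dvd_mul_left r m).trans this)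
    rcases Nat.lt_or_ge a 2 with h | h
    · rw [ha, show a = 1 by omega, pow_one]
    · exfalso
      have h1 := Nat.pow_le_pow_right hr.pos h
      rw [← ha, pow_two] at h1
      have : m * r < r * r := Nat.mul_lt_mul_of_pos_right (by rcases hcases with ⟨-, rfl⟩ | ⟨-, rfl⟩ <;> omega) hr.pos
      omega
  -- an element fixing a point fixes its orbit
  have heqOn : ∀ v ∈ Rp, ∀ t, t ∉ F → v t = t → ∀ u ∈ O t, v u = u := by
    intro v hv t ht hvt u hu
    by_contra hvu
    obtain ⟨b, hb⟩ := IsPGroup.iff_card.1 hRpg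
    have hord : orderOf v ∣ r ^ b := by
      rw [← hb]; exact Subgroup.orderOf_dvd_natCard _ hv
    obtain ⟨i, -, hi⟩ := (Nat.dvd_prime_pow hr).1 hord
    -- the orbit of v through u has r points and avoids t
    have horb : (MulAction.orbit (Subgroup.zpowers v) u) ⊆ ↑((O t).erase t) := by
      rintro _ ⟨⟨w, hw⟩, rfl⟩
      have hwR : w ∈ Rp := (Subgroup.zpowers_le.2 hv) hw
      have hwt : w t = t := (Subgroup.zpowers_le.2 (show v ∈ MulAction.stabilizer (Perm α) t from hvt)) hw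
      rw [Finset.mem_coe, Finset.mem_erase]
      refine ⟨fun h => hvu ?_, ?_⟩
      · have hut : u = t := w.injective (h.trans hwt.symm)
        rw [hut, hvt]
      · obtain ⟨x, hx, rfl⟩ := (hO t u).1 hu
        exact (hO _ _).2 ⟨w * x, Rp.mul_mem hwR hx, rfl⟩
    have hzp : IsPGroup r (Subgroup.zpowers v) := IsPGroup.of_card (n := i) (by rw [Nat.card_zpowers, hi])
    obtain ⟨j, hj⟩ := hzp.index (MulAction.stabilizer (Subgroup.zpowers v) u)
    rw [MulAction.index_stabilizer] at hj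
    have hle := Set.ncard_le_ncard horb
    rw [hj, Set.ncard_coe_finset, Finset.card_erase_of_mem (hself t), hOcard t ht] at hle
    have hj0 : j = 0 := by
      by_contra h0
      have := Nat.pow_le_pow_right hr.pos (Nat.pos_of_ne_zero h0)
      rw [pow_one] at this
      omega
    rw [hj0, pow_zero, Set.ncard_eq_one] at hj
    obtain ⟨w, hw⟩ := hj
    have h1 : u ∈ MulAction.orbit (Subgroup.zpowers v) u := MulAction.mem_orbit_self u
    have h2 : v u ∈ MulAction.orbit (Subgroup.zpowers v) u := ⟨⟨v, Subgroup.mem_zpowers v⟩, rfl⟩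
    rw [hw, Set.mem_singleton_iff] at h1 h2
    exact hvu (h2.trans h1.symm)
  have hexp : ∀ v ∈ Rp, v ^ r = 1 := by
    intro v hv
    refine Equiv.ext fun u => ?_
    by_cases hu : u ∈ F
    · exact (S.pow_mem (hRS hv) r).2 u hu
    obtain ⟨b, hb⟩ := IsPGroup.iff_card.1 hRpg
    have hord : orderOf v ∣ r ^ b := by rw [← hb]; exact Subgroup.orderOf_dvd_natCard _ hv
    obtain ⟨i, -, hi⟩ := (Nat.dvd_prime_pow hr).1 hord
    have hzp : IsPGroup r (Subgroup.zpowers v) := IsPGroup.of_card (n := i) (by rw [Nat.card_zpowers, hi])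
    obtain ⟨j, hj⟩ := hzp.index (MulAction.stabilizer (Subgroup.zpowers v) u)
    rw [MulAction.index_stabilizer] at hj
    have hsub : MulAction.orbit (Subgroup.zpowers v) u ⊆ ↑(O u) := by
      rintro _ ⟨⟨w, hw⟩, rfl⟩
      exact (hO _ _).2 ⟨w, (Subgroup.zpowers_le.2 hv) hw, rfl⟩
    have hle := Set.ncard_le_ncard hsub
    rw [hj, Set.ncard_coe_finset, hOcard u hu] at hle
    have hdvd : r ^ j ∣ r ^ 1 := pow_dvd_pow r (by
      by_contra h
      have := Nat.pow_lt_pow_right hr.one_lt (show 1 < j by omega)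
      rw [pow_one] at this; omega)
    rw [pow_one, ← hj, ← MulAction.index_stabilizer] at hdvd
    have hper : Function.minimalPeriod (v • ·) u = (MulAction.stabilizer (Subgroup.zpowers v) u).index := by
      rw [MulAction.index_stabilizer, ← Nat.card_coe_set_eq]
      haveI := Fintype.ofFinite (MulAction.orbit (Subgroup.zpowers v) u)
      rw [Nat.card_eq_fintype_card, MulAction.minimalPeriod_eq_card]
    show (v ^ r) • u = u
    exact MulAction.pow_smul_eq_iff_minimalPeriod_dvd.2 (hper ▸ hdvd)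
  have hpowOn : ∀ z ∈ Rp, ∀ t, t ∉ F → z t ≠ t → ∀ v ∈ Rp, ∃ i : ℕ, ∀ u ∈ O t, v u = (z ^ i) u := by
    intro z hz t ht hzt v hv
    have hsub : (Finset.range r).image (fun i => (z ^ i) t) ⊆ O t := by
      intro u hu
      obtain ⟨i, -, rfl⟩ := Finset.mem_image.1 hu
      exact (hO _ _).2 ⟨z ^ i, Rp.pow_mem hz i, rfl⟩
    have hper : Function.minimalPeriod (z • ·) t = r := by
      refine ((Nat.dvd_prime hr).1 ?_).resolve_left ?_
      · exact MulAction.pow_smul_eq_iff_minimalPeriod_dvd.1 (by rw [hexp z hz, one_smul])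
      · intro h
        exact hzt (Function.minimalPeriod_eq_one_iff_isFixedPt.1 h)
    have heq := Finset.eq_of_subset_of_card_le hsub (by
      rw [hOcard t ht, Finset.card_image_of_injOn, Finset.card_range]
      intro i hi j hj hij
      simp only [Finset.coe_range, Set.mem_Iio] at hi hj
      refine Function.iterate_injOn_Iio_minimalPeriod (f := (z • ·)) (x := t) (by rw [hper]; exact hi) (by rw [hper]; exact hj) ?_
      beta_reduce
      rw [smul_iterate, smul_iterate]; exact hij)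
    obtain ⟨i, -, hi⟩ := Finset.mem_image.1 (heq.symm ▸ (hO _ _).2 ⟨v, hv, rfl⟩ : v t ∈ (Finset.range r).image _)
    refine ⟨i, fun u hu => ?_⟩
    have h' := heqOn ((z ^ i)⁻¹ * v) (Rp.mul_mem (Rp.inv_mem (Rp.pow_mem hz i)) hv) t ht
      (by rw [Perm.mul_apply, ← hi]; simp) u hu
    rwa [Perm.mul_apply, Perm.inv_eq_iff_eq] at h'
  have hexz : ∀ t, t ∉ F → ∃ z ∈ Rp, z t ≠ t := by
    intro t ht
    have h1 := hOcard t ht
    obtain ⟨u, hu, hut⟩ := Finset.exists_mem_ne (s := O t) (by rw [h1]; exact hr.one_lt) t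
    obtain ⟨z, hz, rfl⟩ := (hO t u).1 hu
    exact ⟨z, hz, hut⟩
  -- the normaliser
  let N : Perm α → Prop := fun n => n ∈ Γ ∧ (∀ v ∈ Rp, n * v * n⁻¹ ∈ Rp)
  have hNinv : ∀ n, N n → ∀ v ∈ Rp, n⁻¹ * v * n ∈ Rp := by
    rintro n ⟨-, hn⟩ v hv
    let f : Rp → Rp := fun w => ⟨n * w.1 * n⁻¹, hn _ w.2⟩
    have hf : Function.Injective f := fun w w' h => Subtype.ext (by
      simpa [f] using congrArg Subtype.val h)
    obtain ⟨w, hw⟩ := Finite.surjective_of_injective hf ⟨v, hv⟩
    have hval : v = n * w.1 * n⁻¹ := (congrArg Subtype.val hw).symm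
    rw [hval, show n⁻¹ * (n * w.1 * n⁻¹) * n = w.1 by group]; exact w.2
  have hNorb : ∀ n, N n → ∀ t u, u ∈ O t → n u ∈ O (n t) := by
    rintro n hn t u hu
    obtain ⟨v, hv, rfl⟩ := (hO t u).1 hu
    exact (hO _ _).2 ⟨n * v * n⁻¹, hn.2 v hv, by simp⟩
  have hwitt : ∀ π : Perm {x // x ∈ F}, ∃ n, N n ∧ ∀ x : {x // x ∈ F}, n x.1 = (π x).1 := by
    intro π
    obtain ⟨t, ht⟩ : Fᶜ.Nonempty := Finset.card_pos.1 (by
      rw [hT]; exact Nat.mul_pos (by rcases hcases with ⟨-, rfl⟩ | ⟨-, rfl⟩ <;> omega) hr.pos)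
    rw [Finset.mem_compl] at ht
    obtain ⟨g, hg, hgF, -⟩ := hmove π t t ht ht
    have hgF' : ∀ x ∈ F, g x ∈ F := fun x hx => by rw [hgF ⟨x, hx⟩]; exact (π ⟨x, hx⟩).2
    have hginv : ∀ x ∈ F, g⁻¹ x ∈ F := fun x hx => by
      have := hgF (π.symm ⟨x, hx⟩)
      rw [Equiv.apply_symm_apply] at this
      rw [show g⁻¹ x = (π.symm ⟨x, hx⟩).1 by rw [Perm.inv_eq_iff_eq]; exact this.symm]
      exact (π.symm ⟨x, hx⟩).2
    have hconj : ∀ s ∈ S, g * s * g⁻¹ ∈ S := fun s hs => ⟨Γ.mul_mem (Γ.mul_mem hg hs.1) (Γ.inv_mem hg),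
      fun x hx => by rw [Perm.mul_apply, Perm.mul_apply, hs.2 _ (hginv x hx)]; simp⟩
    let c : S →* S :=
      { toFun := fun s => ⟨g * s.1 * g⁻¹, hconj _ s.2⟩
        map_one' := Subtype.ext (by simp)
        map_mul' := fun s s' => Subtype.ext (show g * (s.1 * s'.1) * g⁻¹ = g * s.1 * g⁻¹ * (g * s'.1 * g⁻¹) by group) }
    have hc : Function.Injective c := fun s s' h => Subtype.ext (by
      have h' : g * s.1 * g⁻¹ = g * s'.1 * g⁻¹ := congrArg Subtype.val h
      exact mul_left_cancel (mul_right_cancel h'))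
    let R' : Sylow r S := Sylow.ofCard ((R : Subgroup S).map c) (by
      rw [Subgroup.card_map_of_injective (f := c) hc]; exact R.card_eq_multiplicity)
    obtain ⟨s, hs⟩ := MulAction.exists_smul_eq S R' R
    refine ⟨(s : Perm α) * g, ⟨Γ.mul_mem s.2.1 hg, ?_⟩, fun x => ?_⟩
    · rintro _ ⟨v, hv, rfl⟩
      have hmem : s * c v * s⁻¹ ∈ (R : Subgroup S) := by
        rw [← hs, Sylow.coe_subgroup_smul]
        exact ⟨c v, Subgroup.mem_map_of_mem c hv, rfl⟩
      refine ⟨_, hmem, ?_⟩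
      show (s : Perm α) * (g * v.1 * g⁻¹) * (s : Perm α)⁻¹ = (s : Perm α) * g * v.1 * ((s : Perm α) * g)⁻¹
      group
    · rw [Perm.mul_apply, hgF x, s.2.2 _ (π x).2]
  -- uniform multipliers
  have hU : ∀ n, N n → (∀ t, t ∉ F → n t ∈ O t) → ∃ c : ℕ, ∀ v ∈ Rp, n * v * n⁻¹ = v ^ c := by
    intro n hn hfix
    have horb : ∀ t, t ∉ F → ∀ u ∈ O t, n⁻¹ u ∈ O t := by
      intro t ht u hu
      have hu' : n⁻¹ u ∉ F := by
        intro h
        have huF : u ∉ F := Finset.mem_compl.1 (hOsub t ht hu)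
        obtain ⟨z, hz, hzu⟩ := hexz u huF
        apply hzu
        have hw := (hRS (hNinv n hn z hz)).2 _ h
        simp only [Perm.mul_apply, app_inv] at hw
        exact n⁻¹.injective hw
      have h1 := hfix _ hu'
      simp only [app_inv] at h1
      rw [← hOeq t u hu, hOeq _ _ h1]
      exact hself _
    have hloc : ∀ z ∈ Rp, ∀ t, t ∉ F → z t ≠ t → ∀ c : ℕ, (∀ u ∈ O t, (n * z * n⁻¹) u = (z ^ c) u) →
        ∀ v ∈ Rp, ∀ u ∈ O t, (n * v * n⁻¹) u = (v ^ c) u := by
      intro z hz t ht hzt c hc v hv u hu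
      obtain ⟨i, hi⟩ := hpowOn z hz t ht hzt v hv
      have hstab : ∀ w ∈ Rp, ∀ x ∈ O t, w x ∈ O t := fun w hw x hx => by
        rw [← hOeq t x hx]; exact (hO _ _).2 ⟨w, hw, rfl⟩
      have hpow : ∀ (a b : Perm α), (∀ x ∈ O t, a x = b x) → (∀ x ∈ O t, b x ∈ O t) → ∀ j : ℕ,
          ∀ x ∈ O t, (a ^ j) x = (b ^ j) x ∧ (b ^ j) x ∈ O t := by
        intro a b hab hb j
        induction j with
        | zero => intro x hx; exact ⟨rfl, hx⟩
        | succ j ih =>
          intro x hx
          simp only [pow_succ', Perm.mul_apply]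
          rw [(ih x hx).1, hab _ (ih x hx).2]
          exact ⟨rfl, hb _ (ih x hx).2⟩
      calc (n * v * n⁻¹) u = n (v (n⁻¹ u)) := rfl
        _ = n ((z ^ i) (n⁻¹ u)) := by rw [hi _ (horb t ht u hu)]
        _ = ((n * z * n⁻¹) ^ i) u := by rw [conj_pow]; rfl
        _ = ((z ^ c) ^ i) u := (hpow _ _ hc (hstab _ (Rp.pow_mem hz c)) i u hu).1
        _ = ((z ^ i) ^ c) u := by rw [pow_right_comm]
        _ = (v ^ c) u := ((hpow v (z ^ i) hi (hstab _ (Rp.pow_mem hz i))) c u hu).1.symm
    have hall : ∀ t, t ∉ F → ∃ c : ℕ, ∀ v ∈ Rp, ∀ u ∈ O t, (n * v * n⁻¹) u = (v ^ c) u := by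
      intro t ht
      obtain ⟨z, hz, hzt⟩ := hexz t ht
      obtain ⟨c, hc⟩ := hpowOn z hz t ht hzt _ (hn.2 z hz)
      exact ⟨c, hloc z hz t ht hzt c hc⟩
    obtain ⟨t0, ht0⟩ : Fᶜ.Nonempty := Finset.card_pos.1 (by
      rw [hT]; exact Nat.mul_pos (by rcases hcases with ⟨-, rfl⟩ | ⟨-, rfl⟩ <;> omega) hr.pos)
    rw [Finset.mem_compl] at ht0
    obtain ⟨c0, hc0⟩ := hall t0 ht0
    refine ⟨c0, fun v hv => Equiv.ext fun u => ?_⟩
    by_cases hu : u ∈ F
    · rw [(hRS (hn.2 v hv)).2 u hu, (hRS (Rp.pow_mem hv c0)).2 u hu]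
    by_cases hu0 : u ∈ O t0
    · exact hc0 v hv u hu0
    obtain ⟨c, hc⟩ := hall u hu
    -- an element moving only the two orbits
    by_cases hcyc : ∀ w ∈ Rp, w t0 = t0 → w = 1
    · -- a cyclic group
      obtain ⟨z, hz, hzt⟩ := hexz t0 ht0
      have hgen : ∀ w ∈ Rp, ∃ i : ℕ, w = z ^ i := by
        intro w hw
        obtain ⟨i, hi⟩ := hpowOn z hz t0 ht0 hzt w hw
        have h' := hcyc ((z ^ i)⁻¹ * w) (Rp.mul_mem (Rp.inv_mem (Rp.pow_mem hz i)) hw)
          (by rw [Perm.mul_apply, hi _ (hself _), inv_app])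
        exact ⟨i, (inv_mul_eq_one.1 h').symm⟩
      have hzc : n * z * n⁻¹ = z ^ c0 := by
        have h' := hcyc ((z ^ c0)⁻¹ * (n * z * n⁻¹)) (Rp.mul_mem (Rp.inv_mem (Rp.pow_mem hz c0)) (hn.2 z hz))
          (by rw [Perm.mul_apply, hc0 z hz _ (hself _), inv_app])
        exact (inv_mul_eq_one.1 h').symm
      obtain ⟨i, rfl⟩ := hgen v hv
      rw [← conj_pow, hzc, pow_right_comm]
    · push Not at hcyc
      obtain ⟨w0, hw0, hw0t, hw01⟩ := hcyc
      have hone : ∀ w ∈ Rp, ∀ U : Finset α, U.card ≤ r → (∀ x, x ∉ U → w x = x) → w = 1 := by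
        intro w hw U hUr hsupp
        by_contra hw1
        refine hnocycle w (hRS hw).1 U (orderOf_eq_prime (hexp w hw) hw1) (fun x hx => ?_) hUr
        by_contra hxU
        exact Perm.mem_support.1 hx (hsupp x hxU)
      have hdis : Disjoint (O t0) (O u) := Finset.disjoint_left.2 fun x h1 h2 => hu0 (by
        rw [← hOeq t0 x h1, hOeq u x h2]; exact hself u)
      have hrem : ((Fᶜ \ O t0) \ O u).card = m * r - r - r := by
        rw [Finset.card_sdiff_of_subset (fun x hx => Finset.mem_sdiff.2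
            ⟨hOsub u hu hx, fun h => Finset.disjoint_left.1 hdis h hx⟩),
          Finset.card_sdiff_of_subset (hOsub t0 ht0), hT, hOcard t0 ht0, hOcard u hu]
      obtain ⟨w, hw, hw1, hwsupp⟩ : ∃ w ∈ Rp, w ≠ 1 ∧ ∀ x, x ∉ O t0 → x ∉ O u → w x = x := by
        rcases ((Fᶜ \ O t0) \ O u).eq_empty_or_nonempty with he | ⟨y, hy⟩
        · obtain ⟨z, hz, hzt⟩ := hexz t0 ht0
          refine ⟨z, hz, fun h => hzt (by rw [h]; rfl), fun x h1 h2 => ?_⟩
          by_cases hxF : x ∈ F
          · exact (hRS hz).2 x hxF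
          · have : x ∈ (Fᶜ \ O t0) \ O u := by simp [hxF, h1, h2]
            rw [he] at this; simp at this
        · simp only [Finset.mem_sdiff, Finset.mem_compl] at hy
          obtain ⟨⟨hyF, hy0⟩, hyu⟩ := hy
          have hsub : O y ⊆ (Fᶜ \ O t0) \ O u := by
            intro x hx
            simp only [Finset.mem_sdiff]
            refine ⟨⟨hOsub y hyF hx, fun h => hy0 ?_⟩, fun h => hyu ?_⟩
            · rw [← hOeq t0 x h, hOeq y x hx]; exact hself y
            · rw [← hOeq u x h, hOeq y x hx]; exact hself y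
          have heq := Finset.eq_of_subset_of_card_le hsub (by
            rw [hrem, hOcard y hyF]
            rcases hcases with ⟨-, rfl⟩ | ⟨-, rfl⟩ <;> omega)
          -- some element fixes y
          by_cases hwy : w0 y = y
          · refine ⟨w0, hw0, hw01, fun x h1 h2 => ?_⟩
            by_cases hxF : x ∈ F
            · exact (hRS hw0).2 x hxF
            exact heqOn w0 hw0 y hyF hwy x (by rw [heq]; simp [hxF, h1, h2])
          · obtain ⟨z, hz, hzt⟩ := hexz t0 ht0
            obtain ⟨l, hl⟩ := hpowOn w0 hw0 y hyF hwy z hz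
            have hmem : (w0 ^ l)⁻¹ * z ∈ Rp := Rp.mul_mem (Rp.inv_mem (Rp.pow_mem hw0 l)) hz
            refine ⟨_, hmem, fun h => hzt ?_, fun x h1 h2 => ?_⟩
            · rw [← inv_mul_eq_one.1 h]
              exact (MulAction.stabilizer (Perm α) t0).pow_mem (show w0 ∈ _ from hw0t) l
            · by_cases hxF : x ∈ F
              · exact (hRS hmem).2 x hxF
              rw [Perm.mul_apply, hl x (by rw [heq]; simp [hxF, h1, h2]), inv_app]
      have hd : (w ^ c0)⁻¹ * (n * w * n⁻¹) = 1 := by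
        refine hone _ (Rp.mul_mem (Rp.inv_mem (Rp.pow_mem hw c0)) (hn.2 w hw)) (O u) (le_of_eq (hOcard u hu)) fun x hx => ?_
        by_cases hxF : x ∈ F
        · exact (hRS (Rp.mul_mem (Rp.inv_mem (Rp.pow_mem hw c0)) (hn.2 w hw))).2 x hxF
        by_cases hx0 : x ∈ O t0
        · rw [Perm.mul_apply, hc0 w hw x hx0, inv_app]
        obtain ⟨cx, hcx⟩ := hall x hxF
        have hwx : w x = x := hwsupp x hx0 hx
        have hwp : ∀ j : ℕ, (w ^ j) x = x := fun j =>
          (MulAction.stabilizer (Perm α) x).pow_mem (show w ∈ _ from hwx) j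
        rw [Perm.mul_apply, hcx w hw x (hself x), hwp, Perm.inv_eq_iff_eq, hwp]
      have hwu : w u ≠ u := by
        intro hwu
        refine hw1 (hone w hw (O t0) (le_of_eq (hOcard t0 ht0)) fun x hx => ?_)
        by_cases hxu : x ∈ O u
        · exact heqOn w hw u hu hwu x hxu
        · exact hwsupp x hx hxu
      refine hloc w hw u hu hwu c0 (fun x _ => ?_) v hv u (hself u)
      rw [← inv_mul_eq_one.1 hd]
  -- some element fixing all orbits moves the fixed set
  obtain ⟨y, hyN, hyfix, hyF⟩ : ∃ y, N y ∧ (∀ t, t ∉ F → y t ∈ O t) ∧ ∃ x ∈ F, y x ≠ x := by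
    by_contra hcon
    push Not at hcon
    choose ns hns hnsF using hwitt
    let Ω : Finset (Finset α) := Fᶜ.image O
    have hΩ : Ω.card ≤ m := by
      have hdisj : (Ω : Set (Finset α)).PairwiseDisjoint id := by
        intro A hA B hB hAB
        obtain ⟨a, -, rfl⟩ := Finset.mem_image.1 hA
        obtain ⟨b, -, rfl⟩ := Finset.mem_image.1 hB
        exact Finset.disjoint_left.2 fun x h1 h2 => hAB ((hOeq a x h1).symm.trans (hOeq b x h2))
      have hle : (Ω.disjiUnion id hdisj).card ≤ m * r := by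
        rw [← hT]
        refine Finset.card_le_card fun x hx => ?_
        obtain ⟨A, hA, hxA⟩ := Finset.mem_disjiUnion.1 hx
        obtain ⟨a, ha, rfl⟩ := Finset.mem_image.1 hA
        exact hOsub a (Finset.mem_compl.1 ha) hxA
      rw [Finset.card_disjiUnion, Finset.sum_const_nat (m := r) (fun A hA => by
        obtain ⟨a, ha, rfl⟩ := Finset.mem_image.1 hA
        exact hOcard a (Finset.mem_compl.1 ha))] at hle
      exact Nat.le_of_mul_le_mul_right hle hr.pos
    have hFT : ∀ n, N n → (∀ x ∈ F, n x ∈ F) → ∀ t, t ∉ F → n t ∉ F := by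
      intro n hn hF' t ht h
      have himg : F.image n = F := Finset.eq_of_subset_of_card_le
        (fun x hx => by obtain ⟨y, hy, rfl⟩ := Finset.mem_image.1 hx; exact hF' y hy)
        (Finset.card_image_of_injective _ n.injective).ge
      rw [← himg] at h
      obtain ⟨y, hy, he⟩ := Finset.mem_image.1 h
      exact ht (n.injective he ▸ hy)
    have hmap : ∀ π, ∀ A : {A // A ∈ Ω}, A.1.image (ns π) ∈ Ω := by
      rintro π ⟨A, hA⟩
      obtain ⟨a, ha, rfl⟩ := Finset.mem_image.1 hA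
      have ha' := hFT _ (hns π) (fun x hx => by rw [hnsF π ⟨x, hx⟩]; exact (π ⟨x, hx⟩).2) a (Finset.mem_compl.1 ha)
      refine Finset.mem_image.2 ⟨ns π a, Finset.mem_compl.2 ha', (Finset.eq_of_subset_of_card_le ?_ ?_).symm⟩
      · intro x hx
        obtain ⟨z, hz, rfl⟩ := Finset.mem_image.1 hx
        exact hNorb _ (hns π) a z hz
      · rw [Finset.card_image_of_injective _ (ns π).injective, hOcard a (Finset.mem_compl.1 ha), hOcard _ ha']
    let Φ : Perm {x // x ∈ F} → ({A // A ∈ Ω} ↪ {A // A ∈ Ω}) := fun π =>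
      ⟨fun A => ⟨A.1.image (ns π), hmap π A⟩, fun A B h => Subtype.ext
        (Finset.image_injective (ns π).injective (congrArg Subtype.val h))⟩
    have hΦ : Function.Injective Φ := by
      intro π π' he
      set n := (ns π)⁻¹ * ns π' with hn
      have hnN : N n := ⟨Γ.mul_mem (Γ.inv_mem (hns π).1) (hns π').1, fun v hv => by
        have := hNinv _ (hns π) _ ((hns π').2 v hv)
        convert this using 1
        rw [hn]; group⟩
      have hfix : ∀ t, t ∉ F → n t ∈ O t := by
        intro t ht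
        have h1 : (O t).image (ns π') = (O t).image (ns π) := (congrArg Subtype.val
          (DFunLike.congr_fun he ⟨O t, Finset.mem_image.2 ⟨t, Finset.mem_compl.2 ht, rfl⟩⟩)).symm
        have h2 : ns π' t ∈ (O t).image (ns π) := h1 ▸ Finset.mem_image_of_mem _ (hself t)
        obtain ⟨z, hz, hze⟩ := Finset.mem_image.1 h2
        rw [hn, Perm.mul_apply, ← hze, inv_app]; exact hz
      refine Equiv.ext fun x => Subtype.ext ?_
      have h3 := hcon n hnN hfix x.1 x.2
      rw [hn, Perm.mul_apply, Perm.inv_eq_iff_eq, hnsF, hnsF] at h3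
      exact h3.symm
    have hcard := Fintype.card_le_of_injective Φ hΦ
    rw [Fintype.card_perm, Fintype.card_embedding_eq, Fintype.card_coe, Fintype.card_coe, hF,
      Nat.descFactorial_self] at hcard
    have := hcard.trans (Nat.factorial_le hΩ)
    rcases hcases with ⟨rfl, rfl⟩ | ⟨rfl, rfl⟩ <;> simp [Nat.factorial] at this
  obtain ⟨b, hbF, hyb⟩ := hyF
  have hNF : ∀ n, N n → ∀ x ∈ F, n x ∈ F := by
    intro n hn x hx
    by_contra hnx
    obtain ⟨z, hz, hzx⟩ := hexz (n x) hnx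
    apply hzx
    have hw := (hRS (hNinv n hn z hz)).2 x hx
    simp only [Perm.mul_apply] at hw
    rwa [Perm.inv_eq_iff_eq] at hw
  obtain ⟨c, hc, hcb, hcy⟩ : ∃ c ∈ F, c ≠ b ∧ c ≠ y b := by
    have h1 := Finset.le_card_sdiff {b, y b} F
    have := Finset.card_le_two (a := b) (b := y b)
    obtain ⟨c, hc⟩ : (F \ {b, y b}).Nonempty := Finset.card_pos.1 (by
      rcases hcases with ⟨rfl, -⟩ | ⟨rfl, -⟩ <;> omega)
    simp only [Finset.mem_sdiff, Finset.mem_insert, Finset.mem_singleton, not_or] at hc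
    exact ⟨c, hc.1, hc.2.1, hc.2.2⟩
  obtain ⟨n, hnN, hnF⟩ := hwitt (Equiv.swap ⟨y b, hNF y hyN b hbF⟩ ⟨c, hc⟩)
  have nb : n b = b := by
    rw [hnF ⟨b, hbF⟩, Equiv.swap_apply_of_ne_of_ne (fun h => hyb (congrArg Subtype.val h).symm)
      (fun h => hcb (congrArg Subtype.val h).symm)]
  have nyb : n (y b) = c := by
    rw [hnF ⟨y b, hNF y hyN b hbF⟩, Equiv.swap_apply_left]
  obtain ⟨e, he⟩ := hU y hyN hyfix
  set z := n * y * n⁻¹ * y⁻¹ with hz
  have hzΓ : z ∈ Γ := Γ.mul_mem (Γ.mul_mem (Γ.mul_mem hnN.1 hyN.1) (Γ.inv_mem hnN.1)) (Γ.inv_mem hyN.1)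
  have hzb : z (y b) = c := by
    simp only [hz, Perm.mul_apply, inv_app, Perm.inv_eq_iff_eq.2 nb.symm, nyb]
  have hFmem : ∀ n, N n → ∀ x, x ∉ F → n x ∉ F := by
    intro n hn x hx h
    have himg : F.image n = F := Finset.eq_of_subset_of_card_le
      (fun x hx => by obtain ⟨y, hy, rfl⟩ := Finset.mem_image.1 hx; exact hNF n hn y hy)
      (Finset.card_image_of_injective _ n.injective).ge
    rw [← himg] at h
    obtain ⟨y, hy, he⟩ := Finset.mem_image.1 h
    exact hx (n.injective he ▸ hy)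
  have hNi : ∀ n, N n → N n⁻¹ := fun n hn => ⟨Γ.inv_mem hn.1, fun v hv => by simpa using hNinv n hn v hv⟩
  have hyinv : ∀ t, t ∉ F → y⁻¹ t ∈ O t := by
    intro t ht
    have h1 := hyfix (y⁻¹ t) (hFmem _ (hNi y hyN) t ht)
    simp only [app_inv] at h1
    rw [hOeq _ _ h1]
    exact hself _
  -- the commutator centralises the Sylow subgroup
  have hcent : ∀ v ∈ Rp, ∀ x, z (v x) = v (z x) := by
    intro v hv
    have hA : ∀ w ∈ Rp, (n * y * n⁻¹) * w * (n * y * n⁻¹)⁻¹ = w ^ e := by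
      intro w hw
      calc (n * y * n⁻¹) * w * (n * y * n⁻¹)⁻¹ = n * (y * (n⁻¹ * w * n) * y⁻¹) * n⁻¹ := by group
        _ = n * (n⁻¹ * w * n) ^ e * n⁻¹ := by rw [he _ (hNinv n hnN w hw)]
        _ = (n * (n⁻¹ * w * n) * n⁻¹) ^ e := conj_pow.symm
        _ = w ^ e := by group
    have hw : y⁻¹ * v * y ∈ Rp := hNinv y hyN v hv
    have h1 : z * v * z⁻¹ = v := by
      calc z * v * z⁻¹ = (n * y * n⁻¹) * (y⁻¹ * v * y) * (n * y * n⁻¹)⁻¹ := by rw [hz]; group
        _ = y * (y⁻¹ * v * y) * y⁻¹ := by rw [hA _ hw, he _ hw]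
        _ = v := by group
    intro x
    have h2 : z * v = v * z := by
      calc z * v = z * v * z⁻¹ * z := by group
        _ = v * z := by rw [h1]
    exact Equiv.congr_fun h2 x
  have hzO : ∀ t, t ∉ F → z t ∈ O t := by
    intro t ht
    have h1 := hyinv t ht
    have h2 : y⁻¹ t ∉ F := hFmem _ (hNi y hyN) t ht
    have h3 : n⁻¹ (y⁻¹ t) ∉ F := hFmem _ (hNi n hnN) _ h2
    have h4 := hNorb n hnN _ _ (hyfix _ h3)
    simp only [app_inv] at h4
    rw [hOeq t _ h1] at h4
    exact h4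
  have hzr : ∀ t, t ∉ F → (z ^ r) t = t := by
    intro t ht
    obtain ⟨v, hv, hvt⟩ := (hO _ _).1 (hzO t ht)
    have hpow : ∀ i : ℕ, (z ^ i) t = (v ^ i) t := by
      intro i
      induction i with
      | zero => rfl
      | succ i ih =>
        rw [pow_succ' z, Perm.mul_apply, ih, hcent _ (Rp.pow_mem hv i), ← hvt, pow_succ v, Perm.mul_apply]
    rw [hpow, hexp v hv]; rfl
  have hz1 := hnsmall (z ^ r) (Γ.pow_mem hzΓ r) ((Finset.card_le_card (t := F) (fun x hx => by
    by_contra hxF; exact Perm.mem_support.1 hx (hzr x hxF))).trans (by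
      rw [hF]; rcases hcases with ⟨rfl, -⟩ | ⟨rfl, -⟩ <;> omega))
  -- but it is nontrivial on the fixed set
  have hzF : ∀ x, z x ∈ F ↔ x ∈ F := fun x => by
    have hN1 : ∀ x, x ∈ F → z x ∈ F := fun x hx => by
      simp only [hz, Perm.mul_apply]
      exact hNF _ hnN _ (hNF _ hyN _ (hNF _ (hNi n hnN) _ (hNF _ (hNi y hyN) _ hx)))
    refine ⟨fun h => ?_, hN1 x⟩
    by_contra hx
    exact Finset.mem_compl.1 (hOsub x hx (hzO x hx)) h
  set zF := z.subtypePerm hzF with hzFdef
  have hord : orderOf zF ∣ r := orderOf_dvd_of_pow_eq_one (Equiv.ext fun x => Subtype.ext (by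
    rw [hzFdef, Perm.subtypePerm_pow]
    show (z ^ r) x.1 = x.1
    rw [hz1]; rfl))
  have hk' : orderOf zF ∣ k.factorial := by
    have := orderOf_dvd_natCard zF
    rwa [Nat.card_eq_fintype_card, Fintype.card_perm, Fintype.card_coe, hF] at this
  rcases (Nat.dvd_prime hr).1 hord with h | h
  · have := congrArg Subtype.val (Equiv.congr_fun (orderOf_eq_one_iff.1 h) ⟨y b, hNF y hyN b hbF⟩)
    exact hcy (hzb.symm.trans this)
  · rw [h, hr.dvd_factorial] at hk'
    rcases hcases with ⟨rfl, -⟩ | ⟨rfl, -⟩ <;> omega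

end Cfsg.Lib.Perm.WittAlt
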